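import Mathlib

/-!
Index two subgroups from the sign of the regular representation, and automorphisms of order two.
-/

set_option autoImplicit false
set_option linter.style.haveILetI false

namespace Cfsg.Agent.Lib.Perm

universe u

theorem zf_sign_left {H : Type u} [Group H] [Fintype H] [DecidableEq H] (g : H)
    (hn : Even (orderOf g)) (k : ℕ) (hk : Fintype.card H = orderOf g * k) (hko : Odd k) :
    Equiv.Perm.sign (MulAction.toPermHom H H g) = -1 := by
  classical
  set σ : Equiv.Perm H := MulAction.toPermHom H H g with hσ
  have hg1 : g ≠ 1 := by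
    rintro rfl
    rw [orderOf_one] at hn
    exact absurd hn (by decide)
  have hpow : ∀ (n : ℕ) (x : H), (σ ^ n) x = g ^ n * x := by
    intro n x
    have : σ ^ n = MulAction.toPermHom H H (g ^ n) := by
      rw [hσ, map_pow]
    rw [this]
    rfl
  have hcyc : ∀ m ∈ σ.cycleType, m = orderOf g := by
    intro m hm
    obtain ⟨c, τ, hστ, hdisj, hc, hcm⟩ := Equiv.Perm.mem_cycleType_iff.mp hm
    obtain ⟨x, hx, -⟩ := id hc
    have hτx : τ x = x := (hdisj x).resolve_left hx
    have hτp : ∀ n : ℕ, (τ ^ n) x = x := by
      intro n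
      induction n with
      | zero => simp
      | succ n ih => rw [pow_succ, Equiv.Perm.mul_apply, hτx, ih]
    have hσc : ∀ n : ℕ, (σ ^ n) x = (c ^ n) x := by
      intro n
      rw [hστ, hdisj.commute.mul_pow, Equiv.Perm.mul_apply, hτp]
    have hordc : orderOf c = m := by rw [hc.orderOf, hcm]
    apply Nat.dvd_antisymm
    · -- `m` divides the order of `g`
      rw [← hordc]
      apply orderOf_dvd_of_pow_eq_one
      apply (hc.pow_eq_one_iff).mpr
      refine ⟨x, hx, ?_⟩
      rw [← hσc, hpow, pow_orderOf_eq_one, one_mul]
    · -- the order of `g` divides `m`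
      apply orderOf_dvd_of_pow_eq_one
      have h1 : (σ ^ m) x = x := by
        rw [hσc, ← hordc, pow_orderOf_eq_one]
        rfl
      rw [hpow] at h1
      exact mul_eq_right.mp h1
  have hrep : σ.cycleType = Multiset.replicate (Multiset.card σ.cycleType) (orderOf g) :=
    Multiset.eq_replicate_card.mpr hcyc
  have hsum : σ.cycleType.sum = Fintype.card H := by
    rw [Equiv.Perm.sum_cycleType]
    have : σ.support = Finset.univ := by
      ext x
      simp only [Equiv.Perm.mem_support, Finset.mem_univ, iff_true]
      intro h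
      have h2 : g * x = x := h
      exact hg1 (mul_eq_right.mp h2)
    rw [this, Finset.card_univ]
  have hcard : Multiset.card σ.cycleType = k := by
    have h5 : Multiset.card σ.cycleType * orderOf g = σ.cycleType.sum := by
      conv_rhs => rw [hrep]
      rw [Multiset.sum_replicate, smul_eq_mul]
    rw [hsum, hk, mul_comm] at h5
    have hpos : 0 < orderOf g := orderOf_pos g
    exact Nat.eq_of_mul_eq_mul_left hpos h5
  rw [Equiv.Perm.sign_of_cycleType, hsum, hcard, hk]
  have h6 : Odd (orderOf g * k + k) := by
    have h7 : Even (orderOf g * k) := hn.mul_right k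
    exact h7.add_odd hko
  exact h6.neg_one_pow

/-- A finite group having an element of order with full even 2-part has a characteristic subgroup of
index two. -/
theorem zf_index_two_char {H : Type u} [Group H] [Finite H] (g : H) (hn : Even (orderOf g)) (k : ℕ)
    (hk : Nat.card H = orderOf g * k) (hko : Odd k) :
    ∃ N : Subgroup H, N.index = 2 ∧ ∀ φ : H ≃* H, ∀ x ∈ N, φ x ∈ N := by
  classical
  letI := Fintype.ofFinite H
  rw [Nat.card_eq_fintype_card] at hk
  let θ : H →* ℤˣ := (Equiv.Perm.sign).comp (MulAction.toPermHom H H)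
  have hθg : θ g = -1 := zf_sign_left g hn k hk hko
  have hsurj : Function.Surjective θ := by
    intro u
    rcases Int.units_eq_one_or u with rfl | rfl
    · exact ⟨1, map_one θ⟩
    · exact ⟨g, hθg⟩
  refine ⟨θ.ker, ?_, ?_⟩
  · rw [Subgroup.index_ker, MonoidHom.range_eq_top.mpr hsurj, Subgroup.card_top, Nat.card_eq_fintype_card]
    rfl
  · intro φ x hx
    rw [MonoidHom.mem_ker] at hx ⊢
    have h1 : MulAction.toPermHom H H (φ x) =
        φ.toEquiv.permCongr (MulAction.toPermHom H H x) := by
      ext y
      simp [Equiv.permCongr_apply]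
    have h2 : θ (φ x) = Equiv.Perm.sign (φ.toEquiv.permCongr (MulAction.toPermHom H H x)) := by
      change Equiv.Perm.sign _ = _
      rw [h1]
    rw [h2, Equiv.Perm.sign_permCongr]
    exact hx

/-- An automorphism of order two preserving an index two subgroup, with at most two fixed points,
inverts it. -/
theorem zf_inverts_index2 {H : Type u} [Group H] [Finite H] (N : Subgroup H) (hN : N.index = 2)
    (σ : H →* H) (hσσ : ∀ y, σ (σ y) = y) (hσN : ∀ x ∈ N, σ x ∈ N) (t : H)
    (hfix : ∀ h, σ h = h → h = 1 ∨ h = t) : ∀ n ∈ N, σ n = n⁻¹ := by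
  classical
  letI := Fintype.ofFinite H
  letI := Fintype.ofFinite N
  have hσN' : ∀ y, σ y ∈ N ↔ y ∈ N := by
    intro y
    constructor
    · intro h
      have := hσN _ h
      rwa [hσσ] at this
    · exact hσN y
  have hκ : ∀ y : H, σ y * y⁻¹ ∈ N := by
    intro y
    rw [Subgroup.mul_mem_iff_of_index_two hN, hσN', Subgroup.inv_mem_iff]
  let κ : H → N := fun y => ⟨σ y * y⁻¹, hκ y⟩
  have hfib : ∀ s ∈ (Finset.univ : Finset H).image κ, ((Finset.univ : Finset H).filter fun y => κ y = s).card ≤ 2 := by
    intro s hs
    obtain ⟨z, -, rfl⟩ := Finset.mem_image.mp hs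
    have hsub : ((Finset.univ : Finset H).filter fun y => κ y = κ z) ⊆ {z, z * t} := by
      intro y hy
      have hy' : κ y = κ z := (Finset.mem_filter.mp hy).2
      have h1 : σ y * y⁻¹ = σ z * z⁻¹ := congrArg Subtype.val hy'
      have h2 : σ (z⁻¹ * y) = z⁻¹ * y := by
        rw [map_mul, map_inv]
        have h3 : σ y = σ z * z⁻¹ * y := by
          rw [← h1]; group
        rw [h3]
        group
      rcases hfix _ h2 with h4 | h4
      · simp only [Finset.mem_insert, Finset.mem_singleton]
        left
        exact (inv_mul_eq_one.mp h4).symm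
      · simp only [Finset.mem_insert, Finset.mem_singleton]
        right
        rw [← h4]
        group
    calc _ ≤ ({z, z * t} : Finset H).card := Finset.card_le_card hsub
      _ ≤ 2 := Finset.card_le_two
  have hle := Finset.card_le_mul_card_image Finset.univ 2 hfib
  have hcardN : Fintype.card H = 2 * Fintype.card N := by
    have := N.card_mul_index
    rw [hN, Nat.card_eq_fintype_card, Nat.card_eq_fintype_card] at this
    omega
  have hsurj : Function.Surjective κ := by
    have himg : (Finset.univ : Finset H).image κ = Finset.univ := by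
      apply Finset.eq_of_subset_of_card_le (Finset.subset_univ _)
      rw [Finset.card_univ]
      rw [Finset.card_univ] at hle
      omega
    intro n
    have : n ∈ (Finset.univ : Finset H).image κ := by rw [himg]; exact Finset.mem_univ _
    obtain ⟨y, -, hy⟩ := Finset.mem_image.mp this
    exact ⟨y, hy⟩
  intro n hn
  obtain ⟨y, hy⟩ := hsurj ⟨n, hn⟩
  have hy' : σ y * y⁻¹ = n := congrArg Subtype.val hy
  rw [← hy', map_mul, map_inv, hσσ]
  group

end Cfsg.Agent.Lib.Perm
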