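import Mathlib
import Cfsg.Agent.Lib.Transfer.Frobenius
import Cfsg.Agent.Lib.Fusion.Dihedral
import Cfsg.Agent.Lib.OddLocal.FrobComp

/-!
Abstract facts used in the analysis of linear groups regular on the non-zero vectors: automorphisms of
the quaternion group of order eight; perfect groups all of whose Sylow subgroups are cyclic or
quaternion with at most one subgroup of order three; existence of subgroups of index two.
-/

set_option autoImplicit false
set_option linter.style.haveILetI false

namespace Cfsg.Agent.Lib.Perm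

open MulAction QuaternionGroup
open scoped commutatorElement

universe u v

/-- For a free action the group order divides the cardinality of the set. -/
lemma rq_free_card_dvd {G : Type u} {X : Type v} [Group G] [MulAction G X] [Finite G] [Finite X]
    (h : ∀ (g : G) (x : X), g • x = x → g = 1) : Nat.card G ∣ Nat.card X := by
  have hs : ∀ b : X, stabilizer G b = ⊥ := by
    intro b
    rw [eq_bot_iff]
    intro g hg
    exact h g b hg
  rw [Nat.card_congr (MulAction.selfEquivOrbitsQuotientProd hs), Nat.card_prod]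
  exact Dvd.intro_left _ rfl

set_option maxRecDepth 100000 in
lemma rq_q8_invol : ∀ x : QuaternionGroup 2, x * x = 1 → x = 1 ∨ x = a 2 := by decide

set_option maxRecDepth 100000 in
lemma rq_q8_card : Fintype.card {p : QuaternionGroup 2 × QuaternionGroup 2 //
    p.1 * p.1 = a 2 ∧ p.2 * p.2 = a 2 ∧ p.2 ≠ p.1 ∧ p.2 ≠ p.1⁻¹} = 24 := by decide

set_option maxRecDepth 100000 in
lemma rq_q8_gen : ∀ u v : QuaternionGroup 2, u * u = a 2 → v * v = a 2 → v ≠ u → v ≠ u⁻¹ →
    ∀ x : QuaternionGroup 2, x = 1 ∨ x = a 2 ∨ x = u ∨ x = u⁻¹ ∨ x = v ∨ x = v⁻¹ ∨ x = u * v ∨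
      x = (u * v)⁻¹ := by decide

set_option maxRecDepth 100000 in
lemma rq_q8_a2 : (a 2 : QuaternionGroup 2) * a 2 = 1 := by decide

set_option maxRecDepth 100000 in
lemma rq_q8_a2ne : (a 2 : QuaternionGroup 2) ≠ 1 := by decide

/-- The automorphism group of the quaternion group of order eight has order dividing 24. -/
theorem rq_q8_aut_dvd : Nat.card (MulAut (QuaternionGroup 2)) ∣ 24 := by
  classical
  let Q := QuaternionGroup 2
  have hz : ∀ φ : MulAut Q, φ (a 2) = a 2 := by
    intro φ
    have h1 : φ (a 2) * φ (a 2) = 1 := by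
      rw [← map_mul, rq_q8_a2, map_one]
    rcases rq_q8_invol _ h1 with h | h
    · exfalso
      apply rq_q8_a2ne
      exact φ.injective (h.trans (map_one φ).symm)
    · exact h
  let X := {p : Q × Q // p.1 * p.1 = a 2 ∧ p.2 * p.2 = a 2 ∧ p.2 ≠ p.1 ∧ p.2 ≠ p.1⁻¹}
  letI act : MulAction (MulAut Q) X :=
    { smul := fun φ p => ⟨(φ p.1.1, φ p.1.2), by
        obtain ⟨⟨u, v⟩, h1, h2, h3, h4⟩ := p
        refine ⟨?_, ?_, ?_, ?_⟩
        · change φ u * φ u = a 2
          rw [← map_mul]
          change φ (u * u) = _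
          rw [show u * u = a 2 from h1, hz]
        · change φ v * φ v = a 2
          rw [← map_mul]
          change φ (v * v) = _
          rw [show v * v = a 2 from h2, hz]
        · intro h
          exact h3 (φ.injective h)
        · intro h
          apply h4
          apply φ.injective
          rw [map_inv]
          exact h⟩
      one_smul := fun p => rfl
      mul_smul := fun φ ψ p => rfl }
  have hfree : ∀ (φ : MulAut Q) (x : X), φ • x = x → φ = 1 := by
    intro φ x hx
    obtain ⟨⟨u, v⟩, h1, h2, h3, h4⟩ := x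
    have hu : φ u = u := congrArg (fun p : X => p.1.1) hx
    have hv : φ v = v := congrArg (fun p : X => p.1.2) hx
    ext y
    change φ y = y
    have h := rq_q8_gen u v h1 h2 h3 h4 y
    rcases h with h | h | h | h | h | h | h | h <;> rw [h] <;>
      simp only [map_one, map_inv, map_mul, hz, hu, hv]
  have h := rq_free_card_dvd hfree
  have h2 : Nat.card X = 24 := by
    rw [Nat.card_eq_fintype_card]
    exact rq_q8_card
  rwa [h2] at h

/-- A group with a quotient which is a non-trivial 2-group has a subgroup of index two. -/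
lemma rq_index_two_of_pquot {H : Type u} [Group H] [Finite H] (M : Subgroup H) [M.Normal]
    (h : ∀ x : H, ∃ k : ℕ, x ^ (2 ^ k) ∈ M) (hM : M ≠ ⊤) : ∃ N : Subgroup H, N.index = 2 := by
  classical
  haveI hp2 : Fact (Nat.Prime 2) := ⟨Nat.prime_two⟩
  have hpg : IsPGroup 2 (H ⧸ M) := by
    intro y
    obtain ⟨x, rfl⟩ := QuotientGroup.mk'_surjective M y
    obtain ⟨k, hk⟩ := h x
    refine ⟨k, ?_⟩
    rw [← map_pow]
    exact (QuotientGroup.eq_one_iff _).mpr hk
  obtain ⟨j, hj⟩ := IsPGroup.iff_card.mp hpg
  have hj0 : j ≠ 0 := by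
    rintro rfl
    apply hM
    rw [pow_zero] at hj
    have : M.index = 1 := hj
    exact Subgroup.index_eq_one.mp this
  obtain ⟨S₀, hS₀⟩ := Sylow.exists_subgroup_card_pow_prime (G := H ⧸ M) 2 (n := j - 1) (by
    rw [hj]
    exact pow_dvd_pow 2 (Nat.sub_le _ _))
  have hidx : S₀.index = 2 := by
    have h1 := S₀.card_mul_index
    rw [hS₀, hj] at h1
    have h2 : (2 : ℕ) ^ j = 2 ^ (j - 1) * 2 := by
      rw [← pow_succ]
      congr 1
      omega
    rw [h2] at h1
    exact Nat.eq_of_mul_eq_mul_left (by positivity) h1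
  exact ⟨S₀.comap (QuotientGroup.mk' M), by
    rw [Subgroup.index_comap_of_surjective _ (QuotientGroup.mk'_surjective M), hidx]⟩

/-- Either there is a subgroup of index two, or all 2-elements lie in the commutator subgroup. -/
lemma rq_index_two_or_commutator {H : Type u} [Group H] [Finite H] :
    (∃ N : Subgroup H, N.index = 2) ∨ ∀ x : H, (∃ k : ℕ, x ^ (2 ^ k) = 1) → x ∈ commutator H := by
  classical
  let Q := Abelianization H
  haveI : Finite Q := inferInstanceAs (Finite (H ⧸ commutator H))
  let e := (Nat.card Q).factorization 2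
  let m := ordCompl[2] (Nat.card Q)
  have hQpos : Nat.card Q ≠ 0 := Nat.card_pos.ne'
  have hem : 2 ^ e * m = Nat.card Q := Nat.ordProj_mul_ordCompl_eq_self _ 2
  have hmodd : Nat.Coprime 2 m := Nat.coprime_ordCompl Nat.prime_two hQpos
  let f : H →* Q := (powMonoidHom m).comp Abelianization.of
  have hfm : ∀ x, x ∈ f.ker ↔ (Abelianization.of x) ^ m = 1 := fun x => by
    rw [MonoidHom.mem_ker]
    rfl
  by_cases htop : f.ker = ⊤
  · right
    intro x ⟨k, hk⟩
    have h1 : (Abelianization.of x) ^ m = 1 := (hfm x).mp (by rw [htop]; trivial)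
    have h2 : (Abelianization.of x) ^ (2 ^ k) = 1 := by
      rw [← map_pow, hk, map_one]
    have h3 : Nat.Coprime (2 ^ k) m := Nat.Coprime.pow_left _ hmodd
    have h4 : orderOf (Abelianization.of x) ∣ 1 := by
      rw [← Nat.Coprime.gcd_eq_one h3]
      exact Nat.dvd_gcd (orderOf_dvd_of_pow_eq_one h2) (orderOf_dvd_of_pow_eq_one h1)
    have h5 : Abelianization.of x = 1 := orderOf_eq_one_iff.mp (Nat.dvd_one.mp h4)
    exact (QuotientGroup.eq_one_iff x).mp h5
  · left
    haveI : f.ker.Normal := inferInstance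
    refine rq_index_two_of_pquot f.ker (fun x => ⟨e, ?_⟩) htop
    rw [hfm, map_pow, ← pow_mul, hem]
    exact pow_card_eq_one'

/-- An odd-order automorphism of a 2-group with a 2-group of automorphisms is trivial. -/
lemma rq_conj_trivial_of_aut {X : Type u} [Group X] [Finite X] (D : Subgroup X) {g : X}
    (hg : g ∈ Subgroup.normalizer (D : Set X)) (hgc : Nat.Coprime (orderOf g) 2)
    (hcase : IsPGroup 2 (MulAut D) ∨ (Nat.card (MulAut D) ∣ 24 ∧ Nat.Coprime (orderOf g) 3)) :
    g ∈ Subgroup.centralizer (D : Set X) := by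
  classical
  have hnorm : ∀ d ∈ D, g * d * g⁻¹ ∈ D := fun d hd =>
    (Subgroup.mem_normalizer_iff.mp hg d).mp hd
  have hnorm' : ∀ d ∈ D, g⁻¹ * d * g ∈ D := fun d hd => by
    have := (Subgroup.mem_normalizer_iff.mp (Subgroup.inv_mem _ hg) d).mp hd
    simpa using this
  let θ : MulAut D :=
    { toFun := fun d => ⟨g * d * g⁻¹, hnorm d d.2⟩
      invFun := fun d => ⟨g⁻¹ * d * g, hnorm' d d.2⟩
      left_inv := fun d => by
        apply Subtype.ext
        simp [mul_assoc]
      right_inv := fun d => by
        apply Subtype.ext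
        simp [mul_assoc]
      map_mul' := fun d d' => by
        apply Subtype.ext
        simp [mul_assoc] }
  have hθ : ∀ d : D, ((θ d : D) : X) = g * d * g⁻¹ := fun d => rfl
  have hpow : ∀ (n : ℕ) (d : D), (((θ ^ n) d : D) : X) = g ^ n * d * (g ^ n)⁻¹ := by
    intro n
    induction n with
    | zero =>
      intro d
      simp
    | succ n ih =>
      intro d
      rw [pow_succ', MulAut.mul_apply, hθ, ih, pow_succ']
      group
  have hord : θ ^ orderOf g = 1 := by
    ext d
    rw [hpow, pow_orderOf_eq_one]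
    simp
  have hdvd : orderOf θ ∣ orderOf g := orderOf_dvd_of_pow_eq_one hord
  have h1 : orderOf θ = 1 := by
    rcases hcase with h | ⟨h, h3⟩
    · obtain ⟨k, hk⟩ := h θ
      have h2 : orderOf θ ∣ 2 ^ k := orderOf_dvd_of_pow_eq_one hk
      have h3 : Nat.Coprime (orderOf g) (2 ^ k) := Nat.Coprime.pow_right _ hgc
      have h4 := Nat.dvd_gcd hdvd h2
      rw [Nat.Coprime.gcd_eq_one h3] at h4
      exact Nat.dvd_one.mp h4
    · have h2 : orderOf θ ∣ 24 := (orderOf_dvd_natCard θ).trans h
      have h5 : Nat.Coprime (orderOf g) 24 := by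
        have : (24 : ℕ) = 2 ^ 3 * 3 := by norm_num
        rw [this]
        exact Nat.Coprime.mul_right (Nat.Coprime.pow_right _ hgc) h3
      have h4 := Nat.dvd_gcd hdvd h2
      rw [Nat.Coprime.gcd_eq_one h5] at h4
      exact Nat.dvd_one.mp h4
  have h2 : θ = 1 := orderOf_eq_one_iff.mp h1
  rw [Subgroup.mem_centralizer_iff]
  intro d hd
  have h3 : ((θ ⟨d, hd⟩ : D) : X) = d := by
    rw [h2]
    rfl
  rw [hθ] at h3
  calc d * g = (g * d * g⁻¹) * g := by rw [h3]
    _ = g * d := by group

/-- A 2-subgroup that is cyclic has a 2-group of automorphisms. -/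
lemma rq_isPGroup_aut_cyclic {D : Type u} [Group D] [Finite D] (hp : IsPGroup 2 D) (hc : IsCyclic D) :
    IsPGroup 2 (MulAut D) := by
  obtain ⟨k, hk⟩ := IsPGroup.iff_card.mp hp
  apply IsPGroup.of_card (p := 2) (n := k - 1)
  rw [IsCyclic.card_mulAut, hk]
  by_cases h0 : k = 0
  · subst h0
    simp
  · rw [Nat.totient_prime_pow Nat.prime_two (Nat.pos_of_ne_zero h0)]
    simp

set_option maxRecDepth 100000 in
lemma rq_q1_cyclic : IsCyclic (QuaternionGroup 1) := by
  refine ⟨⟨xa 0, fun x => ?_⟩⟩
  revert x
  have h : ∀ x : QuaternionGroup 1, x = 1 ∨ x = xa 0 ∨ x = (xa 0) ^ 2 ∨ x = (xa 0) ^ 3 := by decide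
  intro x
  rcases h x with h | h | h | h <;> rw [h]
  · exact ⟨0, by simp⟩
  · exact ⟨1, by simp⟩
  · exact ⟨2, by simp⟩
  · exact ⟨3, by simp⟩

/-- The case analysis of the automorphisms of cyclic or quaternion 2-groups. -/
lemma rq_aut_cases {D : Type u} [Group D] [Finite D] (hp : IsPGroup 2 D)
    (h : IsCyclic D ∨ ∃ n : ℕ, Nonempty (D ≃* QuaternionGroup (2 ^ n))) :
    IsPGroup 2 (MulAut D) ∨ Nat.card (MulAut D) ∣ 24 := by
  rcases h with h | ⟨n, ⟨e⟩⟩
  · exact Or.inl (rq_isPGroup_aut_cyclic hp h)
  · rcases n with _ | _ | n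
    · left
      apply rq_isPGroup_aut_cyclic hp
      haveI := rq_q1_cyclic
      have e' : D ≃* QuaternionGroup 1 := e
      exact isCyclic_of_surjective e'.symm e'.symm.surjective
    · right
      have e' : D ≃* QuaternionGroup 2 := e
      rw [Nat.card_congr (MulAut.congr e').toEquiv]
      exact rq_q8_aut_dvd
    · left
      have h1 := Cfsg.Agent.Lib.Fusion.isPGroup_mulAut_quaternion (n := n + 2 + 2) (by omega)
      have h2 : n + 2 + 2 - 2 = n + 1 + 1 := by omega
      rw [h2] at h1
      exact h1.of_equiv (MulAut.congr e).symm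

/-- An element of order three generating the unique subgroup of order three of a perfect group is
central. -/
lemma rq_central_of_perfect {X : Type u} [Group X] [Finite X] (hperf : commutator X = ⊤) {w : X}
    (hw : orderOf w = 3)
    (h3 : ∀ A B : Subgroup X, Nat.card A = 3 → Nat.card B = 3 → A = B) :
    ∀ x : X, x * w = w * x := by
  classical
  let W := Subgroup.zpowers w
  have hWc : Nat.card W = 3 := by rw [Nat.card_zpowers, hw]
  have hconj : ∀ g : X, g * w * g⁻¹ = w ∨ g * w * g⁻¹ = w⁻¹ := by
    intro g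
    let W' : Subgroup X := W.map (MulAut.conj g).toMonoidHom
    have hW'c : Nat.card W' = 3 := by
      rw [← hWc]
      exact Subgroup.card_map_of_injective (MulAut.conj g).injective
    have hWW : W' = W := h3 _ _ hW'c hWc
    have hmem : g * w * g⁻¹ ∈ W := by
      rw [← hWW]
      exact ⟨w, Subgroup.mem_zpowers w, by simp [MulAut.conj_apply]⟩
    have hord : orderOf (g * w * g⁻¹) = 3 := by
      have := orderOf_injective (MulAut.conj g).toMonoidHom (MulAut.conj g).injective w
      rw [hw] at this
      exact this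
    rw [Subgroup.mem_zpowers_iff] at hmem
    obtain ⟨k, hk⟩ := hmem
    have hw3 : w ^ (3 : ℕ) = 1 := by rw [← hw]; exact pow_orderOf_eq_one w
    have hk' : w ^ (k % 3) = g * w * g⁻¹ := by
      rw [← hk]
      have := zpow_mod_orderOf w k
      rwa [hw] at this
    have hlt : k % 3 = 0 ∨ k % 3 = 1 ∨ k % 3 = 2 := by omega
    rcases hlt with h | h | h
    · rw [h, zpow_zero] at hk'
      rw [← hk', orderOf_one] at hord
      omega
    · left
      rw [h, zpow_one] at hk'
      exact hk'.symm
    · right
      rw [h] at hk'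
      rw [← hk']
      apply eq_inv_of_mul_eq_one_left
      rw [← zpow_add_one]
      exact_mod_cast hw3
  have hcomm : ∀ g h : X, ⁅g, h⁆ * w = w * ⁅g, h⁆ := by
    intro g h
    have hconjinv : ∀ g : X, g * w⁻¹ * g⁻¹ = (g * w * g⁻¹)⁻¹ := fun g => by group
    have e : (g * h)⁻¹ * w * (g * h) = (h * g)⁻¹ * w * (h * g) := by
      have e1 : ∀ a b : X, (a * b)⁻¹ * w * (a * b) = b⁻¹ * (a⁻¹ * w * a⁻¹⁻¹) * b⁻¹⁻¹ := fun a b => by
        group
      rw [e1, e1]
      rcases hconj g⁻¹ with h1 | h1 <;> rcases hconj h⁻¹ with h2 | h2 <;>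
        simp only [h1, h2, hconjinv]
    have e2 : ⁅g, h⁆ = (g * h) * (h * g)⁻¹ := by
      rw [commutatorElement_def]
      group
    rw [e2]
    calc (g * h) * (h * g)⁻¹ * w = (g * h) * ((h * g)⁻¹ * w * (h * g)) * (h * g)⁻¹ := by group
      _ = (g * h) * ((g * h)⁻¹ * w * (g * h)) * (h * g)⁻¹ := by rw [e]
      _ = w * ((g * h) * (h * g)⁻¹) := by group
  intro x
  have hx : x ∈ commutator X := by rw [hperf]; trivial
  have hle : commutator X ≤ Subgroup.centralizer ({w} : Set X) := by
    rw [commutator_def, Subgroup.commutator_le]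
    intro g _ h _
    rw [Subgroup.mem_centralizer_singleton_iff]
    exact hcomm g h
  have := hle hx
  rw [Subgroup.mem_centralizer_singleton_iff] at this
  exact this

/-- A perfect group all of whose Sylow subgroups are cyclic or generalised quaternion, with at most
one subgroup of order three, is trivial. -/
theorem rq_perfect {X : Type u} [Group X] [Finite X] [Nontrivial X] (hperf : commutator X = ⊤)
    (hodd : ∀ q : ℕ, q.Prime → q ≠ 2 → ∀ D : Subgroup X, IsPGroup q D → IsCyclic D)
    (h2 : ∀ D : Subgroup X, IsPGroup 2 D → IsCyclic D ∨ ∃ n : ℕ, Nonempty (D ≃* QuaternionGroup (2 ^ n)))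
    (h3 : ∀ A B : Subgroup X, Nat.card A = 3 → Nat.card B = 3 → A = B) : False := by
  classical
  haveI hp2 : Fact (Nat.Prime 2) := ⟨Nat.prime_two⟩
  haveI hp3 : Fact (Nat.Prime 3) := ⟨Nat.prime_three⟩
  by_cases h3d : 3 ∣ Nat.card X
  · obtain ⟨w, hw⟩ := exists_prime_orderOf_dvd_card' (G := X) 3 h3d
    have hcen := rq_central_of_perfect hperf hw h3
    have hWp : IsPGroup 3 (Subgroup.zpowers w) := by
      apply IsPGroup.of_card (n := 1)
      rw [Nat.card_zpowers, hw, pow_one]
    obtain ⟨P, hP⟩ := hWp.exists_le_sylow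
    have hPc : IsCyclic (P : Subgroup X) := hodd 3 Nat.prime_three (by norm_num) _ P.isPGroup'
    letI : CommGroup (P : Subgroup X) := IsCyclic.commGroup
    let φ : (P : Subgroup X) →* (P : Subgroup X) :=
      { toFun := id, map_one' := rfl, map_mul' := fun _ _ => rfl }
    haveI : (P : Subgroup X).FiniteIndex := inferInstance
    let T : X →* (P : Subgroup X) := φ.transfer
    have hT : T w = 1 := by
      have hle := Abelianization.commutator_subset_ker T
      rw [hperf] at hle
      exact hle (Subgroup.mem_top w)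
    have hkey : ∀ (k : ℕ) (g₀ : X), g₀⁻¹ * w ^ k * g₀ ∈ (P : Subgroup X) →
        g₀⁻¹ * w ^ k * g₀ = w ^ k := by
      intro k g₀ _
      have h1 : w ^ k * g₀ = g₀ * w ^ k := ((Commute.pow_right (hcen g₀) k)).symm.eq
      rw [mul_assoc, h1]
      group
    have hT2 := MonoidHom.transfer_eq_pow φ w hkey
    rw [show φ.transfer w = T w from rfl, hT] at hT2
    have hT3 : w ^ (P : Subgroup X).index = 1 := by
      have := congrArg (Subtype.val) hT2
      exact this.symm
    have h4 : 3 ∣ (P : Subgroup X).index := by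
      have := orderOf_dvd_of_pow_eq_one hT3
      rwa [hw] at this
    exact P.not_dvd_index h4
  · -- Frobenius
    have hstable : Cfsg.Agent.Lib.Transfer.FrobeniusStable 2 X := by
      intro D hD g hg hgc
      have hg3 : Nat.Coprime (orderOf g) 3 := by
        apply Nat.Coprime.symm
        rw [Nat.Prime.coprime_iff_not_dvd Nat.prime_three]
        intro h
        exact h3d (h.trans (orderOf_dvd_natCard g))
      have hcases := rq_aut_cases hD (h2 D hD)
      apply rq_conj_trivial_of_aut D hg hgc
      rcases hcases with h | h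
      · exact Or.inl h
      · exact Or.inr ⟨h, hg3⟩
    obtain ⟨K, hKn, hKc, k, hk⟩ := Cfsg.Agent.Lib.Transfer.exists_hall_of_hasNormalPComplement
      (Cfsg.Agent.Lib.Transfer.hasNormalPComplement_of_stable hstable)
    haveI := hKn
    have hKtop : K = ⊤ := by
      by_contra hne
      obtain ⟨N, hN⟩ := rq_index_two_of_pquot K (fun x => ⟨k, by
        rw [← hk]
        exact Subgroup.pow_index_mem K x⟩) hne
      have hcle : commutator X ≤ N := by
        rw [commutator_def, Subgroup.commutator_le]
        intro g _ h _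
        rw [commutatorElement_def]
        rw [Subgroup.mul_mem_iff_of_index_two hN, Subgroup.mul_mem_iff_of_index_two hN,
          Subgroup.mul_mem_iff_of_index_two hN, inv_mem_iff, inv_mem_iff]
        tauto
      rw [hperf] at hcle
      have h1 : N = ⊤ := top_le_iff.mp hcle
      rw [h1, Subgroup.index_top] at hN
      omega
    have hXodd : Nat.Coprime (Nat.card X) 2 := by
      have : Nat.card K = Nat.card X := by rw [hKtop]; exact Nat.card_congr Subgroup.topEquiv.toEquiv
      rwa [this] at hKc
    have hZ : IsZGroup X := by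
      refine ⟨fun q hq P => ?_⟩
      by_cases hq2 : q = 2
      · subst hq2
        have h1 : Nat.card (P : Subgroup X) ∣ Nat.card X := Subgroup.card_subgroup_dvd_card _
        obtain ⟨j, hj⟩ := IsPGroup.iff_card.mp P.isPGroup'
        have hj0 : j = 0 := by
          by_contra h0
          have h5 : 2 ∣ Nat.card X := by
            refine dvd_trans ?_ h1
            rw [hj]
            exact dvd_pow_self 2 h0
          have := Nat.Coprime.eq_one_of_dvd hXodd.symm h5
          omega
        rw [hj0, pow_zero] at hj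
        haveI : Subsingleton (P : Subgroup X) := (Nat.card_eq_one_iff_unique.mp hj).1
        exact isCyclic_of_subsingleton
      · exact hodd q hq hq2 _ P.isPGroup'
    have := hZ.commutator_lt
    rw [hperf] at this
    exact lt_irrefl _ this

end Cfsg.Agent.Lib.Perm
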