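import Mathlib

/-!
Jordan's theorem: a primitive group containing a cycle of prime length `p ≤ n - 3` contains the
alternating group.
-/

set_option autoImplicit false
set_option linter.style.haveILetI false

namespace Cfsg.Agent.Lib.Perm

open MulAction SubMulAction Subgroup Equiv.Perm
open scoped Pointwise

variable {α : Type*} [Fintype α] [DecidableEq α] {G : Subgroup (Equiv.Perm α)} {g : Equiv.Perm α}

lemma jc_ncard_compl (g : Equiv.Perm α) :
    ((g.support : Set α)ᶜ).ncard = Fintype.card α - g.support.card := by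
  have h := Set.ncard_add_ncard_compl (g.support : Set α)
  rw [Set.ncard_coe_finset, Nat.card_eq_fintype_card] at h
  omega

/-- Primitive groups with a prime cycle are multiply transitive. -/
lemma jc_exists_agree (hG : IsPreprimitive G α) {p : ℕ} (hp : p.Prime)
    (hpn : p + 3 ≤ Fintype.card α) (hgc : g.IsCycle) (hgp : g.support.card = p) (hg : g ∈ G)
    (τ : Equiv.Perm α) (hτ : ∀ z ∈ (g.support : Set α)ᶜ, τ z ∈ (g.support : Set α)ᶜ) :
    ∃ x ∈ G, ∀ z ∈ (g.support : Set α)ᶜ, x z = τ z := by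
  classical
  set s : Set α := (g.support : Set α)ᶜ with hs
  have hcard : s.ncard = Fintype.card α - p := by rw [hs, jc_ncard_compl, hgp]
  obtain ⟨m, hm⟩ : ∃ m, s.ncard = m + 1 := ⟨s.ncard - 1, by omega⟩
  have hp1 := hp.one_lt
  have hm' : m + 2 < Nat.card α := by
    rw [Nat.card_eq_fintype_card]
    omega
  have hpre : IsPretransitive (fixingSubgroup G s) (ofFixingSubgroup G s) :=
    isPretransitive_of_isCycle_mem hgc hg
  have hprim : IsPreprimitive (fixingSubgroup G s) (ofFixingSubgroup G s) := by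
    apply IsPreprimitive.of_prime_card
    convert! hp
    rw [Nat.card_eq_fintype_card, Fintype.card_subtype, ← hgp]
    apply congr_arg
    ext x
    simp [SubMulAction.mem_ofFixingSubgroup_iff, hs]
  have hmp : IsMultiplyPreprimitive G α (m + 2) := hG.isMultiplyPreprimitive hm hm' hprim
  haveI ht2 : IsMultiplyPretransitive G α (m + 2) := hmp.isMultiplyPretransitive
  haveI ht1 : IsMultiplyPretransitive G α (m + 1) :=
    isMultiplyPretransitive_of_le (n := m + 2) (by omega) hm'.le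
  have hcs : Nat.card s = m + 1 := by rw [Nat.card_coe_set_eq, hm]
  let e : s ≃ Fin (m + 1) := Finite.equivFinOfCardEq hcs
  let ι : Fin (m + 1) ↪ α := e.symm.toEmbedding.trans (Function.Embedding.subtype _)
  let ι' : Fin (m + 1) ↪ α := ι.trans τ.toEmbedding
  obtain ⟨x, hx⟩ := exists_smul_eq G ι ι'
  refine ⟨x, x.2, fun z hz => ?_⟩
  have h1 := congrArg (fun f : Fin (m + 1) ↪ α => f (e ⟨z, hz⟩)) hx
  have h2 : ι (e ⟨z, hz⟩) = z := by simp [ι]
  have h3 : ι' (e ⟨z, hz⟩) = τ z := by simp [ι', h2]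
  have h4 : (x • ι) (e ⟨z, hz⟩) = x • ι (e ⟨z, hz⟩) := rfl
  change (x • ι) (e ⟨z, hz⟩) = ι' (e ⟨z, hz⟩) at h1
  rw [h3, h4, h2] at h1
  exact h1

/-- Sylow argument. -/
lemma jc_exists_normalizing {p : ℕ} (hp : p.Prime) (hgc : g.IsCycle) (hgp : g.support.card = p)
    (hg : g ∈ G) {x : Equiv.Perm α} (hxG : x ∈ G)
    (hx2 : ∀ z ∈ (g.support : Set α)ᶜ, x⁻¹ z ∈ (g.support : Set α)ᶜ) :
    ∃ h ∈ G, (∀ z, x z ∈ (g.support : Set α)ᶜ → h z = x z) ∧ ∃ i : ℤ, h * g * h⁻¹ = g ^ i := by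
  classical
  set s : Set α := (g.support : Set α)ᶜ with hs
  haveI : Fact p.Prime := ⟨hp⟩
  set K := fixingSubgroup G s with hK
  have hgfix : ∀ z ∈ s, g z = z := by
    intro z hz
    simpa [hs] using hz
  let gk : K := ⟨⟨g, hg⟩, by
    rw [mem_fixingSubgroup_iff]
    intro z hz
    exact hgfix z hz⟩
  let xG : G := ⟨x, hxG⟩
  let g'k : K := ⟨xG * ⟨g, hg⟩ * xG⁻¹, by
    rw [mem_fixingSubgroup_iff]
    intro z hz
    change x (g (x⁻¹ z)) = z
    rw [hgfix _ (hx2 z hz)]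
    simp⟩
  have hordg : orderOf gk = p := by
    rw [Subgroup.orderOf_mk, Subgroup.orderOf_mk, hgc.orderOf, hgp]
  have hordg' : orderOf g'k = p := by
    have h1 : orderOf g'k = orderOf (((g'k : K) : G) : Equiv.Perm α) := by
      rw [Subgroup.orderOf_coe, Subgroup.orderOf_coe]
    have h2 : (((g'k : K) : G) : Equiv.Perm α) = MulAut.conj x g := rfl
    rw [h1, h2, MulEquiv.orderOf_eq, hgc.orderOf, hgp]
  -- K embeds into a symmetric group of degree p
  have hcardX : Nat.card (ofFixingSubgroup G s) = p := by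
    rw [Nat.card_eq_fintype_card, Fintype.card_subtype, ← hgp]
    apply congr_arg
    ext y
    simp [SubMulAction.mem_ofFixingSubgroup_iff, hs]
  have hKd : Nat.card K ∣ p.factorial := by
    rw [← hcardX, ← Nat.card_perm]
    let φ := MulAction.toPermHom K (ofFixingSubgroup G s)
    have hφ : Function.Injective φ := by
      rw [injective_iff_map_eq_one]
      intro k hk
      apply Subtype.ext
      apply Subtype.ext
      ext z
      by_cases hz : z ∈ s
      · exact (mem_fixingSubgroup_iff G).mp k.2 z hz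
      · have hz' : z ∈ ofFixingSubgroup G s := by
          rw [SubMulAction.mem_ofFixingSubgroup_iff]
          exact hz
        have := congrArg (fun f : Equiv.Perm (ofFixingSubgroup G s) => ((f ⟨z, hz'⟩ : ofFixingSubgroup G s) : α)) hk
        exact this
    exact Subgroup.card_dvd_of_injective φ hφ
  have hpsq : ¬ p ^ 2 ∣ p.factorial := by
    obtain ⟨q, rfl⟩ : ∃ q, p = q + 1 := ⟨p - 1, by have := hp.one_lt; omega⟩
    rw [Nat.factorial_succ, pow_two]
    intro hd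
    have h1 := Nat.dvd_of_mul_dvd_mul_left (by omega) hd
    rw [hp.dvd_factorial] at h1
    omega
  have hP₁ : IsPGroup p (zpowers gk) := by
    apply IsPGroup.of_card (n := 1)
    rw [Nat.card_zpowers, hordg, pow_one]
  have hP₂ : IsPGroup p (zpowers g'k) := by
    apply IsPGroup.of_card (n := 1)
    rw [Nat.card_zpowers, hordg', pow_one]
  obtain ⟨S₁, hS₁⟩ := hP₁.exists_le_sylow
  obtain ⟨S₂, hS₂⟩ := hP₂.exists_le_sylow
  obtain ⟨c, hc⟩ := MulAction.exists_smul_eq K S₂ S₁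
  have hmem : c * g'k * c⁻¹ ∈ (S₁ : Subgroup K) := by
    have h1 : g'k ∈ (S₂ : Subgroup K) := hS₂ (mem_zpowers g'k)
    have h2 : MulAut.conj c • g'k ∈ MulAut.conj c • (S₂ : Subgroup K) :=
      Subgroup.smul_mem_pointwise_smul _ _ _ h1
    have h3 : (S₁ : Subgroup K) = MulAut.conj c • (S₂ : Subgroup K) := by
      rw [← hc]
      exact Sylow.coe_subgroup_smul
    rw [h3]
    exact h2
  have hS₁eq : (S₁ : Subgroup K) = zpowers gk := by
    symm
    apply Subgroup.eq_of_le_of_card_ge hS₁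
    rw [Nat.card_zpowers, hordg]
    obtain ⟨e, he⟩ := (IsPGroup.iff_card (p := p) (G := (S₁ : Subgroup K))).mp S₁.isPGroup'
    have hd : p ^ e ∣ p.factorial := by
      rw [← he]
      exact (Subgroup.card_subgroup_dvd_card _).trans hKd
    have he1 : e ≤ 1 := by
      by_contra hcon
      exact hpsq ((pow_dvd_pow p (by omega)).trans hd)
    rw [he]
    calc p ^ e ≤ p ^ 1 := Nat.pow_le_pow_right hp.pos he1
      _ = p := pow_one p
  rw [hS₁eq, Subgroup.mem_zpowers_iff] at hmem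
  obtain ⟨i, hi⟩ := hmem
  refine ⟨((c : G) : Equiv.Perm α) * x, G.mul_mem (c : G).2 hxG, ?_, i, ?_⟩
  · intro z hz
    change ((c : G) : Equiv.Perm α) (x z) = x z
    exact (mem_fixingSubgroup_iff G).mp c.2 (x z) hz
  · have h1 := congrArg (fun k : K => ((k : G) : Equiv.Perm α)) hi
    have h2 : ((gk ^ i : K) : G).1 = g ^ i := by
      simp [gk]
    simp only [h2] at h1
    rw [h1]
    simp [g'k, xG, mul_assoc]

/-- An element commuting with a cycle acts on its support as a power of it. -/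
lemma jc_commute_cycle (hgc : g.IsCycle) {u : Equiv.Perm α} (hu : u * g = g * u) :
    ∃ i : ℤ, ∀ z ∈ g.support, u z = (g ^ i) z := by
  obtain ⟨a, ha, hcyc⟩ := hgc
  have huga : g (u a) ≠ u a := by
    intro h
    have h1 : u (g a) = g (u a) := congrArg (fun f : Equiv.Perm α => f a) hu
    rw [h] at h1
    exact ha (u.injective h1)
  obtain ⟨i, hi⟩ := hcyc huga
  refine ⟨i, fun z hz => ?_⟩
  have hz' : g z ≠ z := Equiv.Perm.mem_support.mp hz
  obtain ⟨j, hj⟩ := hcyc hz'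
  have hcomm : Commute u g := hu
  have h2 : u ((g ^ j) a) = (g ^ j) (u a) := by
    have := (hcomm.zpow_right j).eq
    exact congrArg (fun f : Equiv.Perm α => f a) this
  rw [← hj, h2, ← hi]
  have h3 : (g ^ j * g ^ i) a = (g ^ i * g ^ j) a := by
    rw [← zpow_add, ← zpow_add, add_comm]
  exact h3

/-- **Jordan's theorem.** -/
theorem jc_alternating_le (hG : IsPreprimitive G α) {p : ℕ} (hp : p.Prime)
    (hpn : p + 3 ≤ Fintype.card α) (hgc : g.IsCycle) (hgp : g.support.card = p) (hg : g ∈ G) :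
    alternatingGroup α ≤ G := by
  classical
  set s : Set α := (g.support : Set α)ᶜ with hs
  have hcard : s.ncard = Fintype.card α - p := by rw [hs, jc_ncard_compl, hgp]
  have hs3 : 2 < s.ncard := by omega
  obtain ⟨a, b, c, ha, hb, hc, hab, hac, hbc⟩ := (Set.two_lt_ncard_iff (Set.toFinite s)).mp hs3
  have hτ : ∀ {u v : α}, u ∈ s → v ∈ s → ∀ z ∈ s, Equiv.swap u v z ∈ s := by
    intro u v hu hv z hz
    by_cases h1 : z = u
    · rw [h1, Equiv.swap_apply_left]
      exact hv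
    by_cases h2 : z = v
    · rw [h2, Equiv.swap_apply_right]
      exact hu
    rw [Equiv.swap_apply_of_ne_of_ne h1 h2]
    exact hz
  have hstep : ∀ {u v : α}, u ∈ s → v ∈ s → ∃ h ∈ G, (∀ z ∈ s, h z = Equiv.swap u v z) ∧
      (∀ z ∈ s, h⁻¹ z = Equiv.swap u v z) ∧ ∃ i : ℤ, h * g * h⁻¹ = g ^ i := by
    intro u v hu hv
    obtain ⟨x, hxG, hx⟩ := jc_exists_agree hG hp hpn hgc hgp hg (Equiv.swap u v) (hτ hu hv)
    have hxinv : ∀ z ∈ s, x⁻¹ z = Equiv.swap u v z := by
      intro z hz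
      rw [Equiv.Perm.inv_eq_iff_eq]
      rw [hx _ (hτ hu hv z hz), Equiv.swap_apply_self]
    have hx2 : ∀ z ∈ (g.support : Set α)ᶜ, x⁻¹ z ∈ (g.support : Set α)ᶜ := by
      intro z hz
      rw [hxinv z hz]
      exact hτ hu hv z hz
    obtain ⟨h, hhG, hh, hi⟩ := jc_exists_normalizing hp hgc hgp hg hxG hx2
    have hh' : ∀ z ∈ s, h z = Equiv.swap u v z := by
      intro z hz
      rw [hh z (by rw [hx z hz]; exact hτ hu hv z hz), hx z hz]
    refine ⟨h, hhG, hh', ?_, hi⟩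
    intro z hz
    rw [Equiv.Perm.inv_eq_iff_eq, hh' _ (hτ hu hv z hz), Equiv.swap_apply_self]
  obtain ⟨h₁, h₁G, h₁s, h₁s', i₁, hi₁⟩ := hstep ha hb
  obtain ⟨h₂, h₂G, h₂s, h₂s', i₂, hi₂⟩ := hstep ha hc
  set u := h₁⁻¹ * h₂⁻¹ * h₁ * h₂ with hu
  have huG : u ∈ G := G.mul_mem (G.mul_mem (G.mul_mem (G.inv_mem h₁G) (G.inv_mem h₂G)) h₁G) h₂G
  have hconj₁ : ∀ j : ℤ, h₁ * g ^ j * h₁⁻¹ = g ^ (i₁ * j) := by
    intro j
    rw [← conj_zpow, hi₁, zpow_mul]
  have hconj₂ : ∀ j : ℤ, h₂ * g ^ j * h₂⁻¹ = g ^ (i₂ * j) := by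
    intro j
    rw [← conj_zpow, hi₂, zpow_mul]
  have h12 : (h₁ * h₂) * g * (h₁ * h₂)⁻¹ = (h₂ * h₁) * g * (h₂ * h₁)⁻¹ := by
    have e1 : (h₁ * h₂) * g * (h₁ * h₂)⁻¹ = h₁ * (h₂ * g * h₂⁻¹) * h₁⁻¹ := by group
    have e2 : (h₂ * h₁) * g * (h₂ * h₁)⁻¹ = h₂ * (h₁ * g * h₁⁻¹) * h₂⁻¹ := by group
    rw [e1, e2, hi₁, hi₂, hconj₁, hconj₂, mul_comm]
  have hucomm : u * g = g * u := by
    have e : u = (h₂ * h₁)⁻¹ * (h₁ * h₂) := by
      rw [hu]
      group
    rw [e]
    have h3 : (h₁ * h₂) * g = (h₂ * h₁) * g * (h₂ * h₁)⁻¹ * (h₁ * h₂) := by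
      rw [← h12]
      group
    calc (h₂ * h₁)⁻¹ * (h₁ * h₂) * g = (h₂ * h₁)⁻¹ * ((h₁ * h₂) * g) := by group
      _ = (h₂ * h₁)⁻¹ * ((h₂ * h₁) * g * (h₂ * h₁)⁻¹ * (h₁ * h₂)) := by rw [← h3]
      _ = g * ((h₂ * h₁)⁻¹ * (h₁ * h₂)) := by group
  set ρ := (Equiv.swap a b * Equiv.swap a c) ^ 2 with hρ
  have huρ : ∀ z ∈ s, u z = ρ z := by
    intro z hz
    have h1 : h₂ z = Equiv.swap a c z := h₂s z hz
    have hz1 := hτ ha hc z hz
    have h2 : h₁ (Equiv.swap a c z) = Equiv.swap a b (Equiv.swap a c z) := h₁s _ hz1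
    have hz2 := hτ ha hb _ hz1
    have h3 : h₂⁻¹ (Equiv.swap a b (Equiv.swap a c z)) =
        Equiv.swap a c (Equiv.swap a b (Equiv.swap a c z)) := h₂s' _ hz2
    have hz3 := hτ ha hc _ hz2
    have h4 := h₁s' _ hz3
    change h₁⁻¹ (h₂⁻¹ (h₁ (h₂ z))) = _
    rw [h1, h2, h3, h4, hρ, pow_two]
    rfl
  obtain ⟨i, hi⟩ := jc_commute_cycle hgc hucomm
  have hy : u * (g ^ i)⁻¹ = ρ := by
    ext z
    by_cases hz : z ∈ g.support
    · have hz' : (g ^ i)⁻¹ z ∈ g.support := by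
        rw [← zpow_neg]
        exact Equiv.Perm.zpow_apply_mem_support.mpr hz
      change u ((g ^ i)⁻¹ z) = ρ z
      rw [hi _ hz']
      have h1 : (g ^ i) ((g ^ i)⁻¹ z) = z := by simp
      rw [h1]
      have hzs : z ≠ a ∧ z ≠ b ∧ z ≠ c := by
        refine ⟨fun h => ha ?_, fun h => hb ?_, fun h => hc ?_⟩ <;> (rw [← h]; exact hz)
      have hac' : Equiv.swap a c z = z := Equiv.swap_apply_of_ne_of_ne hzs.1 hzs.2.2
      have hab' : Equiv.swap a b z = z := Equiv.swap_apply_of_ne_of_ne hzs.1 hzs.2.1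
      rw [hρ, pow_two]
      change z = Equiv.swap a b (Equiv.swap a c (Equiv.swap a b (Equiv.swap a c z)))
      rw [hac', hab', hac', hab']
    · have hzs : z ∈ s := hz
      have hgz : g z = z := by simpa using hz
      have h1 : (g ^ i)⁻¹ z = z := by
        rw [← zpow_neg]
        exact Equiv.Perm.zpow_apply_eq_self_of_apply_eq_self hgz _
      change u ((g ^ i)⁻¹ z) = ρ z
      rw [h1, huρ z hzs]
  have hρG : ρ ∈ G := by
    rw [← hy]
    exact G.mul_mem huG (G.inv_mem (G.zpow_mem hg i))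
  have h3 : ρ.IsThreeCycle := by
    rw [hρ, pow_two]
    exact (Equiv.Perm.isThreeCycle_swap_mul_swap_same hab hac hbc).isThreeCycle_sq
  exact alternatingGroup_le_of_isPreprimitive_of_isThreeCycle_mem hG h3 hρG

end Cfsg.Agent.Lib.Perm
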