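import Mathlib

/-!
Transitive minimal normal subgroups of permutation groups.
-/

set_option autoImplicit false

namespace Cfsg.Agent.Lib.Perm

variable {α : Type*} {G : Subgroup (Equiv.Perm α)}

lemma mn_smul_def (M : Subgroup G) (m : M) (a : α) : m • a = ((m : G) : Equiv.Perm α) a := rfl

/-- Two normal subgroups with trivial intersection commute elementwise. -/
lemma mn_commute_of_inf {Γ : Type*} [Group Γ] {L M : Subgroup Γ} (hL : L.Normal) (hM : M.Normal)
    (h : L ⊓ M = ⊥) {x y : Γ} (hx : x ∈ L) (hy : y ∈ M) : Commute x y := by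
  have h1 : x * y * x⁻¹ * y⁻¹ ∈ L ⊓ M := by
    constructor
    · have := hL.conj_mem x⁻¹ (L.inv_mem hx) y
      have h2 : x * y * x⁻¹ * y⁻¹ = x * (y * x⁻¹ * y⁻¹) := by group
      change x * y * x⁻¹ * y⁻¹ ∈ L
      rw [h2]
      exact L.mul_mem hx this
    · exact M.mul_mem (hM.conj_mem y hy x) (M.inv_mem hy)
  rw [h, Subgroup.mem_bot] at h1
  have h3 : x * y * x⁻¹ = y := by
    calc x * y * x⁻¹ = (x * y * x⁻¹ * y⁻¹) * y := by group
      _ = y := by rw [h1, one_mul]
  exact mul_inv_eq_iff_eq_mul.mp h3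

/-- A permutation fixing a point, commuting with a transitive group, is trivial. -/
lemma mn_eq_one_of_commute {T : Subgroup (Equiv.Perm α)} (hT : MulAction.IsPretransitive T α)
    {c : Equiv.Perm α} {a : α} (hc : c a = a) (hcomm : ∀ t ∈ T, Commute c t) : c = 1 := by
  ext x
  obtain ⟨t, ht⟩ := hT.exists_smul_eq a x
  have ht' : (t : Equiv.Perm α) a = x := ht
  have h2 := hcomm t t.2
  have h3 : c ((t : Equiv.Perm α) a) = (t : Equiv.Perm α) (c a) := by
    have := congrArg (fun f : Equiv.Perm α => f a) h2.eq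
    simpa using this
  rw [hc, ht'] at h3
  simpa [ht'] using h3

/-- The image of `M` in the symmetric group is transitive. -/
lemma mn_map_transitive (M : Subgroup G) (h : MulAction.IsPretransitive M α) :
    MulAction.IsPretransitive (M.map G.subtype) α := by
  refine ⟨fun x y => ?_⟩
  obtain ⟨m, hm⟩ := h.exists_smul_eq x y
  exact ⟨⟨_, Subgroup.mem_map_of_mem _ m.2⟩, hm⟩

/-- A permutation centralising a transitive group `T` and mapping `a` to a point `t a` with `t` in
the centraliser of `T` is `t`. -/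
lemma mn_eq_of_commute {T : Subgroup (Equiv.Perm α)} (hT : MulAction.IsPretransitive T α)
    {c t : Equiv.Perm α} {a : α} (hca : c a = t a) (hc : ∀ s ∈ T, Commute c s)
    (ht : ∀ s ∈ T, Commute t s) : c = t := by
  have h1 : t⁻¹ * c = 1 := by
    refine mn_eq_one_of_commute hT (a := a) ?_ fun s hs => ?_
    · simp [Equiv.Perm.mul_apply, hca]
    · exact ((ht s hs).inv_left).mul_left (hc s hs)
  exact (inv_mul_eq_one.mp h1).symm

end Cfsg.Agent.Lib.Perm
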