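import Mathlib
import Cfsg.Agent.Lib.Perm.MinNormalPerm
import Cfsg.Agent.Lib.Basic.MinNormal

/-!
A group without proper invariant normal subgroups is a power of a simple group.
-/

set_option autoImplicit false

namespace Cfsg.Agent.Lib.Perm

open Cfsg.Agent.Lib.Basic

variable {N : Type*} [Group N]

lemma sSupIndep_insert_of_normal {S : Set (Subgroup N)} (hS : ∀ K ∈ S, K.Normal)
    (hi : sSupIndep S) {A : Subgroup N} (hd : Disjoint A (sSup S)) : sSupIndep (insert A S) := by
  intro B hB
  by_cases hBA : B = A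
  · subst hBA
    refine hd.mono_right (sSup_le_sSup ?_)
    rintro C ⟨hC, hne⟩
    rcases hC with rfl | hC
    · exact absurd rfl hne
    · exact hC
  · have hBS : B ∈ S := by
      rcases hB with rfl | h
      · exact absurd rfl hBA
      · exact h
    set K := sSup (S \ {B}) with hK
    have hKn : K.Normal := Subgroup.sSup_normal _ fun C hC => hS C hC.1
    have hle : sSup (insert A S \ {B}) ≤ A ⊔ K := by
      refine sSup_le ?_
      rintro C ⟨hC, hne⟩
      rcases hC with rfl | hC
      · exact le_sup_left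
      · exact le_sup_of_le_right (le_sSup ⟨hC, hne⟩)
    refine Disjoint.mono_right hle ?_
    rw [Subgroup.disjoint_def]
    intro x hxB hx
    have hx' : x ∈ ((A ⊔ K : Subgroup N) : Set N) := hx
    rw [Subgroup.mul_normal] at hx'
    obtain ⟨a, ha, k, hk, rfl⟩ := hx'
    have hk' : k ∈ sSup S := (sSup_le_sSup Set.sdiff_subset : K ≤ sSup S) hk
    have ha' : a ∈ sSup S := by
      have h1 : a * k ∈ sSup S := (le_sSup hBS : B ≤ sSup S) hxB
      have h2 : a = a * k * k⁻¹ := by group
      rw [h2]
      exact (sSup S).mul_mem h1 ((sSup S).inv_mem hk')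
    have ha1 : a = 1 := Subgroup.disjoint_def.mp hd ha ha'
    subst ha1
    simp only [one_mul] at hxB ⊢
    exact Subgroup.disjoint_def.mp (hi hBS) hxB hk

/-- The main structure theorem. -/
theorem exists_power_of_no_invariant {H : Type*} [Group H] [Finite N] [Nontrivial N]
    (Φ : H →* MulAut N)
    (hmin : ∀ K : Subgroup N, K ≠ ⊥ → K.Normal → (∀ h, K.map (Φ h).toMonoidHom ≤ K) → K = ⊤) :
    ∃ (T : Type) (_ : Group T) (m : ℕ), IsSimpleGroup T ∧ 0 < m ∧ Nonempty (N ≃* (Fin m → T)) := by
  classical
  obtain ⟨T₀, hT₀⟩ := exists_isMinNormal (G := N)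
  set 𝓕 : Set (Subgroup N) := Set.range fun h : H => T₀.map (Φ h).toMonoidHom with h𝓕
  have hmapmin : ∀ e : MulAut N, IsMinNormal (T₀.map e.toMonoidHom) := by
    intro e
    refine ⟨hT₀.1.map _ e.surjective, ?_, ?_⟩
    · intro hb
      apply hT₀.2.1
      rw [Subgroup.map_eq_bot_iff_of_injective _ e.injective] at hb
      exact hb
    · intro K hK hle
      have hc : K.comap e.toMonoidHom ≤ T₀ := by
        intro x hx
        obtain ⟨y, hy, hyx⟩ := hle hx
        have : y = x := e.injective hyx
        rwa [← this]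
      have hKn : (K.comap e.toMonoidHom).Normal := hK.comap _
      rcases hT₀.2.2 _ hKn hc with h | h
      · left
        rw [eq_bot_iff]
        intro x hx
        have : e.symm x ∈ K.comap e.toMonoidHom := by
          change e (e.symm x) ∈ K
          simpa using hx
        rw [h, Subgroup.mem_bot] at this
        have h2 : x = 1 := by
          have h3 := congrArg e this
          simpa using h3
        rw [h2, Subgroup.mem_bot]
      · right
        apply le_antisymm hle
        rintro _ ⟨y, hy, rfl⟩
        rw [← h] at hy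
        exact hy
  have h𝓕min : ∀ F ∈ 𝓕, IsMinNormal F := by
    rintro _ ⟨h, rfl⟩
    exact hmapmin _
  -- maximal independent subfamily
  obtain ⟨S, ⟨hS𝓕, hSi⟩, hSmax⟩ := (Set.toFinite {S : Set (Subgroup N) | S ⊆ 𝓕 ∧ sSupIndep S}).exists_maximal
    ⟨∅, Set.empty_subset _, sSupIndep_empty⟩
  have hSn : ∀ K ∈ S, K.Normal := fun K hK => (h𝓕min K (hS𝓕 hK)).1
  have hSnn : (sSup S).Normal := Subgroup.sSup_normal _ hSn
  have hF : ∀ F ∈ 𝓕, F ≤ sSup S := by
    intro F hF
    by_contra hle
    have hFm := h𝓕min F hF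
    have hinf : F ⊓ sSup S = ⊥ := by
      rcases hFm.2.2 (F ⊓ sSup S) (@Subgroup.normal_inf_normal _ _ _ _ hFm.1 hSnn) inf_le_left with h | h
      · exact h
      · exfalso
        apply hle
        rw [← h]
        exact inf_le_right
    have hd : Disjoint F (sSup S) := by rw [disjoint_iff]; exact hinf
    have hins := sSupIndep_insert_of_normal hSn hSi hd
    have hmem : insert F S ∈ {S : Set (Subgroup N) | S ⊆ 𝓕 ∧ sSupIndep S} :=
      ⟨Set.insert_subset hF hS𝓕, hins⟩
    have hsub := hSmax hmem (Set.subset_insert F S)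
    exact hle (le_sSup (hsub (Set.mem_insert F S)))
  have htop : sSup S = ⊤ := by
    have h1 : sSup 𝓕 = ⊤ := by
      apply hmin
      · intro hb
        rw [sSup_eq_bot] at hb
        have h2 := hb (T₀.map (Φ 1).toMonoidHom) ⟨1, rfl⟩
        exact (hmapmin (Φ 1)).2.1 h2
      · exact Subgroup.sSup_normal _ fun K hK => (h𝓕min K hK).1
      · intro h
        rw [Subgroup.map_le_iff_le_comap]
        refine sSup_le ?_
        rintro _ ⟨g, rfl⟩
        rw [← Subgroup.map_le_iff_le_comap]
        refine le_trans ?_ (le_sSup (s := 𝓕) (a := T₀.map (Φ (h * g)).toMonoidHom) ⟨h * g, rfl⟩)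
        rw [Subgroup.map_map]
        apply le_of_eq
        congr 1
        ext x
        simp [map_mul]
    rw [eq_top_iff, ← h1]
    exact sSup_le hF
  -- members are pairwise commuting
  have hcomm : Pairwise fun (i j : S) => ∀ x y : N, x ∈ (i : Subgroup N) → y ∈ (j : Subgroup N) →
      Commute x y := by
    intro i j hij x y hx hy
    have hd : Disjoint (i : Subgroup N) (j : Subgroup N) :=
      hSi.pairwiseDisjoint i.2 j.2 (fun h => hij (Subtype.ext h))
    exact mn_commute_of_inf (hSn _ i.2) (hSn _ j.2) (disjoint_iff.mp hd) hx hy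
  letI : Fintype S := Fintype.ofFinite _
  have hind : iSupIndep fun i : S => (i : Subgroup N) := (sSupIndep_iff S).mp hSi
  let φ : (∀ i : S, (i : Subgroup N)) →* N := Subgroup.noncommPiCoprod hcomm
  have hφinj : Function.Injective φ := Subgroup.injective_noncommPiCoprod_of_iSupIndep hind
  have hφrange : φ.range = ⨆ i : S, (i : Subgroup N) := Subgroup.noncommPiCoprod_range
  have hφsurj : Function.Surjective φ := by
    rw [← MonoidHom.range_eq_top, hφrange, ← sSup_eq_iSup', htop]
  let e₁ : (∀ i : S, (i : Subgroup N)) ≃* N := MulEquiv.ofBijective φ ⟨hφinj, hφsurj⟩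
  -- nonempty index set
  have hne : Nonempty S := by
    by_contra hem
    rw [not_nonempty_iff, Set.isEmpty_coe_sort] at hem
    rw [hem, sSup_empty] at htop
    exact bot_ne_top htop
  obtain ⟨i₀⟩ := hne
  -- the factor is simple
  have hsimple : IsSimpleGroup (i₀ : Subgroup N) := by
    have hi₀ := h𝓕min _ (hS𝓕 i₀.2)
    haveI : Nontrivial (i₀ : Subgroup N) := (Subgroup.nontrivial_iff_ne_bot _).mpr hi₀.2.1
    refine ⟨fun K hK => ?_⟩
    set K' : Subgroup N := K.map (i₀ : Subgroup N).subtype with hK'
    have hK'le : K' ≤ i₀ := by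
      rintro _ ⟨y, _, rfl⟩
      exact y.2
    have hnorm : K'.Normal := by
      have hnz : (⊤ : Subgroup N) ≤ Subgroup.normalizer (K' : Set N) := by
        rw [← htop, sSup_eq_iSup']
        refine iSup_le fun i => ?_
        intro y hy
        rw [Subgroup.mem_normalizer_iff]
        intro x
        by_cases hij : i = i₀
        · subst hij
          constructor
          · rintro ⟨u, hu, rfl⟩
            have := hK.conj_mem u hu ⟨y, hy⟩
            exact ⟨_, this, rfl⟩
          · rintro ⟨u, hu, huv⟩
            have := hK.conj_mem u hu (⟨y, hy⟩)⁻¹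
            refine ⟨_, this, ?_⟩
            simp only [Subgroup.subtype_apply, Subgroup.coe_mul, Subgroup.coe_inv, inv_inv] at huv ⊢
            rw [huv]
            group
        · have hc : ∀ u ∈ (i₀ : Subgroup N), y * u * y⁻¹ = u := by
            intro u hu
            have := hcomm hij y u hy hu
            rw [this.eq]
            group
          constructor
          · intro hx
            have hxi : x ∈ (i₀ : Subgroup N) := hK'le hx
            rwa [hc x hxi]
          · intro hx
            have hxi : y * x * y⁻¹ ∈ (i₀ : Subgroup N) := hK'le hx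
            have hxi2 : x ∈ (i₀ : Subgroup N) := by
              have h5 : x = y⁻¹ * (y * x * y⁻¹) * y⁻¹⁻¹ := by group
              rw [h5]
              have := hc (y * x * y⁻¹) hxi
              have h6 : y⁻¹ * (y * x * y⁻¹) * y⁻¹⁻¹ = y * x * y⁻¹ := by
                have h7 := hc (y * x * y⁻¹) hxi
                calc y⁻¹ * (y * x * y⁻¹) * y⁻¹⁻¹ = y⁻¹ * (y * (y * x * y⁻¹) * y⁻¹) * y⁻¹⁻¹ := by rw [h7]
                  _ = y * x * y⁻¹ := by group
              rw [h6]
              exact hxi
            rw [hc x hxi2] at hx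
            exact hx
      exact Subgroup.normalizer_eq_top_iff.mp (top_le_iff.mp hnz)
    rcases hi₀.2.2 K' hnorm hK'le with h | h
    · left
      rw [eq_bot_iff]
      intro u hu
      have : (u : N) ∈ K' := ⟨u, hu, rfl⟩
      rw [h, Subgroup.mem_bot] at this
      rw [Subgroup.mem_bot]
      exact Subtype.ext this
    · right
      rw [eq_top_iff]
      intro u _
      have : (u : N) ∈ K' := by rw [h]; exact u.2
      obtain ⟨v, hv, huv⟩ := this
      have : v = u := Subtype.ext huv
      rwa [← this]
  -- all factors are isomorphic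
  have hiso : ∀ i : S, Nonempty ((i : Subgroup N) ≃* (i₀ : Subgroup N)) := by
    intro i
    obtain ⟨g, hg⟩ := hS𝓕 i.2
    obtain ⟨g₀, hg₀⟩ := hS𝓕 i₀.2
    have e₁ : (T₀ ≃* (i : Subgroup N)) := by
      have : T₀.map (Φ g).toMonoidHom = (i : Subgroup N) := hg
      exact ((Φ g).subgroupMap T₀).trans (MulEquiv.subgroupCongr this)
    have e₂ : (T₀ ≃* (i₀ : Subgroup N)) := by
      have : T₀.map (Φ g₀).toMonoidHom = (i₀ : Subgroup N) := hg₀
      exact ((Φ g₀).subgroupMap T₀).trans (MulEquiv.subgroupCongr this)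
    exact ⟨e₁.symm.trans e₂⟩
  let e₂ := fun i => (hiso i).some
  -- change to Fin
  set A := (i₀ : Subgroup N) with hA
  letI eqv : {x : ℕ // x < Nat.card A} ≃ A := (Fin.equivSubtype.symm.trans (Finite.equivFin A).symm)
  letI grp : Group {x : ℕ // x < Nat.card A} := eqv.group
  let e₃ : {x : ℕ // x < Nat.card A} ≃* A := eqv.mulEquiv
  have hsT : IsSimpleGroup {x : ℕ // x < Nat.card A} := e₃.isSimpleGroup
  have hm : 0 < Nat.card S := Nat.card_pos_iff.mpr ⟨⟨i₀⟩, inferInstance⟩
  let e₄ : S ≃ Fin (Nat.card S) := Finite.equivFin S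
  refine ⟨{x : ℕ // x < Nat.card A}, grp, Nat.card S, hsT, hm, ⟨?_⟩⟩
  let e₅ : (∀ i : S, (i : Subgroup N)) ≃* (∀ _ : S, {x : ℕ // x < Nat.card A}) :=
    MulEquiv.piCongrRight fun i => (e₂ i).trans e₃.symm
  let e₆ : (∀ _ : S, {x : ℕ // x < Nat.card A}) ≃* (Fin (Nat.card S) → {x : ℕ // x < Nat.card A}) :=
    { toFun := fun f k => f (e₄.symm k)
      invFun := fun f i => f (e₄ i)
      left_inv := fun f => by funext i; exact congrArg f (Equiv.symm_apply_apply _ _)
      right_inv := fun f => by funext k; exact congrArg f (Equiv.apply_symm_apply _ _)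
      map_mul' := fun f g => rfl }
  exact e₁.symm.trans (e₅.trans e₆)

end Cfsg.Agent.Lib.Perm
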