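import Mathlib
import Cfsg.Agent.Lib.Known.McKayN
import Cfsg.Agent.Lib.Classical.SpOrder
import Cfsg.Agent.Lib.Misc19.SymSylow

/-!
# Wreath products inside symplectic groups
-/

set_option autoImplicit false
set_option linter.unusedSimpArgs false
set_option linter.unusedVariables false

namespace Cfsg.Agent.Lib.Perm.SpWr

open Matrix Equiv Cfsg.Agent.Lib.Known

section block

variable {F : Type*} [Field F] {n : ℕ}

/-- Block monomial matrices. -/
def MM (g : Fin n → Matrix (Fin 2) (Fin 2) F) (σ : Perm (Fin n)) :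
    Matrix (Fin n × Fin 2) (Fin n × Fin 2) F :=
  Matrix.of fun a b => if a.1 = σ b.1 then g b.1 a.2 b.2 else 0

theorem MM_apply (g : Fin n → Matrix (Fin 2) (Fin 2) F) (σ : Perm (Fin n)) (a b : Fin n × Fin 2) :
    MM g σ a b = if a.1 = σ b.1 then g b.1 a.2 b.2 else 0 := rfl

theorem MM_mul (g h : Fin n → Matrix (Fin 2) (Fin 2) F) (σ τ : Perm (Fin n)) :
    MM g σ * MM h τ = MM (fun j => g (τ j) * h j) (σ * τ) := by
  ext a c
  simp only [Matrix.mul_apply, MM_apply, Fintype.sum_prod_type, Perm.mul_apply]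
  rw [Finset.sum_eq_single (τ c.1)]
  · by_cases h1 : a.1 = σ (τ c.1)
    · simp [h1, Matrix.mul_apply]
    · simp [h1]
  · intro j _ hj
    apply Finset.sum_eq_zero
    intro s _
    simp [hj]
  · simp

theorem MM_one : MM (fun _ => (1 : Matrix (Fin 2) (Fin 2) F)) (1 : Perm (Fin n)) = 1 := by
  ext ⟨i, s⟩ ⟨j, t⟩
  simp only [MM_apply, Perm.one_apply, Matrix.one_apply, Prod.mk.injEq]
  by_cases h : i = j <;> simp [h]

theorem MM_transpose (g : Fin n → Matrix (Fin 2) (Fin 2) F) (σ : Perm (Fin n)) :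
    (MM g σ)ᵀ = MM (fun j => (g (σ⁻¹ j))ᵀ) σ⁻¹ := by
  ext ⟨i, s⟩ ⟨j, t⟩
  simp only [Matrix.transpose_apply, MM_apply]
  by_cases h : j = σ i
  · subst h
    simp
  · have : i ≠ σ⁻¹ j := by
      rintro rfl
      simp at h
    rw [if_neg h, if_neg this]

/-- The index equivalence. -/
def ix : Fin n ⊕ Fin n ≃ Fin n × Fin 2 where
  toFun := Sum.elim (fun i => (i, 0)) (fun i => (i, 1))
  invFun := fun p => if p.2 = 0 then Sum.inl p.1 else Sum.inr p.1
  left_inv := by rintro (i | i) <;> simp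
  right_inv := by
    rintro ⟨i, s⟩
    fin_cases s <;> simp

/-- The standard alternating block. -/
def eps : Matrix (Fin 2) (Fin 2) F := !![0, -1; 1, 0]

theorem J_eq : (MM (fun _ => (eps : Matrix (Fin 2) (Fin 2) F)) (1 : Perm (Fin n))).submatrix ix ix = J (Fin n) F := by
  ext (i | i) (j | j) <;>
    simp [MM_apply, ix, eps, J, Matrix.fromBlocks, Matrix.one_apply, Matrix.of_apply, Matrix.neg_apply, eq_comm]
  split_ifs <;> simp

theorem block_sp (g : SL2 F) :
    (g : Matrix (Fin 2) (Fin 2) F) * eps * (g : Matrix (Fin 2) (Fin 2) F)ᵀ = eps := by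
  have hd := sl2_det g
  ext i j
  fin_cases i <;> fin_cases j <;>
    simp [Matrix.mul_apply, Fin.sum_univ_two, eps]
  · ring
  · linear_combination -hd
  · linear_combination hd
  · ring

/-- The matrix in the symplectic shape. -/
def spMat (g : Fin n → Matrix (Fin 2) (Fin 2) F) (σ : Perm (Fin n)) :
    Matrix (Fin n ⊕ Fin n) (Fin n ⊕ Fin n) F := (MM g σ).submatrix ix ix

theorem spMat_mul (g h : Fin n → Matrix (Fin 2) (Fin 2) F) (σ τ : Perm (Fin n)) :
    spMat g σ * spMat h τ = spMat (fun j => g (τ j) * h j) (σ * τ) := by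
  unfold spMat
  rw [Matrix.submatrix_mul_equiv, MM_mul]

theorem spMat_mem (g : Fin n → SL2 F) (σ : Perm (Fin n)) :
    spMat (fun j => (g j : Matrix (Fin 2) (Fin 2) F)) σ ∈ Matrix.symplecticGroup (Fin n) F := by
  rw [SymplecticGroup.mem_iff]
  unfold spMat
  rw [← J_eq, Matrix.transpose_submatrix, Matrix.submatrix_mul_equiv, Matrix.submatrix_mul_equiv, MM_transpose,
    MM_mul, MM_mul]
  congr 2
  · funext j
    simp only [mul_one, Perm.one_apply]
    simpa using block_sp (g (σ⁻¹ j))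
  · simp

/-- The block monomial elements of the symplectic group. -/
def spMap (g : Fin n → SL2 F) (σ : Perm (Fin n)) : Matrix.symplecticGroup (Fin n) F :=
  ⟨spMat (fun j => (g j : Matrix (Fin 2) (Fin 2) F)) σ, spMat_mem g σ⟩

theorem spMap_mul (g h : Fin n → SL2 F) (σ τ : Perm (Fin n)) :
    spMap g σ * spMap h τ = spMap (fun j => g (τ j) * h j) (σ * τ) := by
  apply Subtype.ext
  show spMat _ _ * spMat _ _ = spMat _ _
  rw [spMat_mul]
  simp only [Matrix.SpecialLinearGroup.coe_mul]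

theorem spMap_one : spMap (fun _ => 1) (1 : Perm (Fin n)) = (1 : Matrix.symplecticGroup (Fin n) F) := by
  apply Subtype.ext
  show spMat _ _ = 1
  unfold spMat
  simp only [Matrix.SpecialLinearGroup.coe_one]
  rw [MM_one]
  simp

theorem spMap_inv (g : Fin n → SL2 F) (σ : Perm (Fin n)) :
    (spMap g σ)⁻¹ = spMap (fun j => (g (σ⁻¹ j))⁻¹) σ⁻¹ := by
  apply inv_eq_of_mul_eq_one_right
  rw [spMap_mul]
  simp only [mul_inv_cancel]
  exact spMap_one

theorem sl2_exists_ne (g : SL2 F) : ∃ s t, (g : Matrix (Fin 2) (Fin 2) F) s t ≠ 0 := by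
  by_contra h
  push Not at h
  have hd := sl2_det g
  rw [h 0 0, h 0 1] at hd
  simp at hd

theorem spMap_inj {g h : Fin n → SL2 F} {σ τ : Perm (Fin n)} (e : spMap g σ = spMap h τ) : g = h ∧ σ = τ := by
  have e1 : MM (fun j => (g j : Matrix (Fin 2) (Fin 2) F)) σ = MM (fun j => (h j : Matrix (Fin 2) (Fin 2) F)) τ := by
    have e0 : spMat (fun j => (g j : Matrix (Fin 2) (Fin 2) F)) σ = spMat (fun j => (h j : Matrix (Fin 2) (Fin 2) F)) τ :=
      congrArg Subtype.val e
    unfold spMat at e0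
    ext a b
    have := congrFun (congrFun e0 (ix.symm a)) (ix.symm b)
    simpa using this
  have hσ : σ = τ := by
    ext j
    obtain ⟨s, t, hst⟩ := sl2_exists_ne (g j)
    have := congrFun (congrFun e1 (σ j, s)) (j, t)
    simp only [MM_apply, if_true] at this
    by_contra hne
    have hne' : σ j ≠ τ j := fun h => hne (by rw [h])
    rw [if_neg hne'] at this
    exact hst this
  subst hσ
  refine ⟨?_, rfl⟩
  funext j
  apply Subtype.ext
  ext s t
  have := congrFun (congrFun e1 (σ j, s)) (j, t)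
  simpa [MM_apply] using this

/-- The wreath product of a subgroup of `SL₂` with a permutation group. -/
def WW (Q : Subgroup (SL2 F)) (T : Subgroup (Perm (Fin n))) : Subgroup (Matrix.symplecticGroup (Fin n) F) where
  carrier := {x | ∃ g σ, (∀ j, g j ∈ Q) ∧ σ ∈ T ∧ x = spMap g σ}
  mul_mem' := by
    rintro _ _ ⟨g, σ, hg, hσ, rfl⟩ ⟨h, τ, hh, hτ, rfl⟩
    exact ⟨_, _, fun j => Q.mul_mem (hg _) (hh _), T.mul_mem hσ hτ, spMap_mul _ _ _ _⟩
  one_mem' := ⟨fun _ => 1, 1, fun _ => Q.one_mem, T.one_mem, spMap_one.symm⟩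
  inv_mem' := by
    rintro _ ⟨g, σ, hg, hσ, rfl⟩
    exact ⟨_, _, fun j => Q.inv_mem (hg _), T.inv_mem hσ, spMap_inv _ _⟩

theorem mem_WW {Q : Subgroup (SL2 F)} {T : Subgroup (Perm (Fin n))} {x : Matrix.symplecticGroup (Fin n) F} :
    x ∈ WW Q T ↔ ∃ g σ, (∀ j, g j ∈ Q) ∧ σ ∈ T ∧ x = spMap g σ := Iff.rfl

theorem card_WW [Finite F] (Q : Subgroup (SL2 F)) (T : Subgroup (Perm (Fin n))) :
    Nat.card (WW Q T) = Nat.card Q ^ n * Nat.card T := by
  have hbij : Function.Bijective (fun x : (Fin n → Q) × T =>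
      (⟨spMap (fun j => ((x.1 j : Q) : SL2 F)) x.2, _, _, fun j => (x.1 j).2, x.2.2, rfl⟩ : WW Q T)) := by
    constructor
    · rintro ⟨g, σ⟩ ⟨h, τ⟩ e
      obtain ⟨e1, e2⟩ := spMap_inj (congrArg Subtype.val e)
      refine Prod.ext ?_ (Subtype.ext e2)
      funext j
      exact Subtype.ext (congrFun e1 j)
    · rintro ⟨_, g, σ, hg, hσ, rfl⟩
      exact ⟨(fun j => ⟨g j, hg j⟩, ⟨σ, hσ⟩), rfl⟩
  rw [← Nat.card_congr (Equiv.ofBijective _ hbij), Nat.card_prod, Nat.card_fun, Nat.card_eq_fintype_card (α := Fin n),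
    Fintype.card_fin]

end block

section arith

/-- Valuation of the order of `Sp`. -/
theorem val_prod {q e : ℕ} (hq : Odd q) (hq3 : 3 ≤ q) (he : padicValNat 2 (q ^ 2 - 1) = e) (n : ℕ) :
    padicValNat 2 (∏ i ∈ Finset.range n, (q ^ (2 * (i + 1)) - 1)) = n * e + padicValNat 2 n.factorial := by
  haveI : Fact (Nat.Prime 2) := ⟨Nat.prime_two⟩
  have hnot : ¬ 2 ∣ q := by
    rw [← even_iff_two_dvd, Nat.not_even_iff_odd]; exact hq
  have h2 : 2 ∣ q - 1 := by
    obtain ⟨k, hk⟩ := hq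
    exact ⟨k, by omega⟩
  have hpos : ∀ k, 1 ≤ k → q ^ (2 * k) - 1 ≠ 0 := by
    intro k hk
    have : 3 ^ 1 ≤ q ^ (2 * k) := by
      calc 3 ^ 1 ≤ q ^ 1 := Nat.pow_le_pow_left hq3 1
        _ ≤ q ^ (2 * k) := Nat.pow_le_pow_right (by omega) (by omega)
    omega
  have hlte : ∀ k, 1 ≤ k → padicValNat 2 (q ^ (2 * k) - 1) = e + padicValNat 2 k := by
    intro k hk
    have h1 := padicValNat.pow_two_sub_pow (x := q) (y := 1) (by omega) h2 hnot (n := 2 * k) (by omega) (even_two_mul k)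
    have h3 := padicValNat.pow_two_sub_pow (x := q) (y := 1) (by omega) h2 hnot (n := 2) (by omega) even_two
    rw [one_pow] at h1 h3
    rw [padicValNat.mul (by norm_num) (by omega), padicValNat.self (by norm_num)] at h1
    rw [he, padicValNat.self (by norm_num)] at h3
    omega
  induction n with
  | zero => simp
  | succ m ih =>
    rw [Finset.prod_range_succ, padicValNat.mul, ih, hlte (m + 1) (by omega), Nat.factorial_succ, padicValNat.mul (by omega) (Nat.factorial_ne_zero m)]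
    · ring
    · apply Finset.prod_ne_zero_iff.2
      intro i _
      exact hpos _ (by omega)
    · exact hpos _ (by omega)

/-- The Sylow count in `Sp`. -/
theorem val_sp {q e : ℕ} (hq : Odd q) (hq3 : 3 ≤ q) (he : padicValNat 2 (q ^ 2 - 1) = e) (n : ℕ) :
    (q ^ (n ^ 2) * ∏ i ∈ Finset.range n, (q ^ (2 * (i + 1)) - 1)).factorization 2 = n * e + padicValNat 2 n.factorial := by
  haveI : Fact (Nat.Prime 2) := ⟨Nat.prime_two⟩
  have hnot : ¬ 2 ∣ q := by
    rw [← even_iff_two_dvd, Nat.not_even_iff_odd]; exact hq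
  have h0 : padicValNat 2 (q ^ (n ^ 2)) = 0 := by
    apply padicValNat.eq_zero_of_not_dvd
    intro hd
    exact hnot (Nat.Prime.dvd_of_dvd_pow Nat.prime_two hd)
  rw [Nat.factorization_def _ Nat.prime_two, padicValNat.mul, val_prod hq hq3 he, h0, zero_add]
  · exact pow_ne_zero _ (by omega)
  · apply Finset.prod_ne_zero_iff.2
    intro i _
    have : 3 ^ 1 ≤ q ^ (2 * (i + 1)) := by
      calc 3 ^ 1 ≤ q ^ 1 := Nat.pow_le_pow_left hq3 1
        _ ≤ q ^ (2 * (i + 1)) := Nat.pow_le_pow_right (by omega) (by omega)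
    omega

end arith

end Cfsg.Agent.Lib.Perm.SpWr
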