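import Mathlib
import Cfsg.Agent.Lib.Perm.SpWrA

/-!
# The model of a Sylow 2-subgroup of `Sp_{2n}(q)`
-/

set_option autoImplicit false
set_option linter.unusedSimpArgs false
set_option linter.unusedVariables false

namespace Cfsg.Agent.Lib.Perm.SpWr

open Matrix Equiv Cfsg.Agent.Lib.Known Cfsg.Agent.Lib.Misc19.SymSylow
open scoped commutatorElement

section dicyclic

variable {G : Type*} [Group G]

/-- A cyclic-by-two structure. -/
structure QData (Q A : Subgroup G) (y w z : G) (a : ℕ) : Prop where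
  ha : 2 ≤ a
  hcardA : Nat.card A = 2 ^ a
  hcard : Nat.card Q = 2 * 2 ^ a
  hy : y ∈ A
  hord : orderOf y = 2 ^ a
  hAy : ∀ b ∈ A, ∃ k : ℕ, b = y ^ k
  hmem : ∀ x, x ∈ Q ↔ x ∈ A ∨ w⁻¹ * x ∈ A
  hinv : ∀ b ∈ A, w * b * w⁻¹ = b⁻¹
  hww : w * w = z
  hz : z = y ^ (2 ^ (a - 1))
  hzc : ∀ g : G, g * z = z * g
  hz1 : z ≠ 1
  hzz : z * z = 1

namespace QData

variable {Q A : Subgroup G} {y w z : G} {a : ℕ} (D : QData Q A y w z a)
include D

theorem A_le : A ≤ Q := fun x hx => (D.hmem x).2 (Or.inl hx)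

theorem w_mem : w ∈ Q := (D.hmem w).2 (Or.inr (by simp))

theorem A_comm {b c : G} (hb : b ∈ A) (hc : c ∈ A) : b * c = c * b := by
  obtain ⟨k, rfl⟩ := D.hAy b hb
  obtain ⟨l, rfl⟩ := D.hAy c hc
  rw [← pow_add, ← pow_add, add_comm]

theorem z_mem_A : z ∈ A := by
  rw [D.hz]
  exact A.pow_mem D.hy _

theorem inv_comm {b : G} (hb : b ∈ A) : w * b = b⁻¹ * w := by
  have := D.hinv b hb
  rw [← this]
  group

theorem cases {x : G} (hx : x ∈ Q) : x ∈ A ∨ ∃ b ∈ A, x = w * b := by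
  rcases (D.hmem x).1 hx with h | h
  · exact Or.inl h
  · exact Or.inr ⟨_, h, by group⟩

theorem comm_mem {x x' : G} (hx : x ∈ Q) (hx' : x' ∈ Q) : ⁅x, x'⁆ ∈ A := by
  rw [commutatorElement_def]
  rcases D.cases hx with h | ⟨b, hb, rfl⟩ <;> rcases D.cases hx' with h' | ⟨c, hc, rfl⟩
  · rw [D.A_comm h h']
    simpa using A.one_mem
  · -- x ∈ A, x' = w c
    have e : x * (w * c) * x⁻¹ * (w * c)⁻¹ = x * (w * (c * x⁻¹ * c⁻¹) * w⁻¹) := by group
    rw [e, D.A_comm hc (A.inv_mem h)]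
    have e2 : x * (w * (x⁻¹ * c * c⁻¹) * w⁻¹) = x * (w * x⁻¹ * w⁻¹) := by group
    rw [e2, D.hinv _ (A.inv_mem h)]
    exact A.mul_mem h (A.inv_mem (A.inv_mem h))
  · -- x = w b, x' ∈ A
    have e : w * b * x' * (w * b)⁻¹ * x'⁻¹ = (w * (b * x' * b⁻¹) * w⁻¹) * x'⁻¹ := by group
    rw [e, D.A_comm hb h']
    have e2 : w * (x' * b * b⁻¹) * w⁻¹ = w * x' * w⁻¹ := by group
    rw [e2, D.hinv _ h']
    exact A.mul_mem (A.inv_mem h') (A.inv_mem h')
  · -- both outside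
    have e1 : w * b * (w * c) = b⁻¹ * c * z := by
      calc w * b * (w * c) = (w * b * w⁻¹) * (w * w) * c := by group
        _ = b⁻¹ * z * c := by rw [D.hinv b hb, D.hww]
        _ = b⁻¹ * c * z := by rw [mul_assoc, ← D.hzc c, mul_assoc]
    have e2 : (w * b)⁻¹ * (w * c)⁻¹ = (w * c * (w * b))⁻¹ := by group
    have e3 : w * c * (w * b) = c⁻¹ * b * z := by
      calc w * c * (w * b) = (w * c * w⁻¹) * (w * w) * b := by group
        _ = c⁻¹ * z * b := by rw [D.hinv c hc, D.hww]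
        _ = c⁻¹ * b * z := by rw [mul_assoc, ← D.hzc b, mul_assoc]
    have e4 : w * b * (w * c) * (w * b)⁻¹ * (w * c)⁻¹ = (w * b * (w * c)) * ((w * b)⁻¹ * (w * c)⁻¹) := by group
    rw [e4, e2, e1, e3]
    have hzA := D.z_mem_A
    exact A.mul_mem (A.mul_mem (A.mul_mem (A.inv_mem hb) hc) hzA)
      (A.inv_mem (A.mul_mem (A.mul_mem (A.inv_mem hc) hb) hzA))

theorem comm_le : ⁅Q, Q⁆ ≤ A := Subgroup.commutator_le.2 fun _ hx _ hx' => D.comm_mem hx hx'

theorem comm_comm : ⁅⁅Q, Q⁆, ⁅Q, Q⁆⁆ = ⊥ := by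
  rw [eq_bot_iff, Subgroup.commutator_le]
  intro a ha b hb
  rw [Subgroup.mem_bot, commutatorElement_def, D.A_comm (D.comm_le ha) (D.comm_le hb)]
  group

theorem sq_mem_A {b : G} (hb : b ∈ A) : b * b ∈ ⁅Q, Q⁆ := by
  have h1 : ⁅w, b⁆ ∈ ⁅Q, Q⁆ := Subgroup.commutator_mem_commutator D.w_mem (D.A_le hb)
  rw [commutatorElement_def, D.hinv b hb] at h1
  have := Subgroup.inv_mem _ h1
  simpa using this

theorem z_mem_comm : z ∈ ⁅Q, Q⁆ := by
  have ha := D.ha
  obtain ⟨m, hm⟩ : ∃ m, a - 1 = m + 1 := ⟨a - 2, by omega⟩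
  have h1 : y ^ 2 ^ m ∈ A := A.pow_mem D.hy _
  have h2 := D.sq_mem_A h1
  rw [D.hz, hm, pow_succ, pow_mul, pow_two]
  exact h2

theorem sq_mem {x : G} (hx : x ∈ Q) : x * x ∈ ⁅Q, Q⁆ := by
  rcases D.cases hx with h | ⟨b, hb, rfl⟩
  · exact D.sq_mem_A h
  · have e : w * b * (w * b) = (w * b * w⁻¹) * (w * w) * b := by group
    rw [e, D.hinv b hb, D.hww, mul_assoc, ← D.hzc b, ← mul_assoc]
    simpa using D.z_mem_comm

theorem y_sq_ne : y * y ≠ 1 := by
  intro h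
  have h1 : orderOf y ∣ 2 := orderOf_dvd_of_pow_eq_one (by rw [pow_two]; exact h)
  rw [D.hord] at h1
  have h2 : 2 ^ 2 ∣ 2 ^ a := pow_dvd_pow 2 D.ha
  have := h2.trans h1
  norm_num at this

theorem comm_ne_bot : ⁅Q, Q⁆ ≠ ⊥ := by
  intro h
  have := D.sq_mem_A D.hy
  rw [h, Subgroup.mem_bot] at this
  exact D.y_sq_ne this

end QData

end dicyclic

section model

variable {F : Type*} [Field F] [Fintype F]

/-- The Sylow model in `SL₂`. -/
theorem exists_QData (hodd : Odd (Fintype.card F)) : ∃ (Q A : Subgroup (SL2 F)) (y w : SL2 F) (a : ℕ),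
    QData Q A y w (sl2M1 F) a ∧ padicValNat 2 (Fintype.card F ^ 2 - 1) = a + 1 := by
  classical
  obtain ⟨T, w, D, hcyc, h4, ⟨r, hr, hG⟩, hreg⟩ := exists_torus_two hodd
  obtain ⟨A, S₀, a, m, y, d⟩ := exists_twoData D (fun g => (sl2M1_comm g).symm) hcyc h4 r hr hG hreg
  have h2 := two_ne_zero_of_odd hodd
  have hz : sl2M1 F = y ^ (2 ^ (a - 1)) := by
    have ha := d.ha
    have h1 : (y ^ (2 ^ (a - 1))) * (y ^ (2 ^ (a - 1))) = 1 := by
      rw [← pow_add, ← two_mul, ← pow_succ', show a - 1 + 1 = a by omega, ← d.hyord, pow_orderOf_eq_one]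
    rcases D.sq_one _ (T.pow_mem (d.hAT d.hyA) _) h1 with h | h
    · exfalso
      have h3 : orderOf y ∣ 2 ^ (a - 1) := orderOf_dvd_of_pow_eq_one h
      rw [d.hyord] at h3
      have := Nat.pow_dvd_pow_iff_le_right (by norm_num : 1 < 2) |>.1 h3
      omega
    · exact h.symm
  refine ⟨S₀, A, y, w, a, ⟨d.ha, d.hAcard, d.hScard, d.hyA, d.hyord, d.hAy, d.hS_mem,
    fun b hb => D.inv b (d.hAT hb), D.w_sq, hz, fun g => (sl2M1_comm g).symm, D.z_ne, D.z_sq⟩, ?_⟩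
  haveI : Fact (Nat.Prime 2) := ⟨Nat.prime_two⟩
  have hq := hodd
  set q := Fintype.card F with hqdef
  have hnot : ¬ 2 ∣ q := by
    rw [← even_iff_two_dvd, Nat.not_even_iff_odd]; exact hq
  have hmul := Subgroup.card_mul_index S₀
  rw [d.hScard, card_sl2] at hmul
  have hidx := d.hSidx
  have hq0 : q ≠ 0 := by
    intro h
    rw [h] at hnot
    exact hnot (dvd_zero 2)
  have hq1 : q ^ 2 - 1 ≠ 0 := by
    intro h
    rw [h, mul_zero] at hmul
    have : S₀.index ≠ 0 := by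
      intro h0
      rw [h0] at hidx
      exact hidx (dvd_zero 2)
    have h3 : 2 * 2 ^ a * S₀.index ≠ 0 := by positivity
    exact h3 hmul
  have hi0 : S₀.index ≠ 0 := by
    intro h0
    rw [h0] at hidx
    exact hidx (dvd_zero 2)
  have e := congrArg (padicValNat 2) hmul
  rw [padicValNat.mul (by positivity) hi0, padicValNat.mul (by norm_num) (by positivity), padicValNat.mul hq0 hq1,
    padicValNat.self (by norm_num), padicValNat.prime_pow, padicValNat.eq_zero_of_not_dvd hidx,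
    padicValNat.eq_zero_of_not_dvd hnot] at e
  omega

end model

section lift

variable {F : Type*} [Field F] {n : ℕ}

/-- The base group hom. -/
def dHom : (Fin n → SL2 F) →* Matrix.symplecticGroup (Fin n) F where
  toFun g := spMap g 1
  map_one' := spMap_one
  map_mul' g h := by
    rw [spMap_mul]
    rfl

theorem dHom_apply (g : Fin n → SL2 F) : dHom g = spMap g 1 := rfl

/-- The top group hom. -/
def tHom : Perm (Fin n) →* Matrix.symplecticGroup (Fin n) F where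
  toFun σ := spMap (fun _ => 1) σ
  map_one' := spMap_one
  map_mul' σ τ := by
    rw [spMap_mul]
    simp

theorem tHom_apply (σ : Perm (Fin n)) : (tHom σ : Matrix.symplecticGroup (Fin n) F) = spMap (fun _ => 1) σ := rfl

theorem spMap_eq (g : Fin n → SL2 F) (σ : Perm (Fin n)) : spMap g σ = spMap (fun _ => 1) σ * spMap g 1 := by
  rw [spMap_mul]
  simp

variable {Q : Subgroup (SL2 F)} {T : Subgroup (Perm (Fin n))}

/-- One coordinate. -/
def sHom (j : Fin n) : SL2 F →* Matrix.symplecticGroup (Fin n) F :=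
  (dHom (F := F) (n := n)).comp (MonoidHom.mulSingle (fun _ => SL2 F) j)

theorem sHom_apply (j : Fin n) (q : SL2 F) : sHom j q = spMap (Pi.mulSingle j q) 1 := rfl

theorem sHom_mem {j : Fin n} {q : SL2 F} (hq : q ∈ Q) : sHom j q ∈ WW Q T := by
  refine ⟨Pi.mulSingle j q, 1, fun i => ?_, T.one_mem, rfl⟩
  by_cases h : i = j
  · subst h
    simpa using hq
  · simp [Pi.mulSingle_eq_of_ne h, Q.one_mem]

theorem tHom_mem {σ : Perm (Fin n)} (hσ : σ ∈ T) : tHom σ ∈ WW Q T :=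
  ⟨fun _ => 1, σ, fun _ => Q.one_mem, hσ, rfl⟩

/-- Coordinatewise commutators are commutators. -/
theorem dHom_mem_comm {h : Fin n → SL2 F} (hh : ∀ j, h j ∈ ⁅Q, Q⁆) : dHom h ∈ ⁅WW Q T, WW Q T⁆ := by
  have hle : Subgroup.pi Set.univ (fun _ : Fin n => ⁅Q, Q⁆) ≤ (⁅WW Q T, WW Q T⁆).comap (dHom (F := F) (n := n)) := by
    rw [Subgroup.pi_le_iff]
    intro j c hc
    obtain ⟨c', hc', rfl⟩ := hc
    show dHom (MonoidHom.mulSingle (fun _ => SL2 F) j c') ∈ ⁅WW Q T, WW Q T⁆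
    show sHom j c' ∈ ⁅WW Q T, WW Q T⁆
    have h1 : sHom j c' ∈ (⁅Q, Q⁆).map (sHom j) := ⟨c', hc', rfl⟩
    rw [Subgroup.map_commutator] at h1
    have h2 : Q.map (sHom j) ≤ WW Q T := by
      rintro _ ⟨q, hq, rfl⟩
      exact sHom_mem hq
    exact Subgroup.commutator_mono h2 h2 h1
  exact hle (fun j _ => hh j)

/-- Squares modulo commutators. -/
theorem sq_mul_mem {G : Type*} [Group G] {W : Subgroup G} {a b : G} (ha : a ∈ W) (hb : b ∈ W)
    (h1 : a * a ∈ ⁅W, W⁆) (h2 : b * b ∈ ⁅W, W⁆) : (a * b) * (a * b) ∈ ⁅W, W⁆ := by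
  have e : (a * b) * (a * b) = (a * a) * ⁅a⁻¹, b⁆ * (b * b) := by
    rw [commutatorElement_def]
    group
  rw [e]
  exact Subgroup.mul_mem _ (Subgroup.mul_mem _ h1 (Subgroup.commutator_mem_commutator (W.inv_mem ha) hb)) h2

/-- All squares of the wreath product are commutators. -/
theorem sq_mem_WW (hQ : ∀ x ∈ Q, x * x ∈ ⁅Q, Q⁆) (hT : ∀ x ∈ T, x * x ∈ ⁅T, T⁆) :
    ∀ x ∈ WW Q T, x * x ∈ ⁅WW Q T, WW Q T⁆ := by
  rintro _ ⟨g, σ, hg, hσ, rfl⟩
  rw [spMap_eq]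
  apply sq_mul_mem (W := WW Q T)
  · exact tHom_mem hσ
  · exact ⟨g, 1, hg, T.one_mem, rfl⟩
  · have h1 : tHom (σ * σ) ∈ (⁅T, T⁆).map (tHom (F := F)) := ⟨_, hT σ hσ, rfl⟩
    rw [Subgroup.map_commutator] at h1
    have h2 : T.map (tHom (F := F)) ≤ WW Q T := by
      rintro _ ⟨τ, hτ, rfl⟩
      exact tHom_mem hτ
    have h3 := Subgroup.commutator_mono h2 h2 h1
    rw [map_mul] at h3
    exact h3
  · have e : spMap g 1 * spMap g 1 = dHom (fun j => g j * g j) := by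
      rw [spMap_mul, dHom_apply]
      simp
    rw [e]
    exact dHom_mem_comm fun j => hQ _ (hg j)

end lift

section sylow

variable {F : Type*} [Field F] [Fintype F]

/-- The Sylow model. -/
theorem exists_sylow_WW {Q A : Subgroup (SL2 F)} {y w : SL2 F} {a n : ℕ}
    (D : QData Q A y w (sl2M1 F) a) (hval : padicValNat 2 (Fintype.card F ^ 2 - 1) = a + 1)
    (hodd : Odd (Fintype.card F)) (T : Subgroup (Perm (Fin n)))
    (hT : Nat.card T = 2 ^ padicValNat 2 n.factorial) :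
    ∃ P : Sylow 2 (Matrix.symplecticGroup (Fin n) F), (P : Subgroup _) = WW Q T := by
  have hq3 : 3 ≤ Fintype.card F := by
    have h1 := Fintype.one_lt_card (α := F)
    obtain ⟨k, hk⟩ := hodd
    omega
  have hc : Nat.card (WW Q T) = 2 ^ (Nat.card (Matrix.symplecticGroup (Fin n) F)).factorization 2 := by
    rw [card_WW, D.hcard, hT, Cfsg.Agent.Lib.Classical.card_sp rfl n, val_sp hodd hq3 hval n, pow_add, pow_mul', ← pow_succ']
  exact ⟨Sylow.ofCard (WW Q T) hc, rfl⟩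

end sylow

end Cfsg.Agent.Lib.Perm.SpWr
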