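import Mathlib
import Cfsg.Agent.Lib.Perm.SpWrB

/-!
# Derived length of Sylow 2-subgroups of `Sp_{2n}(q)`
-/

set_option autoImplicit false
set_option linter.unusedSimpArgs false
set_option linter.unusedVariables false

namespace Cfsg.Agent.Lib.Perm.SpWr

open Matrix Equiv Cfsg.Agent.Lib.Known Cfsg.Agent.Lib.Misc19.SymSylow
open scoped commutatorElement

section series

variable {G : Type*} [Group G]

/-- The derived series of a subgroup, inside the ambient group. -/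
def dS (V : Subgroup G) : ℕ → Subgroup G
  | 0 => V
  | k + 1 => ⁅dS V k, dS V k⁆

@[simp] theorem dS_zero (V : Subgroup G) : dS V 0 = V := rfl

theorem dS_succ (V : Subgroup G) (k : ℕ) : dS V (k + 1) = ⁅dS V k, dS V k⁆ := rfl

theorem map_derivedSeries_eq_dS (V : Subgroup G) (k : ℕ) : (derivedSeries V k).map V.subtype = dS V k := by
  induction k with
  | zero =>
    rw [derivedSeries_zero, dS_zero, ← MonoidHom.range_eq_map, Subgroup.range_subtype]
  | succ k ih =>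
    rw [derivedSeries_succ, Subgroup.map_commutator, ih, dS_succ]

theorem dS_mono {V V' : Subgroup G} (h : V ≤ V') (k : ℕ) : dS V k ≤ dS V' k := by
  induction k with
  | zero => exact h
  | succ k ih => exact Subgroup.commutator_mono ih ih

theorem dS_le (V : Subgroup G) (k : ℕ) : dS V k ≤ V := by
  induction k with
  | zero => exact le_rfl
  | succ k ih => exact (Subgroup.commutator_mono ih ih).trans (Subgroup.commutator_le_self V)

theorem dS_map {H : Type*} [Group H] (f : G →* H) (V : Subgroup G) (k : ℕ) : dS (V.map f) k = (dS V k).map f := by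
  induction k with
  | zero => rfl
  | succ k ih => rw [dS_succ, dS_succ, ih, Subgroup.map_commutator]

/-- The commutator of elements commuting across two factors. -/
theorem comm_mul_mul {a₁ a₂ b₁ b₂ : G} (h11 : a₁ * b₁ = b₁ * a₁) (h12 : a₁ * b₂ = b₂ * a₁) (h21 : a₂ * b₁ = b₁ * a₂)
    (h22 : a₂ * b₂ = b₂ * a₂) : ⁅a₁ * b₁, a₂ * b₂⁆ = ⁅a₁, a₂⁆ * ⁅b₁, b₂⁆ := by
  have c1 : Commute a₁ b₁ := h11
  have c2 : Commute a₁ b₂ := h12
  have c3 : Commute a₂ b₁ := h21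
  have c4 : Commute a₂ b₂ := h22
  have hB : Commute ⁅a₁, a₂⁆ b₁ := by
    rw [commutatorElement_def]
    exact ((c1.mul_left c3).mul_left c1.inv_left).mul_left c3.inv_left
  have hB2 : Commute ⁅a₁, a₂⁆ b₂ := by
    rw [commutatorElement_def]
    exact ((c2.mul_left c4).mul_left c2.inv_left).mul_left c4.inv_left
  rw [commutatorElement_def, commutatorElement_def, commutatorElement_def]
  have e1 : a₁ * b₁ * (a₂ * b₂) = a₁ * a₂ * (b₁ * b₂) := by
    rw [mul_assoc a₁, ← mul_assoc b₁, ← h21, mul_assoc a₂, mul_assoc]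
  have e2 : (a₁ * b₁)⁻¹ * (a₂ * b₂)⁻¹ = a₁⁻¹ * a₂⁻¹ * (b₁⁻¹ * b₂⁻¹) := by
    rw [c1.eq, c4.eq, _root_.mul_inv_rev, _root_.mul_inv_rev, mul_assoc a₁⁻¹, ← mul_assoc b₁⁻¹, (c3.inv_left.inv_right).symm.eq, mul_assoc a₂⁻¹, mul_assoc]
  have e3 : a₁ * a₂ * (b₁ * b₂) * (a₁⁻¹ * a₂⁻¹ * (b₁⁻¹ * b₂⁻¹)) = a₁ * a₂ * (a₁⁻¹ * a₂⁻¹) * (b₁ * b₂ * (b₁⁻¹ * b₂⁻¹)) := by
    have : Commute (b₁ * b₂) (a₁⁻¹ * a₂⁻¹) :=
      ((c1.inv_left.mul_left c3.inv_left).symm.mul_left (c2.inv_left.mul_left c4.inv_left).symm)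
    calc a₁ * a₂ * (b₁ * b₂) * (a₁⁻¹ * a₂⁻¹ * (b₁⁻¹ * b₂⁻¹)) = a₁ * a₂ * ((b₁ * b₂) * (a₁⁻¹ * a₂⁻¹)) * (b₁⁻¹ * b₂⁻¹) := by group
      _ = a₁ * a₂ * ((a₁⁻¹ * a₂⁻¹) * (b₁ * b₂)) * (b₁⁻¹ * b₂⁻¹) := by rw [this.eq]
      _ = _ := by group
  calc a₁ * b₁ * (a₂ * b₂) * (a₁ * b₁)⁻¹ * (a₂ * b₂)⁻¹ = a₁ * b₁ * (a₂ * b₂) * ((a₁ * b₁)⁻¹ * (a₂ * b₂)⁻¹) := by group
    _ = a₁ * a₂ * (b₁ * b₂) * (a₁⁻¹ * a₂⁻¹ * (b₁⁻¹ * b₂⁻¹)) := by rw [e1, e2]
    _ = _ := by rw [e3]; group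

/-- The derived series in a wreath-like configuration. -/
theorem wreath_step {V₁ V₂ V : Subgroup G} {s : G} (hV : V₁ ≤ V) (hs : s ∈ V)
    (hcomm : ∀ a ∈ V₁, ∀ b ∈ V₂, a * b = b * a) (hconj : ∀ a ∈ V₁, s * a * s⁻¹ ∈ V₂) (k : ℕ) :
    ∀ a ∈ dS V₁ k, ∃ b ∈ V₂, a * b ∈ dS V (k + 1) := by
  induction k with
  | zero =>
    intro a ha
    refine ⟨s * a⁻¹ * s⁻¹, hconj _ (V₁.inv_mem ha), ?_⟩
    have h1 : ⁅a, s⁆ ∈ ⁅V, V⁆ := Subgroup.commutator_mem_commutator (hV ha) hs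
    rw [commutatorElement_def] at h1
    have e : a * (s * a⁻¹ * s⁻¹) = a * s * a⁻¹ * s⁻¹ := by group
    rw [e]
    exact h1
  | succ k ih =>
    -- the subgroup of good elements
    let H : Subgroup G :=
      { carrier := {a | a ∈ V₁ ∧ ∃ b ∈ V₂, a * b ∈ dS V (k + 2)}
        mul_mem' := by
          rintro a a' ⟨ha, b, hb, hab⟩ ⟨ha', b', hb', hab'⟩
          refine ⟨V₁.mul_mem ha ha', b * b', V₂.mul_mem hb hb', ?_⟩
          have e : a * a' * (b * b') = a * b * (a' * b') := by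
            rw [mul_assoc a, ← mul_assoc a', hcomm a' ha' b hb, mul_assoc b, mul_assoc]
          rw [e]
          exact Subgroup.mul_mem _ hab hab'
        one_mem' := ⟨V₁.one_mem, 1, V₂.one_mem, by simpa using Subgroup.one_mem _⟩
        inv_mem' := by
          rintro a ⟨ha, b, hb, hab⟩
          refine ⟨V₁.inv_mem ha, b⁻¹, V₂.inv_mem hb, ?_⟩
          have e : a⁻¹ * b⁻¹ = (a * b)⁻¹ := by
            rw [hcomm a ha b hb, _root_.mul_inv_rev]
          rw [e]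
          exact Subgroup.inv_mem _ hab }
    have hle : dS V₁ (k + 1) ≤ H := by
      rw [dS_succ, Subgroup.commutator_le]
      intro a₁ h1 a₂ h2
      obtain ⟨b₁, hb₁, e1⟩ := ih a₁ h1
      obtain ⟨b₂, hb₂, e2⟩ := ih a₂ h2
      have h1' := dS_le V₁ k h1
      have h2' := dS_le V₁ k h2
      refine ⟨Subgroup.commutator_le_self V₁ (Subgroup.commutator_mem_commutator h1' h2'), ⁅b₁, b₂⁆, ?_, ?_⟩
      · rw [commutatorElement_def]
        exact V₂.mul_mem (V₂.mul_mem (V₂.mul_mem hb₁ hb₂) (V₂.inv_mem hb₁)) (V₂.inv_mem hb₂)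
      · rw [← comm_mul_mul (hcomm _ h1' _ hb₁) (hcomm _ h1' _ hb₂) (hcomm _ h2' _ hb₁) (hcomm _ h2' _ hb₂)]
        exact Subgroup.commutator_mem_commutator e1 e2
    intro a ha
    exact (hle ha).2

theorem wreath_ne_bot {V₁ V₂ V : Subgroup G} {s : G} (hV : V₁ ≤ V) (hs : s ∈ V)
    (hcomm : ∀ a ∈ V₁, ∀ b ∈ V₂, a * b = b * a) (hconj : ∀ a ∈ V₁, s * a * s⁻¹ ∈ V₂)
    (hdisj : ∀ a ∈ V₁, a ∈ V₂ → a = 1) {k : ℕ} (hk : dS V₁ k ≠ ⊥) : dS V (k + 1) ≠ ⊥ := by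
  intro h0
  apply hk
  rw [eq_bot_iff]
  intro a ha
  obtain ⟨b, hb, hab⟩ := wreath_step hV hs hcomm hconj k a ha
  rw [h0, Subgroup.mem_bot] at hab
  have e : a = b⁻¹ := eq_inv_of_mul_eq_one_left hab
  rw [Subgroup.mem_bot]
  exact hdisj a (dS_le V₁ k ha) (e ▸ V₂.inv_mem hb)

end series

section perm

variable {β : Type*}

theorem wr_mono {A B : Subgroup (Perm β)} (h : A ≤ B) : wr 2 A ≤ wr 2 B := by
  rintro _ ⟨τ, hτ, f, rfl⟩
  exact ⟨τ, h hτ, f, rfl⟩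

theorem wr_comm (A B : Subgroup (Perm β)) : ⁅wr 2 A, wr 2 B⁆ ≤ wr 2 ⁅A, B⁆ := by
  haveI : Fact (Nat.Prime 2) := ⟨Nat.prime_two⟩
  rw [Subgroup.commutator_le]
  rintro _ ⟨τ, hτ, f, rfl⟩ _ ⟨τ', hτ', f', rfl⟩
  rw [commutatorElement_def, aff_inv, aff_inv, aff_mul, aff_mul, aff_mul]
  exact ⟨_, by rw [← commutatorElement_def]; exact Subgroup.commutator_mem_commutator hτ hτ', _, rfl⟩

theorem dS_wr_le (R : Subgroup (Perm β)) (k : ℕ) : dS (wr 2 R) k ≤ wr 2 (dS R k) := by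
  induction k with
  | zero => exact le_rfl
  | succ k ih => exact (Subgroup.commutator_mono ih ih).trans (wr_comm _ _)

theorem wr_bot_comm : ⁅wr 2 (⊥ : Subgroup (Perm β)), wr 2 (⊥ : Subgroup (Perm β))⁆ = ⊥ := by
  haveI : Fact (Nat.Prime 2) := ⟨Nat.prime_two⟩
  rw [eq_bot_iff, Subgroup.commutator_le]
  rintro _ ⟨τ, hτ, f, rfl⟩ _ ⟨τ', hτ', f', rfl⟩
  rw [Subgroup.mem_bot] at hτ hτ'
  subst hτ hτ'
  rw [Subgroup.mem_bot, commutatorElement_eq_one_iff_mul_comm, aff_mul, aff_mul]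
  congr 1
  funext b
  simp [add_comm]

open Nat in
/-- Existence of a subgroup of `S_n` of full `2`-power order, generated by involutions, of small derived length. -/
theorem exists_sym_dl (n : ℕ) : ∃ R : Subgroup (Perm (Fin n)),
    Nat.card R = 2 ^ padicValNat 2 n ! ∧ GenP 2 R ∧ dS R (Nat.log 2 n) = ⊥ := by
  haveI hp : Fact (Nat.Prime 2) := ⟨Nat.prime_two⟩
  induction n using Nat.strong_induction_on with
  | _ n ih =>
    by_cases hn : n < 2
    · refine ⟨⊥, ?_, ?_, ?_⟩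
      · have : n ! = 1 := by
          interval_cases n <;> rfl
        rw [this]
        simp
      · exact GenP.of_subsingleton
      · have : Nat.log 2 n = 0 := Nat.log_of_lt hn
        rw [this]
        rfl
    · have hn2 : 0 < n := by omega
      have hm : n / 2 < n := Nat.div_lt_self hn2 (by norm_num)
      obtain ⟨R, hR, hG, hD⟩ := ih (n / 2) hm
      have hle : Fintype.card (ZMod 2 × Fin (n / 2)) ≤ Fintype.card (Fin n) := by
        simp only [Fintype.card_prod, ZMod.card, Fintype.card_fin]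
        exact Nat.mul_div_le n 2
      obtain ⟨e⟩ := Function.Embedding.nonempty_of_card_le hle
      let ψ := Perm.viaEmbeddingHom e
      have hψ : Function.Injective ψ := Perm.viaEmbeddingHom_injective e
      refine ⟨(wr 2 R).map ψ, ?_, ?_, ?_⟩
      · rw [Subgroup.card_map_of_injective hψ, card_wr, hR, Fintype.card_fin, ← pow_add,
          ← padicValNat_mul_div_factorial n, padicValNat_factorial_mul]
      · exact (genP_wr hG).of_equiv (Subgroup.equivMapOfInjective _ ψ hψ)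
      · have hlog : Nat.log 2 n = Nat.log 2 (n / 2) + 1 := Nat.log_of_one_lt_of_le (by norm_num) (by omega)
        rw [dS_map, hlog, dS_succ]
        have h1 := dS_wr_le R (Nat.log 2 (n / 2))
        rw [hD] at h1
        have h2 : ⁅dS (wr 2 R) (Nat.log 2 (n / 2)), dS (wr 2 R) (Nat.log 2 (n / 2))⁆ = ⊥ := by
          rw [eq_bot_iff, ← wr_bot_comm (β := Fin (n / 2))]
          exact Subgroup.commutator_mono h1 h1
        rw [h2, Subgroup.map_bot]

end perm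

end Cfsg.Agent.Lib.Perm.SpWr
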