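import Mathlib
import Cfsg.Agent.Lib.Classical.OrthSO
import Cfsg.Agent.Lib.Classical.OrthMinus
import Cfsg.Agent.Lib.Quad.Diag
import Cfsg.Agent.Lib.Quad.Types
import Cfsg.Agent.Lib.Basic.GrunPNormal
import Cfsg.Agent.Lib.Perm.SpWrD

/-!
# Wreath product models inside orthogonal groups
-/

set_option autoImplicit false
set_option linter.unusedSimpArgs false
set_option linter.unusedVariables false
set_option linter.unusedSectionVars false

namespace Cfsg.Agent.Lib.Perm.OmWr

open Matrix Equiv Cfsg.Agent.Lib.Classical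

variable {F : Type*} [Field F] {k : ℕ} {κ : Type} [Fintype κ] [DecidableEq κ]

/-- The index type of the model. -/
abbrev II (k : ℕ) (κ : Type) := (Fin k × Fin 2) ⊕ κ

/-- Coordinates in a block. -/
def pr (i : Fin k) : (II k κ → F) →ₗ[F] (Fin 2 → F) where
  toFun v s := v (.inl (i, s))
  map_add' _ _ := rfl
  map_smul' _ _ := rfl

/-- Coordinates in the remaining part. -/
def pU : (II k κ → F) →ₗ[F] (κ → F) where
  toFun v c := v (.inr c)
  map_add' _ _ := rfl
  map_smul' _ _ := rfl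

/-- A vector from coordinates. -/
def mkV (f : Fin k → Fin 2 → F) (c : κ → F) : II k κ → F := Sum.elim (fun a => f a.1 a.2) c

@[simp] theorem pr_mkV (i : Fin k) (f : Fin k → Fin 2 → F) (c : κ → F) : pr i (mkV f c) = f i := rfl

@[simp] theorem pU_mkV (f : Fin k → Fin 2 → F) (c : κ → F) : pU (mkV f c) = c := rfl

theorem vec_ext {v w : II k κ → F} (h1 : ∀ i, pr i v = pr i w) (h2 : pU v = pU w) : v = w := by
  funext a
  rcases a with ⟨i, s⟩ | c
  · exact congrFun (h1 i) s
  · exact congrFun h2 c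

/-- The orthogonal sum of `k` copies of `W` and `U`. -/
noncomputable def QQ (W : QuadraticForm F (Fin 2 → F)) (U : QuadraticForm F (κ → F)) :
    QuadraticForm F (II k κ → F) :=
  (∑ i : Fin k, W.comp (pr i)) + U.comp pU

variable {W : QuadraticForm F (Fin 2 → F)} {U : QuadraticForm F (κ → F)}

theorem QQ_apply (v : II k κ → F) : QQ W U v = ∑ i : Fin k, W (pr i v) + U (pU v) := by
  simp [QQ, QuadraticMap.add_apply, QuadraticMap.sum_apply, QuadraticMap.comp_apply]

theorem polar_QQ (x y : II k κ → F) :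
    QuadraticMap.polar (⇑(QQ W U)) x y =
      ∑ i : Fin k, QuadraticMap.polar (⇑W) (pr i x) (pr i y) + QuadraticMap.polar (⇑U) (pU x) (pU y) := by
  simp only [QuadraticMap.polar, QQ_apply, map_add, ← Finset.sum_sub_distrib]
  have : ∀ a b c d e f : F, a + b - (c + d) - (e + f) = (a - c - e) + (b - d - f) := by intros; ring
  rw [this, ← Finset.sum_sub_distrib]
  simp only [Finset.sum_sub_distrib]

/-- The action of a block monomial element. -/
noncomputable def actL (g : Fin k → OG W) (σ : Perm (Fin k)) (u : OG U) : (II k κ → F) →ₗ[F] (II k κ → F) where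
  toFun v := mkV (fun i => oM (g (σ⁻¹ i)) *ᵥ pr (σ⁻¹ i) v) (oM u *ᵥ pU v)
  map_add' x y := by
    apply vec_ext
    · intro i
      simp [mulVec_add]
    · simp [mulVec_add]
  map_smul' c x := by
    apply vec_ext
    · intro i
      simp [mulVec_smul]
    · simp [mulVec_smul]

theorem pr_act (g : Fin k → OG W) (σ : Perm (Fin k)) (u : OG U) (v : II k κ → F) (i : Fin k) :
    pr i (actL g σ u v) = oM (g (σ⁻¹ i)) *ᵥ pr (σ⁻¹ i) v := rfl

theorem pU_act (g : Fin k → OG W) (σ : Perm (Fin k)) (u : OG U) (v : II k κ → F) :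
    pU (actL g σ u v) = oM u *ᵥ pU v := rfl

theorem act_act (g h : Fin k → OG W) (σ τ : Perm (Fin k)) (u u' : OG U) (v : II k κ → F) :
    actL g σ u (actL h τ u' v) = actL (fun j => g (τ j) * h j) (σ * τ) (u * u') v := by
  apply vec_ext
  · intro i
    rw [pr_act, pr_act, pr_act, oM_mul]
    simp [Perm.mul_apply, _root_.mul_inv_rev]
  · rw [pU_act, pU_act, pU_act, oM_mul]

theorem act_one (v : II k κ → F) : actL (fun _ => (1 : OG W)) 1 (1 : OG U) v = v := by
  apply vec_ext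
  · intro i
    rw [pr_act, oM_one]
    simp
  · rw [pU_act, oM_one]

theorem QQ_act (g : Fin k → OG W) (σ : Perm (Fin k)) (u : OG U) (v : II k κ → F) :
    QQ W U (actL g σ u v) = QQ W U v := by
  rw [QQ_apply, QQ_apply]
  congr 1
  · simp only [pr_act, oM_Q]
    exact Equiv.sum_comp (σ⁻¹ : Perm (Fin k)) (fun i => W (pr i v))
  · rw [pU_act, oM_Q]

/-- The matrix of a block monomial element. -/
noncomputable def mkMat (g : Fin k → OG W) (σ : Perm (Fin k)) (u : OG U) : Matrix (II k κ) (II k κ) F :=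
  LinearMap.toMatrix' (actL g σ u)

theorem mkMat_mulVec (g : Fin k → OG W) (σ : Perm (Fin k)) (u : OG U) (v : II k κ → F) :
    mkMat g σ u *ᵥ v = actL g σ u v := by
  simp [mkMat, LinearMap.toMatrix'_mulVec]

theorem mkMat_mul (g h : Fin k → OG W) (σ τ : Perm (Fin k)) (u u' : OG U) :
    mkMat g σ u * mkMat h τ u' = mkMat (fun j => g (τ j) * h j) (σ * τ) (u * u') := by
  apply mat_ext_mulVec'
  intro x
  rw [← mulVec_mulVec, mkMat_mulVec, mkMat_mulVec, mkMat_mulVec, act_act]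

theorem mkMat_one : mkMat (fun _ => (1 : OG W)) 1 (1 : OG U) = (1 : Matrix (II k κ) (II k κ) F) := by
  apply mat_ext_mulVec'
  intro x
  rw [mkMat_mulVec, act_one, one_mulVec]

theorem perm_inv_self (σ : Perm (Fin k)) (x : Fin k) : σ⁻¹ (σ x) = x := by simp

theorem mkMat_inv_right (g : Fin k → OG W) (σ : Perm (Fin k)) (u : OG U) :
    mkMat g σ u * mkMat (fun j => (g (σ⁻¹ j))⁻¹) σ⁻¹ u⁻¹ = 1 := by
  rw [mkMat_mul]
  simp only [mul_inv_cancel]
  exact mkMat_one

theorem mkMat_inv_left (g : Fin k → OG W) (σ : Perm (Fin k)) (u : OG U) :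
    mkMat (fun j => (g (σ⁻¹ j))⁻¹) σ⁻¹ u⁻¹ * mkMat g σ u = 1 := by
  rw [mkMat_mul]
  simp only [perm_inv_self, inv_mul_cancel]
  exact mkMat_one

/-- The block monomial elements of the isometry group. -/
noncomputable def mkEl (g : Fin k → OG W) (σ : Perm (Fin k)) (u : OG U) : OG (QQ (k := k) W U) :=
  ⟨⟨mkMat g σ u, mkMat (fun j => (g (σ⁻¹ j))⁻¹) σ⁻¹ u⁻¹, mkMat_inv_right g σ u, mkMat_inv_left g σ u⟩, by
    intro v _
    show QQ W U (mkMat g σ u *ᵥ v) = QQ W U v
    rw [mkMat_mulVec, QQ_act]⟩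

theorem oM_mkEl (g : Fin k → OG W) (σ : Perm (Fin k)) (u : OG U) (v : II k κ → F) :
    oM (mkEl g σ u) *ᵥ v = actL g σ u v := mkMat_mulVec g σ u v

theorem mkEl_mul (g h : Fin k → OG W) (σ τ : Perm (Fin k)) (u u' : OG U) :
    mkEl g σ u * mkEl h τ u' = mkEl (fun j => g (τ j) * h j) (σ * τ) (u * u') := by
  apply og_ext
  intro x
  rw [oM_mul, oM_mkEl, oM_mkEl, oM_mkEl, act_act]

theorem mkEl_one : mkEl (fun _ : Fin k => (1 : OG W)) 1 (1 : OG U) = 1 := by
  apply og_ext
  intro x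
  rw [oM_mkEl, act_one, oM_one]

theorem mkEl_inv (g : Fin k → OG W) (σ : Perm (Fin k)) (u : OG U) :
    (mkEl g σ u)⁻¹ = mkEl (fun j => (g (σ⁻¹ j))⁻¹) σ⁻¹ u⁻¹ := by
  apply inv_eq_of_mul_eq_one_right
  rw [mkEl_mul]
  simp only [mul_inv_cancel]
  exact mkEl_one

theorem mkEl_inj {g h : Fin k → OG W} {σ τ : Perm (Fin k)} {u u' : OG U} (e : mkEl g σ u = mkEl h τ u') :
    g = h ∧ σ = τ ∧ u = u' := by
  classical
  have ha : ∀ v : II k κ → F, actL g σ u v = actL h τ u' v := by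
    intro v
    rw [← oM_mkEl, ← oM_mkEl, e]
  have hσ : σ = τ := by
    refine Equiv.ext fun j => ?_
    by_contra hne
    have hne' : τ⁻¹ (σ j) ≠ j := by
      intro h3
      apply hne
      have := congrArg τ h3
      simpa using this
    have h1 := congrArg (pr (σ j)) (ha (mkV (Pi.single j (Pi.single 0 1)) 0))
    rw [pr_act, pr_act] at h1
    simp only [perm_inv_self, pr_mkV] at h1
    rw [Pi.single_eq_same, Pi.single_eq_of_ne hne', mulVec_zero] at h1
    have h2 : (Pi.single 0 1 : Fin 2 → F) = 0 := by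
      apply oM_injective (g j)
      rw [h1, mulVec_zero]
    have h3 := congrFun h2 0
    simp at h3
  subst hσ
  refine ⟨?_, rfl, ?_⟩
  · funext j
    apply og_ext
    intro x
    have h1 := congrArg (pr (σ j)) (ha (mkV (Pi.single j x) 0))
    rw [pr_act, pr_act] at h1
    simpa using h1
  · apply og_ext
    intro x
    have h1 := congrArg pU (ha (mkV 0 x))
    rw [pU_act, pU_act] at h1
    simpa using h1

/-- The wreath product model. -/
def PO (D : Subgroup (OG W)) (T : Subgroup (Perm (Fin k))) (E : Subgroup (OG U)) : Subgroup (OG (QQ (k := k) W U)) where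
  carrier := {x | ∃ g σ u, (∀ j, g j ∈ D) ∧ σ ∈ T ∧ u ∈ E ∧ x = mkEl g σ u}
  mul_mem' := by
    rintro _ _ ⟨g, σ, u, hg, hσ, hu, rfl⟩ ⟨h, τ, u', hh, hτ, hu', rfl⟩
    exact ⟨_, _, _, fun j => D.mul_mem (hg _) (hh _), T.mul_mem hσ hτ, E.mul_mem hu hu', mkEl_mul _ _ _ _ _ _⟩
  one_mem' := ⟨fun _ => 1, 1, 1, fun _ => D.one_mem, T.one_mem, E.one_mem, mkEl_one.symm⟩
  inv_mem' := by
    rintro _ ⟨g, σ, u, hg, hσ, hu, rfl⟩
    exact ⟨_, _, _, fun j => D.inv_mem (hg _), T.inv_mem hσ, E.inv_mem hu, mkEl_inv _ _ _⟩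

theorem mem_PO {D : Subgroup (OG W)} {T : Subgroup (Perm (Fin k))} {E : Subgroup (OG U)} {x : OG (QQ (k := k) W U)} :
    x ∈ PO D T E ↔ ∃ g σ u, (∀ j, g j ∈ D) ∧ σ ∈ T ∧ u ∈ E ∧ x = mkEl g σ u := Iff.rfl

theorem card_PO (D : Subgroup (OG W)) (T : Subgroup (Perm (Fin k))) (E : Subgroup (OG U)) :
    Nat.card (PO D T E) = Nat.card D ^ k * Nat.card T * Nat.card E := by
  have hbij : Function.Bijective (fun x : (Fin k → D) × T × E =>
      (⟨mkEl (fun j => ((x.1 j : D) : OG W)) x.2.1 x.2.2, _, _, _, fun j => (x.1 j).2, x.2.1.2, x.2.2.2, rfl⟩ : PO D T E)) := by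
    constructor
    · rintro ⟨g, σ, u⟩ ⟨h, τ, u'⟩ e
      obtain ⟨e1, e2, e3⟩ := mkEl_inj (congrArg Subtype.val e)
      refine Prod.ext ?_ (Prod.ext (Subtype.ext e2) (Subtype.ext e3))
      funext j
      exact Subtype.ext (congrFun e1 j)
    · rintro ⟨_, g, σ, u, hg, hσ, hu, rfl⟩
      exact ⟨(fun j => ⟨g j, hg j⟩, ⟨σ, hσ⟩, ⟨u, hu⟩), rfl⟩
  rw [← Nat.card_congr (Equiv.ofBijective _ hbij), Nat.card_prod, Nat.card_prod, Nat.card_fun,
    Nat.card_eq_fintype_card (α := Fin k), Fintype.card_fin, mul_assoc]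

/-! ### Reflections -/

/-- A vector in a block. -/
def iota (i : Fin k) (x : Fin 2 → F) : II k κ → F := mkV (Pi.single i x) 0

theorem pr_iota_same (i : Fin k) (x : Fin 2 → F) : pr i (iota (κ := κ) i x) = x := by
  simp [iota]

theorem pr_iota_ne {i j : Fin k} (h : j ≠ i) (x : Fin 2 → F) : pr j (iota (κ := κ) i x) = 0 := by
  simp [iota, Pi.single_eq_of_ne h]

theorem pU_iota (i : Fin k) (x : Fin 2 → F) : pU (iota (κ := κ) i x) = 0 := rfl

theorem sum_single_eq {A : Type*} [AddCommMonoid A] (i : Fin k) (f : Fin k → A) (hf : ∀ j, j ≠ i → f j = 0) :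
    ∑ j, f j = f i := Finset.sum_eq_single i (fun j _ hj => hf j hj) (by simp)

theorem QQ_iota (i : Fin k) (x : Fin 2 → F) : QQ W U (iota (κ := κ) i x) = W x := by
  rw [QQ_apply, pU_iota, map_zero, add_zero, sum_single_eq i]
  · rw [pr_iota_same]
  · intro j hj
    rw [pr_iota_ne hj, map_zero]

theorem polar_iota (i : Fin k) (x : Fin 2 → F) (y : II k κ → F) :
    QuadraticMap.polar (⇑(QQ W U)) (iota i x) y = QuadraticMap.polar (⇑W) x (pr i y) := by
  rw [polar_QQ, sum_single_eq i, pr_iota_same, pU_iota]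
  · simp [QuadraticMap.polar]
  · intro j hj
    rw [pr_iota_ne hj]
    simp [QuadraticMap.polar]

/-- The reflection in a block is a reflection of the whole space. -/
theorem mkEl_rf_block (i : Fin k) (x : Fin 2 → F) (hx : W x ≠ 0) (hx' : QQ (k := k) W U (iota (κ := κ) i x) ≠ 0) :
    mkEl (Pi.mulSingle i (rf x hx)) (1 : Perm (Fin k)) (1 : OG U) = rf (iota i x) hx' := by
  apply og_ext
  intro v
  rw [oM_mkEl, rf_apply, QQ_iota, polar_iota]
  apply vec_ext
  · intro j
    rw [pr_act, map_sub, map_smul]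
    have e1 : (1⁻¹ : Perm (Fin k)) j = j := by simp
    rw [e1]
    by_cases hj : j = i
    · subst hj
      rw [pr_iota_same, Pi.mulSingle_eq_same, rf_apply]
    · rw [pr_iota_ne hj, Pi.mulSingle_eq_of_ne hj, oM_one]
      simp
  · rw [pU_act, map_sub, map_smul, pU_iota, oM_one]
    simp

/-- A vector in the remaining part. -/
def iotaU (c : κ → F) : II k κ → F := mkV 0 c

theorem pr_iotaU (i : Fin k) (c : κ → F) : pr i (iotaU (k := k) c) = 0 := rfl

theorem pU_iotaU (c : κ → F) : pU (iotaU (k := k) c) = c := rfl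

theorem QQ_iotaU (c : κ → F) : QQ W U (iotaU (k := k) c) = U c := by
  rw [QQ_apply, pU_iotaU]
  simp [pr_iotaU]

theorem polar_iotaU (c : κ → F) (y : II k κ → F) :
    QuadraticMap.polar (⇑(QQ W U)) (iotaU c) y = QuadraticMap.polar (⇑U) c (pU y) := by
  rw [polar_QQ, pU_iotaU]
  simp [pr_iotaU, QuadraticMap.polar]

/-- A reflection in the remaining part is a reflection of the whole space. -/
theorem mkEl_rf_U (c : κ → F) (hc : U c ≠ 0) (hc' : QQ (k := k) W U (iotaU (k := k) c) ≠ 0) :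
    mkEl (fun _ => (1 : OG W)) (1 : Perm (Fin k)) (rf c hc) = rf (iotaU c) hc' := by
  apply og_ext
  intro v
  rw [oM_mkEl, rf_apply, QQ_iotaU, polar_iotaU]
  apply vec_ext
  · intro j
    rw [pr_act, map_sub, map_smul, pr_iotaU, oM_one]
    simp
  · rw [pU_act, map_sub, map_smul, pU_iotaU, rf_apply]

end Cfsg.Agent.Lib.Perm.OmWr
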