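import Mathlib
import Cfsg.Agent.Lib.Perm.OmWrA

/-!
# Involution generation and reflections in small dimension
-/

set_option autoImplicit false
set_option linter.unusedSimpArgs false
set_option linter.unusedVariables false
set_option linter.unusedSectionVars false

namespace Cfsg.Agent.Lib.Perm.OmWr

open Matrix Equiv Cfsg.Agent.Lib.Classical Module

section abstract

variable {G : Type*} [Group G]

theorem units_sq (x : ℤˣ) : x * x = 1 := Int.units_mul_self x

/-- The key generation lemma. -/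
theorem involution_gen (φ θ : G →* ℤˣ) (T : Subgroup G) (R : Set G)
    (hgen : Subgroup.closure ((T : Set G) ∪ R) = ⊤)
    (hT : ∀ t ∈ T, t ∈ Subgroup.closure {y : G | y * y = 1 ∧ φ y = 1 ∧ θ y = 1})
    (hR2 : ∀ r ∈ R, r * r = 1) (hRφ : ∀ r ∈ R, φ r = -1)
    (hC : ∀ r ∈ R, ∀ r' ∈ R, θ r = θ r' → r * r' = r' * r ∨ ∃ r'' ∈ R, θ r'' = θ r ∧ r * r'' = r'' * r ∧ r' * r'' = r'' * r')
    (hD : ∀ r ∈ R, ∀ r' ∈ R, θ r ≠ θ r' → ∃ a ∈ R, ∃ b ∈ R, θ a = θ r ∧ θ b = θ r' ∧ a * b = b * a)
    (x : G) (hφ : φ x = 1) (hθ : θ x = 1) : x ∈ Subgroup.closure {y : G | y * y = 1 ∧ φ y = 1 ∧ θ y = 1} := by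
  classical
  set I : Set G := {y : G | y * y = 1 ∧ φ y = 1 ∧ θ y = 1} with hI
  set H := Subgroup.closure I with hH
  haveI hN : H.Normal := by
    constructor
    intro n hn g
    induction hn using Subgroup.closure_induction with
    | mem y hy =>
      apply Subgroup.subset_closure
      obtain ⟨h1, h2, h3⟩ := hy
      refine ⟨?_, ?_, ?_⟩
      · have e : g * y * g⁻¹ * (g * y * g⁻¹) = g * (y * y) * g⁻¹ := by group
        rw [e, h1]
        group
      · simp [h2, map_mul, map_inv]
      · simp [h3, map_mul, map_inv]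
    | one => simp [Subgroup.one_mem]
    | mul a b _ _ ha hb =>
      have e : g * (a * b) * g⁻¹ = (g * a * g⁻¹) * (g * b * g⁻¹) := by group
      rw [e]
      exact Subgroup.mul_mem _ ha hb
    | inv a _ ha =>
      have e : g * a⁻¹ * g⁻¹ = (g * a * g⁻¹)⁻¹ := by group
      rw [e]
      exact Subgroup.inv_mem _ ha
  have hHker : ∀ h ∈ H, φ h = 1 ∧ θ h = 1 := by
    intro h hh
    induction hh using Subgroup.closure_induction with
    | mem y hy => exact hy.2
    | one => simp
    | mul a b _ _ ha hb => simp [ha.1, ha.2, hb.1, hb.2]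
    | inv a _ ha => simp [ha.1, ha.2]
  let π : G →* G ⧸ H := QuotientGroup.mk' H
  have hπ : ∀ a, π a = 1 ↔ a ∈ H := fun a => QuotientGroup.eq_one_iff a
  -- products of commuting reflections of the same class
  have hcomm : ∀ r ∈ R, ∀ r' ∈ R, θ r = θ r' → r * r' = r' * r → r * r' ∈ H := by
    intro r hr r' hr' hθ' hc
    apply Subgroup.subset_closure
    refine ⟨?_, ?_, ?_⟩
    · calc r * r' * (r * r') = r * (r' * r) * r' := by group
        _ = r * (r * r') * r' := by rw [hc]
        _ = (r * r) * (r' * r') := by group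
        _ = 1 := by rw [hR2 r hr, hR2 r' hr', one_mul]
    · rw [map_mul, hRφ r hr, hRφ r' hr']
      rfl
    · rw [map_mul, ← hθ', units_sq]
  have hmul : ∀ r ∈ R, ∀ r' ∈ R, θ r = θ r' → r * r' ∈ H := by
    intro r hr r' hr' he
    rcases hC r hr r' hr' he with h | ⟨r'', h1, h2, h3, h4⟩
    · exact hcomm r hr r' hr' he h
    · have e : r * r' = (r * r'') * (r'' * r') := by
        calc r * r' = r * (r'' * r'') * r' := by rw [hR2 r'' h1, mul_one]
          _ = _ := by group
      rw [e]
      refine Subgroup.mul_mem _ (hcomm r hr r'' h1 h2.symm h3) (hcomm r'' h1 r' hr' (h2.trans he) h4.symm)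
  have hinv : ∀ r ∈ R, r⁻¹ = r := fun r hr => inv_eq_of_mul_eq_one_left (hR2 r hr)
  have hsame : ∀ r ∈ R, ∀ r' ∈ R, θ r = θ r' → π r = π r' := by
    intro r hr r' hr' he
    have h1 : π (r * r') = 1 := (hπ _).2 (hmul r hr r' hr' he)
    rw [map_mul] at h1
    have h2 : π r' * π r' = 1 := by rw [← map_mul, hR2 r' hr', map_one]
    calc π r = π r * (π r' * π r') := by rw [h2, mul_one]
      _ = (π r * π r') * π r' := by rw [mul_assoc]
      _ = π r' := by rw [h1, one_mul]
  have hpcomm : ∀ r ∈ R, ∀ r' ∈ R, π r * π r' = π r' * π r := by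
    intro r hr r' hr'
    by_cases he : θ r = θ r'
    · rw [hsame r hr r' hr' he]
    · obtain ⟨a, ha, b, hb, h1, h2, h3⟩ := hD r hr r' hr' he
      rw [← hsame a ha r hr h1, ← hsame b hb r' hr' h2, ← map_mul, ← map_mul, h3]
  have hpsq : ∀ r ∈ R, π r * π r = 1 := fun r hr => by rw [← map_mul, hR2 r hr, map_one]
  -- the values of two different classes
  have hcases : ∀ r r₁ r₂ : G, θ r₁ ≠ θ r₂ → θ r = θ r₁ ∨ θ r = θ r₂ := by
    intro r r₁ r₂ hne
    generalize θ r = a at *
    generalize θ r₁ = b at *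
    generalize θ r₂ = c at *
    revert a b c
    decide
  -- the normal form
  let P : G → Prop := fun z => π z = 1 ∨ (∃ r ∈ R, π z = π r) ∨ ∃ r ∈ R, ∃ r' ∈ R, θ r ≠ θ r' ∧ π z = π r * π r'
  have hstepT : ∀ t ∈ T, ∀ z, P z → P (t * z) := by
    intro t ht z hz
    have h1 : π t = 1 := (hπ t).2 (hT t ht)
    simp only [P, map_mul, h1, one_mul]
    exact hz
  have hstepR : ∀ r ∈ R, ∀ z, P z → P (r * z) := by
    intro r hr z hz
    rcases hz with h | ⟨r₁, h1, h⟩ | ⟨r₁, h1, r₂, h2, hne, h⟩
    · right; left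
      exact ⟨r, hr, by rw [map_mul, h, mul_one]⟩
    · by_cases he : θ r = θ r₁
      · left
        rw [map_mul, h, hsame r hr r₁ h1 he, hpsq r₁ h1]
      · right; right
        exact ⟨r, hr, r₁, h1, he, by rw [map_mul, h]⟩
    · rcases hcases r r₁ r₂ hne with he | he
      · right; left
        refine ⟨r₂, h2, ?_⟩
        rw [map_mul, h, hsame r hr r₁ h1 he, ← mul_assoc, hpsq r₁ h1, one_mul]
      · right; left
        refine ⟨r₁, h1, ?_⟩
        rw [map_mul, h, hsame r hr r₂ h2 he, hpcomm r₁ h1 r₂ h2, ← mul_assoc, hpsq r₂ h2, one_mul]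
  have hall : ∀ z : G, P z := by
    intro z
    have hz : z ∈ Subgroup.closure ((T : Set G) ∪ R) := by
      rw [hgen]
      exact Subgroup.mem_top z
    induction hz using Subgroup.closure_induction_left with
    | one => left; exact map_one _
    | mul_left a ha b hb ih =>
      rcases ha with ha | ha
      · exact hstepT a ha b ih
      · exact hstepR a ha b ih
    | inv_mul_cancel a ha b hb ih =>
      rcases ha with ha | ha
      · exact hstepT a⁻¹ (T.inv_mem ha) b ih
      · rw [hinv a ha]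
        exact hstepR a ha b ih
  rcases hall x with h | ⟨r, hr, h⟩ | ⟨r, hr, r', hr', hne, h⟩
  · exact (hπ x).1 h
  · exfalso
    have h1 : π (r⁻¹ * x) = 1 := by
      rw [map_mul, map_inv, h, inv_mul_cancel]
    obtain ⟨h2, -⟩ := hHker _ ((hπ _).1 h1)
    rw [map_mul, map_inv, hφ, hRφ r hr] at h2
    revert h2
    decide
  · exfalso
    have h1 : π ((r * r')⁻¹ * x) = 1 := by
      rw [map_mul, map_inv, h, map_mul, inv_mul_cancel]
    obtain ⟨-, h2⟩ := hHker _ ((hπ _).1 h1)
    rw [map_mul, map_inv, map_mul, hθ, mul_one] at h2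
    have h3 : θ r * θ r' = 1 := by
      rw [mul_comm]
      simpa using h2
    apply hne
    calc θ r = θ r * (θ r' * θ r') := by rw [units_sq, mul_one]
      _ = (θ r * θ r') * θ r' := by rw [mul_assoc]
      _ = θ r' := by rw [h3, one_mul]

end abstract

section refl

variable {F : Type*} [Field F] {κ : Type} [Fintype κ] [DecidableEq κ] {B : QuadraticForm F (κ → F)}

local notation "bb" => QuadraticMap.polar (DFunLike.coe B)

theorem pow_wRank_eq_det (h2 : (2 : F) ≠ 0) (hB : (QuadraticMap.polarBilin B).Nondegenerate) (g : OG B) :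
    ((-1 : F)) ^ wRank g = (oM g).det := by
  have hg : g ∈ rGen B ⊤ := by
    rw [rGen_top_odd h2 hB]
    exact Subgroup.mem_top g
  have hone : oM (1 : OG B) = 1 := rfl
  have hm : ∀ a b : OG B, oM (a * b) = oM a * oM b := fun a b => rfl
  have key : ∀ (x : OG B), (∃ (w : κ → F) (hw : B w ≠ 0), x = rf w hw) → ∀ y : OG B,
      (-1 : F) ^ wRank y = (oM y).det → (-1 : F) ^ wRank (x * y) = (oM (x * y)).det := by
    rintro _ ⟨w, hw, rfl⟩ y hy
    rw [hm, det_mul, det_rf, ← hy]
    rcases wRank_step hB hw y with h | h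
    · rw [h, pow_succ]
      ring
    · rw [h, pow_succ]
      have : ((-1 : F)) ^ wRank (rf w hw * y) * ((-1) ^ wRank (rf w hw * y) * -1) * -1 =
          (((-1 : F)) ^ wRank (rf w hw * y)) ^ 2 := by ring
      have h4 : ((-1 : F) ^ wRank (rf w hw * y)) ^ 2 = 1 := by
        rw [← pow_mul, mul_comm, pow_mul]
        simp
      have h5 : (-1 : F) * ((-1) ^ wRank (rf w hw * y) * -1) = (-1) ^ wRank (rf w hw * y) := by ring
      rw [h5]
  induction hg using Subgroup.closure_induction_left with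
  | one =>
    rw [wRank_one, hone, det_one, pow_zero]
  | mul_left x hx y hy ih =>
    obtain ⟨w, hw, -, rfl⟩ := hx
    exact key _ ⟨w, hw, rfl⟩ y ih
  | inv_mul_cancel x hx y hy ih =>
    obtain ⟨w, hw, -, rfl⟩ := hx
    rw [rf_inv]
    exact key _ ⟨w, hw, rfl⟩ y ih

/-- An isometry with one-dimensional commutator space is a reflection. -/
theorem refl_of_rank_one (hB : (QuadraticMap.polarBilin B).Nondegenerate) (g : OG B) (hr : wRank g = 1) :
    ∃ (v : κ → F) (hv : B v ≠ 0), g = rf v hv := by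
  classical
  obtain ⟨⟨w, hwm⟩, hw0, hw⟩ := finrank_eq_one_iff'.1 hr
  have hw0' : w ≠ 0 := fun h => hw0 (Subtype.ext h)
  have hc : ∀ x, ∃ c : F, wU g x = c • w := by
    intro x
    obtain ⟨c, hc⟩ := hw ⟨wU g x, ⟨x, rfl⟩⟩
    exact ⟨c, (congrArg Subtype.val hc).symm⟩
  obtain ⟨y₀, hy₀⟩ := hwm
  have hfix : ∀ x, oM g *ᵥ x = x → bb x w = 0 := by
    intro x hx
    rw [← hy₀]
    exact polar_fix_wU hx y₀
  have hval : ∀ x c, wU g x = c • w → c ≠ 0 → bb x w = c * B w := by
    intro x c he hc0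
    have e1 : oM g *ᵥ x = x - c • w := by
      rw [← he, wU_apply]
      abel
    have e2 := oM_Q g x
    rw [e1, q_sub, q_smul, polar_smul_r] at e2
    have e3 : c * (c * B w - bb x w) = 0 := by linear_combination e2
    have e4 := (mul_eq_zero.1 e3).resolve_left hc0
    linear_combination -e4
  have hQw : B w ≠ 0 := by
    intro h0
    apply hw0'
    apply polar_nondeg hB
    intro z
    rw [polar_symm]
    obtain ⟨c, hc'⟩ := hc z
    by_cases hc0 : c = 0
    · apply hfix
      rw [hc0, zero_smul, wU_apply, sub_eq_zero] at hc'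
      exact hc'.symm
    · rw [hval z c hc' hc0, h0, mul_zero]
  refine ⟨w, hQw, ?_⟩
  apply og_ext
  intro x
  rw [rf_apply]
  obtain ⟨c, hc'⟩ := hc x
  have e1 : oM g *ᵥ x = x - c • w := by
    rw [← hc', wU_apply]
    abel
  rw [e1]
  congr 2
  by_cases hc0 : c = 0
  · have h3 : oM g *ᵥ x = x := by
      rw [e1, hc0, zero_smul, sub_zero]
    rw [hc0, polar_symm, hfix x h3, mul_zero]
  · rw [polar_symm, hval x c hc' hc0]
    field_simp

/-- In dimension at most two, isometries of determinant `-1` are reflections. -/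
theorem refl_of_det (h2 : (2 : F) ≠ 0) (hB : (QuadraticMap.polarBilin B).Nondegenerate)
    (hcard : Fintype.card κ ≤ 2) (g : OG B) (hd : (oM g).det = -1) :
    ∃ (v : κ → F) (hv : B v ≠ 0), g = rf v hv := by
  apply refl_of_rank_one hB
  have h1 := pow_wRank_eq_det h2 hB g
  rw [hd] at h1
  have hle : wRank g ≤ 2 := by
    have := Submodule.finrank_le (LinearMap.range (wU g))
    rw [Module.finrank_fintype_fun_eq_card] at this
    exact this.trans hcard
  have hne : (1 : F) ≠ -1 := by
    intro h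
    apply h2
    linear_combination h
  interval_cases h : wRank g
  · exfalso
    apply hne
    simpa using h1
  · rfl
  · exfalso
    apply hne
    simpa using h1

/-- Sylow subgroups are generated by reflections in small dimension. -/
theorem sylow_gen [Finite F] (h2 : (2 : F) ≠ 0) (hB : (QuadraticMap.polarBilin B).Nondegenerate)
    (hcard : Fintype.card κ ≤ 2) (D : Sylow 2 (OG B)) {g : OG B} (hg : g ∈ (D : Subgroup (OG B))) :
    g ∈ Subgroup.closure {r : OG B | r ∈ (D : Subgroup (OG B)) ∧ ∃ (v : κ → F) (hv : B v ≠ 0), r = rf v hv} := by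
  classical
  haveI hp : Fact (Nat.Prime 2) := ⟨Nat.prime_two⟩
  set S := Subgroup.closure {r : OG B | r ∈ (D : Subgroup (OG B)) ∧ ∃ (v : κ → F) (hv : B v ≠ 0), r = rf v hv} with hS
  have hdet : (oM g).det = 1 ∨ (oM g).det = -1 := by
    rw [← pow_wRank_eq_det h2 hB g]
    exact neg_one_pow_eq_or F _
  rcases hdet with hd | hd
  · by_cases hg1 : g = 1
    · rw [hg1]
      exact S.one_mem
    -- some reflection exists
    have hex : ∃ v : κ → F, B v ≠ 0 := by
      by_contra hno
      push Not at hno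
      apply hg1
      apply og_ext
      intro x
      have hzero : ∀ v : κ → F, v = 0 := by
        intro v
        apply polar_nondeg hB
        intro y
        simp only [QuadraticMap.polar, hno, sub_zero]
      rw [hzero (oM g *ᵥ x), hzero (oM 1 *ᵥ x)]
    obtain ⟨v, hv⟩ := hex
    -- a conjugate of the reflection lies in `D`
    have hpr : IsPGroup 2 (Subgroup.zpowers (rf v hv)) := by
      rintro ⟨_, m, rfl⟩
      refine ⟨1, ?_⟩
      apply Subtype.ext
      show (rf v hv ^ m) ^ (2 ^ 1) = 1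
      rw [pow_one, pow_two, ← _root_.zpow_add, ← two_mul, _root_.zpow_mul]
      have : (rf v hv) ^ (2 : ℤ) = 1 := by
        rw [zpow_two, rf_sq]
      rw [this, _root_.one_zpow]
    obtain ⟨D', hD'⟩ := hpr.exists_le_sylow
    obtain ⟨a, ha⟩ := MulAction.exists_smul_eq (OG B) D' D
    have hrD' : rf v hv ∈ (D' : Subgroup (OG B)) := hD' (Subgroup.mem_zpowers _)
    have hconj : a * rf v hv * a⁻¹ ∈ (D : Subgroup (OG B)) := by
      rw [← ha]
      rw [Sylow.coe_subgroup_smul, Subgroup.mem_smul_pointwise_iff_exists]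
      exact ⟨_, hrD', rfl⟩
    rw [rf_conj] at hconj
    set r₀ := rf (oM a *ᵥ v) (oM_rf_ne hv) with hr₀
    have hr₀S : r₀ ∈ S := Subgroup.subset_closure ⟨hconj, _, _, rfl⟩
    have hd2 : (oM (g * r₀)).det = -1 := by
      have : oM (g * r₀) = oM g * oM r₀ := rfl
      rw [this, det_mul, hd, det_rf, one_mul]
    obtain ⟨w, hw, he⟩ := refl_of_det h2 hB hcard _ hd2
    have hmem : g * r₀ ∈ S := Subgroup.subset_closure ⟨(D : Subgroup (OG B)).mul_mem hg hconj, w, hw, he⟩
    have e : g = (g * r₀) * r₀ := by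
      rw [mul_assoc, hr₀, rf_sq, mul_one]
    rw [e]
    exact S.mul_mem hmem hr₀S
  · obtain ⟨v, hv, he⟩ := refl_of_det h2 hB hcard g hd
    exact Subgroup.subset_closure ⟨hg, v, hv, he⟩

end refl

end Cfsg.Agent.Lib.Perm.OmWr
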