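import Mathlib
import Cfsg.Agent.Lib.Perm.OmWrB
import Cfsg.Agent.Lib.Misc19.SymSylow

/-!
# The top group of the wreath model lies in the kernel of both invariants; generation
-/

set_option autoImplicit false
set_option linter.unusedSimpArgs false
set_option linter.unusedVariables false
set_option linter.unusedSectionVars false

namespace Cfsg.Agent.Lib.Perm.OmWr

open Matrix Equiv Cfsg.Agent.Lib.Classical Module

variable {F : Type*} [Field F] {k : ℕ} {κ : Type} [Fintype κ] [DecidableEq κ]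
  {W : QuadraticForm F (Fin 2 → F)} {U : QuadraticForm F (κ → F)}

/-- The top group element. -/
noncomputable def topE (W : QuadraticForm F (Fin 2 → F)) (U : QuadraticForm F (κ → F)) (σ : Perm (Fin k)) :
    OG (QQ (k := k) W U) := mkEl (fun _ => 1) σ 1

theorem topE_mul (σ τ : Perm (Fin k)) : topE W U σ * topE W U τ = topE W U (σ * τ) := by
  simp only [topE, mkEl_mul, mul_one]

/-- The top group as a homomorphism. -/
noncomputable def topHom (W : QuadraticForm F (Fin 2 → F)) (U : QuadraticForm F (κ → F)) :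
    Perm (Fin k) →* OG (QQ (k := k) W U) where
  toFun := topE W U
  map_one' := mkEl_one
  map_mul' σ τ := (topE_mul σ τ).symm

/-- The difference of two copies of a vector. -/
def wV (i j : Fin k) (x : Fin 2 → F) : II k κ → F := iota i x - iota j x

theorem QQ_wV {i j : Fin k} (hij : i ≠ j) (x : Fin 2 → F) : QQ W U (wV (κ := κ) i j x) = 2 * W x := by
  rw [wV, q_sub, QQ_iota, QQ_iota, polar_iota, pr_iota_ne hij]
  simp [QuadraticMap.polar]
  ring

theorem polar_wV (i j : Fin k) (x : Fin 2 → F) (y : II k κ → F) :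
    QuadraticMap.polar (⇑(QQ W U)) (wV i j x) y =
      QuadraticMap.polar (⇑W) x (pr i y) - QuadraticMap.polar (⇑W) x (pr j y) := by
  rw [wV, polar_sub_l, polar_iota, polar_iota]

theorem pr_wV_left {i j : Fin k} (hij : i ≠ j) (x : Fin 2 → F) : pr i (wV (κ := κ) i j x) = x := by
  rw [wV, map_sub, pr_iota_same, pr_iota_ne hij, sub_zero]

theorem pr_wV_right {i j : Fin k} (hij : i ≠ j) (x : Fin 2 → F) : pr j (wV (κ := κ) i j x) = - x := by
  rw [wV, map_sub, pr_iota_same, pr_iota_ne hij.symm, zero_sub]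

theorem pr_wV_other {i j c : Fin k} (hi : c ≠ i) (hj : c ≠ j) (x : Fin 2 → F) : pr c (wV (κ := κ) i j x) = 0 := by
  rw [wV, map_sub, pr_iota_ne hi, pr_iota_ne hj, sub_zero]

theorem pU_wV (i j : Fin k) (x : Fin 2 → F) : pU (wV (κ := κ) i j x) = 0 := by
  rw [wV, map_sub, pU_iota, pU_iota, sub_zero]

/-- The transposition as a product of two reflections. -/
theorem topE_swap (h2 : (2 : F) ≠ 0) {i j : Fin k} (hij : i ≠ j) {u₁ u₂ : Fin 2 → F} (hu₁ : W u₁ ≠ 0) (hu₂ : W u₂ ≠ 0)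
    (h12 : QuadraticMap.polar (⇑W) u₁ u₂ = 0)
    (hspan : ∀ z : Fin 2 → F, z = ((2 * W u₁)⁻¹ * QuadraticMap.polar (⇑W) u₁ z) • u₁ +
      ((2 * W u₂)⁻¹ * QuadraticMap.polar (⇑W) u₂ z) • u₂)
    (h₁ : QQ (k := k) W U (wV i j u₁) ≠ 0) (h₂ : QQ (k := k) W U (wV i j u₂) ≠ 0) :
    topE W U (swap i j) = rf (wV i j u₁) h₁ * rf (wV i j u₂) h₂ := by
  apply og_ext
  intro v
  rw [oM_mul, rf_apply, rf_apply, topE, oM_mkEl, QQ_wV hij, QQ_wV hij]
  have e0 : ∀ c : F, QuadraticMap.polar (⇑(QQ (k := k) W U)) (wV i j u₁) (v - c • wV i j u₂) =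
      QuadraticMap.polar (⇑(QQ (k := k) W U)) (wV i j u₁) v := by
    intro c
    rw [polar_sub_r, polar_smul_r, polar_wV (x := u₁) (y := wV i j u₂), pr_wV_left hij, pr_wV_right hij, polar_neg_r, h12]
    ring
  rw [e0, polar_wV, polar_wV]
  set a₁ := (2 * W u₁)⁻¹ * (QuadraticMap.polar (⇑W) u₁ (pr i v) - QuadraticMap.polar (⇑W) u₁ (pr j v)) with ha₁
  set a₂ := (2 * W u₂)⁻¹ * (QuadraticMap.polar (⇑W) u₂ (pr i v) - QuadraticMap.polar (⇑W) u₂ (pr j v)) with ha₂
  have hd : pr i v - pr j v = a₁ • u₁ + a₂ • u₂ := by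
    have := hspan (pr i v - pr j v)
    rw [polar_sub_r, polar_sub_r] at this
    exact this
  apply vec_ext
  · intro c
    rw [pr_act, oM_one]
    simp only [map_sub, map_smul, swap_inv]
    by_cases hci : c = i
    · subst hci
      rw [swap_apply_left, pr_wV_left hij, pr_wV_left hij]
      have : pr j v = pr c v - (pr c v - pr j v) := by abel
      rw [this, hd]
      abel
    · by_cases hcj : c = j
      · subst hcj
        rw [swap_apply_right, pr_wV_right hij, pr_wV_right hij]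
        have : pr i v = pr c v + (pr i v - pr c v) := by abel
        rw [this, hd]
        simp only [smul_neg]
        abel
      · rw [swap_apply_of_ne_of_ne hci hcj, pr_wV_other hci hcj, pr_wV_other hci hcj]
        simp
  · rw [pU_act, oM_one]
    simp only [map_sub, map_smul, pU_wV]
    simp

section invariants

variable [Fintype F]

theorem isSquare_mul_four {a b : F} (h : IsSquare (a * b)) : IsSquare ((2 * a) * (2 * b)) := by
  obtain ⟨r, hr⟩ := h
  exact ⟨2 * r, by linear_combination 4 * hr⟩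

/-- Values of a character on two reflections with square product. -/
theorem theta_pair {ι : Type} [Fintype ι] [DecidableEq ι] {Q : QuadraticForm F (ι → F)} {θ : OG Q →* ℤˣ}
    (hθ : ∀ (w : ι → F) (hw : Q w ≠ 0),
      (IsSquare (Q w) → θ (rf w hw) = 1) ∧ (¬ IsSquare (Q w) → θ (rf w hw) = -1))
    {w₁ w₂ : ι → F} (h₁ : Q w₁ ≠ 0) (h₂ : Q w₂ ≠ 0) (hs : IsSquare (Q w₁ * Q w₂)) :
    θ (rf w₁ h₁) * θ (rf w₂ h₂) = 1 := by
  by_cases h1 : IsSquare (Q w₁)
  · by_cases h3 : IsSquare (Q w₂)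
    · rw [(hθ _ _).1 h1, (hθ _ _).1 h3, one_mul]
    · exfalso
      exact (Cfsg.Agent.Lib.Quad.isSquare_mul_iff_of_nonsquare _ _ h₁ h₂ h3).1 hs h1
  · by_cases h3 : IsSquare (Q w₂)
    · exfalso
      rw [mul_comm] at hs
      exact (Cfsg.Agent.Lib.Quad.isSquare_mul_iff_of_nonsquare _ _ h₂ h₁ h1).1 hs h3
    · rw [(hθ _ _).2 h1, (hθ _ _).2 h3]
      rfl

/-- A character separates classes of reflections only by square class of values. -/
theorem theta_eq_of_val {ι : Type} [Fintype ι] [DecidableEq ι] {Q : QuadraticForm F (ι → F)} {θ : OG Q →* ℤˣ}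
    (hθ : ∀ (w : ι → F) (hw : Q w ≠ 0),
      (IsSquare (Q w) → θ (rf w hw) = 1) ∧ (¬ IsSquare (Q w) → θ (rf w hw) = -1))
    {w₁ w₂ : ι → F} (h₁ : Q w₁ ≠ 0) (h₂ : Q w₂ ≠ 0) (hs : Q w₁ = Q w₂) :
    θ (rf w₁ h₁) = θ (rf w₂ h₂) := by
  by_cases h1 : IsSquare (Q w₁)
  · rw [(hθ _ _).1 h1, (hθ _ _).1 (hs ▸ h1)]
  · rw [(hθ _ _).2 h1, (hθ _ _).2 (hs ▸ h1)]

/-- The top group is in the kernel of both invariants. -/
theorem topE_invariants (h2 : (2 : F) ≠ 0) {φ θ : OG (QQ (k := k) W U) →* ℤˣ}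
    (hφ : ∀ (w : II k κ → F) (hw : QQ (k := k) W U w ≠ 0), φ (rf w hw) = -1)
    (hθ : ∀ (w : II k κ → F) (hw : QQ (k := k) W U w ≠ 0),
      (IsSquare (QQ (k := k) W U w) → θ (rf w hw) = 1) ∧ (¬ IsSquare (QQ (k := k) W U w) → θ (rf w hw) = -1))
    {u₁ u₂ : Fin 2 → F} (hu₁ : W u₁ ≠ 0) (hu₂ : W u₂ ≠ 0)
    (h12 : QuadraticMap.polar (⇑W) u₁ u₂ = 0) (hsq : IsSquare (W u₁ * W u₂))
    (hspan : ∀ z : Fin 2 → F, z = ((2 * W u₁)⁻¹ * QuadraticMap.polar (⇑W) u₁ z) • u₁ +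
      ((2 * W u₂)⁻¹ * QuadraticMap.polar (⇑W) u₂ z) • u₂) (σ : Perm (Fin k)) :
    φ (topE W U σ) = 1 ∧ θ (topE W U σ) = 1 := by
  have hone : topE W U (1 : Perm (Fin k)) = 1 := mkEl_one
  have hswap : ∀ i j : Fin k, i ≠ j → φ (topE W U (swap i j)) = 1 ∧ θ (topE W U (swap i j)) = 1 := by
    intro i j hij
    have h₁ : QQ (k := k) W U (wV i j u₁) ≠ 0 := by
      rw [QQ_wV hij]
      exact mul_ne_zero h2 hu₁
    have h₂ : QQ (k := k) W U (wV i j u₂) ≠ 0 := by
      rw [QQ_wV hij]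
      exact mul_ne_zero h2 hu₂
    rw [topE_swap h2 hij hu₁ hu₂ h12 hspan h₁ h₂, map_mul, map_mul, hφ, hφ]
    refine ⟨rfl, theta_pair hθ h₁ h₂ ?_⟩
    rw [QQ_wV hij, QQ_wV hij]
    exact isSquare_mul_four hsq
  induction σ using Equiv.Perm.swap_induction_on with
  | one => rw [hone, map_one, map_one]; exact ⟨rfl, rfl⟩
  | swap_mul f x y hne ih =>
    rw [← topE_mul, map_mul, map_mul, (hswap x y hne).1, (hswap x y hne).2, ih.1, ih.2]
    exact ⟨rfl, rfl⟩

end invariants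

/-! ### Generation -/

/-- A block element. -/
noncomputable def dE (i : Fin k) (r : OG W) : OG (QQ (k := k) W U) := mkEl (Pi.mulSingle i r) 1 1

/-- An element on the remaining part. -/
noncomputable def eE (r : OG U) : OG (QQ (k := k) W U) := mkEl (fun _ => 1) 1 r

theorem dE_mul (i : Fin k) (a b : OG W) : dE (U := U) i a * dE i b = dE i (a * b) := by
  simp only [dE, mkEl_mul, mul_one]
  congr 1
  funext j
  simp only [Perm.one_apply]
  by_cases h : j = i
  · subst h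
    simp
  · simp [Pi.mulSingle_eq_of_ne h]

theorem dE_one (i : Fin k) : dE (W := W) (U := U) i 1 = 1 := by
  rw [dE, Pi.mulSingle_one]
  exact mkEl_one

/-- The block embedding as a homomorphism. -/
noncomputable def dHom (U : QuadraticForm F (κ → F)) (i : Fin k) : OG W →* OG (QQ (k := k) W U) where
  toFun := dE i
  map_one' := dE_one i
  map_mul' a b := (dE_mul i a b).symm

/-- The embedding of the remaining part as a homomorphism. -/
noncomputable def eHom (W : QuadraticForm F (Fin 2 → F)) : OG U →* OG (QQ (k := k) W U) where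
  toFun := eE
  map_one' := mkEl_one
  map_mul' a b := by
    simp only [eE, mkEl_mul, mul_one]

/-- The base group as a homomorphism. -/
noncomputable def bHom (U : QuadraticForm F (κ → F)) : (Fin k → OG W) →* OG (QQ (k := k) W U) where
  toFun g := mkEl g 1 1
  map_one' := mkEl_one
  map_mul' a b := by
    simp only [mkEl_mul, mul_one]
    rfl

theorem dE_comm {i j : Fin k} (hij : i ≠ j) (a b : OG W) : dE (U := U) i a * dE j b = dE j b * dE i a := by
  simp only [dE, mkEl_mul, mul_one]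
  congr 1
  funext c
  simp only [Perm.one_apply]
  by_cases h : c = i
  · subst h
    simp [Pi.mulSingle_eq_of_ne hij]
  · by_cases h' : c = j
    · subst h'
      simp [Pi.mulSingle_eq_of_ne h]
    · simp [Pi.mulSingle_eq_of_ne h, Pi.mulSingle_eq_of_ne h']

theorem dE_eE_comm (i : Fin k) (a : OG W) (e : OG U) : dE i a * eE e = eE e * dE i a := by
  simp only [dE, eE, mkEl_mul, mul_one, one_mul]
  simp

theorem eE_comm {a b : OG U} (h : a * b = b * a) : eE (k := k) (W := W) a * eE b = eE b * eE a := by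
  simp only [eE, mkEl_mul, mul_one, h]

theorem mkEl_decomp (g : Fin k → OG W) (σ : Perm (Fin k)) (u : OG U) :
    mkEl g σ u = topE W U σ * (bHom U g * eE u) := by
  simp only [topE, bHom, eE, MonoidHom.coe_mk, OneHom.coe_mk, mkEl_mul, mul_one, one_mul]
  simp

/-- The set of reflections in the model. -/
def RR (D : Subgroup (OG W)) (E : Subgroup (OG U)) : Set (OG (QQ (k := k) W U)) :=
  {x | (∃ i, ∃ (v : Fin 2 → F) (hv : W v ≠ 0), rf v hv ∈ D ∧ x = dE i (rf v hv)) ∨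
    (∃ (c : κ → F) (hc : U c ≠ 0), rf c hc ∈ E ∧ x = eE (rf c hc))}

/-- Block reflections, with the form in the model. -/
theorem dE_rf (i : Fin k) (v : Fin 2 → F) (hv : W v ≠ 0) (hv' : QQ (k := k) W U (iota (κ := κ) i v) ≠ 0) :
    dE i (rf v hv) = rf (iota i v) hv' := mkEl_rf_block i v hv hv'

theorem eE_rf (c : κ → F) (hc : U c ≠ 0) (hc' : QQ (k := k) W U (iotaU (k := k) c) ≠ 0) :
    eE (rf c hc) = rf (iotaU c) hc' := mkEl_rf_U c hc hc'

theorem iota_ne {i : Fin k} {v : Fin 2 → F} (hv : W v ≠ 0) : QQ (k := k) W U (iota (κ := κ) i v) ≠ 0 := by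
  rwa [QQ_iota]

theorem iotaU_ne {c : κ → F} (hc : U c ≠ 0) : QQ (k := k) W U (iotaU (k := k) c) ≠ 0 := by
  rwa [QQ_iotaU]

theorem mem_PO_of_base {D : Subgroup (OG W)} {E : Subgroup (OG U)} {T : Subgroup (Perm (Fin k))}
    {i : Fin k} {a : OG W} (ha : a ∈ D) : dE i a ∈ PO D T E := by
  refine ⟨_, _, _, ?_, T.one_mem, E.one_mem, rfl⟩
  intro j
  by_cases h : j = i
  · subst h
    simpa using ha
  · rw [Pi.mulSingle_eq_of_ne h]
    exact D.one_mem

theorem mem_PO_of_U {D : Subgroup (OG W)} {E : Subgroup (OG U)} {T : Subgroup (Perm (Fin k))}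
    {a : OG U} (ha : a ∈ E) : eE a ∈ PO D T E :=
  ⟨_, _, _, fun _ => D.one_mem, T.one_mem, ha, rfl⟩

theorem mem_PO_of_top {D : Subgroup (OG W)} {E : Subgroup (OG U)} {T : Subgroup (Perm (Fin k))}
    {σ : Perm (Fin k)} (ha : σ ∈ T) : topE W U σ ∈ PO D T E :=
  ⟨_, _, _, fun _ => D.one_mem, ha, E.one_mem, rfl⟩

/-- The model is generated by its top group and reflections. -/
theorem PO_le_closure [Finite F] (h2 : (2 : F) ≠ 0) (hW : (QuadraticMap.polarBilin W).Nondegenerate)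
    (hU : (QuadraticMap.polarBilin U).Nondegenerate) (hκ : Fintype.card κ ≤ 2)
    (D : Sylow 2 (OG W)) (E : Sylow 2 (OG U)) (T : Subgroup (Perm (Fin k))) :
    PO (D : Subgroup (OG W)) T (E : Subgroup (OG U)) ≤
      Subgroup.closure (((T.map (topHom W U) : Subgroup (OG (QQ (k := k) W U))) : Set (OG (QQ (k := k) W U))) ∪
        RR (k := k) (D : Subgroup (OG W)) (E : Subgroup (OG U))) := by
  set S := Subgroup.closure (((T.map (topHom W U) : Subgroup (OG (QQ (k := k) W U))) : Set (OG (QQ (k := k) W U))) ∪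
        RR (k := k) (D : Subgroup (OG W)) (E : Subgroup (OG U))) with hS
  have hd : ∀ i : Fin k, ∀ a ∈ (D : Subgroup (OG W)), dE (U := U) i a ∈ S := by
    intro i a ha
    have h1 := sylow_gen h2 hW (by simp) D ha
    have h3 : Subgroup.map (dHom U i) (Subgroup.closure {r : OG W | r ∈ (D : Subgroup (OG W)) ∧ ∃ (v : Fin 2 → F) (hv : W v ≠ 0), r = rf v hv}) ≤ S := by
      rw [MonoidHom.map_closure, Subgroup.closure_le]
      rintro _ ⟨r, ⟨hr, v, hv, rfl⟩, rfl⟩
      apply Subgroup.subset_closure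
      right
      left
      exact ⟨i, v, hv, hr, rfl⟩
    exact h3 ⟨a, h1, rfl⟩
  have he : ∀ a ∈ (E : Subgroup (OG U)), eE (k := k) (W := W) a ∈ S := by
    intro a ha
    have h1 := sylow_gen h2 hU hκ E ha
    have h3 : Subgroup.map (eHom (k := k) W) (Subgroup.closure {r : OG U | r ∈ (E : Subgroup (OG U)) ∧ ∃ (v : κ → F) (hv : U v ≠ 0), r = rf v hv}) ≤ S := by
      rw [MonoidHom.map_closure, Subgroup.closure_le]
      rintro _ ⟨r, ⟨hr, v, hv, rfl⟩, rfl⟩
      apply Subgroup.subset_closure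
      right
      right
      exact ⟨v, hv, hr, rfl⟩
    exact h3 ⟨a, h1, rfl⟩
  have hb : Subgroup.pi Set.univ (fun _ : Fin k => (D : Subgroup (OG W))) ≤ S.comap (bHom U) := by
    rw [Subgroup.pi_le_iff]
    intro i
    rintro _ ⟨a, ha, rfl⟩
    exact hd i a ha
  rintro _ ⟨g, σ, u, hg, hσ, hu, rfl⟩
  rw [mkEl_decomp]
  refine S.mul_mem ?_ (S.mul_mem ?_ (he u hu))
  · apply Subgroup.subset_closure
    left
    exact ⟨σ, hσ, rfl⟩
  · exact hb (fun i _ => hg i)

open Cfsg.Agent.Lib.Misc19.SymSylow in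
/-- Elements of `PO` in the commutator subgroup are products of involutions of the same kind. -/
theorem mem_closure_invol [Fintype F] (h2 : (2 : F) ≠ 0) (hW : (QuadraticMap.polarBilin W).Nondegenerate)
    (hU : (QuadraticMap.polarBilin U).Nondegenerate) (hQ : (QuadraticMap.polarBilin (QQ (k := k) W U)).Nondegenerate)
    (hκ : Fintype.card κ ≤ 2) (hk : 2 ≤ k)
    {u₁ u₂ : Fin 2 → F} (hu₁ : W u₁ ≠ 0) (hu₂ : W u₂ ≠ 0)
    (h12 : QuadraticMap.polar (⇑W) u₁ u₂ = 0) (hsq : IsSquare (W u₁ * W u₂))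
    (hspan : ∀ z : Fin 2 → F, z = ((2 * W u₁)⁻¹ * QuadraticMap.polar (⇑W) u₁ z) • u₁ +
      ((2 * W u₂)⁻¹ * QuadraticMap.polar (⇑W) u₂ z) • u₂)
    (D : Sylow 2 (OG W)) (E : Sylow 2 (OG U)) (hE : ∀ a ∈ (E : Subgroup (OG U)), ∀ b ∈ (E : Subgroup (OG U)), a * b = b * a)
    (T : Subgroup (Perm (Fin k))) (hT : GenP 2 T)
    (x : OG (QQ (k := k) W U)) (hx : x ∈ PO (D : Subgroup (OG W)) T (E : Subgroup (OG U)))
    (hxΩ : x ∈ commutator (OG (QQ (k := k) W U))) :
    x ∈ Subgroup.closure {y : OG (QQ (k := k) W U) | y ∈ PO (D : Subgroup (OG W)) T (E : Subgroup (OG U)) ∧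
      y ∈ commutator (OG (QQ (k := k) W U)) ∧ y * y = 1} := by
  classical
  have hgen := rGen_top_odd h2 hQ
  obtain ⟨φ₀, hφ₀⟩ := exists_dickson hQ hgen
  obtain ⟨θ₀, hθ₀⟩ := exists_theta' hQ hgen
  have hcard : 2 ≤ Fintype.card (II k κ) := by
    rw [Fintype.card_sum, Fintype.card_prod, Fintype.card_fin, Fintype.card_fin]
    omega
  have hmem := mem_commutator_odd h2 hQ hcard hφ₀ hθ₀
  set P := PO (D : Subgroup (OG W)) T (E : Subgroup (OG U)) with hP
  obtain ⟨hxφ, hxθ⟩ := (hmem x).1 hxΩ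
  let φ : ↥P →* ℤˣ := φ₀.comp P.subtype
  let θ : ↥P →* ℤˣ := θ₀.comp P.subtype
  let T' : Subgroup ↥P := (T.map (topHom W U)).subgroupOf P
  let R' : Set ↥P := Subtype.val ⁻¹' (RR (k := k) (D : Subgroup (OG W)) (E : Subgroup (OG U)))
  -- the other block
  have hother : ∀ i : Fin k, ∃ l : Fin k, l ≠ i := by
    intro i
    by_contra hno
    push Not at hno
    have h1 : Fintype.card (Fin k) ≤ 1 := Fintype.card_le_one_iff.2 fun a b => by rw [hno a, hno b]
    rw [Fintype.card_fin] at h1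
    omega
  -- class of a block reflection does not depend on the block
  have hθd : ∀ (i l : Fin k) (v : Fin 2 → F) (hv : W v ≠ 0), θ₀ (dE i (rf v hv)) = θ₀ (dE l (rf v hv)) := by
    intro i l v hv
    rw [dE_rf i v hv (iota_ne hv), dE_rf l v hv (iota_ne hv)]
    apply theta_eq_of_val hθ₀
    rw [QQ_iota, QQ_iota]
  have hrefl : ∀ r ∈ RR (k := k) (D : Subgroup (OG W)) (E : Subgroup (OG U)),
      ∃ (w : II k κ → F) (hw : QQ (k := k) W U w ≠ 0), r = rf w hw := by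
    rintro r (⟨i, v, hv, -, rfl⟩ | ⟨c, hc, -, rfl⟩)
    · exact ⟨_, iota_ne hv, dE_rf i v hv (iota_ne hv)⟩
    · exact ⟨_, iotaU_ne hc, eE_rf c hc (iotaU_ne hc)⟩
  have hPmem : ∀ r ∈ RR (k := k) (D : Subgroup (OG W)) (E : Subgroup (OG U)), r ∈ P := by
    rintro r (⟨i, v, hv, hm, rfl⟩ | ⟨c, hc, hm, rfl⟩)
    · exact mem_PO_of_base hm
    · exact mem_PO_of_U hm
  have hTP : ∀ σ ∈ T, topHom W U σ ∈ P := fun σ hσ => mem_PO_of_top hσ
  have hinv : ∀ y : ↥P, y.1 * y.1 = 1 → φ₀ y.1 = 1 → θ₀ y.1 = 1 → y * y = 1 := by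
    intro y h _ _
    exact Subtype.ext h
  have key := involution_gen φ θ T' R' ?_ ?_ ?_ ?_ ?_ ?_ (⟨x, hx⟩ : ↥P) hxφ hxθ
  · have h3 := Subgroup.mem_map_of_mem P.subtype key
    rw [MonoidHom.map_closure] at h3
    refine Subgroup.closure_mono ?_ h3
    rintro _ ⟨y, ⟨h1, h4, h5⟩, rfl⟩
    refine ⟨y.2, (hmem _).2 ⟨h4, h5⟩, ?_⟩
    exact congrArg Subtype.val h1
  · -- generation
    rw [eq_top_iff]
    rintro ⟨y, hy⟩ _
    have h1 := PO_le_closure h2 hW hU hκ D E T hy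
    have hmap : Subgroup.closure (((T.map (topHom W U) : Subgroup (OG (QQ (k := k) W U))) : Set (OG (QQ (k := k) W U))) ∪
        RR (k := k) (D : Subgroup (OG W)) (E : Subgroup (OG U))) ≤
        (Subgroup.closure ((T' : Set ↥P) ∪ R')).map P.subtype := by
      rw [MonoidHom.map_closure, Subgroup.closure_le]
      rintro z (⟨σ, hσ, rfl⟩ | hz)
      · apply Subgroup.subset_closure
        exact ⟨⟨_, hTP σ hσ⟩, Or.inl ⟨σ, hσ, rfl⟩, rfl⟩
      · apply Subgroup.subset_closure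
        exact ⟨⟨z, hPmem z hz⟩, Or.inr hz, rfl⟩
    obtain ⟨z, hz, hzy⟩ := hmap h1
    have : z = ⟨y, hy⟩ := Subtype.ext hzy
    rwa [← this]
  · -- top group
    rintro ⟨t, ht⟩ ht'
    obtain ⟨σ, hσ, rfl⟩ := ht'
    have hinvs := topE_invariants h2 hφ₀ hθ₀ hu₁ hu₂ h12 hsq hspan
    let f : ↥T →* ↥P := ((topHom W U).comp T.subtype).codRestrict P (fun y => hTP y.1 y.2)
    have hrange : f.range ≤ Subgroup.closure {y : ↥P | y * y = 1 ∧ φ y = 1 ∧ θ y = 1} := by
      rw [MonoidHom.range_eq_map, ← hT, MonoidHom.map_closure]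
      apply Subgroup.closure_mono
      rintro _ ⟨y, hy, rfl⟩
      refine ⟨?_, (hinvs y.1).1, (hinvs y.1).2⟩
      rw [← map_mul, ← pow_two, show y ^ 2 = 1 from hy, map_one]
    exact hrange ⟨⟨σ, hσ⟩, rfl⟩
  · -- involutions
    rintro ⟨r, hr⟩ hr'
    obtain ⟨w, hw, e⟩ := hrefl r hr'
    apply Subtype.ext
    show r * r = 1
    rw [e, rf_sq]
  · rintro ⟨r, hr⟩ hr'
    obtain ⟨w, hw, e⟩ := hrefl r hr'
    show φ₀ r = -1
    rw [e, hφ₀]
  · -- same class
    rintro ⟨r, hr⟩ (⟨i, v, hv, hm, e⟩ | ⟨c, hc, hm, e⟩) ⟨r', hr'⟩ (⟨j, v', hv', hm', e'⟩ | ⟨c', hc', hm', e'⟩) hθ'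
    · simp only at e e'
      subst e e'
      by_cases hij : i = j
      · subst hij
        obtain ⟨l, hl⟩ := hother i
        right
        refine ⟨⟨dE l (rf v hv), mem_PO_of_base hm⟩, Or.inl ⟨l, v, hv, hm, rfl⟩, hθd l i v hv, ?_, ?_⟩
        · exact Subtype.ext (dE_comm hl.symm _ _)
        · exact Subtype.ext (dE_comm hl.symm _ _)
      · left
        exact Subtype.ext (dE_comm hij _ _)
    · simp only at e e'
      subst e e'
      left
      exact Subtype.ext (dE_eE_comm _ _ _)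
    · simp only at e e'
      subst e e'
      left
      exact Subtype.ext (dE_eE_comm _ _ _).symm
    · simp only at e e'
      subst e e'
      left
      exact Subtype.ext (eE_comm (hE _ hm _ hm'))
  · -- different classes
    rintro ⟨r, hr⟩ hrr ⟨r', hr'⟩ hrr' hne
    rcases hrr with ⟨i, v, hv, hm, e⟩ | ⟨c, hc, hm, e⟩ <;> rcases hrr' with ⟨j, v', hv', hm', e'⟩ | ⟨c', hc', hm', e'⟩
    · simp only at e e'
      subst e e'
      by_cases hij : i = j
      · subst hij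
        obtain ⟨l, hl⟩ := hother i
        refine ⟨⟨_, hr⟩, Or.inl ⟨i, v, hv, hm, rfl⟩, ⟨dE l (rf v' hv'), mem_PO_of_base hm'⟩, Or.inl ⟨l, v', hv', hm', rfl⟩, rfl, hθd l i v' hv', ?_⟩
        exact Subtype.ext (dE_comm hl.symm _ _)
      · refine ⟨⟨_, hr⟩, Or.inl ⟨i, v, hv, hm, rfl⟩, ⟨_, hr'⟩, Or.inl ⟨j, v', hv', hm', rfl⟩, rfl, rfl, ?_⟩
        exact Subtype.ext (dE_comm hij _ _)
    · simp only at e e'
      subst e e'
      refine ⟨⟨_, hr⟩, Or.inl ⟨i, v, hv, hm, rfl⟩, ⟨_, hr'⟩, Or.inr ⟨c', hc', hm', rfl⟩, rfl, rfl, ?_⟩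
      exact Subtype.ext (dE_eE_comm _ _ _)
    · simp only at e e'
      subst e e'
      refine ⟨⟨_, hr⟩, Or.inr ⟨c, hc, hm, rfl⟩, ⟨_, hr'⟩, Or.inl ⟨j, v', hv', hm', rfl⟩, rfl, rfl, ?_⟩
      exact Subtype.ext (dE_eE_comm _ _ _).symm
    · simp only at e e'
      subst e e'
      refine ⟨⟨_, hr⟩, Or.inr ⟨c, hc, hm, rfl⟩, ⟨_, hr'⟩, Or.inr ⟨c', hc', hm', rfl⟩, rfl, rfl, ?_⟩
      exact Subtype.ext (eE_comm (hE _ hm _ hm'))

end Cfsg.Agent.Lib.Perm.OmWr
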