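import Mathlib
import Cfsg.Agent.Lib.Perm.OmWrC
import Cfsg.Agent.Lib.Quad.Diag
import Cfsg.Agent.Lib.Quad.Types

/-!
# Classification by Gram determinants and transfer to the model
-/

set_option autoImplicit false
set_option linter.unusedSimpArgs false
set_option linter.unusedVariables false
set_option linter.unusedSectionVars false

namespace Cfsg.Agent.Lib.Perm.OmWr

open Matrix Equiv Cfsg.Agent.Lib.Classical Cfsg.Agent.Lib.Quad Module
open scoped Kronecker

section gram

variable {F : Type*} [Field F]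

theorem gram_det_of_basis {ι κ : Type} [Fintype ι] [DecidableEq ι] [Fintype κ] [DecidableEq κ]
    (b : Basis ι F (κ → F)) (f : (κ → F) → F) (G : Matrix κ κ F)
    (h : ∀ u v, QuadraticMap.polar f u v = u ⬝ᵥ (G *ᵥ v)) :
    ∃ d : F, d ≠ 0 ∧ (Matrix.of (fun i j : ι => QuadraticMap.polar f (b i) (b j))).det = G.det * d ^ 2 := by
  classical
  obtain ⟨d, hd, hdet⟩ := gram_det_change (Matrix.toBilin' G) b (Pi.basisFun F κ)
  have h1 : Matrix.of (fun i j : ι => QuadraticMap.polar f (b i) (b j)) =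
      LinearMap.BilinForm.toMatrix b (Matrix.toBilin' G) := by
    ext i j
    simp [LinearMap.BilinForm.toMatrix_apply, h, Matrix.toBilin'_apply']
  have h2 : LinearMap.BilinForm.toMatrix (Pi.basisFun F κ) (Matrix.toBilin' G) = G := by
    ext i j
    simp [LinearMap.BilinForm.toMatrix_apply, Matrix.toBilin'_apply',
      dotProduct, Pi.basisFun_apply, Pi.single_apply]
  exact ⟨d, hd, by rw [h1, hdet, h2]⟩

/-- The Gram determinant of the normal form. -/
theorem gram_normal {ι : Type} [Fintype ι] [DecidableEq ι] {n : ℕ} (Q : QuadraticForm F (ι → F))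
    (b : Basis (Fin n ⊕ Unit) F (ι → F)) (h1 : ∀ i, Q (b (Sum.inl i)) = 1)
    (h3 : ∀ i j, i ≠ j → QuadraticMap.polar Q (b (Sum.inl i)) (b (Sum.inl j)) = 0)
    (h4 : ∀ i, QuadraticMap.polar Q (b (Sum.inl i)) (b (Sum.inr ())) = 0) :
    (Matrix.of (fun i j : Fin n ⊕ Unit => QuadraticMap.polar Q (b i) (b j))).det = 2 ^ n * (2 * Q (b (Sum.inr ()))) := by
  have hD : Matrix.of (fun i j : Fin n ⊕ Unit => QuadraticMap.polar Q (b i) (b j)) =
      Matrix.diagonal (fun i => 2 * Q (b i)) := by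
    ext i j
    by_cases hij : i = j
    · subst hij
      simp only [Matrix.of_apply, Matrix.diagonal_apply_eq]
      exact Cfsg.Agent.Lib.Quad.polar_self_eq Q (b i)
    · rw [Matrix.diagonal_apply_ne _ hij, Matrix.of_apply]
      rcases i with i | i <;> rcases j with j | j
      · exact h3 i j (fun h => hij (by rw [h]))
      · exact h4 i
      · rw [QuadraticMap.polar_comm]
        exact h4 j
      · exact absurd (by rfl) hij
  rw [hD, Matrix.det_diagonal, Fintype.prod_sum_type]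
  simp [h1]

/-- Non-degenerate forms of equal dimension and equal discriminant class are isometric. -/
theorem exists_isometry_of_gram [Finite F] (h2 : (2 : F) ≠ 0) {ι₁ ι₂ : Type} [Fintype ι₁] [DecidableEq ι₁]
    [Fintype ι₂] [DecidableEq ι₂] {n : ℕ} (hc₁ : Fintype.card ι₁ = n + 1) (hc₂ : Fintype.card ι₂ = n + 1)
    (Q₁ : QuadraticForm F (ι₁ → F)) (Q₂ : QuadraticForm F (ι₂ → F)) (h₁ : NondegQ Q₁) (h₂ : NondegQ Q₂)
    {G₁ : Matrix ι₁ ι₁ F} {G₂ : Matrix ι₂ ι₂ F}
    (hG₁ : ∀ u v, QuadraticMap.polar (⇑Q₁) u v = u ⬝ᵥ (G₁ *ᵥ v))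
    (hG₂ : ∀ u v, QuadraticMap.polar (⇑Q₂) u v = u ⬝ᵥ (G₂ *ᵥ v))
    (hd : IsSquare (G₁.det * G₂.det)) : ∃ L : (ι₁ → F) ≃ₗ[F] (ι₂ → F), ∀ v, Q₁ v = Q₂ (L v) := by
  classical
  obtain ⟨b₁, h11, h13, h14, h15⟩ := exists_orthogonal_basis h2 (n := n) (V := ι₁ → F) (by simpa using hc₁) Q₁ h₁
  obtain ⟨b₂, h21, h23, h24, h25⟩ := exists_orthogonal_basis h2 (n := n) (V := ι₂ → F) (by simpa using hc₂) Q₂ h₂
  obtain ⟨d₁, hd₁, e₁⟩ := gram_det_of_basis b₁ Q₁ G₁ hG₁
  obtain ⟨d₂, hd₂, e₂⟩ := gram_det_of_basis b₂ Q₂ G₂ hG₂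
  rw [gram_normal Q₁ b₁ h11 h13 h14] at e₁
  rw [gram_normal Q₂ b₂ h21 h23 h24] at e₂
  obtain ⟨r, hr⟩ := hd
  set x₁ := Q₁ (b₁ (Sum.inr ())) with hx₁
  set x₂ := Q₂ (b₂ (Sum.inr ())) with hx₂
  have h2n : (2 : F) ^ n ≠ 0 := pow_ne_zero _ h2
  -- the scaling factor
  let t : F := r * d₁ * d₂ / (2 ^ n * 2) / x₂
  have ht : t ^ 2 * x₂ = x₁ := by
    have h6 : (2 ^ n * 2 : F) ^ 2 * (x₁ * x₂) = (r * d₁ * d₂) ^ 2 := by
      have : (2 ^ n * (2 * x₁)) * (2 ^ n * (2 * x₂)) = (G₁.det * d₁ ^ 2) * (G₂.det * d₂ ^ 2) := by rw [e₁, e₂]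
      calc (2 ^ n * 2 : F) ^ 2 * (x₁ * x₂) = (2 ^ n * (2 * x₁)) * (2 ^ n * (2 * x₂)) := by ring
        _ = (G₁.det * d₁ ^ 2) * (G₂.det * d₂ ^ 2) := this
        _ = (G₁.det * G₂.det) * (d₁ * d₂) ^ 2 := by ring
        _ = (r * d₁ * d₂) ^ 2 := by rw [hr]; ring
    simp only [t]
    field_simp
    linear_combination -h6
  have ht0 : t ≠ 0 := by
    intro h0
    rw [h0] at ht
    apply h15
    rw [← ht]
    ring
  let w : Fin n ⊕ Unit → F := Sum.elim (fun _ => 1) (fun _ => t)
  have hw : ∀ i, IsUnit (w i) := by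
    rintro (i | i)
    · exact isUnit_one
    · exact ht0.isUnit
  let b₂' : Basis (Fin n ⊕ Unit) F (ι₂ → F) := b₂.isUnitSMul hw
  have hb' : ∀ i, b₂' i = w i • b₂ i := fun i => Basis.isUnitSMul_apply _ i
  let L : (ι₁ → F) ≃ₗ[F] (ι₂ → F) := b₁.equiv b₂' (Equiv.refl _)
  have hL : ∀ i, L (b₁ i) = b₂' i := fun i => by simp [L]
  refine ⟨L, fun v => ?_⟩
  have ho₁ : ∀ i j, i ≠ j → QuadraticMap.polar Q₁ (b₁ i) (b₁ j) = 0 := by
    intro i j hij
    rcases i with i | i <;> rcases j with j | j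
    · exact h13 i j (fun h => hij (by rw [h]))
    · exact h14 i
    · rw [QuadraticMap.polar_comm]
      exact h14 j
    · exact absurd (by rfl) hij
  have ho₂ : ∀ i j, i ≠ j → QuadraticMap.polar Q₂ (b₂ i) (b₂ j) = 0 := by
    intro i j hij
    rcases i with i | i <;> rcases j with j | j
    · exact h23 i j (fun h => hij (by rw [h]))
    · exact h24 i
    · rw [QuadraticMap.polar_comm]
      exact h24 j
    · exact absurd (by rfl) hij
  have hvals : ∀ i, Q₁ (b₁ i) = Q₂ (b₂' i) := by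
    rintro (i | i)
    · rw [h11, hb']
      simp [w, h21]
    · rw [hb']
      simp only [w, Sum.elim_inr, QuadraticMap.map_smul, smul_eq_mul]
      have : (⟨⟩ : Unit) = i := rfl
      rw [← this, ← hx₁, ← hx₂, ← ht]
      ring
  have key := quad_eq_of_basis b₁ Q₁ (Q₂.comp (L : (ι₁ → F) →ₗ[F] (ι₂ → F))) (fun i => by
      simp only [QuadraticMap.comp_apply, LinearEquiv.coe_coe, hL]
      exact hvals i) (fun i j => by
      have hval : QuadraticMap.polar (Q₂.comp (L : (ι₁ → F) →ₗ[F] (ι₂ → F))) (b₁ i) (b₁ j) =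
          QuadraticMap.polar Q₂ (L (b₁ i)) (L (b₁ j)) := by
        simp only [QuadraticMap.polar, QuadraticMap.comp_apply, LinearEquiv.coe_coe, map_add]
      rw [hval, hL, hL]
      by_cases hij : i = j
      · subst hij
        rw [Cfsg.Agent.Lib.Quad.polar_self_eq, Cfsg.Agent.Lib.Quad.polar_self_eq, hvals]
      · rw [ho₁ i j hij, hb', hb', QuadraticMap.polar_smul_left, QuadraticMap.polar_smul_right, ho₂ i j hij]
        simp)
  rw [key]
  rfl

/-- Non-degeneracy from the Gram matrix. -/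
theorem nondeg_of_gram {ι : Type} [Fintype ι] [DecidableEq ι] {Q : QuadraticForm F (ι → F)} {G : Matrix ι ι F}
    (hG : ∀ u v, QuadraticMap.polar (⇑Q) u v = u ⬝ᵥ (G *ᵥ v)) (hdet : G.det ≠ 0) :
    (QuadraticMap.polarBilin Q).Nondegenerate := by
  have hleft : ∀ x : ι → F, (∀ y, QuadraticMap.polar (⇑Q) x y = 0) → x = 0 := by
    intro x hx
    apply Matrix.eq_zero_of_vecMul_eq_zero hdet
    funext i
    have := hx (Pi.single i 1)
    rw [hG, Matrix.dotProduct_mulVec, dotProduct_single, mul_one] at this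
    exact this
  refine ⟨fun x hx => hleft x hx, fun y hy => hleft y fun x => ?_⟩
  rw [QuadraticMap.polar_comm]
  exact hy x

/-- The Gram matrix of the model. -/
theorem polar_QQ_gram {k : ℕ} {κ : Type} [Fintype κ] [DecidableEq κ]
    {W : QuadraticForm F (Fin 2 → F)} {U : QuadraticForm F (κ → F)} {GW : Matrix (Fin 2) (Fin 2) F} {GU : Matrix κ κ F}
    (hW : ∀ u v, QuadraticMap.polar (⇑W) u v = u ⬝ᵥ (GW *ᵥ v))
    (hU : ∀ u v, QuadraticMap.polar (⇑U) u v = u ⬝ᵥ (GU *ᵥ v)) (x y : II k κ → F) :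
    QuadraticMap.polar (⇑(QQ (k := k) W U)) x y =
      x ⬝ᵥ (fromBlocks ((1 : Matrix (Fin k) (Fin k) F) ⊗ₖ GW) 0 0 GU *ᵥ y) := by
  rw [polar_QQ]
  simp only [hW, hU]
  have e : y = Sum.elim (y ∘ Sum.inl) (y ∘ Sum.inr) := by
    ext i
    cases i <;> rfl
  rw [e, Matrix.fromBlocks_mulVec]
  simp only [Matrix.zero_mulVec, add_zero, zero_add, ← e]
  simp only [dotProduct, Fintype.sum_sum_type, Sum.elim_inl, Sum.elim_inr, Fintype.sum_prod_type]
  congr 1
  refine Finset.sum_congr rfl fun i _ => ?_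
  refine Finset.sum_congr rfl fun s _ => ?_
  congr 1
  simp only [mulVec, dotProduct, Fintype.sum_prod_type, Matrix.kroneckerMap_apply, Matrix.one_apply, ite_mul, one_mul,
    zero_mul, Finset.sum_const_zero, Function.comp, Finset.sum_ite_eq, Finset.mem_univ, if_true, pr]
  rw [Finset.sum_eq_single i (fun b _ hb => by simp [Ne.symm hb]) (by simp)]
  simp

theorem det_QQ_gram {k : ℕ} {κ : Type} [Fintype κ] [DecidableEq κ] (GW : Matrix (Fin 2) (Fin 2) F) (GU : Matrix κ κ F) :
    (fromBlocks ((1 : Matrix (Fin k) (Fin k) F) ⊗ₖ GW) 0 0 GU).det = GW.det ^ k * GU.det := by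
  rw [det_fromBlocks_zero₂₁, Matrix.det_kronecker]
  simp

end gram

section forms

variable {F : Type*} [Field F]

/-- The binary form `A x² + B x y + C y²`. -/
noncomputable def binQ (A B C : F) : QuadraticForm F (Fin 2 → F) where
  toFun v := A * v 0 ^ 2 + B * v 0 * v 1 + C * v 1 ^ 2
  toFun_smul r v := by
    simp only [Pi.smul_apply, smul_eq_mul]
    ring
  exists_companion' := ⟨Matrix.toBilin' !![2 * A, B; B, 2 * C], fun u v => by
    rw [Matrix.toBilin'_apply']
    simp only [dotProduct, mulVec, Fin.sum_univ_two, Matrix.cons_val', Matrix.of_apply, Matrix.cons_val_zero,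
      Matrix.cons_val_one, Matrix.empty_val', Matrix.cons_val_fin_one, Matrix.head_cons, Pi.add_apply]
    ring⟩

@[simp] theorem binQ_apply (A B C : F) (v : Fin 2 → F) : binQ A B C v = A * v 0 ^ 2 + B * v 0 * v 1 + C * v 1 ^ 2 := rfl

theorem polar_binQ (A B C : F) (u v : Fin 2 → F) :
    QuadraticMap.polar (⇑(binQ A B C)) u v = u ⬝ᵥ (!![2 * A, B; B, 2 * C] *ᵥ v) := by
  simp only [QuadraticMap.polar, binQ_apply, dotProduct, mulVec, Fin.sum_univ_two, Matrix.cons_val', Matrix.of_apply,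
    Matrix.cons_val_zero, Matrix.cons_val_one, Matrix.empty_val', Matrix.cons_val_fin_one, Matrix.head_cons, Pi.add_apply]
  ring

theorem det_binQ (A B C : F) : (!![2 * A, B; B, 2 * C] : Matrix (Fin 2) (Fin 2) F).det = 4 * A * C - B ^ 2 := by
  rw [det_fin_two_of]
  ring

/-- The form `c x²`. -/
noncomputable def unQ (c : F) : QuadraticForm F (Fin 1 → F) where
  toFun v := c * v 0 ^ 2
  toFun_smul r v := by
    simp only [Pi.smul_apply, smul_eq_mul]
    ring
  exists_companion' := ⟨Matrix.toBilin' !![2 * c], fun u v => by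
    rw [Matrix.toBilin'_apply']
    simp only [dotProduct, mulVec, Fin.sum_univ_one, Matrix.cons_val', Matrix.of_apply, Matrix.cons_val_zero,
      Matrix.empty_val', Matrix.cons_val_fin_one, Pi.add_apply]
    ring⟩

@[simp] theorem unQ_apply (c : F) (v : Fin 1 → F) : unQ c v = c * v 0 ^ 2 := rfl

theorem polar_unQ (c : F) (u v : Fin 1 → F) :
    QuadraticMap.polar (⇑(unQ c)) u v = u ⬝ᵥ (!![2 * c] *ᵥ v) := by
  simp only [QuadraticMap.polar, unQ_apply, dotProduct, mulVec, Fin.sum_univ_one, Matrix.cons_val', Matrix.of_apply,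
    Matrix.cons_val_zero, Matrix.empty_val', Matrix.cons_val_fin_one, Pi.add_apply]
  ring

theorem det_unQ (c : F) : (!![2 * c] : Matrix (Fin 1) (Fin 1) F).det = 2 * c := by
  simp

/-- The empty form. -/
noncomputable abbrev emQ (F : Type*) [Field F] : QuadraticForm F (Fin 0 → F) := 0

theorem polar_emQ (u v : Fin 0 → F) :
    QuadraticMap.polar (⇑(emQ F)) u v = u ⬝ᵥ ((0 : Matrix (Fin 0) (Fin 0) F) *ᵥ v) := by
  simp [QuadraticMap.polar, dotProduct]

theorem card_OG_em : Nat.card (OG (emQ F)) = 1 := by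
  rw [Nat.card_eq_one_iff_unique]
  refine ⟨⟨fun a b => og_ext fun x => Subsingleton.elim _ _⟩, ⟨1⟩⟩

/-- One-dimensional forms have an isometry group of order two. -/
theorem card_OG_un (h2 : (2 : F) ≠ 0) {c : F} (hc : c ≠ 0) : Nat.card (OG (unQ c)) = 2 := by
  classical
  let e : Fin 1 → F := fun _ => 1
  have he : unQ c e ≠ 0 := by
    simpa [e] using hc
  rw [Nat.card_eq_two_iff]
  refine ⟨1, rf e he, ?_, ?_⟩
  · intro h
    have h3 := rf_self e he
    rw [← h, oM_one] at h3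
    have h4 := congrFun h3 0
    simp only [e, Pi.neg_apply] at h4
    apply h2
    linear_combination h4
  · rw [Set.eq_univ_iff_forall]
    intro g
    -- the scalar
    let t : F := (oM g *ᵥ e) 0
    have hx0 : ∀ x : Fin 1 → F, x = (x 0) • e := by
      intro x
      funext i
      have : i = 0 := Subsingleton.elim _ _
      subst this
      simp [e]
    have hg : oM g *ᵥ e = t • e := by
      funext i
      have : i = 0 := Subsingleton.elim _ _
      subst this
      simp [e, t]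
    have ht : t ^ 2 = 1 := by
      have h3 := oM_Q g e
      rw [hg] at h3
      simp only [unQ_apply, e, Pi.smul_apply, smul_eq_mul] at h3
      have h4 : c * (t ^ 2 - 1) = 0 := by
        linear_combination h3
      have := (mul_eq_zero.1 h4).resolve_left hc
      linear_combination this
    have ht2 : t = 1 ∨ t = -1 := by
      have h4 : (t - 1) * (t + 1) = 0 := by linear_combination ht
      rcases mul_eq_zero.1 h4 with h | h
      · exact Or.inl (sub_eq_zero.1 h)
      · exact Or.inr (eq_neg_of_add_eq_zero_left h)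
    rcases ht2 with h | h
    · left
      apply og_ext
      intro x
      rw [oM_one]
      conv_lhs => rw [hx0 x, mulVec_smul, hg, h, one_smul]
      exact (hx0 x).symm
    · right
      apply og_ext
      intro x
      conv_lhs => rw [hx0 x, mulVec_smul, hg, h]
      conv_rhs => rw [hx0 x, mulVec_smul, rf_self]
      simp

end forms

end Cfsg.Agent.Lib.Perm.OmWr
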