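import Mathlib
import Cfsg.Agent.Lib.Perm.OmWrD

/-!
# The Sylow subgroups of `Ω` via the wreath model
-/

set_option autoImplicit false
set_option linter.unusedSimpArgs false
set_option linter.unusedVariables false
set_option linter.unusedSectionVars false

namespace Cfsg.Agent.Lib.Perm.OmWr

open Matrix Equiv Cfsg.Agent.Lib.Classical Cfsg.Agent.Lib.Quad Module Cfsg.Agent.Lib.Misc19.SymSylow
open scoped Kronecker

theorem sylow_comm_of_val {X : Type*} [Group X] [Finite X] [Fact (Nat.Prime 2)] (E : Sylow 2 X)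
    (h : (Nat.card X).factorization 2 ≤ 2) :
    ∀ a ∈ (E : Subgroup X), ∀ b ∈ (E : Subgroup X), a * b = b * a := by
  intro a ha b hb
  have hc := E.card_eq_multiplicity
  have key : ∀ x y : (E : Subgroup X), x * y = y * x := by
    generalize (Nat.card X).factorization 2 = v at hc h
    interval_cases v
    · intro x y
      have : Subsingleton (E : Subgroup X) := (Nat.card_eq_one_iff_unique.1 (by simpa using hc)).1
      rw [Subsingleton.elim x y]
    · intro x y
      have h1 : IsCyclic (E : Subgroup X) := isCyclic_of_prime_card (p := 2) (by simpa using hc)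
      exact (IsCyclic.commGroup (α := (E : Subgroup X))).mul_comm x y
    · intro x y
      have h1 := IsPGroup.commutative_of_card_eq_prime_sq hc
      exact h1 x y
  exact congrArg Subtype.val (key ⟨a, ha⟩ ⟨b, hb⟩)

section model

variable {F : Type*} [Field F] {k : ℕ} {κ : Type} [Fintype κ] [DecidableEq κ]
  {W : QuadraticForm F (Fin 2 → F)} {U : QuadraticForm F (κ → F)}

/-- All Sylow 2-subgroups of `Ω` of the model are generated by involutions. -/
theorem genP_sylow_model [Fintype F] (h2 : (2 : F) ≠ 0) (hW : (QuadraticMap.polarBilin W).Nondegenerate)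
    (hU : (QuadraticMap.polarBilin U).Nondegenerate) (hQ : (QuadraticMap.polarBilin (QQ (k := k) W U)).Nondegenerate)
    (hκ : Fintype.card κ ≤ 2) (hk : 2 ≤ k)
    {u₁ u₂ : Fin 2 → F} (hu₁ : W u₁ ≠ 0) (hu₂ : W u₂ ≠ 0)
    (h12 : QuadraticMap.polar (⇑W) u₁ u₂ = 0) (hsq : IsSquare (W u₁ * W u₂))
    (hspan : ∀ z : Fin 2 → F, z = ((2 * W u₁)⁻¹ * QuadraticMap.polar (⇑W) u₁ z) • u₁ +
      ((2 * W u₂)⁻¹ * QuadraticMap.polar (⇑W) u₂ z) • u₂)
    (D : Sylow 2 (OG W)) (E : Sylow 2 (OG U)) (hE : ∀ a ∈ (E : Subgroup (OG U)), ∀ b ∈ (E : Subgroup (OG U)), a * b = b * a)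
    (T : Subgroup (Perm (Fin k))) (hT : GenP 2 T)
    (hcard : Nat.card (PO (D : Subgroup (OG W)) T (E : Subgroup (OG U))) = 2 ^ (Nat.card (OG (QQ (k := k) W U))).factorization 2)
    (P : Sylow 2 ↥(commutator (OG (QQ (k := k) W U)))) : GenP 2 P := by
  classical
  haveI : Fact (Nat.Prime 2) := ⟨Nat.prime_two⟩
  let P₀ : Sylow 2 (OG (QQ (k := k) W U)) := Sylow.ofCard (PO (D : Subgroup (OG W)) T (E : Subgroup (OG U))) hcard
  have hP₀ : (P₀ : Subgroup (OG (QQ (k := k) W U))) = PO (D : Subgroup (OG W)) T (E : Subgroup (OG U)) := rfl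
  obtain ⟨S, hS⟩ := Cfsg.Agent.Lib.Basic.exists_sylow_subgroupOf P₀ (commutator (OG (QQ (k := k) W U)))
  have hSg : GenP 2 S := by
    unfold GenP
    rw [eq_top_iff]
    rintro y -
    let ι : ↥S →* OG (QQ (k := k) W U) := (commutator (OG (QQ (k := k) W U))).subtype.comp (Subgroup.subtype (S : Subgroup ↥(commutator (OG (QQ (k := k) W U)))))
    have hι : Function.Injective ι := by
      intro a b hab
      exact Subtype.ext (Subtype.ext hab)
    have hy : ι y ∈ PO (D : Subgroup (OG W)) T (E : Subgroup (OG U)) := by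
      have h1 : y.1 ∈ (P₀ : Subgroup (OG (QQ (k := k) W U))).subgroupOf (commutator (OG (QQ (k := k) W U))) := by
        rw [← hS]
        exact y.2
      rw [Subgroup.mem_subgroupOf, hP₀] at h1
      exact h1
    have h3 := mem_closure_invol h2 hW hU hQ hκ hk hu₁ hu₂ h12 hsq hspan D E hE T hT (ι y) hy y.1.2
    have hle : Subgroup.closure {y : OG (QQ (k := k) W U) | y ∈ PO (D : Subgroup (OG W)) T (E : Subgroup (OG U)) ∧
        y ∈ commutator (OG (QQ (k := k) W U)) ∧ y * y = 1} ≤ (Subgroup.closure {z : ↥S | z ^ 2 = 1}).map ι := by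
      rw [Subgroup.closure_le]
      rintro t ⟨h1, h4, h5⟩
      have hmem : (⟨t, h4⟩ : ↥(commutator (OG (QQ (k := k) W U)))) ∈ (S : Subgroup _) := by
        rw [hS, Subgroup.mem_subgroupOf, hP₀]
        exact h1
      refine ⟨⟨⟨t, h4⟩, hmem⟩, Subgroup.subset_closure ?_, rfl⟩
      show _ ^ 2 = _
      apply hι
      rw [map_pow, pow_two, map_one]
      exact h5
    obtain ⟨z, hz, hzy⟩ := hle h3
    rwa [← hι hzy]
  exact hSg.of_equiv (Sylow.equiv S P)

end model

section transfer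

/-- An isomorphism of groups restricts to the commutator subgroups. -/
noncomputable def commEquiv {X Y : Type*} [Group X] [Group Y] (e : X ≃* Y) : ↥(commutator X) ≃* ↥(commutator Y) :=
  (e.subgroupMap (commutator X)).trans (MulEquiv.subgroupCongr (by
    show Subgroup.map e.toMonoidHom (commutator X) = commutator Y
    rw [commutator_def, Subgroup.map_commutator, Subgroup.map_top_of_surjective _ e.surjective, ← commutator_def]))

theorem genP_sylow_transfer {X Y : Type*} [Group X] [Group Y] [Finite X] [Finite Y] [Fact (Nat.Prime 2)] (e : X ≃* Y)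
    (h : ∀ P : Sylow 2 Y, GenP 2 P) (P : Sylow 2 X) : GenP 2 P := by
  let P' : Sylow 2 Y := P.comapOfInjective e.symm.toMonoidHom e.symm.injective (by
    rw [MonoidHom.range_eq_top.2 e.symm.surjective]
    exact le_top)
  have hP' : ∀ y : Y, y ∈ (P' : Subgroup Y) ↔ e.symm y ∈ (P : Subgroup X) := fun y => Iff.rfl
  let f : ↥(P' : Subgroup Y) →* ↥(P : Subgroup X) :=
    (e.symm.toMonoidHom.comp (P' : Subgroup Y).subtype).codRestrict (P : Subgroup X) (fun y => (hP' y.1).1 y.2)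
  refine (h P').of_surjective f ?_
  rintro ⟨x, hx⟩
  refine ⟨⟨e x, (hP' _).2 (by simpa using hx)⟩, ?_⟩
  apply Subtype.ext
  show e.symm (e x) = x
  simp

end transfer

section master

variable {F : Type*} [Field F]

/-- The master theorem. -/
theorem sq_mem_of_model [Fintype F] (h2 : (2 : F) ≠ 0) {ι₀ : Type} [Fintype ι₀] [DecidableEq ι₀]
    (Q₀ : QuadraticForm F (ι₀ → F)) {Q₀f : (ι₀ → F) → F} (hQ₀f : ⇑Q₀ = Q₀f)
    {G₀ : Matrix ι₀ ι₀ F} (hG₀ : ∀ u v, QuadraticMap.polar (⇑Q₀) u v = u ⬝ᵥ (G₀ *ᵥ v)) (hdet₀ : G₀.det ≠ 0)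
    {k : ℕ} (hk : 2 ≤ k) {κ : Type} [Fintype κ] [DecidableEq κ] (U : QuadraticForm F (κ → F)) {GU : Matrix κ κ F}
    (hGU : ∀ u v, QuadraticMap.polar (⇑U) u v = u ⬝ᵥ (GU *ᵥ v)) (hdetU : GU.det ≠ 0) (hκ : Fintype.card κ ≤ 2)
    (hc : Fintype.card ι₀ = 2 * k + Fintype.card κ)
    (hUval : (Nat.card (OG U)).factorization 2 ≤ 2)
    (W : QuadraticForm F (Fin 2 → F)) {GW : Matrix (Fin 2) (Fin 2) F}
    (hGW : ∀ u v, QuadraticMap.polar (⇑W) u v = u ⬝ᵥ (GW *ᵥ v)) (hdetW : GW.det ≠ 0)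
    {u₁ u₂ : Fin 2 → F} (hu₁ : W u₁ ≠ 0) (hu₂ : W u₂ ≠ 0)
    (h12 : QuadraticMap.polar (⇑W) u₁ u₂ = 0) (hsq : IsSquare (W u₁ * W u₂))
    (hspan : ∀ z : Fin 2 → F, z = ((2 * W u₁)⁻¹ * QuadraticMap.polar (⇑W) u₁ z) • u₁ +
      ((2 * W u₂)⁻¹ * QuadraticMap.polar (⇑W) u₂ z) • u₂)
    (hsqdet : IsSquare (G₀.det * (GW.det ^ k * GU.det)))
    (hval : (Nat.card (Cfsg.isometryGroup F Q₀f)).factorization 2 =
      k * (Nat.card (OG W)).factorization 2 + padicValNat 2 k.factorial + (Nat.card (OG U)).factorization 2)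
    (P : Sylow 2 (Cfsg.Omega F Q₀f)) : ∀ x : (P : Subgroup (Cfsg.Omega F Q₀f)), x ^ 2 ∈ commutator (P : Subgroup (Cfsg.Omega F Q₀f)) := by
  classical
  subst hQ₀f
  haveI : Fact (Nat.Prime 2) := ⟨Nat.prime_two⟩
  have hGQ := polar_QQ_gram (k := k) hGW hGU
  have hdetQ := det_QQ_gram (k := k) GW GU
  have hQ := nondeg_of_gram (Q := QQ (k := k) W U) hGQ (by
    rw [hdetQ]
    exact mul_ne_zero (pow_ne_zero _ hdetW) hdetU)
  have hW := nondeg_of_gram hGW hdetW
  have hU := nondeg_of_gram hGU hdetU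
  have hn₀ := nondeg_of_gram hG₀ hdet₀
  obtain ⟨n, hn⟩ : ∃ n, Fintype.card ι₀ = n + 1 := ⟨Fintype.card ι₀ - 1, by omega⟩
  have hcII : Fintype.card (II k κ) = n + 1 := by
    rw [Fintype.card_sum, Fintype.card_prod, Fintype.card_fin, Fintype.card_fin, ← hn, hc]
    ring
  obtain ⟨L, hL⟩ := exists_isometry_of_gram h2 hn hcII Q₀ (QQ (k := k) W U) (NondegQ.of_polarBilin hn₀)
    (NondegQ.of_polarBilin hQ) hG₀ hGQ (by rwa [hdetQ])
  -- the model
  obtain ⟨T, hTc, hTg⟩ := exists_genP_sym 2 k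
  let D : Sylow 2 (OG W) := default
  let E : Sylow 2 (OG U) := default
  have hcd : Nat.card (OG (QQ (k := k) W U)) = Nat.card (Cfsg.isometryGroup F ⇑Q₀) :=
    (Nat.card_congr ((isoEquivPres ⇑Q₀).trans ((presCongr L (fun u v => (hL u).symm)).trans (isoEquivPres ⇑(QQ (k := k) W U)).symm)).toEquiv).symm
  have hcard : Nat.card (PO (D : Subgroup (OG W)) T (E : Subgroup (OG U))) = 2 ^ (Nat.card (OG (QQ (k := k) W U))).factorization 2 := by
    rw [card_PO, D.card_eq_multiplicity, E.card_eq_multiplicity, hTc, hcd, hval, ← pow_mul, ← pow_add, ← pow_add]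
    congr 1
    ring
  have hE := sylow_comm_of_val E hUval
  have hall : ∀ R : Sylow 2 ↥(commutator (OG (QQ (k := k) W U))), GenP 2 R :=
    genP_sylow_model h2 hW hU hQ hκ hk hu₁ hu₂ h12 hsq hspan D E hE T hTg hcard
  let e₀ : Cfsg.isometryGroup F ⇑Q₀ ≃* Cfsg.isometryGroup F ⇑(QQ (k := k) W U) :=
    (isoEquivPres ⇑Q₀).trans ((presCongr L (fun u v => (hL u).symm)).trans (isoEquivPres ⇑(QQ (k := k) W U)).symm)
  have hP : GenP 2 (P : Subgroup (Cfsg.Omega F ⇑Q₀)) := genP_sylow_transfer (commEquiv e₀) hall P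
  exact fun x => hP.pow_mem x

end master

end Cfsg.Agent.Lib.Perm.OmWr
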