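import Mathlib
import Cfsg.Agent.Lib.Perm.OmWrE
import Cfsg.Agent.Lib.Classical.Basic

/-!
# Numerics and the three families of orthogonal groups
-/

set_option autoImplicit false
set_option linter.unusedSimpArgs false
set_option linter.unusedVariables false
set_option linter.unusedSectionVars false

namespace Cfsg.Agent.Lib.Perm.OmWr

open Matrix Equiv Cfsg.Agent.Lib.Classical Cfsg.Agent.Lib.Quad Module Cfsg.Agent.Lib.Misc19.SymSylow
open scoped Kronecker

section arith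

theorem val_odd_factor {a o : ℕ} (ha : a ≠ 0) (ho : Odd o) : padicValNat 2 (a * o) = padicValNat 2 a := by
  haveI : Fact (Nat.Prime 2) := ⟨Nat.prime_two⟩
  rw [padicValNat.mul ha ho.pos.ne', padicValNat.eq_zero_of_not_dvd (n := o), add_zero]
  rw [← even_iff_two_dvd, Nat.not_even_iff_odd]
  exact ho

variable {q : ℕ}

theorem val_two_mul {a : ℕ} (ha : a ≠ 0) : padicValNat 2 (2 * a) = 1 + padicValNat 2 a := by
  haveI : Fact (Nat.Prime 2) := ⟨Nat.prime_two⟩
  rw [padicValNat.mul (by norm_num) ha, padicValNat.self (by norm_num)]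

theorem val_factors (hq : Odd q) (hq3 : 3 ≤ q) : padicValNat 2 (q - 1) + padicValNat 2 (q + 1) = padicValNat 2 (q ^ 2 - 1) := by
  haveI : Fact (Nat.Prime 2) := ⟨Nat.prime_two⟩
  have : q ^ 2 - 1 = (q - 1) * (q + 1) := by
    obtain ⟨r, rfl⟩ : ∃ r, q = r + 1 := ⟨q - 1, by omega⟩
    simp only [Nat.add_sub_cancel]
    have : (r + 1) ^ 2 - 1 = r * (r + 1 + 1) := by
      have : (r + 1) ^ 2 = r * (r + 1 + 1) + 1 := by ring
      omega
    exact this
  rw [this, padicValNat.mul (by omega) (by omega)]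

theorem val_q1_of_mod3 (h : q % 4 = 3) : padicValNat 2 (q - 1) = 1 := by
  obtain ⟨r, hr⟩ : ∃ r, q - 1 = 2 * (2 * r + 1) := ⟨q / 4, by omega⟩
  rw [hr, val_odd_factor (by norm_num) ⟨r, rfl⟩]
  exact padicValNat.self (by norm_num)

theorem val_q1_of_mod1 (h : q % 4 = 1) : padicValNat 2 (q + 1) = 1 := by
  obtain ⟨r, hr⟩ : ∃ r, q + 1 = 2 * (2 * r + 1) := ⟨q / 4, by omega⟩
  rw [hr, val_odd_factor (by norm_num) ⟨r, rfl⟩]
  exact padicValNat.self (by norm_num)

theorem val_pow_even_sub (hq : Odd q) (hq3 : 3 ≤ q) {m : ℕ} (hm : m ≠ 0) (he : Even m) :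
    padicValNat 2 (q ^ m - 1) + 1 = padicValNat 2 (q ^ 2 - 1) + padicValNat 2 m := by
  have hnot : ¬ 2 ∣ q := by
    rw [← even_iff_two_dvd, Nat.not_even_iff_odd]
    exact hq
  have h2 : 2 ∣ q - 1 := by
    obtain ⟨k, hk⟩ := hq
    exact ⟨k, by omega⟩
  have h1 := padicValNat.pow_two_sub_pow (x := q) (y := 1) (by omega) h2 hnot (n := m) hm he
  rw [one_pow] at h1
  rw [← val_factors hq hq3]
  omega

theorem exists_geom {m : ℕ} (hq3 : 3 ≤ q) (hm : Odd m) : ∃ r t : ℕ, q = r + 1 ∧ q ^ m = (r + 1) * (1 + r * (r + 2) * t) := by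
  obtain ⟨n, rfl⟩ := hm
  obtain ⟨r, rfl⟩ : ∃ r, q = r + 1 := ⟨q - 1, by omega⟩
  obtain ⟨t, ht⟩ := Nat.sub_dvd_pow_sub_pow ((r + 1) ^ 2) 1 n
  rw [one_pow] at ht
  have e1 : (r + 1) ^ 2 - 1 = r * (r + 2) := by
    have : (r + 1) ^ 2 = r * (r + 2) + 1 := by ring
    omega
  rw [e1] at ht
  have h0 : 1 ≤ ((r + 1) ^ 2) ^ n := Nat.one_le_pow _ _ (by positivity)
  refine ⟨r, t, rfl, ?_⟩
  have e2 : ((r + 1) ^ 2) ^ n = 1 + r * (r + 2) * t := by omega
  rw [pow_succ, pow_mul, e2]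
  ring

theorem val_pow_odd_sub (hq : Odd q) (hq3 : 3 ≤ q) {m : ℕ} (hm : Odd m) :
    padicValNat 2 (q ^ m - 1) = padicValNat 2 (q - 1) := by
  obtain ⟨r, t, rfl, h⟩ := exists_geom hq3 hm
  have hrodd : Even r := by
    have : ¬ Odd r := fun hr => by
      have := hr.add_one
      exact (Nat.not_even_iff_odd.2 hq) this
    exact Nat.not_odd_iff_even.1 this
  have e : (r + 1) ^ m - 1 = r * (1 + (r + 1) * (r + 2) * t) := by
    rw [h]
    have : (r + 1) * (1 + r * (r + 2) * t) = r * (1 + (r + 1) * (r + 2) * t) + 1 := by ring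
    omega
  simp only [Nat.add_sub_cancel]
  rw [e, val_odd_factor (by omega)]
  obtain ⟨s, hs⟩ := hrodd
  refine ⟨(r + 1) * (s + 1) * t, ?_⟩
  rw [hs]
  ring

theorem val_pow_odd_add (hq : Odd q) (hq3 : 3 ≤ q) {m : ℕ} (hm : Odd m) :
    padicValNat 2 (q ^ m + 1) = padicValNat 2 (q + 1) := by
  obtain ⟨r, t, rfl, h⟩ := exists_geom hq3 hm
  have hrodd : Even r := by
    have : ¬ Odd r := fun hr => by
      have := hr.add_one
      exact (Nat.not_even_iff_odd.2 hq) this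
    exact Nat.not_odd_iff_even.1 this
  have e : (r + 1) ^ m + 1 = (r + 1 + 1) * (1 + (r + 1) * r * t) := by
    rw [h]
    ring
  rw [e, val_odd_factor (by omega)]
  obtain ⟨s, hs⟩ := hrodd
  refine ⟨(r + 1) * s * t, ?_⟩
  rw [hs]
  ring

theorem val_pow_even_add (hq : Odd q) {m : ℕ} (hm : Even m) : padicValNat 2 (q ^ m + 1) = 1 := by
  obtain ⟨n, rfl⟩ := hm
  have h1 : q ^ (n + n) % 4 = 1 := by
    rw [← two_mul, pow_mul, Nat.pow_mod]
    have : q ^ 2 % 4 = 1 := by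
      obtain ⟨r, rfl⟩ := hq
      have : (2 * r + 1) ^ 2 = 4 * (r * r + r) + 1 := by ring
      omega
    rw [this]
    simp
  obtain ⟨r, hr⟩ : ∃ r, q ^ (n + n) + 1 = 2 * (2 * r + 1) := ⟨q ^ (n + n) / 4, by omega⟩
  rw [hr, val_odd_factor (by norm_num) ⟨r, rfl⟩]
  exact padicValNat.self (by norm_num)

theorem val_factorial_succ (m : ℕ) (hm : 1 ≤ m) : padicValNat 2 m.factorial = padicValNat 2 m + padicValNat 2 (m - 1).factorial := by
  haveI : Fact (Nat.Prime 2) := ⟨Nat.prime_two⟩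
  obtain ⟨r, rfl⟩ : ∃ r, m = r + 1 := ⟨m - 1, by omega⟩
  simp only [Nat.add_sub_cancel]
  rw [Nat.factorial_succ, padicValNat.mul (by omega) (Nat.factorial_ne_zero r)]

theorem prod_ne_zero (hq3 : 3 ≤ q) (n : ℕ) : ∏ i ∈ Finset.range n, (q ^ (2 * (i + 1)) - 1) ≠ 0 := by
  apply Finset.prod_ne_zero_iff.2
  intro i _
  have : 3 ^ 1 ≤ q ^ (2 * (i + 1)) := by
    calc 3 ^ 1 ≤ q ^ 1 := Nat.pow_le_pow_left hq3 1
      _ ≤ q ^ (2 * (i + 1)) := Nat.pow_le_pow_right (by omega) (by omega)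
  omega

theorem val_qpow (hq : Odd q) (n : ℕ) : padicValNat 2 (q ^ n) = 0 := by
  apply padicValNat.eq_zero_of_not_dvd
  intro hd
  have := Nat.Prime.dvd_of_dvd_pow Nat.prime_two hd
  rw [← even_iff_two_dvd] at this
  exact (Nat.not_even_iff_odd.2 hq) this

/-- Valuation of orders of the form `2 q^a x ∏`. -/
theorem val_order (hq : Odd q) (hq3 : 3 ≤ q) (a x n : ℕ) (hx : x ≠ 0) :
    (2 * q ^ a * x * ∏ i ∈ Finset.range n, (q ^ (2 * (i + 1)) - 1)).factorization 2 =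
      1 + padicValNat 2 x + (n * padicValNat 2 (q ^ 2 - 1) + padicValNat 2 n.factorial) := by
  haveI : Fact (Nat.Prime 2) := ⟨Nat.prime_two⟩
  have hq0 : q ^ a ≠ 0 := pow_ne_zero _ (by omega)
  rw [Nat.factorization_def _ Nat.prime_two, padicValNat.mul (by positivity) (prod_ne_zero hq3 n),
    padicValNat.mul (by positivity) hx, padicValNat.mul (by norm_num) hq0,
    padicValNat.self (by norm_num), val_qpow hq, Cfsg.Agent.Lib.Perm.SpWr.val_prod hq hq3 rfl]

theorem val_order_odd (hq : Odd q) (hq3 : 3 ≤ q) (a n : ℕ) :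
    (2 * q ^ a * ∏ i ∈ Finset.range n, (q ^ (2 * (i + 1)) - 1)).factorization 2 =
      1 + (n * padicValNat 2 (q ^ 2 - 1) + padicValNat 2 n.factorial) := by
  have := val_order hq hq3 a 1 n (by norm_num)
  simpa using this

end arith

section forms

variable {F : Type*} [Field F]

theorem polar_binQ' (A B C : F) (u v : Fin 2 → F) :
    QuadraticMap.polar (⇑(binQ A B C)) u v = 2 * A * u 0 * v 0 + B * (u 0 * v 1 + u 1 * v 0) + 2 * C * u 1 * v 1 := by
  simp only [QuadraticMap.polar, binQ_apply, Pi.add_apply]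
  ring

/-- The data of an orthogonal basis of a plane. -/
def PlaneData (W : QuadraticForm F (Fin 2 → F)) : Prop :=
  ∃ u₁ u₂ : Fin 2 → F, W u₁ ≠ 0 ∧ W u₂ ≠ 0 ∧ QuadraticMap.polar (⇑W) u₁ u₂ = 0 ∧ IsSquare (W u₁ * W u₂) ∧
    ∀ z : Fin 2 → F, z = ((2 * W u₁)⁻¹ * QuadraticMap.polar (⇑W) u₁ z) • u₁ +
      ((2 * W u₂)⁻¹ * QuadraticMap.polar (⇑W) u₂ z) • u₂

theorem planeData_H (h2 : (2 : F) ≠ 0) (hneg : IsSquare (-1 : F)) : PlaneData (binQ (0 : F) 1 0) := by
  refine ⟨![1, 1], ![1, -1], ?_, ?_, ?_, ?_, ?_⟩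
  · simp
  · simp
  · rw [polar_binQ']
    simp
  · simpa using hneg
  · intro z
    have h1 : binQ (0 : F) 1 0 ![1, 1] = 1 := by simp
    have h3 : binQ (0 : F) 1 0 ![1, -1] = -1 := by simp
    rw [h1, h3, polar_binQ', polar_binQ']
    funext i
    fin_cases i
    · simp
      field_simp
      ring
    · simp
      field_simp
      ring

theorem planeData_S (h2 : (2 : F) ≠ 0) : PlaneData (binQ (1 : F) 0 1) := by
  refine ⟨![1, 0], ![0, 1], ?_, ?_, ?_, ?_, ?_⟩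
  · simp
  · simp
  · rw [polar_binQ']
    simp
  · simp
  · intro z
    have h1 : binQ (1 : F) 0 1 ![1, 0] = 1 := by simp
    have h3 : binQ (1 : F) 0 1 ![0, 1] = 1 := by simp
    rw [h1, h3, polar_binQ', polar_binQ']
    funext i
    fin_cases i
    · simp
      field_simp
    · simp
      field_simp

variable [Fintype F]

theorem coe_isoCard {ι₁ ι₂ : Type} [Fintype ι₁] [DecidableEq ι₁] [Fintype ι₂] [DecidableEq ι₂]
    {Q₁ : (ι₁ → F) → F} {Q₂ : (ι₂ → F) → F} (L : (ι₁ → F) ≃ₗ[F] (ι₂ → F)) (hL : ∀ v, Q₁ v = Q₂ (L v)) :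
    Nat.card (Cfsg.isometryGroup F Q₁) = Nat.card (Cfsg.isometryGroup F Q₂) :=
  Nat.card_congr ((isoEquivPres Q₁).trans ((presCongr L (fun u v => (hL u).symm)).trans (isoEquivPres Q₂).symm)).toEquiv

theorem card_OG_H {q : ℕ} (hF : Fintype.card F = q) (h2 : (2 : F) ≠ 0) :
    Nat.card (OG (binQ (0 : F) 1 0)) = 2 * (q - 1) := by
  have h1 := card_isometry_plus hF 1 le_rfl
  have hG₁ : ∀ u v, QuadraticMap.polar (⇑(plusQF 1 F)) u v = u ⬝ᵥ ((fromBlocks (0 : Matrix (Fin 1) (Fin 1) F) (1 : Matrix (Fin 1) (Fin 1) F) (1 : Matrix (Fin 1) (Fin 1) F) (0 : Matrix (Fin 1) (Fin 1) F)) *ᵥ v) := by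
    intro u v
    rw [coe_plusQF]
    exact polar_plus 1 u v
  have hd₁ : (fromBlocks (0 : Matrix (Fin 1) (Fin 1) F) (1 : Matrix (Fin 1) (Fin 1) F) (1 : Matrix (Fin 1) (Fin 1) F) (0 : Matrix (Fin 1) (Fin 1) F)).det = -1 := by
    rw [det_hyperbolic]
    simp
  have hn₁ := nondeg_of_gram hG₁ (by rw [hd₁]; exact neg_ne_zero.2 one_ne_zero)
  have hG₂ := polar_binQ (0 : F) 1 0
  have hd₂ := det_binQ (0 : F) 1 0
  have hn₂ := nondeg_of_gram hG₂ (by rw [hd₂]; simp)
  obtain ⟨L, hL⟩ := exists_isometry_of_gram (n := 1) h2 (by simp) (by simp) (plusQF 1 F) (binQ (0 : F) 1 0)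
    (NondegQ.of_polarBilin hn₁) (NondegQ.of_polarBilin hn₂) hG₁ hG₂ (by
      rw [hd₁, hd₂]
      exact ⟨1, by ring⟩)
  rw [coe_plusQF] at hL
  rw [← coe_isoCard L (Q₁ := Cfsg.quadFormPlus 1 F) hL, h1]
  simp

theorem card_OG_A {q : ℕ} (hF : Fintype.card F = q) (h2 : (2 : F) ≠ 0) (a b : F)
    (hab : ∀ z₁ z₂ : F, z₁ ^ 2 + a * z₁ * z₂ + b * z₂ ^ 2 = 0 → z₁ = 0 ∧ z₂ = 0) :
    Nat.card (OG (binQ (1 : F) a b)) = 2 * (q + 1) := by
  have h1 := card_isometry_minus hF 1 le_rfl a b hab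
  have hG₁ : ∀ u v, QuadraticMap.polar (⇑(minusQF 0 a b)) u v = u ⬝ᵥ (minusGram 0 a b *ᵥ v) := by
    intro u v
    exact polar_minus 0 a b u v
  have hd₀ : 4 * b - a ^ 2 ≠ 0 := by
    intro h
    apply disc_ne_zero h2 a b hab
    linear_combination -h
  have hd₁ : (minusGram 0 a b).det = 4 * b - a ^ 2 := by
    rw [det_minusGram]
    simp
  have hn₁ := nondeg_of_gram hG₁ (by rw [hd₁]; exact hd₀)
  have hG₂ := polar_binQ (1 : F) a b
  have hd₂ : (!![2 * 1, a; a, 2 * b] : Matrix (Fin 2) (Fin 2) F).det = 4 * b - a ^ 2 := by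
    rw [det_binQ]
    ring
  have hn₂ := nondeg_of_gram hG₂ (by rw [hd₂]; exact hd₀)
  obtain ⟨L, hL⟩ := exists_isometry_of_gram (n := 1) h2 (by simp) (by simp) (minusQF 0 a b) (binQ (1 : F) a b)
    (NondegQ.of_polarBilin hn₁) (NondegQ.of_polarBilin hn₂) hG₁ hG₂ (by
      rw [hd₁, hd₂]
      exact ⟨_, rfl⟩)
  have hL' : ∀ v, Cfsg.quadFormMinus 0 F a b v = binQ (1 : F) a b (L v) := hL
  rw [← coe_isoCard L (Q₁ := Cfsg.quadFormMinus 0 F a b) hL']
  simpa using h1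

theorem aniso_S {q : ℕ} (hF : Fintype.card F = q) (hq : q % 4 = 3) :
    ∀ z₁ z₂ : F, z₁ ^ 2 + 0 * z₁ * z₂ + 1 * z₂ ^ 2 = 0 → z₁ = 0 ∧ z₂ = 0 := by
  intro z₁ z₂ h
  have hns : ¬ IsSquare (-1 : F) := by
    rw [FiniteField.isSquare_neg_one_iff, hF]
    simpa using hq
  by_cases hz : z₂ = 0
  · subst hz
    refine ⟨?_, rfl⟩
    simpa using h
  · exfalso
    apply hns
    refine ⟨z₁ / z₂, ?_⟩
    field_simp
    linear_combination -h

theorem val_H_of_1 {q : ℕ} (hF : Fintype.card F = q) (h2 : (2 : F) ≠ 0) (hq : Odd q) (hq3 : 3 ≤ q) (h1 : q % 4 = 1) :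
    (Nat.card (OG (binQ (0 : F) 1 0))).factorization 2 = padicValNat 2 (q ^ 2 - 1) := by
  rw [card_OG_H hF h2, Nat.factorization_def _ Nat.prime_two, val_two_mul (by omega), ← val_factors hq hq3, val_q1_of_mod1 h1]
  ring

theorem val_H_of_3 {q : ℕ} (hF : Fintype.card F = q) (h2 : (2 : F) ≠ 0) (h1 : q % 4 = 3) :
    (Nat.card (OG (binQ (0 : F) 1 0))).factorization 2 = 2 := by
  rw [card_OG_H hF h2, Nat.factorization_def _ Nat.prime_two, val_two_mul (by omega), val_q1_of_mod3 h1]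

theorem val_A_of_1 {q : ℕ} (hF : Fintype.card F = q) (h2 : (2 : F) ≠ 0) (h1 : q % 4 = 1) (a b : F)
    (hab : ∀ z₁ z₂ : F, z₁ ^ 2 + a * z₁ * z₂ + b * z₂ ^ 2 = 0 → z₁ = 0 ∧ z₂ = 0) :
    (Nat.card (OG (binQ (1 : F) a b))).factorization 2 = 2 := by
  rw [card_OG_A hF h2 a b hab, Nat.factorization_def _ Nat.prime_two, val_two_mul (by omega), val_q1_of_mod1 h1]

theorem val_S_of_3 {q : ℕ} (hF : Fintype.card F = q) (h2 : (2 : F) ≠ 0) (hq : Odd q) (hq3 : 3 ≤ q) (h1 : q % 4 = 3) :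
    (Nat.card (OG (binQ (1 : F) 0 1))).factorization 2 = padicValNat 2 (q ^ 2 - 1) := by
  rw [card_OG_A hF h2 0 1 (aniso_S hF h1), Nat.factorization_def _ Nat.prime_two, val_two_mul (by omega),
    ← val_factors hq hq3, val_q1_of_mod3 h1]

theorem val_em : (Nat.card (OG (emQ F))).factorization 2 = 0 := by
  rw [card_OG_em]
  simp

theorem val_un (h2 : (2 : F) ≠ 0) {c : F} (hc : c ≠ 0) : (Nat.card (OG (unQ c))).factorization 2 = 1 := by
  rw [card_OG_un h2 hc]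
  exact Nat.Prime.factorization_self Nat.prime_two

theorem det_em : (0 : Matrix (Fin 0) (Fin 0) F).det = 1 := Matrix.det_isEmpty

theorem det_S_ne (h2 : (2 : F) ≠ 0) : (!![2 * 1, 0; 0, 2 * 1] : Matrix (Fin 2) (Fin 2) F).det ≠ 0 := by
  rw [det_binQ]
  have e : (4 : F) * 1 * 1 - 0 ^ 2 = 2 * 2 := by ring
  rw [e]
  exact mul_ne_zero h2 h2

end forms

section final

variable {F : Type*} [Field F] [Fintype F]

theorem odd_card_data (hF : Odd (Fintype.card F)) : 3 ≤ Fintype.card F ∧ (Fintype.card F % 4 = 1 ∨ Fintype.card F % 4 = 3) := by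
  have h1 : 1 < Fintype.card F := Fintype.one_lt_card
  obtain ⟨r, hr⟩ := hF
  constructor <;> omega

theorem isSquare_four_pow (k : ℕ) : IsSquare ((4 : F) ^ k) := ⟨2 ^ k, by
  rw [← mul_pow]
  norm_num⟩

/-- Plus type. -/
theorem final_plus (hF : Odd (Fintype.card F)) (m : ℕ) (hm : 1 ≤ m) (hm' : Even m ∨ 4 ≤ m)
    (P : Sylow 2 (Cfsg.Omega F (Cfsg.quadFormPlus m F))) :
    ∀ x : (P : Subgroup (Cfsg.Omega F (Cfsg.quadFormPlus m F))), x ^ 2 ∈ commutator (P : Subgroup (Cfsg.Omega F (Cfsg.quadFormPlus m F))) := by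
  classical
  have h2 : (2 : F) ≠ 0 := two_ne_zero_of_odd_card hF
  obtain ⟨hq3, hmod⟩ := odd_card_data hF
  set q := Fintype.card F with hqdef
  have hF' : Fintype.card F = q := rfl
  have hG₀ : ∀ u v, QuadraticMap.polar (⇑(plusQF m F)) u v = u ⬝ᵥ ((fromBlocks (0 : Matrix (Fin m) (Fin m) F) (1 : Matrix (Fin m) (Fin m) F) (1 : Matrix (Fin m) (Fin m) F) (0 : Matrix (Fin m) (Fin m) F)) *ᵥ v) := by
    intro u v
    rw [coe_plusQF]
    exact polar_plus m u v
  have hd₀ : (fromBlocks (0 : Matrix (Fin m) (Fin m) F) (1 : Matrix (Fin m) (Fin m) F) (1 : Matrix (Fin m) (Fin m) F) (0 : Matrix (Fin m) (Fin m) F)).det = (-1) ^ m := by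
    rw [det_hyperbolic, Fintype.card_fin]
  have hd₀' : (fromBlocks (0 : Matrix (Fin m) (Fin m) F) (1 : Matrix (Fin m) (Fin m) F) (1 : Matrix (Fin m) (Fin m) F) (0 : Matrix (Fin m) (Fin m) F)).det ≠ 0 := by
    rw [hd₀]
    exact pow_ne_zero _ (neg_ne_zero.2 one_ne_zero)
  have hcardP := card_isometry_plus hF' m hm
  have hq1 : q ^ m - 1 ≠ 0 := by
    have : 3 ^ 1 ≤ q ^ m := by
      calc 3 ^ 1 ≤ q ^ 1 := Nat.pow_le_pow_left hq3 1
        _ ≤ q ^ m := Nat.pow_le_pow_right (by omega) hm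
    omega
  have hv := val_order hF hq3 (m * (m - 1)) (q ^ m - 1) (m - 1) hq1
  rw [← hcardP] at hv
  have hfac := val_factorial_succ m hm
  have hsub : m - 1 + 1 = m := by omega
  have hmulE : (m - 1) * padicValNat 2 (q ^ 2 - 1) + padicValNat 2 (q ^ 2 - 1) = m * padicValNat 2 (q ^ 2 - 1) := by
    rw [← Nat.succ_mul]
    congr 1
  by_cases hA : q % 4 = 1 ∨ Even m
  · -- type A
    have hk : 2 ≤ m := by
      rcases hm' with ⟨r, hr⟩ | h
      · omega
      · omega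
    have hvalm : padicValNat 2 (q ^ m - 1) + 1 = padicValNat 2 (q ^ 2 - 1) + padicValNat 2 m := by
      by_cases he : Even m
      · exact val_pow_even_sub hF hq3 (by omega) he
      · have ho : Odd m := Nat.not_even_iff_odd.1 he
        have h1 : q % 4 = 1 := hA.resolve_right he
        rw [val_pow_odd_sub hF hq3 ho, ← val_factors hF hq3, val_q1_of_mod1 h1,
          padicValNat.eq_zero_of_not_dvd (n := m) (by rw [← even_iff_two_dvd]; exact he)]
    rcases hmod with h1 | h3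
    · obtain ⟨u₁, u₂, a1, a2, a3, a4, a5⟩ := planeData_H h2 (by
        rw [FiniteField.isSquare_neg_one_iff, ← hqdef]
        omega)
      exact sq_mem_of_model h2 (plusQF m F) (coe_plusQF m) hG₀ hd₀' hk (emQ F) polar_emQ (by simp) (by simp)
        (by simp; ring) (by rw [val_em]; norm_num) (binQ (0 : F) 1 0) (polar_binQ 0 1 0) (by rw [det_binQ]; simp)
        a1 a2 a3 a4 a5 (by
          rw [hd₀, det_binQ, det_em]
          refine ⟨(-1) ^ m, ?_⟩
          simp) (by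
          rw [hv, val_H_of_1 hF' h2 hF hq3 h1, val_em]
          omega) P
    · have he : Even m := by
        rcases hA with h | h
        · omega
        · exact h
      obtain ⟨u₁, u₂, a1, a2, a3, a4, a5⟩ := planeData_S h2
      exact sq_mem_of_model h2 (plusQF m F) (coe_plusQF m) hG₀ hd₀' hk (emQ F) polar_emQ (by simp) (by simp)
        (by simp; ring) (by rw [val_em]; norm_num) (binQ (1 : F) 0 1) (polar_binQ 1 0 1) (det_S_ne h2)
        a1 a2 a3 a4 a5 (by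
          rw [hd₀, det_binQ, det_em, he.neg_one_pow]
          simpa using isSquare_four_pow (F := F) m) (by
          rw [hv, val_S_of_3 hF' h2 hF hq3 h3, val_em]
          omega) P
  · -- type B
    push Not at hA
    obtain ⟨h1, he⟩ := hA
    have h3 : q % 4 = 3 := by omega
    have ho : Odd m := Nat.not_even_iff_odd.1 he
    have hm4 : 4 ≤ m := hm'.resolve_left he
    obtain ⟨u₁, u₂, a1, a2, a3, a4, a5⟩ := planeData_S h2
    exact sq_mem_of_model (k := m - 1) (κ := Fin 2) h2 (plusQF m F) (coe_plusQF m) hG₀ hd₀' (by omega) (binQ (0 : F) 1 0) (polar_binQ 0 1 0)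
      (by rw [det_binQ]; simp) (by simp) (by simp; omega) (by rw [val_H_of_3 hF' h2 h3])
      (binQ (1 : F) 0 1) (polar_binQ 1 0 1) (det_S_ne h2)
      a1 a2 a3 a4 a5 (by
        rw [hd₀, det_binQ, det_binQ, ho.neg_one_pow]
        have e : (-1 : F) * ((4 * 1 * 1 - 0 ^ 2) ^ (m - 1) * (4 * 0 * 0 - 1 ^ 2)) = 4 ^ (m - 1) := by
          norm_num
        rw [e]
        exact isSquare_four_pow (m - 1)) (by
        rw [hv, val_S_of_3 hF' h2 hF hq3 h3, val_H_of_3 hF' h2 h3, val_pow_odd_sub hF hq3 ho, val_q1_of_mod3 h3]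
        omega) P

/-- Minus type. -/
theorem final_minus (hF : Odd (Fintype.card F)) (m : ℕ) (hm : 4 ≤ m) (a b : F)
    (hab : ∀ z₁ z₂ : F, z₁ ^ 2 + a * z₁ * z₂ + b * z₂ ^ 2 = 0 → z₁ = 0 ∧ z₂ = 0)
    (P : Sylow 2 (Cfsg.Omega F (Cfsg.quadFormMinus (m - 1) F a b))) :
    ∀ x : (P : Subgroup (Cfsg.Omega F (Cfsg.quadFormMinus (m - 1) F a b))),
      x ^ 2 ∈ commutator (P : Subgroup (Cfsg.Omega F (Cfsg.quadFormMinus (m - 1) F a b))) := by
  classical
  have h2 : (2 : F) ≠ 0 := two_ne_zero_of_odd_card hF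
  obtain ⟨hq3, hmod⟩ := odd_card_data hF
  set q := Fintype.card F with hqdef
  have hF' : Fintype.card F = q := rfl
  have hcoe : ⇑(minusQF (m - 1) a b) = Cfsg.quadFormMinus (m - 1) F a b := rfl
  have hG₀ : ∀ u v, QuadraticMap.polar (⇑(minusQF (m - 1) a b)) u v = u ⬝ᵥ (minusGram (m - 1) a b *ᵥ v) :=
    fun u v => polar_minus (m - 1) a b u v
  have hdisc : 4 * b - a ^ 2 ≠ 0 := by
    intro h
    apply disc_ne_zero h2 a b hab
    linear_combination -h
  have hd₀ := det_minusGram (m - 1) a b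
  have hd₀' : (minusGram (m - 1) a b).det ≠ 0 := by
    rw [hd₀]
    exact mul_ne_zero (pow_ne_zero _ (neg_ne_zero.2 one_ne_zero)) hdisc
  have hcardP := card_isometry_minus hF' m (by omega) a b hab
  have hv := val_order hF hq3 (m * (m - 1)) (q ^ m + 1) (m - 1) (by omega)
  rw [← hcardP] at hv
  have hfac := val_factorial_succ m (by omega)
  have hmulE : (m - 1) * padicValNat 2 (q ^ 2 - 1) + padicValNat 2 (q ^ 2 - 1) = m * padicValNat 2 (q ^ 2 - 1) := by
    rw [← Nat.succ_mul]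
    congr 1
    omega
  have hH : (4 * (0 : F) * 0 - 1 ^ 2) = -1 := by ring
  have hS : (4 * (1 : F) * 1 - 0 ^ 2) = 4 := by ring
  have hcU2 : Fintype.card ((Fin (m - 1) ⊕ Fin (m - 1)) ⊕ Fin 2) = 2 * (m - 1) + Fintype.card (Fin 2) := by
    simp only [Fintype.card_sum, Fintype.card_fin]
    ring
  rcases hmod with h1 | h3
  · -- `q ≡ 1 (mod 4)`
    obtain ⟨u₁, u₂, a1, a2, a3, a4, a5⟩ := planeData_H h2 (by
      rw [FiniteField.isSquare_neg_one_iff, ← hqdef]
      omega)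
    have hvq : padicValNat 2 (q ^ m + 1) = 1 := by
      by_cases he : Even m
      · exact val_pow_even_add hF he
      · rw [val_pow_odd_add hF hq3 (Nat.not_even_iff_odd.1 he), val_q1_of_mod1 h1]
    exact sq_mem_of_model (k := m - 1) (κ := Fin 2) h2 (minusQF (m - 1) a b) hcoe hG₀ hd₀' (by omega) (binQ (1 : F) a b)
      (polar_binQ 1 a b) (by
        rw [det_binQ]
        intro h
        apply hdisc
        linear_combination h) (by simp) hcU2 (by rw [val_A_of_1 hF' h2 h1 a b hab])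
      (binQ (0 : F) 1 0) (polar_binQ 0 1 0) (by rw [det_binQ]; simp)
      a1 a2 a3 a4 a5 (by
        rw [hd₀, det_binQ, det_binQ, hH]
        exact ⟨(-1) ^ (m - 1) * (4 * b - a ^ 2), by ring⟩) (by
        rw [hv, val_H_of_1 hF' h2 hF hq3 h1, val_A_of_1 hF' h2 h1 a b hab, hvq]
        omega) P
  · have hns : ¬ IsSquare (-1 : F) := by
      rw [FiniteField.isSquare_neg_one_iff, ← hqdef]
      simpa using h3
    have hsqd : IsSquare (4 * b - a ^ 2) := by
      have h0 : a ^ 2 - 4 * b ≠ 0 := disc_ne_zero h2 a b hab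
      have := (isSquare_mul_iff_of_nonsquare (a ^ 2 - 4 * b) (-1) h0 (neg_ne_zero.2 one_ne_zero) hns).2
        (not_isSquare_disc h2 a b hab)
      obtain ⟨r, hr⟩ := this
      exact ⟨r, by linear_combination hr⟩
    obtain ⟨u₁, u₂, a1, a2, a3, a4, a5⟩ := planeData_S h2
    by_cases he : Even m
    · have hoo : Odd (m - 1) := by
        obtain ⟨r, hr⟩ := he
        exact ⟨r - 1, by omega⟩
      exact sq_mem_of_model (k := m - 1) (κ := Fin 2) h2 (minusQF (m - 1) a b) hcoe hG₀ hd₀' (by omega) (binQ (0 : F) 1 0)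
        (polar_binQ 0 1 0) (by rw [det_binQ]; simp) (by simp) hcU2 (by rw [val_H_of_3 hF' h2 h3])
        (binQ (1 : F) 0 1) (polar_binQ 1 0 1) (det_S_ne h2)
        a1 a2 a3 a4 a5 (by
          rw [hd₀, det_binQ, det_binQ, hH, hS, hoo.neg_one_pow]
          obtain ⟨r, hr⟩ := hsqd
          refine ⟨r * 2 ^ (m - 1), ?_⟩
          have e4 : (4 : F) ^ (m - 1) = 2 ^ (m - 1) * 2 ^ (m - 1) := by
            rw [← mul_pow]
            norm_num
          rw [e4, hr]
          ring) (by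
          rw [hv, val_S_of_3 hF' h2 hF hq3 h3, val_H_of_3 hF' h2 h3, val_pow_even_add hF he]
          omega) P
    · have ho : Odd m := Nat.not_even_iff_odd.1 he
      have hee : Even (m - 1) := by
        obtain ⟨r, hr⟩ := ho
        exact ⟨r, by omega⟩
      exact sq_mem_of_model (k := m) (κ := Fin 0) h2 (minusQF (m - 1) a b) hcoe hG₀ hd₀' (by omega) (emQ F)
        polar_emQ (by simp) (by simp) (by
          simp only [Fintype.card_sum, Fintype.card_fin]
          omega) (by rw [val_em]; norm_num)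
        (binQ (1 : F) 0 1) (polar_binQ 1 0 1) (det_S_ne h2)
        a1 a2 a3 a4 a5 (by
          rw [hd₀, det_binQ, det_em, hS, hee.neg_one_pow]
          obtain ⟨r, hr⟩ := hsqd
          refine ⟨r * 2 ^ m, ?_⟩
          have e4 : (4 : F) ^ m = 2 ^ m * 2 ^ m := by
            rw [← mul_pow]
            norm_num
          rw [e4, hr]
          ring) (by
          have hvq := val_pow_odd_add hF hq3 ho
          have hvf := val_factors hF hq3
          have hv1 := val_q1_of_mod3 h3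
          have hvm : padicValNat 2 m = 0 := padicValNat.eq_zero_of_not_dvd (n := m) (by rw [← even_iff_two_dvd]; exact he)
          rw [hv, val_S_of_3 hF' h2 hF hq3 h3, val_em, hvq]
          omega) P

/-- The Gram matrix of the odd form. -/
def oddGram (m : ℕ) (F : Type*) [Field F] : Matrix (Unit ⊕ (Fin m ⊕ Fin m)) (Unit ⊕ (Fin m ⊕ Fin m)) F :=
  fromBlocks (Matrix.of fun _ _ => 2) 0 0 (fromBlocks (0 : Matrix (Fin m) (Fin m) F) (1 : Matrix (Fin m) (Fin m) F) (1 : Matrix (Fin m) (Fin m) F) (0 : Matrix (Fin m) (Fin m) F))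

theorem det_oddGram (m : ℕ) : (oddGram m F).det = 2 * (-1) ^ m := by
  rw [oddGram, det_fromBlocks_zero₂₁, det_hyperbolic, Fintype.card_fin, Matrix.det_unique]
  rfl

theorem polar_odd (m : ℕ) (u v : Unit ⊕ (Fin m ⊕ Fin m) → F) :
    QuadraticMap.polar (Cfsg.quadFormOdd m F) u v = u ⬝ᵥ (oddGram m F *ᵥ v) := by
  have h1 : oddGram m F *ᵥ v = Sum.elim
      ((Matrix.of fun _ _ => 2 : Matrix Unit Unit F) *ᵥ (v ∘ Sum.inl))
      (fromBlocks (0 : Matrix (Fin m) (Fin m) F) (1 : Matrix (Fin m) (Fin m) F) (1 : Matrix (Fin m) (Fin m) F) (0 : Matrix (Fin m) (Fin m) F) *ᵥ (v ∘ Sum.inr)) := by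
    have : v = Sum.elim (v ∘ Sum.inl) (v ∘ Sum.inr) := by
      ext i
      cases i <;> rfl
    conv_lhs => rw [this]
    rw [oddGram, Matrix.fromBlocks_mulVec]
    simp
  have h2 : u ⬝ᵥ (oddGram m F *ᵥ v) = (u ∘ Sum.inl) ⬝ᵥ ((Matrix.of fun _ _ => 2 : Matrix Unit Unit F) *ᵥ (v ∘ Sum.inl))
      + (u ∘ Sum.inr) ⬝ᵥ (fromBlocks (0 : Matrix (Fin m) (Fin m) F) (1 : Matrix (Fin m) (Fin m) F) (1 : Matrix (Fin m) (Fin m) F) (0 : Matrix (Fin m) (Fin m) F) *ᵥ (v ∘ Sum.inr)) := by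
    rw [h1]
    simp [dotProduct, Fintype.sum_sum_type]
  rw [h2, ← polar_plus]
  simp only [QuadraticMap.polar, Cfsg.quadFormOdd, Cfsg.quadFormPlus, dotProduct, Pi.add_apply, mulVec, Function.comp,
    Matrix.of_apply, Fintype.sum_unique]
  have : ((default : Unit)) = () := rfl
  simp only [this]
  ring

/-- Odd dimension. -/
theorem final_odd (hF : Odd (Fintype.card F)) (m : ℕ) (hm : 3 ≤ m)
    (P : Sylow 2 (Cfsg.Omega F (Cfsg.quadFormOdd m F))) :
    ∀ x : (P : Subgroup (Cfsg.Omega F (Cfsg.quadFormOdd m F))),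
      x ^ 2 ∈ commutator (P : Subgroup (Cfsg.Omega F (Cfsg.quadFormOdd m F))) := by
  classical
  have h2 : (2 : F) ≠ 0 := two_ne_zero_of_odd_card hF
  obtain ⟨hq3, hmod⟩ := odd_card_data hF
  set q := Fintype.card F with hqdef
  have hF' : Fintype.card F = q := rfl
  obtain ⟨Q', hQ', -⟩ := ndq_odd h2 m
  have hG₀ : ∀ u v, QuadraticMap.polar (⇑Q') u v = u ⬝ᵥ (oddGram m F *ᵥ v) := by
    intro u v
    rw [hQ']
    exact polar_odd m u v
  have hd₀ := det_oddGram (F := F) m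
  have hd₀' : (oddGram m F).det ≠ 0 := by
    rw [hd₀]
    exact mul_ne_zero h2 (pow_ne_zero _ (neg_ne_zero.2 one_ne_zero))
  have hcardP := card_isometry_odd hF' h2 m
  have hv := val_order_odd hF hq3 (m ^ 2) m
  rw [← hcardP] at hv
  have hH : (4 * (0 : F) * 0 - 1 ^ 2) = -1 := by ring
  have hS : (4 * (1 : F) * 1 - 0 ^ 2) = 4 := by ring
  have hc : Fintype.card (Unit ⊕ (Fin m ⊕ Fin m)) = 2 * m + Fintype.card (Fin 1) := by
    simp only [Fintype.card_sum, Fintype.card_fin, Fintype.card_unit]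
    ring
  rcases hmod with h1 | h3
  · obtain ⟨u₁, u₂, a1, a2, a3, a4, a5⟩ := planeData_H h2 (by
      rw [FiniteField.isSquare_neg_one_iff, ← hqdef]
      omega)
    exact sq_mem_of_model (k := m) (κ := Fin 1) h2 Q' hQ' hG₀ hd₀' (by omega) (unQ (1 : F))
      (polar_unQ 1) (by rw [det_unQ]; simpa using h2) (by simp) hc (by rw [val_un h2 one_ne_zero]; norm_num)
      (binQ (0 : F) 1 0) (polar_binQ 0 1 0) (by rw [det_binQ]; simp)
      a1 a2 a3 a4 a5 (by
        rw [hd₀, det_binQ, det_unQ, hH]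
        exact ⟨2 * (-1) ^ m, by ring⟩) (by
        rw [hv, val_H_of_1 hF' h2 hF hq3 h1, val_un h2 one_ne_zero]
        omega) P
  · obtain ⟨u₁, u₂, a1, a2, a3, a4, a5⟩ := planeData_S h2
    have hc0 : ((-1 : F) ^ m) ≠ 0 := pow_ne_zero _ (neg_ne_zero.2 one_ne_zero)
    exact sq_mem_of_model (k := m) (κ := Fin 1) h2 Q' hQ' hG₀ hd₀' (by omega) (unQ ((-1 : F) ^ m))
      (polar_unQ _) (by rw [det_unQ]; exact mul_ne_zero h2 hc0) (by simp) hc (by rw [val_un h2 hc0]; norm_num)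
      (binQ (1 : F) 0 1) (polar_binQ 1 0 1) (det_S_ne h2)
      a1 a2 a3 a4 a5 (by
        rw [hd₀, det_binQ, det_unQ, hS]
        refine ⟨2 * (-1) ^ m * 2 ^ m, ?_⟩
        have e4 : (4 : F) ^ m = 2 ^ m * 2 ^ m := by
          rw [← mul_pow]
          norm_num
        rw [e4]
        ring) (by
        rw [hv, val_S_of_3 hF' h2 hF hq3 h3, val_un h2 hc0]
        omega) P

end final

end Cfsg.Agent.Lib.Perm.OmWr
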