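import Cfsg.Agent.Lib.Perm.Tuples

/-! Counting with orbits; a transitivity criterion from the orders of stabilisers. -/

set_option autoImplicit false

namespace Cfsg.Agent.Lib.Perm

open MulAction SubMulAction

/-- Orbit-stabiliser, in `Nat.card` form. -/
theorem card_orbit_mul_card_stabilizer {K X : Type*} [Group K] [MulAction K X] (x : X) :
    Nat.card (orbit K x) * Nat.card (stabilizer K x) = Nat.card K := by
  rw [Nat.card_congr (orbitEquivQuotientStabilizer K x), mul_comm]
  exact Subgroup.card_mul_index _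

/-- If a fixed point is removed and all other orbits have size `d`, then `d ∣ |X| - 1`. -/
theorem dvd_card_sub_one_of_orbits_eq {K X : Type*} [Group K] [MulAction K X] [Finite X] {d : ℕ}
    (p : X) (hp : ∀ k : K, k • p = p) (h : ∀ x : X, x ≠ p → Nat.card (orbit K x) = d) :
    d ∣ Nat.card X - 1 := by
  classical
  let Y : SubMulAction K X :=
    { carrier := {x | x ≠ p}
      smul_mem' := by
        intro k x hx hkx
        apply hx
        have := congrArg (fun z => k⁻¹ • z) hkx
        simp only [inv_smul_smul] at this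
        rw [this, show k⁻¹ • p = p from by rw [inv_smul_eq_iff, hp]] }
  have hcard : Nat.card X - 1 = Nat.card Y := by
    have : Nat.card Y = Nat.card {x : X // x ≠ p} := rfl
    have hfin : Fintype X := Fintype.ofFinite X
    rw [this, Nat.card_eq_fintype_card, Nat.card_eq_fintype_card, Fintype.card_subtype_compl]
    simp
  rw [hcard]
  apply dvd_card_of_orbits_eq (H := K)
  intro x
  rw [← h x.1 x.2]
  apply Nat.card_congr
  refine Equiv.ofBijective (fun z => ⟨z.1.1, ?_⟩) ⟨?_, ?_⟩
  · obtain ⟨z, hz⟩ := z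
    obtain ⟨k, rfl⟩ := hz
    exact ⟨k, rfl⟩
  · rintro ⟨⟨a, ha⟩, ha'⟩ ⟨⟨b, hb⟩, hb'⟩ hab
    simp only [Subtype.mk.injEq] at hab
    subst hab
    rfl
  · rintro ⟨z, k, rfl⟩
    exact ⟨⟨k • x, k, rfl⟩, rfl⟩

/-- A finite group acting faithfully on a set with more than one point, all of whose point
stabilisers have order `l > 1` and all two-point stabilisers order `m`, is transitive. -/
theorem isPretransitive_of_stabilizer_cards {H Y : Type*} [Group H] [Finite H] [MulAction H Y]
    [Finite Y] (hfaith : ∀ h : H, (∀ y : Y, h • y = y) → h = 1) {l m : ℕ} (hl : 1 < l)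
    (h1 : ∀ y : Y, Nat.card (stabilizer H y) = l)
    (h2 : ∀ y y' : Y, y ≠ y' → Nat.card ↥(stabilizer H y ⊓ stabilizer H y') = m) :
    IsPretransitive H Y := by
  classical
  refine ⟨fun y w => ?_⟩
  by_contra hcon
  have hnot : ∀ g : H, g • y ≠ w := fun g hg => hcon ⟨g, hg⟩
  have hyw : y ≠ w := fun e => hnot 1 (by rw [one_smul, e])
  let K := stabilizer H y
  -- orbit sizes for `H`
  have hN : ∀ z : Y, Nat.card (orbit H z) * l = Nat.card H := by
    intro z
    rw [← h1 z]
    exact card_orbit_mul_card_stabilizer z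
  have hNeq : Nat.card (orbit H y) = Nat.card (orbit H w) := by
    have h3 := hN y
    have h4 := hN w
    have hlpos : 0 < l := by omega
    exact Nat.eq_of_mul_eq_mul_right hlpos (h3.trans h4.symm)
  -- orbit sizes for `K`
  have hstabK : ∀ z : Y, z ≠ y → Nat.card (orbit K z) * m = l := by
    intro z hz
    have h3 := card_orbit_mul_card_stabilizer (K := K) z
    have h4 : Nat.card (stabilizer K z) = m := by
      rw [← h2 y z hz.symm]
      apply Nat.card_congr
      refine ⟨fun a => ⟨a.1.1, a.1.2, a.2⟩, fun a => ⟨⟨a.1, a.2.1⟩, a.2.2⟩, fun _ => rfl, fun _ => rfl⟩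
    rw [h4, show Nat.card K = l from h1 y] at h3
    exact h3
  have hmpos : 0 < m := by
    rw [← h2 y w hyw]
    exact Nat.card_pos
  set d := Nat.card (orbit K w) with hd
  have hdall : ∀ z : Y, z ≠ y → Nat.card (orbit K z) = d := by
    intro z hz
    exact Nat.eq_of_mul_eq_mul_right hmpos ((hstabK z hz).trans (hstabK w hyw.symm).symm)
  -- `d ∣ |orbit H w|`
  have hd1 : d ∣ Nat.card (orbit H w) := by
    apply dvd_card_of_orbits_eq (H := K)
    intro x
    rw [← hdall x.1 ?_]
    · apply Nat.card_congr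
      refine Equiv.ofBijective (fun z => ⟨z.1.1, ?_⟩) ⟨?_, ?_⟩
      · obtain ⟨z, hz⟩ := z
        obtain ⟨k, rfl⟩ := hz
        exact ⟨k, rfl⟩
      · rintro ⟨⟨a, ha⟩, ha'⟩ ⟨⟨b, hb⟩, hb'⟩ hab
        simp only [Subtype.mk.injEq] at hab
        subst hab
        rfl
      · rintro ⟨z, k, rfl⟩
        exact ⟨⟨k • x, k, rfl⟩, rfl⟩
    · obtain ⟨x, g, rfl⟩ := x
      intro e
      apply hnot g⁻¹
      have : g • w = y := e
      rw [← this, inv_smul_smul]
  -- `d ∣ |orbit H y| - 1`
  have hd2 : d ∣ Nat.card (orbit H y) - 1 := by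
    apply dvd_card_sub_one_of_orbits_eq (K := K) (⟨y, mem_orbit_self y⟩ : orbit H y)
    · intro k
      apply Subtype.ext
      exact k.2
    · intro x hx
      have hx' : x.1 ≠ y := fun e => hx (Subtype.ext e)
      rw [← hdall x.1 hx']
      apply Nat.card_congr
      refine Equiv.ofBijective (fun z => ⟨z.1.1, ?_⟩) ⟨?_, ?_⟩
      · obtain ⟨z, hz⟩ := z
        obtain ⟨k, rfl⟩ := hz
        exact ⟨k, rfl⟩
      · rintro ⟨⟨a, ha⟩, ha'⟩ ⟨⟨b, hb⟩, hb'⟩ hab
        simp only [Subtype.mk.injEq] at hab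
        subst hab
        rfl
      · rintro ⟨z, k, rfl⟩
        exact ⟨⟨k • x, k, rfl⟩, rfl⟩
  have hNpos : 0 < Nat.card (orbit H y) := by
    have : Nonempty (orbit H y) := ⟨⟨y, mem_orbit_self y⟩⟩
    exact Nat.card_pos
  have hd3 : d ∣ 1 := by
    rw [hNeq] at hd2 hNpos
    have h5 := (Nat.dvd_sub hd1 hd2)
    have h6 : Nat.card (orbit H w) - (Nat.card (orbit H w) - 1) = 1 := by omega
    rwa [h6] at h5
  have hd4 : d = 1 := Nat.dvd_one.mp hd3
  -- then `K` fixes everything and is trivial
  have hlm : l = m := by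
    have := hstabK w hyw.symm
    rw [← hd, hd4, one_mul] at this
    exact this.symm
  have hfix : ∀ k : K, ∀ z : Y, (k : H) • z = z := by
    intro k z
    by_cases hz : z = y
    · rw [hz]; exact k.2
    · have h5 := hdall z hz
      rw [hd4] at h5
      have hs : Subsingleton (orbit K z) := (Nat.card_eq_one_iff_unique.mp h5).1
      have := Subsingleton.elim (⟨k • z, k, rfl⟩ : orbit K z) ⟨z, mem_orbit_self z⟩
      exact congrArg Subtype.val this
  have htriv : ∀ k : K, k = 1 := fun k => Subtype.ext (hfaith _ (hfix k))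
  have : Nat.card K = 1 := by
    rw [Nat.card_eq_one_iff_unique]
    exact ⟨⟨fun a b => by rw [htriv a, htriv b]⟩, ⟨1⟩⟩
  rw [show Nat.card K = l from h1 y] at this
  omega

end Cfsg.Agent.Lib.Perm
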