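import Cfsg.Agent.Lib.Perm.SymSylow

/-!
Sylow 2-subgroups of `PGL(2,q)` for Mersenne primes `q`: they are centralizers of elliptic
involutions, and any two of them intersect nontrivially.
-/

namespace Cfsg.Agent.Perm.PGLMersenne

open Matrix
open scoped Pointwise

variable {q : ℕ} [hq : Fact q.Prime]

local notation "F" => ZMod q
local notation "GG" => GL (Fin 2) (ZMod q)
local notation "PG" => (GL (Fin 2) (ZMod q) ⧸ Subgroup.center (GL (Fin 2) (ZMod q)))

/-- The quotient map. -/
abbrev pi : GL (Fin 2) (ZMod q) →* (GL (Fin 2) (ZMod q) ⧸ Subgroup.center (GL (Fin 2) (ZMod q))) :=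
  QuotientGroup.mk' _

lemma pi_eq_one_of_scalar {g : GL (Fin 2) (ZMod q)} {c : ZMod q}
    (h : g.val = Matrix.scalar (Fin 2) c) : (pi g) = 1 := by
  have : g ∈ Subgroup.center (GL (Fin 2) (ZMod q)) :=
    Matrix.GeneralLinearGroup.mem_center_iff_val_mem_range_scalar.2 ⟨c, h.symm⟩
  exact (QuotientGroup.eq_one_iff g).2 this

lemma exists_scalar_of_pi_eq_one {g : GL (Fin 2) (ZMod q)} (h : pi g = 1) :
    ∃ c : ZMod q, g.val = Matrix.scalar (Fin 2) c := by
  have h1 : g ∈ Subgroup.center (GL (Fin 2) (ZMod q)) := (QuotientGroup.eq_one_iff g).1 h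
  obtain ⟨c, hc⟩ := Matrix.GeneralLinearGroup.mem_center_iff_val_mem_range_scalar.1 h1
  exact ⟨c, hc.symm⟩

/-- An elliptic element: `A² = -1`, trace zero. -/
def Good (A : GL (Fin 2) (ZMod q)) : Prop :=
  A.val * A.val = -1 ∧ Matrix.trace A.val = 0

lemma Good.conj {A : GL (Fin 2) (ZMod q)} (hA : Good A) (w : GL (Fin 2) (ZMod q)) :
    Good (w * A * w⁻¹) := by
  constructor
  · have h : (w * A * w⁻¹ * (w * A * w⁻¹) : GL (Fin 2) (ZMod q)) = w * (A * A) * w⁻¹ := by group
    have h2 := congrArg Units.val h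
    simp only [Units.val_mul] at h2
    simp only [Units.val_mul]
    rw [h2, hA.1]
    have h3 : w.val * w⁻¹.val = 1 := by
      rw [← Units.val_mul, mul_inv_cancel, Units.val_one]
    simp [mul_neg, neg_mul, h3]
  · simp only [Units.val_mul]
    rw [Matrix.trace_mul_comm, ← mul_assoc]
    have h3 : w⁻¹.val * w.val = 1 := by
      rw [← Units.val_mul, inv_mul_cancel, Units.val_one]
    rw [h3, one_mul]
    exact hA.2

/-- Coordinates of a good element. -/
lemma Good.coords {A : GL (Fin 2) (ZMod q)} (hA : Good A) :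
    A.val = !![A.val 0 0, A.val 0 1; A.val 1 0, -A.val 0 0] ∧
      A.val 0 0 ^ 2 + A.val 0 1 * A.val 1 0 = -1 := by
  have h1 : A.val 1 1 = -A.val 0 0 := by
    have := hA.2
    rw [Matrix.trace_fin_two] at this
    linear_combination this
  constructor
  · conv_lhs => rw [Matrix.eta_fin_two A.val]
    rw [h1]
  · have := congrFun (congrFun hA.1 0) 0
    simp only [Matrix.mul_apply, Fin.sum_univ_two, Matrix.neg_apply, Matrix.one_apply_eq] at this
    linear_combination this

/-- The anisotropy lemma. -/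
lemma aniso (hm : ¬ IsSquare (-1 : ZMod q)) {a b c x y w : ZMod q} (h : a ^ 2 + b * c = -1)
    (h1 : x ^ 2 + y * w = 0) (h2 : 2 * a * x + b * w + c * y = 0) : x = 0 ∧ y = 0 ∧ w = 0 := by
  have hb : b ≠ 0 := by
    intro hb
    rw [hb] at h
    apply hm
    exact ⟨a, by linear_combination -h⟩
  have hy : y = 0 := by
    by_contra hy
    apply hm
    refine ⟨(b * x - a * y) / y, ?_⟩
    field_simp
    linear_combination (-y ^ 2) * h + (-b ^ 2) * h1 + (b * y) * h2
  have hx : x = 0 := by
    rw [hy] at h1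
    have : x ^ 2 = 0 := by linear_combination h1
    exact pow_eq_zero_iff (two_ne_zero) |>.1 this
  refine ⟨hx, hy, ?_⟩
  rw [hx, hy] at h2
  have : b * w = 0 := by linear_combination h2
  exact (mul_eq_zero.1 this).resolve_left hb

lemma neg_one_mem_center : (-1 : GL (Fin 2) (ZMod q)) ∈ Subgroup.center (GL (Fin 2) (ZMod q)) := by
  rw [Subgroup.mem_center_iff]
  intro g
  simp

lemma pi_neg (g : GL (Fin 2) (ZMod q)) : pi (-g) = pi g := by
  have h : -g = (-1) * g := by simp
  rw [h, map_mul]
  have : pi (-1 : GL (Fin 2) (ZMod q)) = 1 := (QuotientGroup.eq_one_iff _).2 neg_one_mem_center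
  rw [this, one_mul]

lemma pi_ne_one_of_good {A : GL (Fin 2) (ZMod q)} (hA : Good A) (h2 : (2 : ZMod q) ≠ 0) : pi A ≠ 1 := by
  intro h
  obtain ⟨c, hc⟩ := exists_scalar_of_pi_eq_one h
  have h1 := hA.2
  rw [hc, Matrix.trace_fin_two] at h1
  simp only [Matrix.scalar_apply, Matrix.diagonal_apply_eq] at h1
  have hc0 : c = 0 := by
    have : 2 * c = 0 := by linear_combination h1
    exact (mul_eq_zero.1 this).resolve_left h2
  have h3 := hA.1
  rw [hc, hc0] at h3
  simp only [map_zero, mul_zero] at h3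
  have := congrFun (congrFun h3 0) 0
  simp at this

/-- Two elliptic elements have a common nontrivial commuting element in `PGL`. -/
lemma exists_common (hm : ¬ IsSquare (-1 : ZMod q)) (h2 : (2 : ZMod q) ≠ 0)
    {A B : GL (Fin 2) (ZMod q)} (hA : Good A) (hB : Good B) :
    ∃ y : (GL (Fin 2) (ZMod q) ⧸ Subgroup.center (GL (Fin 2) (ZMod q))), y ≠ 1 ∧ y * pi A = pi A * y ∧ y * pi B = pi B * y := by
  by_cases hAB : pi A = pi B
  · exact ⟨pi A, pi_ne_one_of_good hA h2, rfl, by rw [← hAB]⟩
  -- coordinates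
  obtain ⟨hAc, hAe⟩ := hA.coords
  obtain ⟨hBc, hBe⟩ := hB.coords
  set a := A.val 0 0
  set b := A.val 0 1
  set c := A.val 1 0
  set a' := B.val 0 0
  set b' := B.val 0 1
  set c' := B.val 1 0
  set C : Matrix (Fin 2) (Fin 2) (ZMod q) := A.val * B.val - B.val * A.val with hC
  have hCe : C = !![b * c' - c * b', 2 * (a * b' - b * a'); 2 * (c * a' - a * c'), -(b * c' - c * b')] := by
    rw [hC, hAc, hBc, Matrix.mul_fin_two, Matrix.mul_fin_two]
    ext i j
    fin_cases i <;> fin_cases j <;> simp <;> ring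
  -- the determinant
  have hdet : C.det ≠ 0 := by
    rw [hCe, Matrix.det_fin_two_of]
    intro hd
    set t := 2 * a * a' + b * c' + c * b' with ht
    have ht2 : (t - 2) * (t + 2) = 0 := by
      rw [ht]
      linear_combination (-1 : ZMod q) * hd + 4 * (a' ^ 2 + b' * c') * hAe - 4 * hBe
    have hcase : ∃ σ : ZMod q, (σ = 1 ∨ σ = -1) ∧ σ * t = 2 := by
      rcases mul_eq_zero.1 ht2 with h | h
      · exact ⟨1, Or.inl rfl, by linear_combination h⟩
      · exact ⟨-1, Or.inr rfl, by linear_combination -h⟩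
    obtain ⟨σ, hσ, hσt⟩ := hcase
    have hσ2 : σ ^ 2 = 1 := by rcases hσ with rfl | rfl <;> ring
    obtain ⟨hx, hy, hw⟩ := aniso hm (a := a) (b := b) (c := c) (x := a + σ * a') (y := b + σ * b')
      (w := c + σ * c') hAe
      (by linear_combination hAe + σ ^ 2 * hBe - hσ2 + hσt)
      (by linear_combination 2 * hAe + hσt)
    apply hAB
    rcases hσ with rfl | rfl
    · have hAB' : A = -B := by
        apply Units.ext
        rw [Units.val_neg, hAc, hBc]
        ext i j
        fin_cases i <;> fin_cases j <;> simp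
        · first | linear_combination hx | linear_combination -hx
        · first | linear_combination hy | linear_combination -hy
        · first | linear_combination hw | linear_combination -hw
        · first | linear_combination hx | linear_combination -hx
      rw [hAB', pi_neg]
    · have hAB' : A = B := by
        apply Units.ext
        rw [hAc, hBc]
        ext i j
        fin_cases i <;> fin_cases j <;> simp
        · first | linear_combination hx | linear_combination -hx
        · first | linear_combination hy | linear_combination -hy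
        · first | linear_combination hw | linear_combination -hw
        · first | linear_combination hx | linear_combination -hx
      rw [hAB']
  set D : GL (Fin 2) (ZMod q) := Matrix.GeneralLinearGroup.mkOfDetNeZero C hdet with hD
  have hDv : D.val = C := rfl
  refine ⟨pi D, ?_, ?_, ?_⟩
  · intro h
    obtain ⟨l, hl⟩ := exists_scalar_of_pi_eq_one h
    rw [hDv, hCe] at hl
    have h00 := congrFun (congrFun hl 0) 0
    have h01 := congrFun (congrFun hl 0) 1
    have h10 := congrFun (congrFun hl 1) 0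
    have h11 := congrFun (congrFun hl 1) 1
    simp at h00 h01 h10 h11
    have hl0 : l = 0 := by
      have : 2 * l = 0 := by linear_combination -h00 - h11
      exact (mul_eq_zero.1 this).resolve_left h2
    apply hdet
    rw [hCe, Matrix.det_fin_two_of]
    rw [h01.resolve_left h2, h00, hl0]
    ring
  · have h3 : D * A = -(A * D) := by
      apply Units.ext
      rw [Units.val_neg, Units.val_mul, Units.val_mul, hDv, hC]
      have e1 := hA.1
      calc (A.val * B.val - B.val * A.val) * A.val
          = A.val * B.val * A.val - B.val * (A.val * A.val) := by noncomm_ring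
        _ = A.val * B.val * A.val + B.val := by rw [e1]; noncomm_ring
        _ = -((A.val * A.val) * B.val - A.val * B.val * A.val) := by rw [e1]; noncomm_ring
        _ = -(A.val * (A.val * B.val - B.val * A.val)) := by noncomm_ring
    rw [← map_mul, ← map_mul, h3, pi_neg]
  · have h3 : D * B = -(B * D) := by
      apply Units.ext
      rw [Units.val_neg, Units.val_mul, Units.val_mul, hDv, hC]
      have e1 := hB.1
      calc (A.val * B.val - B.val * A.val) * B.val
          = A.val * (B.val * B.val) - B.val * A.val * B.val := by noncomm_ring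
        _ = -A.val - B.val * A.val * B.val := by rw [e1]; noncomm_ring
        _ = -(B.val * A.val * B.val - (B.val * B.val) * A.val) := by rw [e1]; noncomm_ring
        _ = -(B.val * (A.val * B.val - B.val * A.val)) := by noncomm_ring
    rw [← map_mul, ← map_mul, h3, pi_neg]

/-- The basic elliptic matrix. -/
def A00 : Matrix (Fin 2) (Fin 2) (ZMod q) := !![0, -1; 1, 0]

lemma A00_sq : (A00 : Matrix (Fin 2) (Fin 2) (ZMod q)) * A00 = -1 := by
  unfold A00
  rw [Matrix.mul_fin_two]
  ext i j
  fin_cases i <;> fin_cases j <;> simp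

lemma A00_det : (A00 : Matrix (Fin 2) (Fin 2) (ZMod q)).det = 1 := by
  unfold A00
  rw [Matrix.det_fin_two_of]
  ring

/-- The basic elliptic element. -/
noncomputable def A0 : GL (Fin 2) (ZMod q) :=
  Matrix.GeneralLinearGroup.mkOfDetNeZero A00 (by rw [A00_det]; exact one_ne_zero)

lemma A0_val : (A0 : GL (Fin 2) (ZMod q)).val = A00 := rfl

lemma A0_good : Good (A0 : GL (Fin 2) (ZMod q)) := by
  refine ⟨A00_sq, ?_⟩
  rw [A0_val]
  unfold A00
  rw [Matrix.trace_fin_two_of]
  ring

lemma A00_pow (hq3 : q % 4 = 3) : (A00 : Matrix (Fin 2) (Fin 2) (ZMod q)) ^ q = -A00 := by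
  obtain ⟨m, hm⟩ : ∃ m, q = 4 * m + 3 := ⟨q / 4, by omega⟩
  have h1 : (A00 : Matrix (Fin 2) (Fin 2) (ZMod q)) ^ 2 = -1 := by rw [pow_two, A00_sq]
  have e : q = 2 * (2 * m + 1) + 1 := by omega
  calc (A00 : Matrix (Fin 2) (Fin 2) (ZMod q)) ^ q = A00 ^ (2 * (2 * m + 1) + 1) :=
        congrArg (fun n => (A00 : Matrix (Fin 2) (Fin 2) (ZMod q)) ^ n) e
    _ = -A00 := by
        rw [pow_succ, pow_mul, h1, Odd.neg_one_pow ⟨m, rfl⟩]
        simp

/-- The centralizer of the basic elliptic involution is a 2-group. -/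
lemma centralizer_two {k : ℕ} (hk : q + 1 = 2 ^ k) (hq3 : q % 4 = 3)
    (y : GL (Fin 2) (ZMod q) ⧸ Subgroup.center (GL (Fin 2) (ZMod q))) (hy : y * pi A0 = pi A0 * y) :
    ∃ n : ℕ, y ^ 2 ^ n = 1 := by
  obtain ⟨g, rfl⟩ := QuotientGroup.mk'_surjective (Subgroup.center (GL (Fin 2) (ZMod q))) y
  have h1 : pi ((g * A0)⁻¹ * (A0 * g)) = 1 := by
    rw [map_mul, map_inv, map_mul, map_mul]
    have hy' : pi g * pi A0 = pi A0 * pi g := hy
    rw [hy', inv_mul_cancel]
  obtain ⟨l, hl⟩ := exists_scalar_of_pi_eq_one h1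
  have h2 : A0 * g = (g * A0) * ((g * A0)⁻¹ * (A0 * g)) := by group
  have h3 : A00 * g.val = (g.val * A00) * Matrix.scalar (Fin 2) l := by
    have := congrArg Units.val h2
    rw [Units.val_mul, Units.val_mul _ ((g * A0)⁻¹ * (A0 * g)), hl, A0_val, Units.val_mul, A0_val] at this
    exact this
  have hdet : g.val.det ≠ 0 := by
    have := (Matrix.isUnit_iff_isUnit_det _).1 g.isUnit
    exact this.ne_zero
  set p := g.val 0 0
  set r := g.val 0 1
  set s := g.val 1 0
  set u := g.val 1 1
  have hg : g.val = !![p, r; s, u] := Matrix.eta_fin_two g.val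
  rw [hg] at h3 hdet
  unfold A00 at h3
  rw [Matrix.mul_fin_two, Matrix.mul_fin_two] at h3
  have e00 := congrFun (congrFun h3 0) 0
  have e01 := congrFun (congrFun h3 0) 1
  have e10 := congrFun (congrFun h3 1) 0
  have e11 := congrFun (congrFun h3 1) 1
  simp [Matrix.mul_apply, Fin.sum_univ_two] at e00 e01 e10 e11
  rw [Matrix.det_fin_two_of] at hdet
  have hl2 : l ^ 2 = 1 := by
    by_contra hne
    have hne' : 1 - l ^ 2 ≠ 0 := fun h => hne (by linear_combination -h)
    have hp : p = 0 := by
      have : p * (1 - l ^ 2) = 0 := by linear_combination e10 + l * e01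
      exact (mul_eq_zero.1 this).resolve_right hne'
    have hs : s = 0 := by
      have : s * (1 - l ^ 2) = 0 := by linear_combination -e00 - l * e11
      exact (mul_eq_zero.1 this).resolve_right hne'
    apply hdet
    rw [hp, hs]
    ring
  have hl3 : (l - 1) * (l + 1) = 0 := by linear_combination hl2
  rcases mul_eq_zero.1 hl3 with h | h
  · have hl1 : l = 1 := by linear_combination h
    rw [hl1] at e00 e01
    have hu : u = p := by linear_combination e01
    have hs : s = -r := by linear_combination -e00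
    refine ⟨k, ?_⟩
    have hgv : g.val = (Matrix.scalar (Fin 2) p) + (-r) • A00 := by
      rw [hg, hu, hs]
      unfold A00
      ext i j
      fin_cases i <;> fin_cases j <;> simp
    have hcomm : Commute (Matrix.scalar (Fin 2) p) ((-r) • (A00 : Matrix (Fin 2) (Fin 2) (ZMod q))) :=
      (Matrix.scalar_commute p (fun r' => mul_comm _ _) _)
    have hfrob : g.val ^ q = (Matrix.scalar (Fin 2) p) + r • A00 := by
      rw [hgv, add_pow_char_of_commute q hcomm, smul_pow, A00_pow hq3, ZMod.pow_card]
      have : (Matrix.scalar (Fin 2) p) ^ q = Matrix.scalar (Fin 2) p := by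
        rw [← map_pow, ZMod.pow_card]
      rw [this]
      simp
    have hmul : (g ^ (q + 1)).val = Matrix.scalar (Fin 2) (p ^ 2 + r ^ 2) := by
      rw [Units.val_pow_eq_pow_val, pow_succ, hfrob, hg, hu, hs]
      unfold A00
      ext i j
      fin_cases i <;> fin_cases j <;> simp [Matrix.mul_apply, Fin.sum_univ_two] <;> ring
    have := pi_eq_one_of_scalar hmul
    rw [map_pow, hk] at this
    exact this
  · have hl1 : l = -1 := by linear_combination h
    rw [hl1] at e00 e01
    have hu : u = -p := by linear_combination e01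
    have hs : s = r := by linear_combination -e00
    refine ⟨1, ?_⟩
    have hmul : (g ^ 2).val = Matrix.scalar (Fin 2) (p ^ 2 + r ^ 2) := by
      rw [Units.val_pow_eq_pow_val, pow_two, hg, hu, hs, Matrix.mul_fin_two]
      ext i j
      fin_cases i <;> fin_cases j <;> simp <;> ring
    have := pi_eq_one_of_scalar hmul
    rw [map_pow] at this
    simpa using this

/-- For a Mersenne prime any two Sylow 2-subgroups of `PGL(2,q)` meet nontrivially. -/
theorem main {k : ℕ} (hk : q + 1 = 2 ^ k) (h7 : 7 ≤ q)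
    (H : Sylow 2 (GL (Fin 2) (ZMod q) ⧸ Subgroup.center (GL (Fin 2) (ZMod q))))
    (x : GL (Fin 2) (ZMod q) ⧸ Subgroup.center (GL (Fin 2) (ZMod q))) :
    (H : Subgroup (GL (Fin 2) (ZMod q) ⧸ Subgroup.center (GL (Fin 2) (ZMod q)))) ⊓
      MulAut.conj x • (H : Subgroup (GL (Fin 2) (ZMod q) ⧸ Subgroup.center (GL (Fin 2) (ZMod q)))) ≠ ⊥ := by
  have hk3 : 3 ≤ k := by
    by_contra hc
    push Not at hc
    have : 2 ^ k ≤ 2 ^ 2 := Nat.pow_le_pow_right (by norm_num) (by omega)
    omega
  have hq3 : q % 4 = 3 := by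
    obtain ⟨m, rfl⟩ : ∃ m, k = m + 2 := ⟨k - 2, by omega⟩
    have : q + 1 = 4 * 2 ^ m := by rw [hk]; ring
    omega
  have hm : ¬ IsSquare (-1 : ZMod q) := by
    rw [ZMod.exists_sq_eq_neg_one_iff]
    simpa using hq3
  have h2 : (2 : ZMod q) ≠ 0 := by
    intro h
    have h3 : ((2 : ℕ) : ZMod q) = 0 := by exact_mod_cast h
    rw [ZMod.natCast_eq_zero_iff] at h3
    have := Nat.le_of_dvd (by norm_num) h3
    omega
  set C0 : Subgroup PG := Subgroup.centralizer ({pi A0} : Set PG) with hC0
  have hC02 : IsPGroup 2 C0 := by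
    rintro ⟨y, hy⟩
    rw [hC0, Subgroup.mem_centralizer_singleton_iff] at hy
    obtain ⟨n, hn⟩ := centralizer_two hk hq3 y hy
    exact ⟨n, Subtype.ext (by simpa using hn)⟩
  obtain ⟨P0, hP0⟩ := hC02.exists_le_sylow
  obtain ⟨w, hw⟩ := MulAction.exists_smul_eq PG P0 H
  obtain ⟨w', rfl⟩ := QuotientGroup.mk'_surjective (Subgroup.center (GL (Fin 2) (ZMod q))) w
  obtain ⟨x', hx'⟩ := QuotientGroup.mk'_surjective (Subgroup.center (GL (Fin 2) (ZMod q))) x
  have hx'' : x = pi x' := hx'.symm
  set A := w' * A0 * w'⁻¹ with hA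
  have hAg : Good A := A0_good.conj w'
  set B := x' * A * x'⁻¹ with hB
  have hBg : Good B := hAg.conj x'
  obtain ⟨y, hy1, hy2, hy3⟩ := exists_common hm h2 hAg hBg
  -- elements commuting with `pi A` lie in `H`
  have key : ∀ u : PG, u * pi A = pi A * u → u ∈ (H : Subgroup PG) := by
    intro u hu
    rw [← hw, Cfsg.Agent.Perm.SymSylow.mem_sylow_smul]
    apply hP0
    rw [hC0, Subgroup.mem_centralizer_singleton_iff]
    have h3 : pi A = pi w' * pi A0 * (pi w')⁻¹ := by
      rw [hA, map_mul, map_mul, map_inv]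
    rw [h3] at hu
    have h4 : (QuotientGroup.mk' (Subgroup.center (GL (Fin 2) (ZMod q)))) w' = pi w' := rfl
    rw [h4]
    calc (pi w')⁻¹ * u * pi w' * pi A0 = (pi w')⁻¹ * (u * (pi w' * pi A0 * (pi w')⁻¹)) * pi w' := by group
      _ = (pi w')⁻¹ * ((pi w' * pi A0 * (pi w')⁻¹) * u) * pi w' := by rw [hu]
      _ = pi A0 * ((pi w')⁻¹ * u * pi w') := by group
  intro hbot
  apply hy1
  have hmem : y ∈ (H : Subgroup PG) ⊓ MulAut.conj (pi x') • (H : Subgroup PG) := by
    refine Subgroup.mem_inf.2 ⟨key y hy2, ?_⟩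
    rw [Subgroup.mem_pointwise_smul_iff_inv_smul_mem]
    apply key
    have h3 : pi B = pi x' * pi A * (pi x')⁻¹ := by
      rw [hB, map_mul, map_mul, map_inv]
    rw [h3] at hy3
    have h5 : (MulAut.conj (pi x'))⁻¹ • y = (pi x')⁻¹ * y * pi x' := by
      rw [MulAut.smul_def, MulAut.conj_inv_apply]
    rw [h5]
    calc (pi x')⁻¹ * y * pi x' * pi A = (pi x')⁻¹ * (y * (pi x' * pi A * (pi x')⁻¹)) * pi x' := by group
      _ = (pi x')⁻¹ * ((pi x' * pi A * (pi x')⁻¹) * y) * pi x' := by rw [hy3]
      _ = pi A * ((pi x')⁻¹ * y * pi x') := by group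
  have hbot2 : (H : Subgroup PG) ⊓ MulAut.conj (pi x') • (H : Subgroup PG) = ⊥ := by
    rw [← hx'']; exact hbot
  rw [hbot2] at hmem
  exact (Subgroup.mem_bot).1 hmem

end Cfsg.Agent.Perm.PGLMersenne
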