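import Mathlib
import Cfsg.Prelude.Def_Perm

/-!
Tools on permutation modules: kernels of equivariant maps.
-/

namespace Cfsg.Agent.Perm.PermModule

set_option linter.unusedSectionVars false

open Cfsg

variable {G : Type*} [Group G] {K : Type*} [Field K] {Ω₁ Ω₂ : Type*} [Fintype Ω₁] [Fintype Ω₂]
  [MulAction G Ω₁] [MulAction G Ω₂]

@[simp] lemma permRep_apply {Ω : Type*} [MulAction G Ω] (g : G) (f : Ω → K) (x : Ω) :
    permRep K G Ω g f x = f (g⁻¹ • x) := rfl

/-- The linear map with kernel `φ`. -/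
noncomputable def kernelOp (φ : Ω₁ × Ω₂ → K) : (Ω₁ → K) →ₗ[K] (Ω₂ → K) where
  toFun f y := ∑ x, φ (x, y) * f x
  map_add' f₁ f₂ := by
    ext y
    simp [mul_add, Finset.sum_add_distrib]
  map_smul' c f := by
    ext y
    simp [Finset.mul_sum, mul_left_comm]

@[simp] lemma kernelOp_apply (φ : Ω₁ × Ω₂ → K) (f : Ω₁ → K) (y : Ω₂) :
    kernelOp φ f y = ∑ x, φ (x, y) * f x := rfl

/-- `G`-invariant kernels give invariant maps. -/
lemma kernelOp_mem_invariants (φ : Ω₁ × Ω₂ → K) (hφ : ∀ (g : G) p, φ (g • p) = φ p) :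
    kernelOp φ ∈ ((permRep K G Ω₁).linHom (permRep K G Ω₂)).invariants := by
  intro g
  refine LinearMap.ext fun f => funext fun y => ?_
  simp only [Representation.linHom_apply, LinearMap.comp_apply, permRep_apply, kernelOp_apply,
    inv_inv]
  refine Fintype.sum_equiv (MulAction.toPerm g) _ _ (fun x => ?_)
  rw [← hφ g (x, g⁻¹ • y)]
  simp

variable [DecidableEq Ω₁]

/-- The delta function. -/
noncomputable def delta (K : Type*) [Field K] (x : Ω₁) : Ω₁ → K := Pi.single x 1

lemma sum_delta (f : Ω₁ → K) : f = ∑ x, f x • delta K x := by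
  ext y
  simp [delta, Finset.sum_apply, Pi.single_apply]

lemma permRep_delta (g : G) (x : Ω₁) : permRep K G Ω₁ g (delta K x) = delta K (g • x) := by
  ext y
  simp only [permRep_apply, delta, Pi.single_apply, inv_smul_eq_iff]

/-- The kernel of a linear map. -/
noncomputable def kernelOf (T : (Ω₁ → K) →ₗ[K] (Ω₂ → K)) : Ω₁ × Ω₂ → K :=
  fun p => T (delta K p.1) p.2

lemma kernelOp_kernelOf (T : (Ω₁ → K) →ₗ[K] (Ω₂ → K)) : kernelOp (kernelOf T) = T := by
  refine LinearMap.ext fun f => funext fun y => ?_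
  conv_rhs => rw [sum_delta (K := K) f]
  simp [kernelOf, Finset.sum_apply, mul_comm]

lemma kernelOf_kernelOp (φ : Ω₁ × Ω₂ → K) : kernelOf (kernelOp φ) = φ := by
  ext ⟨x, y⟩
  simp [kernelOf, delta, Pi.single_apply]

lemma kernelOf_smul (T : (Ω₁ → K) →ₗ[K] (Ω₂ → K))
    (hT : T ∈ ((permRep K G Ω₁).linHom (permRep K G Ω₂)).invariants) (g : G) (p : Ω₁ × Ω₂) :
    kernelOf T (g • p) = kernelOf T p := by
  have h := hT g⁻¹
  have h2 := congrArg (fun S : (Ω₁ → K) →ₗ[K] (Ω₂ → K) => S (delta K p.1) p.2) h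
  simp only [Representation.linHom_apply, LinearMap.comp_apply, permRep_apply, inv_inv] at h2
  rw [permRep_delta] at h2
  simpa [kernelOf] using h2

/-- Functions on the orbits as invariant maps. -/
noncomputable def orbitFunToInv :
    (MulAction.orbitRel.Quotient G (Ω₁ × Ω₂) → K) →ₗ[K]
      ((permRep K G Ω₁).linHom (permRep K G Ω₂)).invariants where
  toFun φ := ⟨kernelOp (fun p => φ (Quotient.mk'' p)), kernelOp_mem_invariants _ (fun g p => by
    have : (Quotient.mk'' (g • p) : MulAction.orbitRel.Quotient G (Ω₁ × Ω₂)) = Quotient.mk'' p :=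
      Quotient.sound (MulAction.mem_orbit p g)
    simp only [this])⟩
  map_add' φ₁ φ₂ := by
    apply Subtype.ext
    refine LinearMap.ext fun f => funext fun y => ?_
    simp [add_mul, Finset.sum_add_distrib]
  map_smul' c φ := by
    apply Subtype.ext
    refine LinearMap.ext fun f => funext fun y => ?_
    simp [Finset.mul_sum, mul_assoc]

lemma orbitFunToInv_bijective :
    Function.Bijective (orbitFunToInv (G := G) (K := K) (Ω₁ := Ω₁) (Ω₂ := Ω₂)) := by
  constructor
  · intro φ₁ φ₂ h
    funext q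
    induction q using Quotient.inductionOn' with
    | h p =>
      have h2 := congrArg (fun T : ((permRep K G Ω₁).linHom (permRep K G Ω₂)).invariants =>
        kernelOf (T : (Ω₁ → K) →ₗ[K] (Ω₂ → K))) h
      have h3 := congrFun h2 p
      simpa [orbitFunToInv, kernelOf_kernelOp] using h3
  · rintro ⟨T, hT⟩
    refine ⟨fun q => Quotient.liftOn' q (kernelOf T) ?_, ?_⟩
    · intro a b hab
      obtain ⟨g, rfl⟩ := hab
      exact kernelOf_smul T hT g b
    · apply Subtype.ext
      change kernelOp (fun p => kernelOf T p) = T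
      exact kernelOp_kernelOf T

/-- The number of orbits on pairs is the dimension of the equivariant maps. -/
theorem finrank_invariants_eq :
    Module.finrank K ((permRep K G Ω₁).linHom (permRep K G Ω₂)).invariants =
      Nat.card (MulAction.orbitRel.Quotient G (Ω₁ × Ω₂)) := by
  classical
  have e := LinearEquiv.ofBijective (orbitFunToInv (G := G) (K := K) (Ω₁ := Ω₁) (Ω₂ := Ω₂))
    orbitFunToInv_bijective
  rw [← e.finrank_eq]
  letI : Fintype (MulAction.orbitRel.Quotient G (Ω₁ × Ω₂)) := Fintype.ofFinite _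
  rw [Module.finrank_fintype_fun_eq_card, Nat.card_eq_fintype_card]

end Cfsg.Agent.Perm.PermModule
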