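import Mathlib
import Cfsg.Agent.Lib.Perm.Orbits
import Cfsg.Agent.Lib.Perm.PermModule

/-!
Sylow subgroups of transitive groups of `p`-power degree, fixed vectors of `p`-groups in
characteristic `p`.
-/

namespace Cfsg.Agent.Perm.PGroupFix

set_option linter.style.haveILetI false

open MulAction Cfsg

/-- A Sylow `p`-subgroup of a transitive group of `p`-power degree is transitive. -/
lemma sylow_isPretransitive {G Ω : Type*} [Group G] [Finite G] [Finite Ω] [MulAction G Ω]
    [IsPretransitive G Ω] {p f : ℕ} [Fact p.Prime] (hcard : Nat.card Ω = p ^ f) (P : Sylow p G) :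
    IsPretransitive (P : Subgroup G) Ω := by
  classical
  have hp : p.Prime := Fact.out
  refine ⟨fun x y => ?_⟩
  have h1 : Nat.card (orbit (P : Subgroup G) x) * Nat.card (stabilizer (P : Subgroup G) x)
      = Nat.card P := Cfsg.Agent.Lib.Perm.card_orbit_mul_card_stabilizer x
  have h2 : Nat.card (orbit G x) * Nat.card (stabilizer G x) = Nat.card G :=
    Cfsg.Agent.Lib.Perm.card_orbit_mul_card_stabilizer x
  have horb : orbit G x = Set.univ := MulAction.orbit_eq_univ G x
  have h2' : p ^ f * Nat.card (stabilizer G x) = Nat.card G := by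
    rw [← h2, horb, ← hcard]
    simp
  have hPcard : Nat.card P = p ^ (Nat.card G).factorization p := P.card_eq_multiplicity
  set n := (Nat.card G).factorization p with hn
  have hGpos : Nat.card G ≠ 0 := Nat.card_pos.ne'
  have hSpos : Nat.card (stabilizer G x) ≠ 0 := Nat.card_pos.ne'
  have hfact : n = f + (Nat.card (stabilizer G x)).factorization p := by
    rw [hn, ← h2', Nat.factorization_mul (pow_ne_zero _ hp.ne_zero) hSpos]
    simp [Nat.Prime.factorization_self hp]
  -- the stabiliser in `P` has `p`-power order dividing that in `G`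
  have hPst : IsPGroup p (stabilizer (P : Subgroup G) x) :=
    IsPGroup.to_subgroup P.isPGroup' _
  obtain ⟨k, hk⟩ := IsPGroup.iff_card.mp hPst
  have hdvd : Nat.card (stabilizer (P : Subgroup G) x) ∣ Nat.card (stabilizer G x) := by
    let φ : stabilizer (P : Subgroup G) x →* stabilizer G x :=
      { toFun := fun g => ⟨((g : P) : G), by
          have := g.2
          rw [mem_stabilizer_iff] at this ⊢
          exact this⟩
        map_one' := rfl
        map_mul' := fun _ _ => rfl }
    refine Subgroup.card_dvd_of_injective φ ?_
    intro a b hab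
    apply Subtype.ext
    apply Subtype.ext
    exact congrArg (fun z : stabilizer G x => (z : G)) hab
  have hkle : k ≤ (Nat.card (stabilizer G x)).factorization p := by
    rw [hk] at hdvd
    exact (hp.pow_dvd_iff_le_factorization hSpos).mp hdvd
  have hknf : k + f ≤ n := by omega
  have horbcard : Nat.card (orbit (P : Subgroup G) x) = p ^ (n - k) := by
    have hpk : 0 < p ^ k := pow_pos hp.pos _
    have : Nat.card (orbit (P : Subgroup G) x) * p ^ k = p ^ (n - k) * p ^ k := by
      rw [← hk, h1, hPcard, hk, ← pow_add]
      congr 1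
      omega
    exact Nat.eq_of_mul_eq_mul_right hpk this
  have hfin : (orbit (P : Subgroup G) x).ncard = (Set.univ : Set Ω).ncard := by
    apply le_antisymm (Set.ncard_le_ncard (Set.subset_univ _) Set.finite_univ)
    rw [Set.ncard_univ, hcard, ← Nat.card_coe_set_eq, horbcard]
    exact Nat.pow_le_pow_right hp.pos (by omega)
  have heq : orbit (P : Subgroup G) x = Set.univ :=
    Set.eq_of_subset_of_ncard_le (Set.subset_univ _) hfin.ge
  have hy : y ∈ orbit (P : Subgroup G) x := by rw [heq]; trivial
  obtain ⟨g, hg⟩ := hy
  exact ⟨g, hg⟩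

/-- A `p`-group acting additively on an abelian group of exponent `p`: the additive span of the
orbit of a non-zero vector contains a non-zero fixed vector. -/
lemma exists_fixed_vector {P V : Type*} [Group P] [Finite P] {p : ℕ} [Fact p.Prime]
    (hP : IsPGroup p P) [AddCommGroup V] (ρ : P →* AddMonoid.End V) (hV : ∀ v : V, p • v = 0)
    {v : V} (hv : v ≠ 0) :
    ∃ w ∈ AddSubgroup.closure (Set.range fun g => ρ g v), w ≠ 0 ∧ ∀ g, ρ g w = w := by
  classical
  have hp : p.Prime := Fact.out
  set A := AddSubgroup.closure (Set.range fun g => ρ g v) with hA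
  have hfinS : Finite (Set.range fun g => ρ g v) := Set.finite_range _ |>.to_subtype
  haveI hfg : AddGroup.FG A := AddGroup.closure_finite_fg _
  have htor : IsAddTorsion A := by
    intro a
    refine isOfFinAddOrder_iff_nsmul_eq_zero.mpr ⟨p, hp.pos, ?_⟩
    apply Subtype.ext
    exact hV _
  haveI hAfin : Finite A := AddCommGroup.finite_of_fg_isAddTorsion A htor
  -- invariance
  have hinv : ∀ (g : P) (a : V), a ∈ A → ρ g a ∈ A := by
    intro g a ha
    induction ha using AddSubgroup.closure_induction with
    | mem x hx =>
      obtain ⟨h, rfl⟩ := hx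
      apply AddSubgroup.subset_closure
      refine ⟨g * h, ?_⟩
      simp
    | zero => simp
    | add x y _ _ hx hy => rw [map_add]; exact A.add_mem hx hy
    | neg x _ hx => rw [map_neg]; exact A.neg_mem hx
  letI act : MulAction P A :=
    { smul := fun g a => ⟨ρ g a, hinv g a a.2⟩
      one_smul := fun a => by
        apply Subtype.ext
        change ρ 1 (a : V) = a
        simp
      mul_smul := fun g h a => by
        apply Subtype.ext
        change ρ (g * h) (a : V) = ρ g (ρ h a)
        simp }
  have hvA : v ∈ A := by
    apply AddSubgroup.subset_closure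
    exact ⟨1, by simp⟩
  have hpcard : p ∣ Nat.card A := by
    have hord : addOrderOf (⟨v, hvA⟩ : A) = p := by
      apply addOrderOf_eq_prime
      · apply Subtype.ext
        exact hV v
      · intro h
        exact hv (congrArg Subtype.val h)
    rw [← hord]
    exact addOrderOf_dvd_natCard _
  have h0fix : (0 : A) ∈ fixedPoints P A := by
    intro g
    apply Subtype.ext
    change ρ g (0 : V) = 0
    simp
  obtain ⟨b, hb, hb0⟩ := hP.exists_fixed_point_of_prime_dvd_card_of_fixed_point A hpcard h0fix
  refine ⟨b, b.2, fun h => hb0 (Subtype.ext h.symm), fun g => ?_⟩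
  exact congrArg Subtype.val (hb g)

end Cfsg.Agent.Perm.PGroupFix
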