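import Mathlib
import Cfsg.Agent.Lib.Recog.PermBasic
import Cfsg.Agent.Lib.Perm.Orbits

/-!
Finite sharply doubly transitive groups: the fixed-point-free elements form, with the identity,
a regular normal elementary abelian subgroup.
-/

set_option autoImplicit false
set_option linter.style.haveILetI false

namespace Cfsg.Agent.Lib.Perm

open MulAction

variable {G Ω : Type*} [Group G] [MulAction G Ω]

lemma sharp2_card_off [Finite G] [Fintype Ω] [DecidableEq Ω]
    (h2 : ∀ a b c d : Ω, a ≠ b → c ≠ d → ∃ g : G, g • a = c ∧ g • b = d)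
    (hs : ∀ (g : G) (a b : Ω), a ≠ b → g • a = a → g • b = b → g = 1) {a₀ b₀ : Ω} (h₀ : a₀ ≠ b₀) :
    Nat.card G = Fintype.card Ω * (Fintype.card Ω - 1) := by
  let φ : G → {p : Ω × Ω // p.1 ≠ p.2} := fun g =>
    ⟨(g • a₀, g • b₀), fun h => h₀ (MulAction.injective g h)⟩
  have hφ : Function.Bijective φ := by
    constructor
    · intro g g' h
      have h1 : g • a₀ = g' • a₀ := congrArg (fun p => p.1.1) h
      have h2' : g • b₀ = g' • b₀ := congrArg (fun p => p.1.2) h
      have h3 : g'⁻¹ * g = 1 := by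
        apply hs _ a₀ b₀ h₀
        · rw [mul_smul, h1, inv_smul_smul]
        · rw [mul_smul, h2', inv_smul_smul]
      exact (inv_mul_eq_one.mp h3).symm
    · rintro ⟨⟨c, d⟩, hcd⟩
      obtain ⟨g, hg1, hg2⟩ := h2 a₀ b₀ c d h₀ hcd
      exact ⟨g, Subtype.ext (Prod.ext hg1 hg2)⟩
  rw [Nat.card_congr (Equiv.ofBijective φ hφ), Nat.card_eq_fintype_card]
  have : Fintype.card {p : Ω × Ω // p.1 ≠ p.2} = (Finset.univ : Finset Ω).offDiag.card := by
    apply Fintype.card_of_subtype
    intro p
    simp
  rw [this, Finset.offDiag_card, Finset.card_univ, Nat.mul_sub, mul_one]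

lemma sharp2_transitive
    (h2 : ∀ a b c d : Ω, a ≠ b → c ≠ d → ∃ g : G, g • a = c ∧ g • b = d) [Nontrivial Ω] :
    IsPretransitive G Ω := by
  refine ⟨fun a c => ?_⟩
  obtain ⟨b, hb⟩ := exists_ne a
  obtain ⟨d, hd⟩ := exists_ne c
  obtain ⟨g, hg, -⟩ := h2 a b c d hb.symm hd.symm
  exact ⟨g, hg⟩

/-- Count of fixed-point-free elements. -/
lemma sharp2_card_fpf [Fintype G] [DecidableEq G] [Fintype Ω] [Nontrivial Ω]
    (h2 : ∀ a b c d : Ω, a ≠ b → c ≠ d → ∃ g : G, g • a = c ∧ g • b = d)
    (hs : ∀ (g : G) (a b : Ω), a ≠ b → g • a = a → g • b = b → g = 1)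
    [DecidablePred fun g : G => ∀ a : Ω, g • a ≠ a] :
    (Finset.univ.filter fun g : G => ∀ a : Ω, g • a ≠ a).card = Fintype.card Ω - 1 := by
  classical
  haveI := sharp2_transitive h2
  have hB := Cfsg.Agent.Lib.Recog.sum_card_fixedBy_of_transitive (G := G) (Ω := Ω)
  set FS := Finset.univ.filter fun g : G => ∀ a : Ω, g • a ≠ a with hFS
  have hc : ∀ g : G, Nat.card (fixedBy Ω g) + (if g ∈ FS then 1 else 0) =
      (if g = 1 then Fintype.card Ω else 1) := by
    intro g
    by_cases hg1 : g = 1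
    · subst hg1
      have hnot : (1 : G) ∉ FS := by
        rw [hFS, Finset.mem_filter]
        rintro ⟨-, h⟩
        obtain ⟨a⟩ := (inferInstance : Nonempty Ω)
        exact h a (one_smul _ _)
      rw [if_neg hnot, if_pos rfl, add_zero]
      have : fixedBy Ω (1 : G) = Set.univ := by
        ext a
        simp
      rw [this, Nat.card_eq_fintype_card, Fintype.card_setUniv]
    · rw [if_neg hg1]
      by_cases hgF : g ∈ FS
      · rw [if_pos hgF]
        have hf : ∀ a : Ω, g • a ≠ a := (Finset.mem_filter.mp hgF).2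
        have : fixedBy Ω g = ∅ := by
          ext a
          simp [hf a]
        rw [this]
        simp
      · rw [if_neg hgF, add_zero]
        have : ∃ a : Ω, g • a = a := by
          by_contra hcon
          push Not at hcon
          exact hgF (Finset.mem_filter.mpr ⟨Finset.mem_univ _, hcon⟩)
        obtain ⟨a, ha⟩ := this
        have hset : fixedBy Ω g = {a} := by
          ext b
          simp only [mem_fixedBy, Set.mem_singleton_iff]
          constructor
          · intro hb
            by_contra hne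
            exact hg1 (hs g a b (Ne.symm hne) ha hb)
          · rintro rfl
            exact ha
        rw [hset]
        simp
  have hsum := Finset.sum_congr rfl (fun g (_ : g ∈ (Finset.univ : Finset G)) => hc g)
  rw [Finset.sum_add_distrib, hB, Finset.sum_ite_mem, Finset.univ_inter,
    Finset.sum_const, smul_eq_mul, mul_one] at hsum
  have h3 : ∑ g : G, (if g = 1 then Fintype.card Ω else 1) =
      Fintype.card Ω + (Fintype.card G - 1) := by
    have h4 : ∀ g : G, (if g = 1 then Fintype.card Ω else 1) =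
        (if g = 1 then Fintype.card Ω else 0) + (if g = 1 then 0 else 1) := by
      intro g
      split_ifs <;> simp
    rw [Finset.sum_congr rfl (fun g _ => h4 g), Finset.sum_add_distrib, Finset.sum_ite_eq']
    simp only [Finset.mem_univ, if_true]
    congr 1
    rw [Finset.sum_ite, Finset.sum_const_zero, zero_add, Finset.sum_const, smul_eq_mul, mul_one]
    rw [Finset.filter_ne', Finset.card_erase_of_mem (Finset.mem_univ _), Finset.card_univ]
  rw [h3] at hsum
  have hpos : 0 < Fintype.card G := Fintype.card_pos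
  omega

/-- The structure of a finite sharply doubly transitive group. -/
theorem sharp2_structure [Finite G] [Fintype Ω] [Nontrivial Ω]
    (h2 : ∀ a b c d : Ω, a ≠ b → c ≠ d → ∃ g : G, g • a = c ∧ g • b = d)
    (hs : ∀ (g : G) (a b : Ω), a ≠ b → g • a = a → g • b = b → g = 1) :
    ∃ (F : Subgroup G) (p j : ℕ), p.Prime ∧ 1 ≤ j ∧ Fintype.card Ω = p ^ j ∧ F.Normal ∧
      (∀ x ∈ F, ∀ y ∈ F, x * y = y * x) ∧ (∀ x ∈ F, x ^ p = 1) ∧
      (∀ g : G, g ∈ F ↔ g = 1 ∨ ∀ a : Ω, g • a ≠ a) ∧
      (∀ a b : Ω, ∃ t ∈ F, t • a = b) ∧ Nat.card G = p ^ j * (p ^ j - 1) ∧ Nat.card F = p ^ j := by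
  classical
  letI := Fintype.ofFinite G
  set n := Fintype.card Ω with hn
  have hn2 : 2 ≤ n := Fintype.one_lt_card
  obtain ⟨a₀, b₀, h₀⟩ := exists_pair_ne Ω
  have hG : Nat.card G = n * (n - 1) := sharp2_card_off h2 hs h₀
  have hFS := sharp2_card_fpf (G := G) (Ω := Ω) h2 hs
  set FS := Finset.univ.filter fun g : G => ∀ a : Ω, g • a ≠ a with hFSdef
  have hmemFS : ∀ g : G, g ∈ FS ↔ ∀ a : Ω, g • a ≠ a := fun g => by simp [hFSdef]
  have hone : (1 : G) ∉ FS := by
    rw [hmemFS]
    intro h
    exact h a₀ (one_smul _ _)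
  have hsemi : ∀ g ∈ FS, ∀ x ∈ Subgroup.centralizer ({g} : Set G), ∀ a : Ω, x • a = a → x = 1 := by
    intro g hg x hx a hxa
    have hgne : a ≠ g • a := fun h => (hmemFS g).mp hg a h.symm
    have hcomm : x * g = g * x := by
      have := Subgroup.mem_centralizer_iff.mp hx g rfl
      exact this.symm
    refine hs x a (g • a) hgne hxa ?_
    rw [← mul_smul, hcomm, mul_smul, hxa]
  have hCle : ∀ g ∈ FS, Nat.card (Subgroup.centralizer ({g} : Set G)) ≤ n := by
    intro g hg
    have h1 := card_orbit_mul_card_stabilizer (K := Subgroup.centralizer ({g} : Set G)) a₀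
    have h2' : stabilizer (Subgroup.centralizer ({g} : Set G)) a₀ = ⊥ := by
      rw [eq_bot_iff]
      intro x hx
      rw [Subgroup.mem_bot]
      exact Subtype.ext (hsemi g hg x x.2 a₀ hx)
    rw [h2', Nat.card_of_subsingleton (1 : (⊥ : Subgroup _)), mul_one] at h1
    rw [← h1, hn, ← Nat.card_eq_fintype_card]
    exact Finite.card_subtype_le _
  have horb : ∀ g ∈ FS, ∀ y ∈ orbit (ConjAct G) g, y ∈ FS := by
    intro g hg y hy
    rw [ConjAct.mem_orbit_conjAct, isConj_iff] at hy
    obtain ⟨c, hc⟩ := hy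
    rw [hmemFS] at hg ⊢
    intro a ha
    apply hg (c • a)
    rw [← hc, mul_smul, mul_smul, inv_smul_smul, ha]
  have hkey : ∀ g ∈ FS, Nat.card (Subgroup.centralizer ({g} : Set G)) = n ∧
      orbit (ConjAct G) g = (FS : Set G) := by
    intro g hg
    have h3 := card_orbit_mul_card_stabilizer (K := ConjAct G) (X := G) g
    rw [← Subgroup.nat_card_centralizer_nat_card_stabilizer] at h3
    have h4 : Nat.card (ConjAct G) = Nat.card G := rfl
    rw [h4, hG] at h3
    have hsub : orbit (ConjAct G) g ⊆ (FS : Set G) := fun y hy => horb g hg y hy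
    have ho : Nat.card (orbit (ConjAct G) g) ≤ n - 1 := by
      rw [Nat.card_coe_set_eq, ← hFS, ← Set.ncard_coe_finset]
      exact Set.ncard_le_ncard hsub (Finset.finite_toSet _)
    have hc := hCle g hg
    set o := Nat.card (orbit (ConjAct G) g)
    set c := Nat.card (Subgroup.centralizer ({g} : Set G))
    have hn1 : 0 < n - 1 := by omega
    have h5 : (n - 1) * n ≤ (n - 1) * c := by
      calc (n - 1) * n = o * c := by rw [h3]; ring
        _ ≤ (n - 1) * c := Nat.mul_le_mul_right _ ho
    have h6 : n ≤ c := Nat.le_of_mul_le_mul_left h5 hn1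
    have h7 : c = n := le_antisymm hc h6
    have h8 : o = n - 1 := by
      rw [h7] at h3
      have : o * n = (n - 1) * n := by rw [h3]; ring
      exact Nat.eq_of_mul_eq_mul_right (by omega) this
    refine ⟨h7, Set.eq_of_subset_of_ncard_le hsub ?_ (Finset.finite_toSet _)⟩
    rw [Set.ncard_coe_finset, hFS, ← Nat.card_coe_set_eq]
    exact h8.symm.le
  have hall : ∀ g ∈ FS, ∀ y ∈ FS, y ∈ Subgroup.centralizer ({g} : Set G) := by
    intro g hg y hy
    set T := (Finset.univ.filter fun x : G => x ∈ Subgroup.centralizer ({g} : Set G)).erase 1 with hT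
    have hTsub : T ⊆ FS := by
      intro x hx
      rw [hT, Finset.mem_erase, Finset.mem_filter] at hx
      rw [hmemFS]
      intro a ha
      exact hx.1 (hsemi g hg x hx.2.2 a ha)
    have hTcard : T.card = n - 1 := by
      rw [hT, Finset.card_erase_of_mem (Finset.mem_filter.mpr
        ⟨Finset.mem_univ _, Subgroup.one_mem _⟩), ← Fintype.card_subtype,
        ← Nat.card_eq_fintype_card]
      have := (hkey g hg).1
      congr 1
    have hTeq : T = FS := Finset.eq_of_subset_of_card_le hTsub (by rw [hFS, hTcard])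
    rw [← hTeq, hT, Finset.mem_erase, Finset.mem_filter] at hy
    exact hy.2.2
  have hFSne : FS.Nonempty := by
    rw [← Finset.card_pos, hFS]
    omega
  obtain ⟨g₀, hg₀⟩ := hFSne
  set F := Subgroup.centralizer ({g₀} : Set G) with hF
  have hmemF : ∀ g : G, g ∈ F ↔ g = 1 ∨ ∀ a : Ω, g • a ≠ a := by
    intro g
    constructor
    · intro hg
      by_cases h1 : g = 1
      · exact Or.inl h1
      · right
        intro a ha
        exact h1 (hsemi g₀ hg₀ g hg a ha)
    · rintro (rfl | h)
      · exact F.one_mem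
      · exact hall g₀ hg₀ g ((hmemFS g).mpr h)
  have hnormal : F.Normal := by
    constructor
    intro x hx c
    rw [hmemF] at hx ⊢
    rcases hx with rfl | hx
    · left
      simp
    · right
      intro a ha
      apply hx (c⁻¹ • a)
      have : c⁻¹ • ((c * x * c⁻¹) • a) = c⁻¹ • a := by rw [ha]
      rwa [mul_smul, mul_smul, inv_smul_smul] at this
  have hcomm : ∀ x ∈ F, ∀ y ∈ F, x * y = y * x := by
    intro x hx y hy
    rcases (hmemF x).mp hx with rfl | hx'
    · simp
    rcases (hmemF y).mp hy with rfl | hy'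
    · simp
    have := hall x ((hmemFS x).mpr hx') y ((hmemFS y).mpr hy')
    exact Subgroup.mem_centralizer_iff.mp this x rfl
  have hord : ∀ x ∈ FS, orderOf x = orderOf g₀ := by
    intro x hx
    have h1 : x ∈ orbit (ConjAct G) g₀ := by
      rw [(hkey g₀ hg₀).2]
      exact hx
    rw [ConjAct.mem_orbit_conjAct, isConj_iff] at h1
    obtain ⟨c, hc⟩ := h1
    rw [← hc]
    exact ((MulAut.conj c).orderOf_eq x).symm ▸ rfl
  have hg₀ne : orderOf g₀ ≠ 1 := by
    intro h
    rw [orderOf_eq_one_iff] at h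
    rw [h] at hg₀
    exact hone hg₀
  have hr : (orderOf g₀).minFac.Prime := Nat.minFac_prime hg₀ne
  set p := (orderOf g₀).minFac with hp
  have hp' : orderOf g₀ = p := by
    have h1 : orderOf (g₀ ^ (orderOf g₀ / p)) = p :=
      orderOf_pow_orderOf_div (orderOf_pos g₀).ne' (Nat.minFac_dvd _)
    have hmem : g₀ ^ (orderOf g₀ / p) ∈ F := F.pow_mem ((hmemF g₀).mpr (Or.inr ((hmemFS g₀).mp hg₀))) _
    rcases (hmemF _).mp hmem with h2 | h2
    · rw [h2, orderOf_one] at h1
      exact absurd h1.symm hr.ne_one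
    · rw [← h1]
      exact (hord _ ((hmemFS _).mpr h2)).symm
  have hexp : ∀ x ∈ F, x ^ p = 1 := by
    intro x hx
    rcases (hmemF x).mp hx with rfl | hx'
    · simp
    · rw [← hp', ← hord x ((hmemFS x).mpr hx')]
      exact pow_orderOf_eq_one x
  have hFcard : Nat.card F = n := (hkey g₀ hg₀).1
  haveI : Fact p.Prime := ⟨hr⟩
  have hpg : IsPGroup p F := by
    intro x
    refine ⟨1, ?_⟩
    apply Subtype.ext
    simpa using hexp x x.2
  obtain ⟨j, hj⟩ := (IsPGroup.iff_card (p := p) (G := F)).mp hpg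
  rw [hFcard] at hj
  have hj1 : 1 ≤ j := by
    rcases Nat.eq_zero_or_pos j with rfl | h
    · simp at hj
      omega
    · exact h
  refine ⟨F, p, j, hr, hj1, hj, hnormal, hcomm, hexp, hmemF, ?_, ?_, by rw [hFcard, hj]⟩
  · intro a b
    have h1 := card_orbit_mul_card_stabilizer (K := F) a
    have h2' : stabilizer F a = ⊥ := by
      rw [eq_bot_iff]
      intro x hx
      rw [Subgroup.mem_bot]
      exact Subtype.ext (hsemi g₀ hg₀ x x.2 a hx)
    rw [h2', Nat.card_of_subsingleton (1 : (⊥ : Subgroup _)), mul_one, hFcard] at h1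
    have h3 : orbit F a = Set.univ := by
      refine Set.eq_of_subset_of_ncard_le (Set.subset_univ _) ?_ (Set.toFinite _)
      rw [Set.ncard_univ, ← Nat.card_coe_set_eq, h1, Nat.card_eq_fintype_card]
    have h4 : b ∈ orbit F a := by rw [h3]; exact Set.mem_univ _
    obtain ⟨t, ht⟩ := h4
    exact ⟨t, t.2, ht⟩
  · rw [hG, hj]

/-- Translate the hypotheses from the embedding form. -/
lemma sharp2_of_emb [DecidableEq Ω] (h2 : IsMultiplyPretransitive G Ω 2)
    (hsharp : ∀ x : Fin 2 ↪ Ω, stabilizer G x = ⊥) :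
    (∀ a b c d : Ω, a ≠ b → c ≠ d → ∃ g : G, g • a = c ∧ g • b = d) ∧
      (∀ (g : G) (a b : Ω), a ≠ b → g • a = a → g • b = b → g = 1) := by
  constructor
  · intro a b c d hab hcd
    exact is_two_pretransitive_iff.mp h2 hab hcd
  · intro g a b hab ha hb
    let x : Fin 2 ↪ Ω := ⟨![a, b], by
      intro i j hij
      fin_cases i <;> fin_cases j <;> simp_all⟩
    have hg : g ∈ stabilizer G x := by
      rw [mem_stabilizer_iff]
      ext i
      fin_cases i
      · exact ha
      · exact hb
    rw [hsharp, Subgroup.mem_bot] at hg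
    exact hg

end Cfsg.Agent.Lib.Perm
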