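import Mathlib

/-! Counting elements of order three in sharply 3-transitive groups. -/

set_option autoImplicit false

namespace Cfsg.Agent.Lib.Perm

variable {α : Type*} [Fintype α] [DecidableEq α]

/-- The embedding of `Fin 3` given by three distinct points. -/
def mk3 (a b c : α) (hab : a ≠ b) (hac : a ≠ c) (hbc : b ≠ c) : Fin 3 ↪ α :=
  ⟨![a, b, c], by
    intro i j hij
    fin_cases i <;> fin_cases j <;> simp_all⟩

@[simp] theorem mk3_zero (a b c : α) (hab : a ≠ b) (hac : a ≠ c) (hbc : b ≠ c) :
    mk3 a b c hab hac hbc 0 = a := rfl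
@[simp] theorem mk3_one (a b c : α) (hab : a ≠ b) (hac : a ≠ c) (hbc : b ≠ c) :
    mk3 a b c hab hac hbc 1 = b := rfl
@[simp] theorem mk3_two (a b c : α) (hab : a ≠ b) (hac : a ≠ c) (hbc : b ≠ c) :
    mk3 a b c hab hac hbc 2 = c := rfl

theorem sharp3_eq_of_agree {G : Subgroup (Equiv.Perm α)}
    (hsharp : ∀ x : Fin 3 ↪ α, MulAction.stabilizer G x = ⊥) (g h : G) (a b c : α)
    (hab : a ≠ b) (hac : a ≠ c) (hbc : b ≠ c)
    (ha : g • a = h • a) (hb : g • b = h • b) (hc : g • c = h • c) : g = h := by
  have hmem : h⁻¹ * g ∈ MulAction.stabilizer G (mk3 a b c hab hac hbc) := by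
    rw [MulAction.mem_stabilizer_iff]
    ext i
    have e : ∀ x : α, (h⁻¹ * g) • x = h⁻¹ • (g • x) := fun x => mul_smul _ _ _
    have e2 : ∀ x : α, h⁻¹ • (h • x) = x := fun x => inv_smul_smul _ _
    change (h⁻¹ * g) • (mk3 a b c hab hac hbc i) = mk3 a b c hab hac hbc i
    fin_cases i
    · simp only [Fin.zero_eta, mk3_zero, e, ha, e2]
    · simp only [Fin.mk_one, mk3_one, e, hb, e2]
    · change (h⁻¹ * g) • c = c
      simp only [e, hc, e2]
  rw [hsharp] at hmem
  have : h⁻¹ * g = 1 := by simpa using hmem
  exact (inv_mul_eq_one.mp this).symm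

theorem sharp3_fix_card_le {G : Subgroup (Equiv.Perm α)}
    (hsharp : ∀ x : Fin 3 ↪ α, MulAction.stabilizer G x = ⊥) (g : G) (hg : g ≠ 1) :
    (Finset.univ.filter (fun x : α => g • x = x)).card ≤ 2 := by
  by_contra hc
  push Not at hc
  obtain ⟨a, ha, b, hb, c, hc', hab, hac, hbc⟩ := Finset.two_lt_card.mp hc
  simp only [Finset.mem_filter, Finset.mem_univ, true_and] at ha hb hc'
  exact hg (sharp3_eq_of_agree hsharp g 1 a b c hab hac hbc (by simpa using ha) (by simpa using hb)
    (by simpa using hc'))

theorem sharp3_fix_card_modEq {G : Subgroup (Equiv.Perm α)} (g : G) (hg : g ^ 3 = 1) :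
    (Finset.univ.filter (fun x : α => g • x = x)).card ≡ Fintype.card α [MOD 3] := by
  have : Fact (Nat.Prime 3) := ⟨Nat.prime_three⟩
  have h1 : ((g : Equiv.Perm α)) ^ 3 ^ 1 = 1 := by
    have := congrArg (fun x : G => (x : Equiv.Perm α)) hg
    simpa using this
  have := Equiv.Perm.card_compl_support_modEq h1
  convert this using 2
  ext x
  simp [Equiv.Perm.mem_support, Subgroup.smul_def, Equiv.Perm.smul_def]

open scoped Classical in
/-- In a sharply 3-transitive group with an element of order 3 fixing two points, the two-point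
stabilizer contains exactly two elements of order 3. -/
theorem sharp3_order_three_count (h3n : 3 ≤ Fintype.card α) (G : Subgroup (Equiv.Perm α))
    [Fintype G]
    (h3 : MulAction.IsMultiplyPretransitive G α 3)
    (hsharp : ∀ x : Fin 3 ↪ α, MulAction.stabilizer G x = ⊥)
    {g0 : G} (hg03 : g0 ^ 3 = 1) (hg01 : g0 ≠ 1) {a b : α} (hab : a ≠ b)
    (h0a : g0 • a = a) (h0b : g0 • b = b) :
    (Finset.univ.filter (fun g : G => g ^ 3 = 1 ∧ g ≠ 1 ∧ g • a = a ∧ g • b = b)).card = 2 := by
  set n := Fintype.card α with hn
  -- fixed point counts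
  have hfix0 : (Finset.univ.filter (fun x : α => g0 • x = x)).card = 2 := by
    refine le_antisymm (sharp3_fix_card_le hsharp g0 hg01) ?_
    have : ({a, b} : Finset α) ⊆ Finset.univ.filter (fun x : α => g0 • x = x) := by
      intro x hx
      simp only [Finset.mem_insert, Finset.mem_singleton] at hx
      rcases hx with rfl | rfl <;> simp [h0a, h0b]
    calc 2 = ({a, b} : Finset α).card := (Finset.card_pair hab).symm
      _ ≤ _ := Finset.card_le_card this
  have hnmod : n % 3 = 2 := by
    have := sharp3_fix_card_modEq g0 hg03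
    rw [hfix0] at this
    exact this.symm
  have hfix : ∀ g : G, g ^ 3 = 1 → g ≠ 1 →
      (Finset.univ.filter (fun x : α => g • x = x)).card = 2 := by
    intro g h3' h1
    have h := sharp3_fix_card_le hsharp g h1
    have hm := sharp3_fix_card_modEq g h3'
    have : (Finset.univ.filter (fun x : α => g • x = x)).card % 3 = 2 := by
      rw [hm]; exact hnmod
    omega
  set X : Finset G := Finset.univ.filter (fun g : G => g ^ 3 = 1 ∧ g ≠ 1) with hX
  -- moved points count
  have hmoved : ∀ g ∈ X, (Finset.univ.filter (fun x : α => g • x ≠ x)).card = n - 2 := by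
    intro g hg
    simp only [hX, Finset.mem_filter, Finset.mem_univ, true_and] at hg
    have h1 : (Finset.univ.filter (fun x : α => g • x = x)).card
        + (Finset.univ.filter (fun x : α => g • x ≠ x)).card = (Finset.univ : Finset α).card :=
      Finset.card_filter_add_card_filter_not (s := (Finset.univ : Finset α))
        (fun x : α => g • x = x)
    rw [hfix g hg.1 hg.2] at h1
    have h2 : (Finset.univ : Finset α).card = n := Finset.card_univ
    rw [h2] at h1
    omega
  have hdist : ∀ (g : G) (x : α), g ^ 3 = 1 → g • x ≠ x →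
      x ≠ g • x ∧ x ≠ g • g • x ∧ g • x ≠ g • g • x := by
    intro g x h3' hx
    refine ⟨fun h => hx h.symm, fun h => ?_, fun h => hx (smul_left_cancel g h).symm⟩
    have h4 : g • g • g • x = g • x := by rw [← h]
    have h5 : g • g • g • x = x := by
      rw [← mul_smul, ← mul_smul, ← pow_three', h3', one_smul]
    exact hx (h4.symm.trans h5)
  have htriple : X.card * (n - 2) = n.descFactorial 3 := by
    have h1 : (X.sigma (fun g => Finset.univ.filter (fun x : α => g • x ≠ x))).card
        = X.card * (n - 2) := by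
      rw [Finset.card_sigma, Finset.sum_congr rfl hmoved, Finset.sum_const, smul_eq_mul]
    have h2 : Fintype.card (Fin 3 ↪ α) = n.descFactorial 3 := by
      rw [Fintype.card_embedding_eq, Fintype.card_fin]
    rw [← h1, ← h2, ← Finset.card_univ]
    refine Finset.card_bij
      (fun p hp => mk3 p.2 (p.1 • p.2) (p.1 • p.1 • p.2)
        (hdist p.1 p.2 (by
          have := (Finset.mem_sigma.mp hp).1
          simp only [hX, Finset.mem_filter, Finset.mem_univ, true_and] at this; exact this.1)
          (by simpa using (Finset.mem_sigma.mp hp).2)).1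
        (hdist p.1 p.2 (by
          have := (Finset.mem_sigma.mp hp).1
          simp only [hX, Finset.mem_filter, Finset.mem_univ, true_and] at this; exact this.1)
          (by simpa using (Finset.mem_sigma.mp hp).2)).2.1
        (hdist p.1 p.2 (by
          have := (Finset.mem_sigma.mp hp).1
          simp only [hX, Finset.mem_filter, Finset.mem_univ, true_and] at this; exact this.1)
          (by simpa using (Finset.mem_sigma.mp hp).2)).2.2) (fun _ _ => Finset.mem_univ _) ?_ ?_
    · rintro ⟨g, x⟩ hp ⟨g', x'⟩ hp' he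
      have e0 := DFunLike.congr_fun he 0
      have e1 := DFunLike.congr_fun he 1
      have e2 := DFunLike.congr_fun he 2
      simp only [mk3_zero, mk3_one, mk3_two] at e0 e1 e2
      subst e0
      have hg := (Finset.mem_sigma.mp hp).1
      have hg' := (Finset.mem_sigma.mp hp').1
      have hx : g • x ≠ x := by simpa using (Finset.mem_sigma.mp hp).2
      simp only [hX, Finset.mem_filter, Finset.mem_univ, true_and] at hg hg'
      obtain ⟨d1, d2, d3⟩ := hdist g x hg.1 hx
      have : g = g' := by
        refine sharp3_eq_of_agree hsharp g g' x (g • x) (g • g • x) d1 d2 d3 e1 ?_ ?_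
        · rw [e1] at e2 ⊢; rw [e2]
        · have a1 : g • g • g • x = x := by
            rw [← mul_smul, ← mul_smul, ← pow_three', hg.1, one_smul]
          have a2 : g' • g' • g' • x = x := by
            rw [← mul_smul, ← mul_smul, ← pow_three', hg'.1, one_smul]
          rw [a1, e2, a2]
      subst this
      rfl
    · intro e _
      have h01 : e 0 ≠ e 1 := fun h => by simpa using e.injective h
      have h02 : e 0 ≠ e 2 := fun h => by simpa using e.injective h
      have h12 : e 1 ≠ e 2 := fun h => by simpa using e.injective h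
      obtain ⟨g, hg⟩ := MulAction.exists_smul_eq G e (mk3 (e 1) (e 2) (e 0) h12 h01.symm h02.symm)
      have g0 : g • e 0 = e 1 := DFunLike.congr_fun hg 0
      have g1 : g • e 1 = e 2 := DFunLike.congr_fun hg 1
      have g2 : g • e 2 = e 0 := DFunLike.congr_fun hg 2
      have hg3 : g ^ 3 = 1 := by
        refine sharp3_eq_of_agree hsharp _ 1 (e 0) (e 1) (e 2) h01 h02 h12 ?_ ?_ ?_
        · rw [pow_three, mul_smul, mul_smul, g0, g1, g2, one_smul]
        · rw [pow_three, mul_smul, mul_smul, g1, g2, g0, one_smul]
        · rw [pow_three, mul_smul, mul_smul, g2, g0, g1, one_smul]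
      have hg1 : g ≠ 1 := by
        rintro rfl
        rw [one_smul] at g0
        exact h01 g0
      refine ⟨⟨g, e 0⟩, ?_, ?_⟩
      · refine Finset.mem_sigma.mpr ⟨?_, ?_⟩
        · simp [hX, hg3, hg1]
        · simp only [Finset.mem_filter, Finset.mem_univ, true_and]
          rw [g0]; exact h01.symm
      · ext i
        fin_cases i
        · rfl
        · exact g0
        · change g • g • e 0 = e 2
          rw [g0, g1]
  -- the second count
  have hXcard : X.card = n * (n - 1) := by
    have hn2 : 0 < n - 2 := by omega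
    have : n.descFactorial 3 = (n - 2) * (n * (n - 1)) := by
      simp only [Nat.descFactorial]
      simp only [Nat.sub_zero, mul_one]
      ring
    rw [this] at htriple
    have h' : X.card * (n - 2) = (n * (n - 1)) * (n - 2) := by rw [htriple]; ring
    exact Nat.eq_of_mul_eq_mul_right hn2 h'
  have hconj : ∀ p q : α, p ≠ q →
      (X.filter (fun g : G => g • p = p ∧ g • q = q)).card
        = (X.filter (fun g : G => g • a = a ∧ g • b = b)).card := by
    intro p q hpq
    have third : ∀ u v : α, ∃ w, u ≠ w ∧ v ≠ w := by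
      intro u v
      have hlt : ({u, v} : Finset α).card < (Finset.univ : Finset α).card := by
        rw [Finset.card_univ]
        exact lt_of_le_of_lt (Finset.card_le_two) (by omega)
      obtain ⟨w, -, hw⟩ := Finset.exists_mem_notMem_of_card_lt_card hlt
      simp only [Finset.mem_insert, Finset.mem_singleton, not_or] at hw
      exact ⟨w, fun h => hw.1 h.symm, fun h => hw.2 h.symm⟩
    obtain ⟨c, hac, hbc⟩ := third a b
    obtain ⟨r, hpr, hqr⟩ := third p q
    obtain ⟨h, hh⟩ := MulAction.exists_smul_eq G (mk3 a b c hab hac hbc) (mk3 p q r hpq hpr hqr)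
    have ha' : h • a = p := DFunLike.congr_fun hh 0
    have hb' : h • b = q := DFunLike.congr_fun hh 1
    symm
    refine Finset.card_equiv (MulAut.conj h).toEquiv ?_
    intro g
    simp only [hX, Finset.mem_filter, Finset.mem_univ, true_and, MulEquiv.toEquiv_eq_coe,
      EquivLike.coe_coe, MulAut.conj_apply]
    have e1 : (h * g * h⁻¹) ^ 3 = 1 ↔ g ^ 3 = 1 := by
      rw [conj_pow, conj_eq_one_iff]
    have e2 : h * g * h⁻¹ ≠ 1 ↔ g ≠ 1 := by
      rw [Ne, conj_eq_one_iff]
    have e3 : ∀ x : α, (h * g * h⁻¹) • (h • x) = h • (g • x) := by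
      intro x
      rw [mul_smul, mul_smul, inv_smul_smul]
    have e4 : (h * g * h⁻¹) • p = p ↔ g • a = a := by
      rw [← ha', e3]
      exact smul_left_cancel_iff h
    have e5 : (h * g * h⁻¹) • q = q ↔ g • b = b := by
      rw [← hb', e3]
      exact smul_left_cancel_iff h
    rw [e1, e2, e4, e5]
  have hdouble := Finset.sum_card_bipartiteAbove_eq_sum_card_bipartiteBelow
    (s := X) (t := (Finset.univ : Finset α).offDiag)
    (fun (g : G) (pq : α × α) => g • pq.1 = pq.1 ∧ g • pq.2 = pq.2)
  have hL : ∀ g ∈ X, (((Finset.univ : Finset α).offDiag).bipartiteAbove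
      (fun (g : G) (pq : α × α) => g • pq.1 = pq.1 ∧ g • pq.2 = pq.2) g).card = 2 := by
    intro g hg
    simp only [hX, Finset.mem_filter, Finset.mem_univ, true_and] at hg
    have : ((Finset.univ : Finset α).offDiag).bipartiteAbove
      (fun (g : G) (pq : α × α) => g • pq.1 = pq.1 ∧ g • pq.2 = pq.2) g
        = (Finset.univ.filter (fun x : α => g • x = x)).offDiag := by
      ext ⟨p, q⟩
      simp only [Finset.bipartiteAbove, Finset.mem_filter, Finset.mem_offDiag, Finset.mem_univ,
        true_and]
      tauto
    rw [this, Finset.offDiag_card, hfix g hg.1 hg.2]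
  have hR : ∀ pq ∈ (Finset.univ : Finset α).offDiag, (X.bipartiteBelow
      (fun (g : G) (pq : α × α) => g • pq.1 = pq.1 ∧ g • pq.2 = pq.2) pq).card
        = (X.filter (fun g : G => g • a = a ∧ g • b = b)).card := by
    rintro ⟨p, q⟩ hpq
    simp only [Finset.mem_offDiag, Finset.mem_univ, true_and] at hpq
    exact hconj p q hpq
  rw [Finset.sum_congr rfl hL, Finset.sum_congr rfl hR, Finset.sum_const, Finset.sum_const,
    Finset.offDiag_card, Finset.card_univ, smul_eq_mul, smul_eq_mul, hXcard] at hdouble
  have hfinal : (X.filter (fun g : G => g • a = a ∧ g • b = b)).card = 2 := by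
    have hnn : Fintype.card α * Fintype.card α - Fintype.card α = n * (n - 1) := by
      rw [← hn, Nat.mul_sub, mul_one]
    rw [hnn] at hdouble
    have hpos : 0 < n * (n - 1) := Nat.mul_pos (by omega) (by omega)
    exact (Nat.eq_of_mul_eq_mul_left hpos hdouble).symm
  rw [← hfinal]
  congr 1
  ext g
  simp [hX, and_assoc]

/-- Uniqueness of the subgroup of order 3 in a two-point stabilizer of a sharply 3-transitive group. -/
theorem sharp3_unique_order_three (h3n : 3 ≤ Fintype.card α) (G : Subgroup (Equiv.Perm α))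
    (h3 : MulAction.IsMultiplyPretransitive G α 3)
    (hsharp : ∀ x : Fin 3 ↪ α, MulAction.stabilizer G x = ⊥) {a b : α} (hab : a ≠ b)
    (A B : Subgroup G) (hA : A ≤ MulAction.stabilizer G a ⊓ MulAction.stabilizer G b)
    (hB : B ≤ MulAction.stabilizer G a ⊓ MulAction.stabilizer G b)
    (hA3 : Nat.card A = 3) (hB3 : Nat.card B = 3) : A = B := by
  classical
  haveI : Fintype G := Fintype.ofFinite _
  have key : ∀ (C : Subgroup G), C ≤ MulAction.stabilizer G a ⊓ MulAction.stabilizer G b →
      Nat.card C = 3 → ∀ g : G,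
      (g ^ 3 = 1 ∧ g ≠ 1 ∧ g • a = a ∧ g • b = b) → g ∈ C := by
    intro C hC hC3 g hg
    -- pick g0 in C of order 3
    have hp : Nat.Prime (Nat.card C) := by rw [hC3]; exact Nat.prime_three
    have hcard : ∃ g0 : G, g0 ∈ C ∧ g0 ≠ 1 := by
      haveI : Fact (Nat.Prime (Nat.card C)) := ⟨hp⟩
      have : Nontrivial C := by
        rw [← Finite.one_lt_card_iff_nontrivial, hC3]; norm_num
      obtain ⟨x, hx⟩ := exists_ne (1 : C)
      exact ⟨x, x.2, fun h => hx (Subtype.ext h)⟩
    obtain ⟨g0, h0C, h01⟩ := hcard
    have hpow : ∀ x ∈ C, x ^ 3 = 1 := by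
      intro x hx
      have : (⟨x, hx⟩ : C) ^ Nat.card C = 1 := pow_card_eq_one'
      rw [hC3] at this
      have := congrArg Subtype.val this
      simpa using this
    have hst : ∀ x ∈ C, x • a = a ∧ x • b = b := by
      intro x hx
      have := hC hx
      simpa [Subgroup.mem_inf, MulAction.mem_stabilizer_iff] using this
    have hcount := sharp3_order_three_count h3n G h3 hsharp (hpow g0 h0C) h01 hab
      (hst g0 h0C).1 (hst g0 h0C).2
    -- the nonidentity elements of C
    set SC : Finset G := Finset.univ.filter (fun x : G => x ∈ C ∧ x ≠ 1) with hSC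
    have hSCcard : SC.card = 2 := by
      have h1 : (Finset.univ.filter (fun x : G => x ∈ C)).card = 3 := by
        rw [← hC3, Nat.card_eq_fintype_card, Fintype.card_subtype]
      have h2 : SC = (Finset.univ.filter (fun x : G => x ∈ C)).erase 1 := by
        ext x
        simp [hSC, and_comm]
      rw [h2, Finset.card_erase_of_mem (by simpa using C.one_mem), h1]
    have hsub : SC ⊆ Finset.univ.filter (fun g : G => g ^ 3 = 1 ∧ g ≠ 1 ∧ g • a = a ∧ g • b = b) := by
      intro x hx
      simp only [hSC, Finset.mem_filter, Finset.mem_univ, true_and] at hx ⊢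
      exact ⟨hpow x hx.1, hx.2, (hst x hx.1).1, (hst x hx.1).2⟩
    have heq := Finset.eq_of_subset_of_card_le hsub (by rw [hcount, hSCcard])
    have : g ∈ SC := by
      rw [heq]; simp only [Finset.mem_filter, Finset.mem_univ, true_and]; exact hg
    simp only [hSC, Finset.mem_filter, Finset.mem_univ, true_and] at this
    exact this.1
  have hsub : ∀ (C D : Subgroup G), C ≤ MulAction.stabilizer G a ⊓ MulAction.stabilizer G b →
      D ≤ MulAction.stabilizer G a ⊓ MulAction.stabilizer G b → Nat.card C = 3 → Nat.card D = 3 →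
      C ≤ D := by
    intro C D hC hD hC3 hD3 x hx
    by_cases hx1 : x = 1
    · rw [hx1]; exact D.one_mem
    · have h3x : x ^ 3 = 1 := by
        have : (⟨x, hx⟩ : C) ^ Nat.card C = 1 := pow_card_eq_one'
        rw [hC3] at this
        have := congrArg Subtype.val this
        simpa using this
      have hst := hC hx
      simp only [Subgroup.mem_inf, MulAction.mem_stabilizer_iff] at hst
      exact key D hD hD3 x ⟨h3x, hx1, hst.1, hst.2⟩
  exact le_antisymm (hsub A B hA hB hA3 hB3) (hsub B A hB hA hB3 hA3)

end Cfsg.Agent.Lib.Perm
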