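import Mathlib
import Cfsg.Agent.Lib.Perm.OmWrC

/-!
# Determinants on the wreath product model, and the subgroup of elements with square in `[M,M]`
-/

set_option autoImplicit false
set_option linter.unusedSimpArgs false
set_option linter.unusedVariables false
set_option linter.unusedSectionVars false

namespace Cfsg.Agent.Lib.Perm.SlWr

open Matrix Equiv Cfsg.Agent.Lib.Classical Cfsg.Agent.Lib.Perm.OmWr Cfsg.Agent.Lib.Misc19.SymSylow
open scoped commutatorElement

section abstractJ

variable {G : Type*} [Group G]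

/-- Elements of `M` with square in `[M,M]`. -/
def sqJ (M : Subgroup G) : Subgroup G where
  carrier := {x | x ∈ M ∧ x * x ∈ ⁅M, M⁆}
  mul_mem' := by
    rintro x y ⟨hx, hx2⟩ ⟨hy, hy2⟩
    refine ⟨M.mul_mem hx hy, ?_⟩
    have e : x * y * (x * y) = (x * x) * ⁅x⁻¹, y⁆ * (y * y) := by
      rw [commutatorElement_def]
      group
    rw [e]
    exact Subgroup.mul_mem _ (Subgroup.mul_mem _ hx2 (Subgroup.commutator_mem_commutator (M.inv_mem hx) hy)) hy2
  one_mem' := ⟨M.one_mem, by
    rw [one_mul]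
    exact Subgroup.one_mem _⟩
  inv_mem' := by
    rintro x ⟨hx, hx2⟩
    refine ⟨M.inv_mem hx, ?_⟩
    have e : x⁻¹ * x⁻¹ = (x * x)⁻¹ := by group
    rw [e]
    exact Subgroup.inv_mem _ hx2

theorem mem_sqJ {M : Subgroup G} {x : G} : x ∈ sqJ M ↔ x ∈ M ∧ x * x ∈ ⁅M, M⁆ := Iff.rfl

theorem sqJ_of_invol {M : Subgroup G} {x : G} (hx : x ∈ M) (h : x * x = 1) : x ∈ sqJ M :=
  ⟨hx, by
    rw [h]
    exact Subgroup.one_mem _⟩

theorem sqJ_of_conj_inv {M : Subgroup G} {x t : G} (hx : x ∈ M) (ht : t ∈ M) (h : t * x * t⁻¹ = x⁻¹) : x ∈ sqJ M := by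
  refine ⟨hx, ?_⟩
  have e : x * x = ⁅x, t⁆ := by
    have h2 : t * x⁻¹ * t⁻¹ = x := by
      have : t * x⁻¹ * t⁻¹ = (t * x * t⁻¹)⁻¹ := by group
      rw [this, h, inv_inv]
    have e2 : ⁅x, t⁆ = x * (t * x⁻¹ * t⁻¹) := by
      rw [commutatorElement_def]
      group
    rw [e2, h2]
  rw [e]
  exact Subgroup.commutator_mem_commutator hx ht

/-- Bridging the subgroup-of-a-subgroup view with the intersection view. -/
theorem sq_inf_iff (D N : Subgroup G) :
    (∀ y : ↥(D.subgroupOf N), y ^ 2 ∈ commutator ↥(D.subgroupOf N)) ↔ ∀ a ∈ D ⊓ N, a * a ∈ ⁅D ⊓ N, D ⊓ N⁆ := by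
  let f : ↥(D.subgroupOf N) →* G := N.subtype.comp (D.subgroupOf N).subtype
  have hf : Function.Injective f := fun a b hab => Subtype.ext (Subtype.ext hab)
  have hr : f.range = D ⊓ N := by
    ext a
    constructor
    · rintro ⟨y, rfl⟩
      exact ⟨y.2, y.1.2⟩
    · rintro ⟨h1, h2⟩
      exact ⟨⟨⟨a, h2⟩, h1⟩, rfl⟩
  have hc : (commutator ↥(D.subgroupOf N)).map f = ⁅D ⊓ N, D ⊓ N⁆ := by
    rw [commutator_def, Subgroup.map_commutator, ← MonoidHom.range_eq_map, hr]
  constructor
  · intro h a ha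
    rw [← hr] at ha
    obtain ⟨y, rfl⟩ := ha
    rw [← hc]
    exact ⟨y ^ 2, h y, by rw [map_pow, pow_two]⟩
  · intro h y
    have h1 : f y ∈ D ⊓ N := by
      rw [← hr]
      exact ⟨y, rfl⟩
    have h2 := h _ h1
    rw [← hc] at h2
    obtain ⟨z, hz, hzy⟩ := h2
    have : z = y ^ 2 := by
      apply hf
      rw [hzy, map_pow, pow_two]
    rwa [← this]

/-- Squares in the commutator subgroup pass along surjections. -/
theorem sq_of_surj {X Y : Type*} [Group X] [Group Y] (f : X →* Y) (hf : Function.Surjective f)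
    (h : ∀ x : X, x ^ 2 ∈ commutator X) (y : Y) : y ^ 2 ∈ commutator Y := by
  obtain ⟨x, rfl⟩ := hf y
  have h1 : f (x ^ 2) ∈ (commutator X).map f := ⟨_, h x, rfl⟩
  rw [commutator_def, Subgroup.map_commutator, Subgroup.map_top_of_surjective _ hf, ← commutator_def] at h1
  rwa [map_pow] at h1

/-- Squares in the commutator subgroup of Sylow subgroups pass along isomorphisms and conjugacy. -/
theorem sq_sylow_transfer {X Y : Type*} [Group X] [Group Y] [Finite X] [Finite Y] [Fact (Nat.Prime 2)] (e : X ≃* Y)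
    (S : Sylow 2 Y) (hS : ∀ y : ↥(S : Subgroup Y), y ^ 2 ∈ commutator ↥(S : Subgroup Y)) (P : Sylow 2 X) :
    ∀ x : ↥(P : Subgroup X), x ^ 2 ∈ commutator ↥(P : Subgroup X) := by
  let P' : Sylow 2 Y := P.comapOfInjective e.symm.toMonoidHom e.symm.injective (by
    rw [MonoidHom.range_eq_top.2 e.symm.surjective]
    exact le_top)
  have hP' : ∀ y : Y, y ∈ (P' : Subgroup Y) ↔ e.symm y ∈ (P : Subgroup X) := fun y => Iff.rfl
  let f : ↥(P' : Subgroup Y) →* ↥(P : Subgroup X) :=
    (e.symm.toMonoidHom.comp (P' : Subgroup Y).subtype).codRestrict (P : Subgroup X) (fun y => (hP' y.1).1 y.2)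
  have hf : Function.Surjective f := by
    rintro ⟨x, hx⟩
    refine ⟨⟨e x, (hP' _).2 (by simpa using hx)⟩, ?_⟩
    apply Subtype.ext
    show e.symm (e x) = x
    simp
  have h1 := sq_of_surj (Sylow.equiv S P').toMonoidHom (Sylow.equiv S P').surjective hS
  exact sq_of_surj f hf h1

end abstractJ

section dets

variable {F : Type*} [Field F] {k : ℕ} {κ : Type} [Fintype κ] [DecidableEq κ]
  {W : QuadraticForm F (Fin 2 → F)} {U : QuadraticForm F (κ → F)}

/-- The determinant on an isometry group. -/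
noncomputable def detG {ι : Type} [Fintype ι] [DecidableEq ι] (Q : QuadraticForm F (ι → F)) : OG Q →* Fˣ :=
  Matrix.GeneralLinearGroup.det.comp (Cfsg.isometryGroup F ⇑Q).subtype

theorem coe_detG {ι : Type} [Fintype ι] [DecidableEq ι] {Q : QuadraticForm F (ι → F)} (g : OG Q) :
    ((detG Q g : Fˣ) : F) = (oM g).det := rfl

theorem mkMat_apply (g : Fin k → OG W) (σ : Perm (Fin k)) (u : OG U) (a b : II k κ) :
    mkMat g σ u a b = actL g σ u (Pi.single b 1) a := by
  rw [← mkMat_mulVec, mulVec_single_one]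
  rfl

/-- The block diagonal part. -/
noncomputable def blk (g : Fin k → OG W) : Matrix (Fin k × Fin 2) (Fin k × Fin 2) F :=
  (blockDiagonal (fun i => oM (g i))).submatrix Prod.swap Prod.swap

theorem det_blk (g : Fin k → OG W) : (blk g).det = ∏ i, (oM (g i)).det := by
  have : blk g = (blockDiagonal (fun i => oM (g i))).submatrix (Equiv.prodComm _ _) (Equiv.prodComm _ _) := rfl
  rw [this, det_submatrix_equiv_self, det_blockDiagonal]

theorem mkMat_base (g : Fin k → OG W) (u : OG U) :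
    mkMat g 1 u = fromBlocks (blk g) 0 0 (oM u) := by
  ext a b
  rw [mkMat_apply]
  rcases a with ⟨i, s⟩ | c <;> rcases b with ⟨i', s'⟩ | c'
  · show (oM (g ((1 : Perm (Fin k))⁻¹ i)) *ᵥ pr ((1 : Perm (Fin k))⁻¹ i) (Pi.single (Sum.inl (i', s')) 1)) s = _
    simp only [inv_one, Perm.one_apply, fromBlocks_apply₁₁, blk, submatrix_apply, Prod.swap_prod_mk, blockDiagonal_apply]
    by_cases h : i = i'
    · subst h
      have e : pr i (Pi.single (Sum.inl (i, s')) 1 : II k κ → F) = Pi.single s' 1 := by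
        funext t
        show (Pi.single (Sum.inl (i, s')) 1 : II k κ → F) (Sum.inl (i, t)) = _
        simp [Pi.single_apply]
      rw [e, mulVec_single_one]
      simp
    · have e : pr i (Pi.single (Sum.inl (i', s')) 1 : II k κ → F) = 0 := by
        funext t
        show (Pi.single (Sum.inl (i', s')) 1 : II k κ → F) (Sum.inl (i, t)) = _
        simp [Pi.single_apply, h]
      rw [e, mulVec_zero]
      simp [h]
  · show (oM (g ((1 : Perm (Fin k))⁻¹ i)) *ᵥ pr ((1 : Perm (Fin k))⁻¹ i) (Pi.single (Sum.inr c') 1)) s = _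
    have e : pr ((1 : Perm (Fin k))⁻¹ i) (Pi.single (Sum.inr c') 1 : II k κ → F) = 0 := by
      funext t
      show (Pi.single (Sum.inr c') 1 : II k κ → F) (Sum.inl ((1 : Perm (Fin k))⁻¹ i, t)) = _
      simp [Pi.single_apply]
    rw [e, mulVec_zero]
    simp
  · show (oM u *ᵥ pU (Pi.single (Sum.inl (i', s')) 1)) c = _
    have e : pU (Pi.single (Sum.inl (i', s')) 1 : II k κ → F) = 0 := by
      funext t
      show (Pi.single (Sum.inl (i', s')) 1 : II k κ → F) (Sum.inr t) = _
      simp [Pi.single_apply]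
    rw [e, mulVec_zero]
    simp
  · show (oM u *ᵥ pU (Pi.single (Sum.inr c') 1)) c = _
    have e : pU (Pi.single (Sum.inr c') 1 : II k κ → F) = Pi.single c' 1 := by
      funext t
      show (Pi.single (Sum.inr c') 1 : II k κ → F) (Sum.inr t) = _
      simp [Pi.single_apply]
    rw [e, mulVec_single_one]
    simp

theorem det_base (g : Fin k → OG W) (u : OG U) :
    (oM (mkEl g 1 u)).det = (∏ i, (oM (g i)).det) * (oM u).det := by
  show (mkMat g 1 u).det = _
  rw [mkMat_base, det_fromBlocks_zero₂₁, det_blk]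

/-- The permutation of coordinates of the top group. -/
def blockPerm (σ : Perm (Fin k)) : Perm (II k κ) :=
  Equiv.Perm.sumCongr (Equiv.prodCongrLeft (fun _ : Fin 2 => σ⁻¹)) 1

theorem sign_blockPerm (σ : Perm (Fin k)) : Perm.sign (blockPerm (κ := κ) σ) = 1 := by
  rw [blockPerm, Perm.sign_sumCongr, map_one, mul_one, Perm.sign_prodCongrLeft]
  simp only [Fin.prod_univ_two]
  exact Int.units_mul_self _

theorem mkMat_top (σ : Perm (Fin k)) :
    mkMat (fun _ => (1 : OG W)) σ (1 : OG U) = (blockPerm (κ := κ) σ).permMatrix F := by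
  apply mat_ext_mulVec'
  intro x
  rw [mkMat_mulVec]
  have h2 : (blockPerm (κ := κ) σ).permMatrix F *ᵥ x = x ∘ (blockPerm (κ := κ) σ) := by
    rw [Equiv.Perm.permMatrix, PEquiv.toMatrix_toPEquiv_mulVec]
  rw [h2]
  apply vec_ext
  · intro i
    rw [pr_act, oM_one]
    rfl
  · rw [pU_act, oM_one]
    rfl

theorem det_top (σ : Perm (Fin k)) : (oM (topE (κ := κ) W U σ)).det = 1 := by
  show (mkMat (fun _ => (1 : OG W)) σ (1 : OG U)).det = 1
  rw [mkMat_top, Matrix.det_permutation, sign_blockPerm]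
  simp

theorem detG_top (σ : Perm (Fin k)) : detG (QQ (k := k) W U) (topE W U σ) = 1 := by
  apply Units.ext
  rw [coe_detG, det_top, Units.val_one]

theorem detG_base (g : Fin k → OG W) (u : OG U) :
    detG (QQ (k := k) W U) (mkEl g 1 u) = (∏ i, detG W (g i)) * detG U u := by
  apply Units.ext
  rw [coe_detG, det_base, Units.val_mul, Units.coe_prod]
  rfl

theorem detG_dE (i : Fin k) (a : OG W) : detG (QQ (k := k) W U) (dE i a) = detG W a := by
  rw [dE, detG_base, map_one, mul_one, Finset.prod_eq_single i]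
  · simp
  · intro j _ hj
    rw [Pi.mulSingle_eq_of_ne hj, map_one]
  · simp

theorem detG_eE (u : OG U) : detG (QQ (k := k) W U) (eE u) = detG U u := by
  rw [eE, detG_base]
  simp

theorem topE_dE (τ : Perm (Fin k)) (i : Fin k) (a : OG W) :
    topE W U τ * dE i a = dE (τ i) a * topE W U τ := by
  simp only [topE, dE, mkEl_mul, mul_one, one_mul]
  congr 1
  funext j
  by_cases h : j = i
  · subst h
    simp
  · rw [Pi.mulSingle_eq_of_ne h, Pi.mulSingle_eq_of_ne (fun e => h (τ.injective e))]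

end dets

end Cfsg.Agent.Lib.Perm.SlWr
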