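import Mathlib
import Cfsg.Agent.Lib.Perm.SlWrA

/-!
# Squares in the wreath product model of the Sylow subgroup of `SL`
-/

set_option autoImplicit false
set_option linter.unusedSimpArgs false
set_option linter.unusedVariables false
set_option linter.unusedSectionVars false

namespace Cfsg.Agent.Lib.Perm.SlWr

open Matrix Equiv Cfsg.Agent.Lib.Classical Cfsg.Agent.Lib.Perm.OmWr Cfsg.Agent.Lib.Misc19.SymSylow
open scoped commutatorElement

variable {F : Type*} [Field F] {k : ℕ} {κ : Type} [Fintype κ] [DecidableEq κ]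
  {W : QuadraticForm F (Fin 2 → F)} {U : QuadraticForm F (κ → F)}

/-- The main computation. -/
theorem main_claim (D : Subgroup (OG W)) (T : Subgroup (Perm (Fin k))) (E : Subgroup (OG U))
    (hT : GenP 2 T) (j₀ : Fin k)
    (hQ : ∀ a ∈ D ⊓ (detG W).ker, a * a ∈ ⁅D ⊓ (detG W).ker, D ⊓ (detG W).ker⁆)
    {s : OG W} (hs : s ∈ D) (hd : ∀ a ∈ D, ∃ t : ℕ, detG W a = (detG W s) ^ t)
    (htr : (∀ i j : Fin k, ∃ σ ∈ T, σ i = j) ∨ s * s = 1)
    (hu : (∀ u ∈ E, u = 1) ∨ (s * s = 1 ∧ ∀ u ∈ E, u * u = 1))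
    (x : OG (QQ (k := k) W U)) (hx : x ∈ PO D T E ⊓ (detG (QQ (k := k) W U)).ker) :
    x * x ∈ ⁅PO D T E ⊓ (detG (QQ (k := k) W U)).ker, PO D T E ⊓ (detG (QQ (k := k) W U)).ker⁆ := by
  classical
  set M := PO D T E ⊓ (detG (QQ (k := k) W U)).ker with hM
  set J := sqJ M with hJ
  set Q := D ⊓ (detG W).ker with hQdef
  have hJM : ∀ {z}, z ∈ J → z ∈ M := fun h => h.1
  -- the top group
  have hmemT : ∀ σ ∈ T, topE W U σ ∈ M := fun σ hσ => ⟨mem_PO_of_top hσ, by
    show detG _ _ = 1
    rw [detG_top]⟩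
  have htop1 : topE W U (1 : Perm (Fin k)) = 1 := mkEl_one
  have htop : ∀ z : ↥T, topE W U (z : Perm (Fin k)) ∈ J := by
    intro z
    have hz : z ∈ Subgroup.closure {y : ↥T | y ^ 2 = 1} := by
      rw [hT]
      trivial
    induction hz using Subgroup.closure_induction with
    | mem y hy =>
      apply sqJ_of_invol (hmemT _ y.2)
      rw [topE_mul]
      have h1 : (y : Perm (Fin k)) * y = 1 := by
        have := congrArg Subtype.val (show y ^ 2 = 1 from hy)
        rwa [pow_two] at this
      rw [h1, htop1]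
    | one =>
      show topE W U (1 : Perm (Fin k)) ∈ J
      rw [htop1]
      exact J.one_mem
    | mul a b _ _ ha hb =>
      show topE W U ((a : Perm (Fin k)) * (b : Perm (Fin k))) ∈ J
      rw [← topE_mul]
      exact J.mul_mem ha hb
    | inv a _ ha =>
      show topE W U ((a : Perm (Fin k))⁻¹) ∈ J
      have : topE W U ((a : Perm (Fin k))⁻¹) = (topE W U (a : Perm (Fin k)))⁻¹ := map_inv (topHom W U) _
      rw [this]
      exact J.inv_mem ha
  -- the special part of blocks
  have hQJ : ∀ (i : Fin k), ∀ a ∈ Q, dE (U := U) i a ∈ J := by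
    intro i a ha
    have hle : Q.map (dHom U i) ≤ M := by
      rintro _ ⟨b, hb, rfl⟩
      refine ⟨mem_PO_of_base hb.1, ?_⟩
      show detG _ (dE i b) = 1
      rw [detG_dE]
      exact hb.2
    refine ⟨hle ⟨a, ha, rfl⟩, ?_⟩
    have h1 : dE (U := U) i a * dE i a = dHom U i (a * a) := (dE_mul i a a)
    rw [h1]
    have h2 : dHom U i (a * a) ∈ ⁅Q, Q⁆.map (dHom U i) := ⟨_, hQ a ha, rfl⟩
    rw [Subgroup.map_commutator] at h2
    exact Subgroup.commutator_mono hle hle h2
  -- the differences
  let y : Fin k → Fin k → OG (QQ (k := k) W U) := fun i j => dE i s * (dE j s)⁻¹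
  have hyM : ∀ i j, y i j ∈ M := by
    intro i j
    refine ⟨(PO D T E).mul_mem (mem_PO_of_base hs) ((PO D T E).inv_mem (mem_PO_of_base hs)), ?_⟩
    show detG _ _ = 1
    rw [map_mul, map_inv, detG_dE, detG_dE, mul_inv_cancel]
  have hyself : ∀ i, y i i = 1 := fun i => mul_inv_cancel _
  have hcomm : ∀ i j, (dE (U := U) i s * dE j s : OG (QQ (k := k) W U)) = dE j s * dE i s := by
    intro i j
    by_cases h : i = j
    · rw [h]
    · exact dE_comm h _ _
  have hymul : ∀ i j l, y i j * y j l = y i l := by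
    intro i j l
    show dE i s * (dE j s)⁻¹ * (dE j s * (dE l s)⁻¹) = dE i s * (dE l s)⁻¹
    group
  have hyinv : ∀ i j, y j i = (y i j)⁻¹ := by
    intro i j
    show dE j s * (dE i s)⁻¹ = (dE i s * (dE j s)⁻¹)⁻¹
    group
  have hy : ∀ i j, y i j ∈ J := by
    rcases htr with htr | hs2
    · -- the transitive case
      have hinvol : ∀ τ ∈ T, τ * τ = 1 → ∀ i, y i (τ i) ∈ J := by
        intro τ hτ h2 i
        have e1 : τ (τ i) = i := by
          have := congrArg (fun f : Perm (Fin k) => f i) h2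
          simpa using this
        refine sqJ_of_conj_inv (hyM _ _) (hmemT τ hτ) ?_
        have ht2 : ∀ l, topE W U τ * dE (U := U) l s * (topE W U τ)⁻¹ = dE (τ l) s := by
          intro l
          rw [topE_dE]
          group
        have ht3 : ∀ l, topE W U τ * (dE (U := U) l s)⁻¹ * (topE W U τ)⁻¹ = (dE (τ l) s)⁻¹ := by
          intro l
          rw [← ht2 l]
          group
        have e2 : topE W U τ * y i (τ i) * (topE W U τ)⁻¹ =
            (topE W U τ * dE (U := U) i s * (topE W U τ)⁻¹) * (topE W U τ * (dE (U := U) (τ i) s)⁻¹ * (topE W U τ)⁻¹) := by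
          show topE W U τ * (dE i s * (dE (τ i) s)⁻¹) * (topE W U τ)⁻¹ = _
          group
        rw [e2, ht2, ht3, e1, ← hyinv]
      have hall : ∀ z : ↥T, ∀ i, y i ((z : Perm (Fin k)) i) ∈ J := by
        intro z
        have hz : z ∈ Subgroup.closure {y : ↥T | y ^ 2 = 1} := by
          rw [hT]
          trivial
        induction hz using Subgroup.closure_induction with
        | mem t ht =>
          intro i
          apply hinvol _ t.2
          have := congrArg Subtype.val (show t ^ 2 = 1 from ht)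
          rwa [pow_two] at this
        | one =>
          intro i
          show y i i ∈ J
          rw [hyself]
          exact J.one_mem
        | mul a b _ _ ha hb =>
          intro i
          show y i ((a : Perm (Fin k)) ((b : Perm (Fin k)) i)) ∈ J
          rw [← hymul i ((b : Perm (Fin k)) i)]
          exact J.mul_mem (hb i) (ha _)
        | inv a _ ha =>
          intro i
          have e : y i (((a : Perm (Fin k))⁻¹) i) = (y (((a : Perm (Fin k))⁻¹) i) i)⁻¹ := hyinv _ _
          have h1 := ha (((a : Perm (Fin k))⁻¹) i)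
          have e3 : (a : Perm (Fin k)) (((a : Perm (Fin k))⁻¹) i) = i := by simp
          rw [e3] at h1
          show y i (((a : Perm (Fin k))⁻¹) i) ∈ J
          rw [e]
          exact J.inv_mem h1
      intro i j
      obtain ⟨σ, hσ, rfl⟩ := htr i j
      exact hall ⟨σ, hσ⟩ i
    · intro i j
      apply sqJ_of_invol (hyM i j)
      have h1 : dE (U := U) i s * dE i s = 1 := by
        rw [dE_mul, hs2, dE_one]
      have h3 : dE (U := U) j s * dE j s = 1 := by
        rw [dE_mul, hs2, dE_one]
      have h4 : (dE (U := U) j s)⁻¹ = dE j s := inv_eq_of_mul_eq_one_left h3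
      show dE i s * (dE j s)⁻¹ * (dE i s * (dE j s)⁻¹) = 1
      rw [h4]
      calc dE (U := U) i s * dE j s * (dE i s * dE j s) = dE i s * (dE j s * dE i s) * dE j s := by group
        _ = dE i s * (dE i s * dE j s) * dE j s := by rw [← hcomm i j]
        _ = (dE i s * dE i s) * (dE j s * dE j s) := by group
        _ = 1 := by rw [h1, h3, one_mul]
  -- integer exponents
  let Θ : (Fin k → ℤ) → OG (QQ (k := k) W U) := fun f => bHom U (fun j => s ^ f j)
  have hΘadd : ∀ f g, Θ (f + g) = Θ f * Θ g := by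
    intro f g
    show bHom U _ = bHom U _ * bHom U _
    rw [← map_mul]
    congr 1
    funext j
    exact _root_.zpow_add s (f j) (g j)
  have hΘ0 : Θ 0 = 1 := by
    show bHom U _ = 1
    rw [← map_one (bHom U)]
    congr 1
  have hΘneg : ∀ f, Θ (-f) = (Θ f)⁻¹ := by
    intro f
    apply eq_inv_of_mul_eq_one_left
    rw [← hΘadd, neg_add_cancel, hΘ0]
  let K : AddSubgroup (Fin k → ℤ) :=
    { carrier := {f | Θ f ∈ J}
      add_mem' := by
        intro a b ha hb
        show Θ (a + b) ∈ J
        rw [hΘadd]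
        exact J.mul_mem ha hb
      zero_mem' := by
        show Θ 0 ∈ J
        rw [hΘ0]
        exact J.one_mem
      neg_mem' := by
        intro a ha
        show Θ (-a) ∈ J
        rw [hΘneg]
        exact J.inv_mem ha }
  have hbasic : ∀ i, (Pi.single i 1 - Pi.single j₀ 1 : Fin k → ℤ) ∈ K := by
    intro i
    show Θ _ ∈ J
    have e : Θ (Pi.single i 1 - Pi.single j₀ 1) = y i j₀ := by
      show bHom U _ = dE i s * (dE j₀ s)⁻¹
      have : dE (U := U) i s * (dE j₀ s)⁻¹ = bHom U (Pi.mulSingle i s * (Pi.mulSingle j₀ s)⁻¹) := by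
        rw [map_mul, map_inv]
        rfl
      rw [this]
      congr 1
      funext j
      simp only [Pi.sub_apply, Pi.mul_apply, Pi.inv_apply]
      by_cases h1 : j = i <;> by_cases h2 : j = j₀
      · subst h1
        subst h2
        simp
      · subst h1
        simp [Pi.single_eq_of_ne h2, Pi.mulSingle_eq_of_ne h2]
      · subst h2
        simp [Pi.single_eq_of_ne h1, Pi.mulSingle_eq_of_ne h1]
      · simp [Pi.single_eq_of_ne h1, Pi.single_eq_of_ne h2, Pi.mulSingle_eq_of_ne h1, Pi.mulSingle_eq_of_ne h2]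
    rw [e]
    exact hy i j₀
  have hzero : ∀ f : Fin k → ℤ, ∑ j, f j = 0 → Θ f ∈ J := by
    intro f hf
    have e : f = ∑ i, f i • (Pi.single i 1 - Pi.single j₀ 1 : Fin k → ℤ) := by
      funext c
      simp only [Finset.sum_apply, Pi.smul_apply, Pi.sub_apply, smul_eq_mul, mul_sub, Finset.sum_sub_distrib]
      have h1 : ∑ i, f i * (Pi.single i 1 : Fin k → ℤ) c = f c := by
        rw [Finset.sum_eq_single c]
        · simp
        · intro b _ hb
          simp [Pi.single_eq_of_ne hb.symm]
        · simp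
      have h2 : ∑ i, f i * (Pi.single j₀ 1 : Fin k → ℤ) c = 0 := by
        rw [← Finset.sum_mul, hf, zero_mul]
      rw [h1, h2, sub_zero]
    have : f ∈ K := by
      rw [e]
      exact K.sum_mem (fun i _ => K.zsmul_mem (hbasic i) _)
    exact this
  -- the decomposition of `x`
  obtain ⟨hxP, hxd⟩ := hx
  obtain ⟨g, σ, u, hg, hσ, hu', rfl⟩ := hxP
  have htj : ∀ j, ∃ t : ℕ, detG W (g j) = (detG W s) ^ t := fun j => hd _ (hg j)
  choose t ht using htj
  let a : Fin k → OG W := fun j => g j * (s ^ t j)⁻¹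
  have haQ : ∀ j, a j ∈ Q := by
    intro j
    refine ⟨D.mul_mem (hg j) (D.inv_mem (D.pow_mem hs _)), ?_⟩
    show detG _ _ = 1
    rw [map_mul, map_inv, map_pow, ht, mul_inv_cancel]
  have hbase : ∀ b : Fin k → OG W, (∀ j, b j ∈ Q) → bHom U b ∈ J := by
    intro b hb
    have hle : Subgroup.pi Set.univ (fun _ : Fin k => Q) ≤ J.comap (bHom U) := by
      rw [Subgroup.pi_le_iff]
      intro i
      rintro _ ⟨c, hc, rfl⟩
      exact hQJ i c hc
    exact hle (fun j _ => hb j)
  let N : ℕ := ∑ j, t j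
  let t' : Fin k → ℤ := fun j => (t j : ℤ) - (Pi.single j₀ (N : ℤ) : Fin k → ℤ) j
  have ht'sum : ∑ j, t' j = 0 := by
    simp only [t', Finset.sum_sub_distrib]
    rw [Finset.sum_eq_single j₀ (f := fun j => (Pi.single j₀ (N : ℤ) : Fin k → ℤ) j)]
    · simp [N]
    · intro b _ hb
      simp [Pi.single_eq_of_ne hb]
    · simp
  have hdec : mkEl g σ u = topE W U σ * (bHom U a * (Θ t' * (dE j₀ (s ^ N) * eE u))) := by
    rw [mkEl_decomp]
    have e1 : dE (U := U) j₀ (s ^ N) = Θ (Pi.single j₀ (N : ℤ)) := by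
      show bHom U _ = bHom U _
      congr 1
      funext j
      by_cases h : j = j₀
      · subst h
        simp
      · simp [Pi.single_eq_of_ne h, Pi.mulSingle_eq_of_ne h]
    have e2 : bHom U g = bHom U a * (Θ t' * Θ (Pi.single j₀ (N : ℤ))) := by
      rw [← hΘadd]
      show bHom U g = bHom U a * bHom U _
      rw [← map_mul]
      congr 1
      funext j
      simp only [Pi.mul_apply, Pi.add_apply, t', sub_add_cancel, a, zpow_natCast]
      group
    rw [e1, e2]
    group
  have hJx1 : topE W U σ * (bHom U a * Θ t') ∈ J :=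
    J.mul_mem (htop ⟨σ, hσ⟩) (J.mul_mem (hbase a haQ) (hzero t' ht'sum))
  set z := dE (U := U) j₀ (s ^ N) * eE u with hz
  have hdec2 : mkEl g σ u = (topE W U σ * (bHom U a * Θ t')) * z := by
    rw [hdec]
    group
  have hxM : mkEl g σ u ∈ M := by
    refine ⟨⟨g, σ, u, hg, hσ, hu', rfl⟩, hxd⟩
  have hzM : z ∈ M := by
    have e : z = (topE W U σ * (bHom U a * Θ t'))⁻¹ * mkEl g σ u := by
      rw [hdec2]
      group
    rw [e]
    exact M.mul_mem (M.inv_mem (hJM hJx1)) hxM
  have hzJ : z ∈ J := by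
    rcases hu with hu | ⟨hs2, hu⟩
    · have hu1 : u = 1 := hu u hu'
      have hz1 : z = dE j₀ (s ^ N) := by
        rw [hz, hu1]
        have : eE (k := k) (W := W) (1 : OG U) = 1 := mkEl_one
        rw [this, mul_one]
      rw [hz1]
      apply hQJ
      refine ⟨D.pow_mem hs _, ?_⟩
      have h1 : detG _ z = 1 := hzM.2
      rw [hz1, detG_dE] at h1
      exact h1
    · apply sqJ_of_invol hzM
      have h1 : s ^ N * s ^ N = 1 := by
        rw [← pow_add, ← two_mul, pow_mul, pow_two, hs2, one_pow]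
      have h2 : eE (k := k) (W := W) u * eE u = 1 := by
        have : eE (k := k) (W := W) u * eE u = eHom (k := k) W (u * u) := (map_mul (eHom (k := k) W) u u).symm
        rw [this, hu u hu', map_one]
      have h3 : dE (U := U) j₀ (s ^ N) * dE j₀ (s ^ N) = 1 := by
        rw [dE_mul, h1, dE_one]
      calc z * z = dE j₀ (s ^ N) * (eE u * dE j₀ (s ^ N)) * eE u := by
            rw [hz]
            group
        _ = dE j₀ (s ^ N) * (dE j₀ (s ^ N) * eE u) * eE u := by
            rw [dE_eE_comm]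
        _ = (dE j₀ (s ^ N) * dE j₀ (s ^ N)) * (eE u * eE u) := by group
        _ = 1 := by rw [h3, h2, one_mul]
  have hfinal : mkEl g σ u ∈ J := by
    rw [hdec2]
    exact J.mul_mem hJx1 hzJ
  exact hfinal.2

end Cfsg.Agent.Lib.Perm.SlWr
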