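import Mathlib
import Cfsg.Agent.Lib.Perm.SlWrB
import Cfsg.Agent.Lib.Perm.OmWrF
import Cfsg.Agent.Lib.Perm.SpWrB

/-!
# Sylow 2-subgroups of special linear groups: squares lie in the derived subgroup
-/

set_option autoImplicit false
set_option linter.unusedSimpArgs false
set_option linter.unusedVariables false
set_option linter.unusedSectionVars false

namespace Cfsg.Agent.Lib.Perm.SlWr

open Matrix Equiv Cfsg.Agent.Lib.Classical Cfsg.Agent.Lib.Perm.OmWr Cfsg.Agent.Lib.Misc19.SymSylow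
open scoped commutatorElement

section arith

variable {q : ℕ}

/-- The 2-part of the order of `GL_n(q)`. -/
def VV (q n : ℕ) : ℕ := ∑ j ∈ Finset.range n, padicValNat 2 (q ^ (j + 1) - 1)

theorem val_gl (hq : Odd q) (hq3 : 3 ≤ q) (n : ℕ) :
    (∏ i : Fin n, (q ^ n - q ^ (i : ℕ))).factorization 2 = VV q n := by
  haveI : Fact (Nat.Prime 2) := ⟨Nat.prime_two⟩
  have hlt : ∀ i : Fin n, q ^ (i : ℕ) < q ^ n := fun i => Nat.pow_lt_pow_right (by omega) i.2
  have hne : ∀ i : Fin n, q ^ n - q ^ (i : ℕ) ≠ 0 := fun i => by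
    have := hlt i
    omega
  rw [Nat.factorization_prod (fun i _ => hne i), Finsupp.coe_finset_sum, Finset.sum_apply]
  have h1 : ∀ i : Fin n, (q ^ n - q ^ (i : ℕ)).factorization 2 = padicValNat 2 (q ^ (n - 1 - (i : ℕ) + 1) - 1) := by
    intro i
    have hi := i.2
    have e1 : q ^ n - q ^ (i : ℕ) = q ^ (i : ℕ) * (q ^ (n - 1 - (i : ℕ) + 1) - 1) := by
      rw [Nat.mul_sub, mul_one, ← pow_add]
      congr 2
      omega
    have h3 : q ^ (n - 1 - (i : ℕ) + 1) - 1 ≠ 0 := by
      have := Nat.one_lt_pow (n := n - 1 - (i : ℕ) + 1) (by omega) (by omega : 1 < q)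
      omega
    rw [Nat.factorization_def _ Nat.prime_two, e1, padicValNat.mul (pow_ne_zero _ (by omega)) h3, val_qpow hq, zero_add]
  simp only [h1]
  rw [Fin.sum_univ_eq_sum_range (fun i => padicValNat 2 (q ^ (n - 1 - i + 1) - 1)) n, VV,
    ← Finset.sum_range_reflect]
  apply Finset.sum_congr rfl
  intro j hj
  have h2 := Finset.mem_range.1 hj
  have e : n - 1 - (n - 1 - j) = j := by omega
  rw [e]

theorem VV_even (hq : Odd q) (hq3 : 3 ≤ q) (k : ℕ) :
    VV q (2 * k) = k * VV q 2 + padicValNat 2 k.factorial := by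
  have hV2 : VV q 2 = padicValNat 2 (q - 1) + padicValNat 2 (q ^ 2 - 1) := by
    simp [VV, Finset.sum_range_succ]
  induction k with
  | zero => simp [VV]
  | succ k ih =>
    have e : 2 * (k + 1) = 2 * k + 1 + 1 := by ring
    have e1 : VV q (2 * (k + 1)) = VV q (2 * k) + padicValNat 2 (q ^ (2 * k + 1) - 1) + padicValNat 2 (q ^ (2 * k + 1 + 1) - 1) := by
      rw [e, VV, Finset.sum_range_succ, Finset.sum_range_succ]
      rfl
    have h1 := val_pow_odd_sub hq hq3 (m := 2 * k + 1) ⟨k, rfl⟩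
    have h2 := val_pow_even_sub hq hq3 (m := 2 * k + 1 + 1) (by omega) ⟨k + 1, by ring⟩
    have h3 : padicValNat 2 (2 * k + 1 + 1) = 1 + padicValNat 2 (k + 1) := by
      rw [← e]
      exact val_two_mul (by omega)
    have h4 := val_factorial_succ (k + 1) (by omega)
    simp only [Nat.add_sub_cancel] at h4
    rw [e1, ih, h1, h4, hV2]
    rw [hV2] at *
    rw [add_mul, one_mul]
    omega

theorem VV_odd (hq : Odd q) (hq3 : 3 ≤ q) (k : ℕ) :
    VV q (2 * k + 1) = k * VV q 2 + padicValNat 2 k.factorial + VV q 1 := by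
  have h1 := val_pow_odd_sub hq hq3 (m := 2 * k + 1) ⟨k, rfl⟩
  have e1 : VV q (2 * k + 1) = VV q (2 * k) + padicValNat 2 (q ^ (2 * k + 1) - 1) := by
    rw [VV, Finset.sum_range_succ]
    rfl
  rw [e1, VV_even hq hq3, h1]
  simp [VV]

end arith

section forms

variable {F : Type*} [Field F]

theorem iso_top {ι : Type} [Fintype ι] [DecidableEq ι] (Q : QuadraticForm F (ι → F)) (hQ : ∀ v, Q v = 0) :
    Cfsg.isometryGroup F ⇑Q = ⊤ := by
  rw [eq_top_iff]
  intro g _ u v
  show Q _ = Q _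
  rw [hQ, hQ]

theorem card_OG_zero {ι : Type} [Fintype ι] [DecidableEq ι] (Q : QuadraticForm F (ι → F)) (hQ : ∀ v, Q v = 0) :
    Nat.card (OG Q) = Nat.card (GeneralLinearGroup ι F) := by
  show Nat.card ↥(Cfsg.isometryGroup F ⇑Q) = _
  rw [iso_top Q hQ, Subgroup.card_top]

theorem card_GL_reindex {ι κ' : Type} [Fintype ι] [DecidableEq ι] [Fintype κ'] [DecidableEq κ'] (e : ι ≃ κ') :
    Nat.card (GeneralLinearGroup ι F) = Nat.card (GeneralLinearGroup κ' F) :=
  Nat.card_congr (Units.mapEquiv (Matrix.reindexAlgEquiv F F e).toRingEquiv.toMulEquiv).toEquiv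

/-- The special linear group is the kernel of the determinant on the isometry group of the zero form. -/
noncomputable def slIso {ι : Type} [Fintype ι] [DecidableEq ι] (Q : QuadraticForm F (ι → F)) (hQ : ∀ v, Q v = 0) :
    SpecialLinearGroup ι F ≃* (detG Q).ker where
  toFun A := ⟨⟨SpecialLinearGroup.toGL A, by
    intro u v
    show Q _ = Q _
    rw [hQ, hQ]⟩, by
    show detG Q _ = 1
    apply Units.ext
    rw [coe_detG]
    exact A.2⟩
  invFun g := ⟨oM g.1, by
    have h : detG Q g.1 = 1 := g.2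
    have := congrArg Units.val h
    rwa [coe_detG] at this⟩
  left_inv A := by
    apply Subtype.ext
    rfl
  right_inv g := by
    apply Subtype.ext
    apply Subtype.ext
    apply Units.ext
    rfl
  map_mul' A B := by
    apply Subtype.ext
    apply Subtype.ext
    apply Units.ext
    rfl

/-- Reindexing special linear groups. -/
noncomputable def slReindex {ι ι' : Type} [Fintype ι] [DecidableEq ι] [Fintype ι'] [DecidableEq ι'] (e : ι ≃ ι') :
    SpecialLinearGroup ι F ≃* SpecialLinearGroup ι' F where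
  toFun A := ⟨(A : Matrix ι ι F).submatrix e.symm e.symm, by
    rw [det_submatrix_equiv_self]
    exact A.2⟩
  invFun A := ⟨(A : Matrix ι' ι' F).submatrix e e, by
    rw [det_submatrix_equiv_self]
    exact A.2⟩
  left_inv A := by
    apply Subtype.ext
    ext i j
    simp
  right_inv A := by
    apply Subtype.ext
    ext i j
    simp
  map_mul' A B := by
    apply Subtype.ext
    show ((A : Matrix ι ι F) * (B : Matrix ι ι F)).submatrix e.symm e.symm = ((A : Matrix ι ι F).submatrix e.symm e.symm) * ((B : Matrix ι ι F).submatrix e.symm e.symm)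
    rw [submatrix_mul_equiv]

/-- The embedding of `GL` into the isometry group of the zero form. -/
noncomputable def toOG {ι : Type} [Fintype ι] [DecidableEq ι] (Q : QuadraticForm F (ι → F)) (hQ : ∀ v, Q v = 0) :
    GeneralLinearGroup ι F →* OG Q :=
  (MonoidHom.id _).codRestrict _ (fun g => by
    intro u v
    show Q _ = Q _
    rw [hQ, hQ])

theorem detG_toOG {ι : Type} [Fintype ι] [DecidableEq ι] (Q : QuadraticForm F (ι → F)) (hQ : ∀ v, Q v = 0)
    (g : GeneralLinearGroup ι F) : detG Q (toOG Q hQ g) = GeneralLinearGroup.det g := rfl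

/-- Diagonal matrices. -/
noncomputable def diagHom (F : Type*) [Field F] : Fˣ →* GeneralLinearGroup (Fin 2) F where
  toFun a := ⟨diagonal ![(a : F), 1], diagonal ![((a⁻¹ : Fˣ) : F), 1], by
      rw [diagonal_mul_diagonal, ← diagonal_one]
      congr 1
      funext i
      fin_cases i <;> simp, by
      rw [diagonal_mul_diagonal, ← diagonal_one]
      congr 1
      funext i
      fin_cases i <;> simp⟩
  map_one' := by
    apply Units.ext
    show diagonal ![((1 : Fˣ) : F), 1] = 1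
    rw [← diagonal_one]
    congr 1
    funext i
    fin_cases i <;> simp
  map_mul' a b := by
    apply Units.ext
    show diagonal ![((a * b : Fˣ) : F), 1] = diagonal ![(a : F), 1] * diagonal ![(b : F), 1]
    rw [diagonal_mul_diagonal]
    congr 1
    funext i
    fin_cases i <;> simp

theorem det_diagHom (a : Fˣ) : GeneralLinearGroup.det (diagHom F a) = a := by
  apply Units.ext
  show (diagonal ![(a : F), 1]).det = a
  rw [det_diagonal]
  simp

end forms

section two

variable {F : Type*} [Field F] [Fintype F]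

/-- A generator of the 2-part of the multiplicative group. -/
theorem exists_two_gen (hF : Odd (Fintype.card F)) : ∃ (ζ : Fˣ) (e : ℕ), ζ ^ (2 ^ e) = 1 ∧
    (∀ (x : Fˣ) (b : ℕ), x ^ (2 ^ b) = 1 → ∃ t : ℕ, x = ζ ^ t) ∧ (Fintype.card F % 4 = 3 → ζ * ζ = 1) := by
  classical
  obtain ⟨g, hg⟩ := IsCyclic.exists_generator (α := Fˣ)
  set q := Fintype.card F with hq
  have hcard : Nat.card Fˣ = q - 1 := by
    rw [Nat.card_eq_fintype_card, Fintype.card_units]
  have hq3 : 3 ≤ q := by
    have h1 := Fintype.one_lt_card (α := F)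
    obtain ⟨k, hk⟩ := hF
    omega
  have hne : q - 1 ≠ 0 := by omega
  set e := (q - 1).factorization 2 with he
  set o := ordCompl[2] (q - 1) with ho
  have hmul : 2 ^ e * o = q - 1 := Nat.ordProj_mul_ordCompl_eq_self _ _
  have hodd : Nat.Coprime o (2 ^ e) := by
    apply Nat.Coprime.pow_right
    rw [Nat.coprime_comm, Nat.Prime.coprime_iff_not_dvd Nat.prime_two]
    exact Nat.not_dvd_ordCompl Nat.prime_two hne
  have hord : orderOf g = q - 1 := by
    rw [orderOf_eq_card_of_forall_mem_zpowers hg, hcard]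
  refine ⟨g ^ o, e, ?_, ?_, ?_⟩
  · rw [← pow_mul, mul_comm, hmul, ← hord, pow_orderOf_eq_one]
  · intro x b hx
    have hx' : x ∈ Submonoid.powers g := (mem_powers_iff_mem_zpowers).2 (hg x)
    obtain ⟨i, rfl⟩ := hx'
    have h1 : orderOf g ∣ i * 2 ^ b := by
      apply orderOf_dvd_of_pow_eq_one
      rw [pow_mul]
      exact hx
    rw [hord, ← hmul] at h1
    have h2 : o ∣ i * 2 ^ b := dvd_trans (Dvd.intro_left _ rfl) h1
    have hodd2 : Nat.Coprime o (2 ^ b) := by
      apply Nat.Coprime.pow_right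
      rw [Nat.coprime_comm, Nat.Prime.coprime_iff_not_dvd Nat.prime_two]
      exact Nat.not_dvd_ordCompl Nat.prime_two hne
    obtain ⟨c, rfl⟩ := hodd2.dvd_of_dvd_mul_right h2
    exact ⟨c, pow_mul g o c⟩
  · intro h3
    have h4 : padicValNat 2 (q - 1) = 1 := val_q1_of_mod3 h3
    have h5 : e = 1 := by
      rw [he, Nat.factorization_def _ Nat.prime_two, h4]
    rw [h5] at hmul
    rw [← pow_add]
    have : o + o = q - 1 := by
      rw [← hmul]
      ring
    rw [this, ← hord, pow_orderOf_eq_one]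

end two

section trans

open Fin.NatCast Fin.CommRing in
/-- A Sylow 2-subgroup of `S_{2^j}` is transitive. -/
theorem sylow_trans (j : ℕ) (T : Subgroup (Perm (Fin (2 ^ j))))
    (hT : Nat.card T = 2 ^ padicValNat 2 (2 ^ j).factorial) (a b : Fin (2 ^ j)) : ∃ σ ∈ T, σ a = b := by
  classical
  haveI hp : Fact (Nat.Prime 2) := ⟨Nat.prime_two⟩
  haveI : NeZero (2 ^ j) := ⟨by positivity⟩
  let c : Perm (Fin (2 ^ j)) := Equiv.addRight 1
  have hpow : ∀ (i : ℕ) (x : Fin (2 ^ j)), (c ^ i) x = x + (i : Fin (2 ^ j)) := by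
    intro i
    induction i with
    | zero => intro x; simp
    | succ i ih =>
      intro x
      rw [pow_succ', Perm.mul_apply, ih, Nat.cast_succ]
      show x + (i : Fin (2 ^ j)) + 1 = _
      rw [add_assoc]
  have hc1 : c ^ (2 ^ j) = 1 := by
    refine Equiv.ext fun x => ?_
    rw [hpow]
    simp
  have hcT : Nat.card T = 2 ^ (Nat.card (Perm (Fin (2 ^ j)))).factorization 2 := by
    rw [hT, Nat.card_eq_fintype_card, Fintype.card_perm, Fintype.card_fin, Nat.factorization_def _ Nat.prime_two]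
  let P₀ : Sylow 2 (Perm (Fin (2 ^ j))) := Sylow.ofCard T hcT
  have hpr : IsPGroup 2 (Subgroup.zpowers c) := by
    rintro ⟨_, m, rfl⟩
    refine ⟨j, ?_⟩
    apply Subtype.ext
    show (c ^ m) ^ (2 ^ j) = 1
    rw [← zpow_natCast, ← _root_.zpow_mul, mul_comm, _root_.zpow_mul, zpow_natCast, hc1, _root_.one_zpow]
  obtain ⟨S, hS⟩ := hpr.exists_le_sylow
  obtain ⟨g, hg⟩ := MulAction.exists_smul_eq (Perm (Fin (2 ^ j))) S P₀
  have hcS : c ∈ (S : Subgroup (Perm (Fin (2 ^ j)))) := hS (Subgroup.mem_zpowers _)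
  have hconj : g * c * g⁻¹ ∈ T := by
    have : (P₀ : Subgroup (Perm (Fin (2 ^ j)))) = T := rfl
    rw [← this, ← hg, Sylow.coe_subgroup_smul, Subgroup.mem_smul_pointwise_iff_exists]
    exact ⟨_, hcS, rfl⟩
  let i : ℕ := (g⁻¹ b - g⁻¹ a : Fin (2 ^ j)).val
  refine ⟨(g * c * g⁻¹) ^ i, T.pow_mem hconj _, ?_⟩
  rw [conj_pow, Perm.mul_apply, Perm.mul_apply, hpow]
  have : ((i : ℕ) : Fin (2 ^ j)) = g⁻¹ b - g⁻¹ a := Fin.cast_val_eq_self _
  rw [this]
  simp

end trans

section final

variable {F : Type*} [Field F] [Fintype F]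

theorem sl2_sq (hF : Odd (Fintype.card F)) (D : Sylow 2 (OG (0 : QuadraticForm F (Fin 2 → F)))) :
    ∀ a ∈ (D : Subgroup (OG (0 : QuadraticForm F (Fin 2 → F)))) ⊓ (detG (0 : QuadraticForm F (Fin 2 → F))).ker,
      a * a ∈ ⁅(D : Subgroup (OG (0 : QuadraticForm F (Fin 2 → F)))) ⊓ (detG (0 : QuadraticForm F (Fin 2 → F))).ker,
        (D : Subgroup (OG (0 : QuadraticForm F (Fin 2 → F)))) ⊓ (detG (0 : QuadraticForm F (Fin 2 → F))).ker⁆ := by
  classical
  haveI : Fact (Nat.Prime 2) := ⟨Nat.prime_two⟩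
  obtain ⟨Q, A, y, w, a, Dq, hval⟩ := Cfsg.Agent.Lib.Perm.SpWr.exists_QData hF
  have hcard : Nat.card Q = 2 ^ (Nat.card (SpecialLinearGroup (Fin 2) F)).factorization 2 := by
    have hq3 : 3 ≤ Fintype.card F := by
      have h1 := Fintype.one_lt_card (α := F)
      obtain ⟨k, hk⟩ := hF
      omega
    have h1 : Nat.card (SpecialLinearGroup (Fin 2) F) = Fintype.card F * (Fintype.card F ^ 2 - 1) := Cfsg.Agent.Lib.Known.card_sl2
    have h2 : Fintype.card F ^ 2 - 1 ≠ 0 := by
      have := Nat.one_lt_pow (n := 2) (by omega) (by omega : 1 < Fintype.card F)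
      omega
    rw [Dq.hcard, h1, Nat.factorization_def _ Nat.prime_two,
      padicValNat.mul (by omega) h2, hval]
    have h3 : padicValNat 2 (Fintype.card F) = 0 := by
      have := val_qpow (q := Fintype.card F) hF 1
      simpa using this
    rw [h3, zero_add, pow_succ']
  have hP' : ∀ y : ↥Q, y ^ 2 ∈ commutator ↥Q := by
    intro y
    have h1 := Dq.sq_mem y.2
    rw [← Subgroup.map_subtype_commutator] at h1
    obtain ⟨z, hz, hzy⟩ := h1
    have : z = y ^ 2 := by
      apply Subtype.ext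
      rw [pow_two]
      exact hzy
    rwa [← this]
  obtain ⟨S, hS⟩ := Cfsg.Agent.Lib.Basic.exists_sylow_subgroupOf D (detG (0 : QuadraticForm F (Fin 2 → F))).ker
  have h1 := sq_sylow_transfer (slIso (0 : QuadraticForm F (Fin 2 → F)) (fun _ => rfl)).symm (Sylow.ofCard Q hcard) hP' S
  rw [hS] at h1
  exact (sq_inf_iff _ _).1 h1

theorem u_hyp {c : ℕ} (hc : c = 0 ∨ c = 1) (hc3 : c = 1 → Fintype.card F % 4 = 3) (ζ : Fˣ)
    (hζall : ∀ (x : Fˣ) (b : ℕ), x ^ (2 ^ b) = 1 → ∃ t : ℕ, x = ζ ^ t) (hζ3 : Fintype.card F % 4 = 3 → ζ * ζ = 1)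
    (U : QuadraticForm F (Fin c → F)) (E : Subgroup (OG U)) (hE : IsPGroup 2 E)
    {W : QuadraticForm F (Fin 2 → F)} (s : OG W) (hs2 : Fintype.card F % 4 = 3 → s * s = 1) :
    (∀ u ∈ E, u = 1) ∨ (s * s = 1 ∧ ∀ u ∈ E, u * u = 1) := by
  rcases hc with rfl | rfl
  · left
    intro u _
    apply Subtype.ext
    apply Units.ext
    exact Subsingleton.elim _ _
  · right
    have h3 := hc3 rfl
    refine ⟨hs2 h3, ?_⟩
    intro u hu
    obtain ⟨b, hb⟩ := hE ⟨u, hu⟩
    have hb' : u ^ (2 ^ b) = 1 := congrArg Subtype.val hb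
    have h4 : (detG U u) ^ (2 ^ b) = 1 := by
      rw [← map_pow, hb', map_one]
    obtain ⟨t, ht⟩ := hζall _ b h4
    have h5 : detG U (u * u) = 1 := by
      rw [map_mul, ht, ← mul_pow, hζ3 h3, one_pow]
    apply Subtype.ext
    apply Units.ext
    have h6 := congrArg Units.val h5
    rw [coe_detG, det_fin_one] at h6
    ext i j
    rw [Subsingleton.elim i 0, Subsingleton.elim j 0]
    have h7 : oM (u * u) 0 0 = 1 := by simpa using h6
    show oM (u * u) 0 0 = (1 : Matrix (Fin 1) (Fin 1) F) 0 0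
    rw [h7, one_apply_eq]

theorem final_sl (hF : Odd (Fintype.card F)) (n k c : ℕ) (hn : n = 2 * k + c) (hk : 1 ≤ k) (hc : c = 0 ∨ c = 1)
    (hc3 : c = 1 → Fintype.card F % 4 = 3) (htr : Fintype.card F % 4 = 3 ∨ ∃ j, k = 2 ^ j)
    (P : Sylow 2 (SpecialLinearGroup (Fin n) F)) :
    ∀ x : ↥(P : Subgroup (SpecialLinearGroup (Fin n) F)), x ^ 2 ∈ commutator ↥(P : Subgroup (SpecialLinearGroup (Fin n) F)) := by
  classical
  haveI : Fact (Nat.Prime 2) := ⟨Nat.prime_two⟩
  have hq3 : 3 ≤ Fintype.card F := by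
    have h1 := Fintype.one_lt_card (α := F)
    obtain ⟨k, hk⟩ := hF
    omega
  let W : QuadraticForm F (Fin 2 → F) := 0
  let U : QuadraticForm F (Fin c → F) := 0
  have hW0 : ∀ v, W v = 0 := fun _ => rfl
  have hU0 : ∀ v, U v = 0 := fun _ => rfl
  have hQ0 : ∀ v, QQ (k := k) W U v = 0 := by
    intro v
    rw [QQ_apply]
    simp [hW0, hU0]
  obtain ⟨ζ, e, hζ, hζall, hζ3⟩ := exists_two_gen hF
  let s : OG W := toOG W hW0 (diagHom F ζ)
  have hsd : detG W s = ζ := by
    rw [detG_toOG, det_diagHom]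
  have hs2e : s ^ (2 ^ e) = 1 := by
    show (toOG W hW0 (diagHom F ζ)) ^ (2 ^ e) = 1
    rw [← map_pow, ← map_pow, hζ, map_one, map_one]
  have hs2 : Fintype.card F % 4 = 3 → s * s = 1 := by
    intro h
    show toOG W hW0 (diagHom F ζ) * toOG W hW0 (diagHom F ζ) = 1
    rw [← map_mul, ← map_mul, hζ3 h, map_one, map_one]
  have hpr : IsPGroup 2 (Subgroup.zpowers s) := by
    rintro ⟨_, m, rfl⟩
    refine ⟨e, ?_⟩
    apply Subtype.ext
    show (s ^ m) ^ (2 ^ e) = 1
    rw [← zpow_natCast, ← _root_.zpow_mul, mul_comm, _root_.zpow_mul, zpow_natCast, hs2e, _root_.one_zpow]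
  obtain ⟨D, hD⟩ := hpr.exists_le_sylow
  have hs : s ∈ (D : Subgroup (OG W)) := hD (Subgroup.mem_zpowers _)
  obtain ⟨T, hTc, hTg⟩ := exists_genP_sym 2 k
  let E : Sylow 2 (OG U) := default
  have hval : ∀ m : ℕ, (Nat.card (GeneralLinearGroup (Fin m) F)).factorization 2 = VV (Fintype.card F) m := by
    intro m
    rw [Matrix.card_GL_field]
    exact val_gl hF hq3 m
  have hcardII : Fintype.card (II k (Fin c)) = n := by
    rw [Fintype.card_sum, Fintype.card_prod, Fintype.card_fin, Fintype.card_fin, Fintype.card_fin, hn]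
    ring
  let e₁ : Fin n ≃ II k (Fin c) := Fintype.equivOfCardEq (by rw [Fintype.card_fin, hcardII])
  have hvQ : (Nat.card (OG (QQ (k := k) W U))).factorization 2 = VV (Fintype.card F) n := by
    rw [card_OG_zero _ hQ0, card_GL_reindex e₁.symm, hval]
  have hvW : (Nat.card (OG W)).factorization 2 = VV (Fintype.card F) 2 := by
    rw [card_OG_zero _ hW0, hval]
  have hvU : (Nat.card (OG U)).factorization 2 = VV (Fintype.card F) c := by
    rw [card_OG_zero _ hU0, hval]
  have hVn : VV (Fintype.card F) n = k * VV (Fintype.card F) 2 + padicValNat 2 k.factorial + VV (Fintype.card F) c := by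
    rcases hc with rfl | rfl
    · rw [hn, add_zero, VV_even hF hq3]
      simp [VV]
    · rw [hn, VV_odd hF hq3]
  have hcard : Nat.card (PO (D : Subgroup (OG W)) T (E : Subgroup (OG U))) = 2 ^ (Nat.card (OG (QQ (k := k) W U))).factorization 2 := by
    rw [card_PO, D.card_eq_multiplicity, E.card_eq_multiplicity, hTc, hvQ, hvW, hvU, hVn, ← pow_mul, ← pow_add, ← pow_add]
    congr 1
    ring
  have hd : ∀ a ∈ (D : Subgroup (OG W)), ∃ t : ℕ, detG W a = (detG W s) ^ t := by
    intro a ha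
    obtain ⟨b, hb⟩ := D.isPGroup' ⟨a, ha⟩
    have hb' : a ^ (2 ^ b) = 1 := congrArg Subtype.val hb
    have h4 : (detG W a) ^ (2 ^ b) = 1 := by
      rw [← map_pow, hb', map_one]
    rw [hsd]
    exact hζall _ b h4
  have htr' : (∀ i j : Fin k, ∃ σ ∈ T, σ i = j) ∨ s * s = 1 := by
    rcases htr with h | ⟨j, rfl⟩
    · right
      exact hs2 h
    · left
      exact sylow_trans j T hTc
  have hu := u_hyp hc hc3 ζ hζall hζ3 U (E : Subgroup (OG U)) E.isPGroup' s hs2
  have hmain := main_claim (D : Subgroup (OG W)) T (E : Subgroup (OG U)) hTg ⟨0, hk⟩ (sl2_sq hF D) hs hd htr' hu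
  let P₀ : Sylow 2 (OG (QQ (k := k) W U)) := Sylow.ofCard _ hcard
  obtain ⟨S, hS⟩ := Cfsg.Agent.Lib.Basic.exists_sylow_subgroupOf P₀ (detG (QQ (k := k) W U)).ker
  have h1 : ∀ y : ↥(S : Subgroup ↥(detG (QQ (k := k) W U)).ker), y ^ 2 ∈ commutator ↥(S : Subgroup ↥(detG (QQ (k := k) W U)).ker) := by
    have hP₀ : (P₀ : Subgroup (OG (QQ (k := k) W U))) = PO (D : Subgroup (OG W)) T (E : Subgroup (OG U)) := rfl
    rw [hS, hP₀]
    exact (sq_inf_iff _ _).2 hmain
  let e₂ : SpecialLinearGroup (Fin n) F ≃* ↥(detG (QQ (k := k) W U)).ker :=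
    (slReindex e₁).trans (slIso _ hQ0)
  exact sq_sylow_transfer e₂ S h1 P

end final

end Cfsg.Agent.Lib.Perm.SlWr
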