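import Mathlib

/-!
Sylow 2-subgroups of symmetric groups, without explicit wreath products: the transpositions of a
Sylow 2-subgroup form a maximal matching, the action on this matching is again a Sylow 2-subgroup
of a smaller symmetric group, and Sylow 2-subgroups of symmetric groups are self-normalizing.
-/

namespace Cfsg.Agent.Perm.SymSylow

open Equiv Equiv.Perm

universe u_1

set_option linter.style.haveILetI false

section General

variable {G : Type*} [Group G]

/-- The stabilizer of a set under conjugation. -/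
def conjStab (S : Set G) : Subgroup G where
  carrier := {x | ∀ t, t ∈ S ↔ x * t * x⁻¹ ∈ S}
  one_mem' := by intro t; simp
  mul_mem' := by
    intro x y hx hy t
    have : x * y * t * (x * y)⁻¹ = x * (y * t * y⁻¹) * x⁻¹ := by group
    rw [this, hy t, hx]
  inv_mem' := by
    intro x hx t
    have := hx (x⁻¹ * t * x⁻¹⁻¹)
    have h2 : x * (x⁻¹ * t * x⁻¹⁻¹) * x⁻¹ = t := by group
    rw [h2] at this
    exact this.symm

lemma mem_conjStab {S : Set G} {x : G} : x ∈ conjStab S ↔ ∀ t, t ∈ S ↔ x * t * x⁻¹ ∈ S := Iff.rfl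

/-- The conjugation action of the stabilizer on the set. -/
def conjAct (S : Set G) : conjStab S →* Perm S where
  toFun x :=
    { toFun := fun t => ⟨x.1 * t.1 * x.1⁻¹, (x.2 t.1).1 t.2⟩
      invFun := fun t => ⟨x.1⁻¹ * t.1 * x.1, by
        have := ((conjStab S).inv_mem x.2) t.1
        simpa using this.1 t.2⟩
      left_inv := by intro t; ext; simp [mul_assoc]
      right_inv := by intro t; ext; simp [mul_assoc] }
  map_one' := by ext t; simp
  map_mul' := by intro x y; ext t; simp [mul_assoc]

@[simp] lemma conjAct_apply (S : Set G) (x : conjStab S) (t : S) :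
    ((conjAct S x t : S) : G) = x.1 * t.1 * x.1⁻¹ := rfl

end General

variable {α : Type u_1} [Fintype α] [DecidableEq α]

/-- The transpositions of a subgroup. -/
def swapsIn (P : Subgroup (Perm α)) : Set (Perm α) := {t | t ∈ P ∧ t.IsSwap}

lemma mem_swapsIn {P : Subgroup (Perm α)} {t : Perm α} : t ∈ swapsIn P ↔ t ∈ P ∧ t.IsSwap :=
  Iff.rfl

/-- A 2-subgroup contains no 3-cycle. -/
lemma no_threeCycle {P : Subgroup (Perm α)} (hP : IsPGroup 2 P) {g : Perm α} (hg : g ∈ P)
    (h3 : g.IsThreeCycle) : False := by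
  obtain ⟨k, hk⟩ := hP ⟨g, hg⟩
  have h1 : g ^ (2 ^ k) = 1 := by
    have := congrArg Subtype.val hk
    simpa using this
  have h2 : 3 ∣ 2 ^ k := by
    rw [← h3.orderOf]
    exact orderOf_dvd_of_pow_eq_one h1
  have h4 := Nat.Prime.dvd_of_dvd_pow Nat.prime_three h2
  omega

/-- Two transpositions of a 2-subgroup sharing a point coincide. -/
lemma swap_unique {P : Subgroup (Perm α)} (hP : IsPGroup 2 P) {a b c : α} (hab : a ≠ b)
    (hac : a ≠ c) (hb : swap a b ∈ P) (hc : swap a c ∈ P) : b = c := by
  by_contra hbc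
  exact no_threeCycle hP (P.mul_mem hb hc) (isThreeCycle_swap_mul_swap_same hab hac hbc)

/-- Distinct transpositions of a 2-subgroup commute. -/
lemma swaps_commute {P : Subgroup (Perm α)} (hP : IsPGroup 2 P) {t u : Perm α}
    (ht : t ∈ swapsIn P) (hu : u ∈ swapsIn P) : t * u = u * t := by
  obtain ⟨htP, a, b, hab, rfl⟩ := ht
  obtain ⟨huP, c, d, hcd, rfl⟩ := hu
  by_cases hEq : swap a b = swap c d
  · rw [hEq]
  have h1 : a ≠ c := by
    intro h; subst h; exact hEq (by rw [swap_unique hP hab hcd htP huP])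
  have h2 : a ≠ d := by
    intro h; subst h
    have : swap a c ∈ P := by rw [swap_comm]; exact huP
    exact hEq (by rw [swap_unique hP hab hcd.symm htP this, swap_comm])
  have h3 : b ≠ c := by
    intro h; subst h
    have h5 : swap b a ∈ P := by rw [swap_comm]; exact htP
    exact hEq (by rw [swap_unique hP hab.symm hcd h5 huP, swap_comm])
  have h4 : b ≠ d := by
    intro h; subst h
    have h5 : swap b a ∈ P := by rw [swap_comm]; exact htP
    have h6 : swap b c ∈ P := by rw [swap_comm]; exact huP
    have h7 := swap_unique hP hab.symm hcd.symm h5 h6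
    exact hEq (by rw [h7])
  have hd : Disjoint (swap a b) (swap c d) := by
    intro x
    by_cases hxa : x = a
    · subst hxa; right; exact swap_apply_of_ne_of_ne h1 h2
    by_cases hxb : x = b
    · subst hxb; right; exact swap_apply_of_ne_of_ne h3 h4
    · left; exact swap_apply_of_ne_of_ne hxa hxb
  exact hd.commute.eq

/-- A set of pairwise commuting involutions generates a 2-group. -/
lemma isPGroup_closure_of_comm {G : Type*} [Group G] {Y : Set G}
    (hc : ∀ x ∈ Y, ∀ y ∈ Y, x * y = y * x) (hi : ∀ x ∈ Y, x * x = 1) :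
    IsPGroup 2 (Subgroup.closure Y) := by
  have hcomm : ∀ x ∈ Subgroup.closure Y, ∀ y ∈ Subgroup.closure Y, x * y = y * x := by
    intro x hx y hy
    have h1 : Subgroup.closure Y ≤ Subgroup.centralizer (Subgroup.closure Y : Set G) := by
      rw [Subgroup.closure_le]
      intro a ha
      rw [SetLike.mem_coe, Subgroup.mem_centralizer_iff]
      intro b hb
      induction hb using Subgroup.closure_induction with
      | mem b hb => exact hc b hb a ha
      | one => simp
      | mul b c _ _ h1 h2 => rw [mul_assoc, h2, ← mul_assoc, h1, mul_assoc]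
      | inv b _ h1 =>
        rw [inv_mul_eq_iff_eq_mul, ← mul_assoc, h1, mul_assoc, mul_inv_cancel, mul_one]
    exact (Subgroup.mem_centralizer_iff.mp (h1 hx) y hy).symm
  have h : ∀ x : Subgroup.closure Y, x * x = 1 := by
    rintro ⟨x, hx⟩
    induction hx using Subgroup.closure_induction with
    | mem a ha => exact Subtype.ext (hi a ha)
    | one => exact Subtype.ext (by simp)
    | mul a b ha hb h1 h2 =>
      have h3 : ((⟨a * b, Subgroup.mul_mem _ ha hb⟩ : Subgroup.closure Y))
          = ⟨a, ha⟩ * ⟨b, hb⟩ := rfl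
      have h4 : (⟨b, hb⟩ : Subgroup.closure Y) * ⟨a, ha⟩ = ⟨a, ha⟩ * ⟨b, hb⟩ :=
        Subtype.ext (hcomm b hb a ha)
      rw [h3]
      calc (⟨a, ha⟩ * ⟨b, hb⟩ : Subgroup.closure Y) * (⟨a, ha⟩ * ⟨b, hb⟩)
          = ⟨a, ha⟩ * ((⟨b, hb⟩ : Subgroup.closure Y) * ⟨a, ha⟩) * ⟨b, hb⟩ := by group
        _ = (⟨a, ha⟩ * ⟨a, ha⟩) * ((⟨b, hb⟩ : Subgroup.closure Y) * ⟨b, hb⟩) := by
          rw [h4]; group
        _ = 1 := by rw [h1, h2, one_mul]
    | inv a ha h1 =>
      have h2 : a * a = 1 := congrArg Subtype.val h1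
      apply Subtype.ext
      show a⁻¹ * a⁻¹ = 1
      rw [← mul_inv_rev, h2, inv_one]
  intro x
  exact ⟨1, by rw [pow_one, pow_two]; exact h x⟩

/-- Membership in a conjugate Sylow subgroup. -/
lemma mem_sylow_smul {G : Type*} [Group G] {p : ℕ} {g t : G} {P : Sylow p G} :
    t ∈ ((g • P : Sylow p G) : Subgroup G) ↔ g⁻¹ * t * g ∈ (P : Subgroup G) := by
  rw [Sylow.coe_subgroup_smul, Subgroup.mem_smul_pointwise_iff_exists]
  constructor
  · rintro ⟨y, hy, rfl⟩
    simpa [mul_assoc] using hy
  · intro h
    exact ⟨_, h, by simp [mul_assoc]⟩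

section Finite

lemma swapsIn_conj (P : Subgroup (Perm α)) (g : Perm α) (hg : g ∈ P) :
    g ∈ conjStab (swapsIn P) := by
  intro t
  constructor
  · rintro ⟨htP, a, b, hab, rfl⟩
    refine ⟨P.mul_mem (P.mul_mem hg htP) (P.inv_mem hg), g a, g b, ?_, ?_⟩
    · exact fun h => hab (g.injective h)
    · exact (swap_apply_apply g a b).symm
  · rintro ⟨htP, a, b, hab, h⟩
    refine ⟨?_, g⁻¹ a, g⁻¹ b, ?_, ?_⟩
    · have := P.mul_mem (P.mul_mem (P.inv_mem hg) htP) hg
      simpa [mul_assoc] using this
    · exact fun h => hab (g⁻¹.injective h)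
    · have h2 := swap_apply_apply g⁻¹ a b
      rw [← h] at h2
      rw [h2]
      simp [mul_assoc]

/-- A Sylow 2-subgroup leaves at most one point uncovered by its transpositions. -/
lemma covered_or_covered (P : Sylow 2 (Perm α)) {a b : α} (hab : a ≠ b) :
    (∃ z, a ≠ z ∧ swap a z ∈ (P : Subgroup (Perm α))) ∨
      (∃ z, b ≠ z ∧ swap b z ∈ (P : Subgroup (Perm α))) := by
  by_contra hcon
  push Not at hcon
  obtain ⟨ha, hb⟩ := hcon
  have hP := P.isPGroup'
  -- the transposition is disjoint from all swaps of P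
  have hnew : ∀ t ∈ swapsIn (P : Subgroup (Perm α)), t * swap a b = swap a b * t := by
    rintro t ⟨htP, c, d, hcd, rfl⟩
    have h1 : a ≠ c := by
      intro h; subst h; exact ha d hcd htP
    have h2 : a ≠ d := by
      intro h; subst h; exact ha c hcd.symm (by rw [swap_comm]; exact htP)
    have h3 : b ≠ c := by
      intro h; subst h; exact hb d hcd htP
    have h4 : b ≠ d := by
      intro h; subst h; exact hb c hcd.symm (by rw [swap_comm]; exact htP)
    have hd : Disjoint (swap c d) (swap a b) := by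
      intro x
      by_cases hxc : x = c
      · subst hxc; right; exact swap_apply_of_ne_of_ne h1.symm h3.symm
      by_cases hxd : x = d
      · subst hxd; right; exact swap_apply_of_ne_of_ne h2.symm h4.symm
      · left; exact swap_apply_of_ne_of_ne hxc hxd
    exact hd.commute.eq
  set Y : Set (Perm α) := insert (swap a b) (swapsIn (P : Subgroup (Perm α))) with hY
  have hcY : ∀ x ∈ Y, ∀ y ∈ Y, x * y = y * x := by
    intro x hx y hy
    rcases hx with rfl | hx
    · rcases hy with rfl | hy
      · rfl
      · exact (hnew y hy).symm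
    · rcases hy with rfl | hy
      · exact hnew x hx
      · exact swaps_commute hP hx hy
  have hiY : ∀ x ∈ Y, x * x = 1 := by
    intro x hx
    rcases hx with rfl | ⟨_, c, d, _, rfl⟩
    · simp
    · simp
  have h2 := isPGroup_closure_of_comm hcY hiY
  obtain ⟨Q, hQ⟩ := h2.exists_le_sylow
  -- conjugacy of Q and P
  obtain ⟨g, hg⟩ := MulAction.exists_smul_eq (Perm α) P Q
  have hsub : Y ⊆ swapsIn (Q : Subgroup (Perm α)) := by
    intro x hx
    refine ⟨hQ (Subgroup.subset_closure hx), ?_⟩
    rcases hx with rfl | ⟨_, hsw⟩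
    · exact ⟨a, b, hab, rfl⟩
    · exact hsw
  have hinj : (swapsIn (Q : Subgroup (Perm α))).ncard ≤ (swapsIn (P : Subgroup (Perm α))).ncard := by
    apply Set.ncard_le_ncard_of_injOn (fun t => g⁻¹ * t * g)
    · rintro t ⟨htQ, c, d, hcd, rfl⟩
      refine ⟨?_, g⁻¹ c, g⁻¹ d, fun h => hcd (g⁻¹.injective h), ?_⟩
      · rw [← hg, mem_sylow_smul] at htQ
        exact htQ
      · have h2 := swap_apply_apply g⁻¹ c d
        rw [h2, inv_inv]
    · intro x _ y _ h
      simpa using h
  have hmem : swap a b ∉ swapsIn (P : Subgroup (Perm α)) := fun h => ha b hab h.1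
  have hlt : (swapsIn (P : Subgroup (Perm α))).ncard + 1 ≤ (swapsIn (Q : Subgroup (Perm α))).ncard := by
    rw [← Set.ncard_insert_of_notMem hmem (Set.toFinite _)]
    exact Set.ncard_le_ncard hsub (Set.toFinite _)
  omega

/-- Elements commuting with all transpositions of a Sylow subgroup are involutions or trivial. -/
lemma sq_eq_one_of_centralizer (P : Sylow 2 (Perm α)) {z : Perm α}
    (hz : ∀ t ∈ swapsIn (P : Subgroup (Perm α)), z * t * z⁻¹ = t) : z * z = 1 := by
  have hP := P.isPGroup'
  ext x
  by_cases hx : ∃ y, x ≠ y ∧ swap x y ∈ (P : Subgroup (Perm α))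
  · obtain ⟨y, hxy, hy⟩ := hx
    have h1 := hz _ ⟨hy, x, y, hxy, rfl⟩
    rw [← swap_apply_apply] at h1
    have h2 : z x ∈ ({x, y} : Set α) := by
      by_contra hcon
      have h3 : swap (z x) (z y) (z x) = z y := swap_apply_left _ _
      rw [h1] at h3
      simp only [Set.mem_insert_iff, Set.mem_singleton_iff, not_or] at hcon
      rw [swap_apply_of_ne_of_ne hcon.1 hcon.2] at h3
      have h4 : swap (z x) (z y) (z y) = z x := swap_apply_right _ _
      rw [h1] at h4
      by_cases h5 : z y = x
      · rw [h5, swap_apply_left] at h4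
        exact hcon.2 h4.symm
      · by_cases h6 : z y = y
        · rw [h6, swap_apply_right] at h4
          exact hcon.1 h4.symm
        · rw [swap_apply_of_ne_of_ne h5 h6] at h4
          have := z.injective h4
          exact hxy this.symm
    have h2' : z y ∈ ({x, y} : Set α) := by
      by_contra hcon
      simp only [Set.mem_insert_iff, Set.mem_singleton_iff, not_or] at hcon
      have h4 : swap (z x) (z y) (z y) = z x := swap_apply_right _ _
      rw [h1, swap_apply_of_ne_of_ne hcon.1 hcon.2] at h4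
      exact hxy (z.injective h4).symm
    simp only [Set.mem_insert_iff, Set.mem_singleton_iff] at h2 h2'
    simp only [Perm.mul_apply, Perm.one_apply]
    rcases h2 with h2 | h2
    · rw [h2, h2]
    · rw [h2]
      rcases h2' with h3 | h3
      · exact h3
      · exact absurd (z.injective (h2.trans h3.symm)) (by tauto)
  · push Not at hx
    -- `x` is the unique uncovered point
    have hfix : z x = x := by
      by_contra hne
      rcases covered_or_covered P (Ne.symm hne) with ⟨w, hw, hwP⟩ | ⟨w, hw, hwP⟩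
      · exact hx w hw hwP
      · have h1 := hz _ ⟨hwP, z x, w, hw, rfl⟩
        have h2 := swap_apply_apply z⁻¹ (z x) w
        have h4 : z⁻¹ * swap (z x) w * z⁻¹⁻¹ = swap (z x) w := by
          conv_lhs => rw [← h1]
          group
        rw [h4] at h2
        have h3 : swap x (z⁻¹ w) = swap (z x) w := by simpa using h2
        have hne2 : x ≠ z⁻¹ w := by
          intro h
          apply hw
          rw [h]; simp
        apply hx (z⁻¹ w) hne2
        rw [h3]; exact hwP
    simp [hfix]

/-- Permutations commuting with all transpositions of a Sylow subgroup lie in it. -/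
lemma mem_of_centralizer (P : Sylow 2 (Perm α)) {z : Perm α}
    (hz : ∀ t ∈ swapsIn (P : Subgroup (Perm α)), z * t * z⁻¹ = t) :
    z ∈ (P : Subgroup (Perm α)) := by
  set Z : Subgroup (Perm α) := Subgroup.centralizer (swapsIn (P : Subgroup (Perm α))) with hZ
  have hmemZ : ∀ y, y ∈ Z ↔ ∀ t ∈ swapsIn (P : Subgroup (Perm α)), y * t * y⁻¹ = t := by
    intro y
    rw [hZ, Subgroup.mem_centralizer_iff]
    constructor
    · intro h t ht
      rw [← h t ht]; group
    · intro h t ht
      have := h t ht
      rw [mul_inv_eq_iff_eq_mul] at this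
      exact this.symm
  have hZ2 : IsPGroup 2 Z := by
    rintro ⟨x, hx⟩
    refine ⟨1, Subtype.ext ?_⟩
    have := sq_eq_one_of_centralizer P ((hmemZ x).1 hx)
    simpa [pow_two] using this
  have hN : (P : Subgroup (Perm α)) ≤ Subgroup.normalizer (Z : Set (Perm α)) := by
    intro g hg
    rw [Subgroup.mem_normalizer_iff]
    intro y
    have hs := swapsIn_conj (P : Subgroup (Perm α)) g hg
    rw [hmemZ, hmemZ]
    constructor
    · intro h t ht
      have h1 : g⁻¹ * t * g ∈ swapsIn (P : Subgroup (Perm α)) := by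
        rw [hs]; simpa [mul_assoc] using ht
      have h2 := h _ h1
      calc g * y * g⁻¹ * t * (g * y * g⁻¹)⁻¹ = g * (y * (g⁻¹ * t * g) * y⁻¹) * g⁻¹ := by group
        _ = t := by rw [h2]; group
    · intro h t ht
      have h1 := (hs t).1 ht
      have h2 := h _ h1
      have h3 : g⁻¹ * (g * y * g⁻¹ * (g * t * g⁻¹) * (g * y * g⁻¹)⁻¹) * g = y * t * y⁻¹ := by group
      rw [← h3, h2]; group
  have hsup := P.isPGroup'.to_sup_of_normal_right' hZ2 hN
  have hmax := P.is_maximal' hsup le_sup_left
  have hle : Z ≤ (P : Subgroup (Perm α)) := by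
    have := (le_sup_right : Z ≤ (P : Subgroup (Perm α)) ⊔ Z)
    rwa [hmax] at this
  exact hle ((hmemZ z).2 hz)

/-- The points of an edge. -/
lemma exists_points {P : Subgroup (Perm α)} (t : swapsIn P) :
    ∃ a b : α, a ≠ b ∧ t.1 = swap a b := t.2.2

/-- First point of a transposition. -/
noncomputable def fstPt {P : Subgroup (Perm α)} (t : swapsIn P) : α := (exists_points t).choose

/-- Second point of a transposition. -/
noncomputable def sndPt {P : Subgroup (Perm α)} (t : swapsIn P) : α :=
  (exists_points t).choose_spec.choose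

lemma fstPt_ne {P : Subgroup (Perm α)} (t : swapsIn P) : fstPt t ≠ sndPt t :=
  (exists_points t).choose_spec.choose_spec.1

lemma eq_swap_pts {P : Subgroup (Perm α)} (t : swapsIn P) : t.1 = swap (fstPt t) (sndPt t) :=
  (exists_points t).choose_spec.choose_spec.2

/-- The labelling of points by edges and a Boolean. -/
noncomputable def edgeLabel {P : Subgroup (Perm α)} (x : swapsIn P × Bool) : α :=
  if x.2 then fstPt x.1 else sndPt x.1

lemma edge_eq_of_share {P : Subgroup (Perm α)} (hP : IsPGroup 2 P) {t u : swapsIn P} {a : α}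
    (hta : t.1 a ≠ a) (hua : u.1 a ≠ a) : t = u := by
  obtain ⟨t, htP, b, c, hbc, rfl⟩ := t
  obtain ⟨u, huP, d, e, hde, rfl⟩ := u
  simp only at hta hua
  apply Subtype.ext
  simp only
  have h1 : a = b ∨ a = c := by
    by_contra h; push Not at h
    exact hta (swap_apply_of_ne_of_ne h.1 h.2)
  have h2 : a = d ∨ a = e := by
    by_contra h; push Not at h
    exact hua (swap_apply_of_ne_of_ne h.1 h.2)
  rcases h1 with rfl | rfl <;> rcases h2 with rfl | rfl
  · rw [swap_unique hP hbc hde htP huP]
  · have h3 : swap a d ∈ P := by rw [swap_comm]; exact huP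
    rw [swap_unique hP hbc hde.symm htP h3, swap_comm]
  · have h3 : swap a b ∈ P := by rw [swap_comm]; exact htP
    rw [swap_unique hP hbc.symm hde h3 huP, swap_comm]
  · have h3 : swap a b ∈ P := by rw [swap_comm]; exact htP
    have h4 : swap a d ∈ P := by rw [swap_comm]; exact huP
    rw [swap_unique hP hbc.symm hde.symm h3 h4]

lemma swap_moves_fst {P : Subgroup (Perm α)} (t : swapsIn P) : t.1 (fstPt t) ≠ fstPt t := by
  rw [eq_swap_pts t, swap_apply_left]
  exact (fstPt_ne t).symm

lemma swap_moves_snd {P : Subgroup (Perm α)} (t : swapsIn P) : t.1 (sndPt t) ≠ sndPt t := by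
  rw [eq_swap_pts t, swap_apply_right]
  exact fstPt_ne t

lemma edgeLabel_injective {P : Subgroup (Perm α)} (hP : IsPGroup 2 P) :
    Function.Injective (edgeLabel (P := P)) := by
  rintro ⟨t, b⟩ ⟨u, c⟩ h
  have hmoved : ∀ (s : swapsIn P) (d : Bool), s.1 (edgeLabel (s, d)) ≠ edgeLabel (s, d) := by
    intro s d
    cases d
    · exact swap_moves_snd s
    · exact swap_moves_fst s
  have htu : t = u := by
    have h1 := hmoved t b
    have h2 := hmoved u c
    rw [← h] at h2
    exact edge_eq_of_share hP h1 h2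
  subst htu
  congr 1
  cases b <;> cases c <;> simp [edgeLabel] at h ⊢
  · exact absurd h.symm (fstPt_ne t)
  · exact absurd h (fstPt_ne t)

/-- Any permutation of the edges lifts to a permutation of the points. -/
lemma exists_lift {P : Subgroup (Perm α)} (hP : IsPGroup 2 P) (σ : Perm (swapsIn P)) :
    ∃ x : conjStab (swapsIn P), conjAct (swapsIn P) x = σ := by
  classical
  let e := Equiv.ofInjective _ (edgeLabel_injective hP)
  let τ : Perm (swapsIn P × Bool) := Equiv.prodCongr σ (Equiv.refl Bool)
  let x : Perm α := τ.extendDomain e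
  have hx : ∀ l : swapsIn P × Bool, x (edgeLabel l) = edgeLabel (τ l) := by
    intro l
    have := Equiv.Perm.extendDomain_apply_image τ e l
    simpa [x, e] using this
  have hconj : ∀ t : swapsIn P, x * t.1 * x⁻¹ = (σ t).1 := by
    intro t
    have h1 : x (fstPt t) = fstPt (σ t) := by
      have := hx (t, true)
      simpa [edgeLabel, τ] using this
    have h2 : x (sndPt t) = sndPt (σ t) := by
      have := hx (t, false)
      simpa [edgeLabel, τ] using this
    rw [eq_swap_pts t, ← swap_apply_apply, h1, h2, ← eq_swap_pts]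
  have hmem : x ∈ conjStab (swapsIn P) := by
    intro t
    constructor
    · intro ht
      rw [hconj ⟨t, ht⟩]
      exact (σ ⟨t, ht⟩).2
    · intro ht
      have h3 := hconj (σ⁻¹ ⟨_, ht⟩)
      have h3' : σ (σ⁻¹ ⟨_, ht⟩) = ⟨_, ht⟩ := by simp
      rw [h3'] at h3
      have h4 : x * t * x⁻¹ = x * (σ⁻¹ ⟨_, ht⟩).1 * x⁻¹ := h3.symm
      have h5 : t = (σ⁻¹ ⟨_, ht⟩).1 := by
        simpa using h4
      rw [h5]
      exact (σ⁻¹ ⟨_, ht⟩).2
  refine ⟨⟨x, hmem⟩, ?_⟩
  ext t
  simp only [conjAct_apply]
  rw [hconj]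

lemma sylow_le_conjStab (P : Subgroup (Perm α)) : P ≤ conjStab (swapsIn P) :=
  fun g hg => swapsIn_conj P g hg

/-- A Sylow 2-subgroup of the symmetric group on the transpositions of a Sylow subgroup, obtained
from the conjugation action. -/
noncomputable def edgeSylow (P : Sylow 2 (Perm α)) :
    Sylow 2 (Perm (swapsIn (P : Subgroup (Perm α)))) where
  toSubgroup := (((P : Subgroup (Perm α)).subgroupOf
    (conjStab (swapsIn (P : Subgroup (Perm α))))).map (conjAct _))
  isPGroup' := by
    apply IsPGroup.map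
    exact P.isPGroup'.comap_subtype
  is_maximal' := by
    intro Q hQ hle
    apply le_antisymm _ hle
    intro σ hσ
    set A := conjStab (swapsIn (P : Subgroup (Perm α))) with hA
    set φ := conjAct (swapsIn (P : Subgroup (Perm α))) with hφ
    let R : Subgroup (Perm α) := (Q.comap φ).map A.subtype
    have hR2 : IsPGroup 2 R := by
      rintro ⟨x, y, hy, rfl⟩
      obtain ⟨k, hk⟩ := hQ ⟨φ y, hy⟩
      have hk' : (φ y) ^ 2 ^ k = 1 := by
        have := congrArg Subtype.val hk
        simpa using this
      have hk2 : φ (y ^ 2 ^ k) = 1 := by rw [map_pow, hk']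
      have hz : ∀ t ∈ swapsIn (P : Subgroup (Perm α)),
          ((y ^ 2 ^ k : A) : Perm α) * t * ((y ^ 2 ^ k : A) : Perm α)⁻¹ = t := by
        intro t ht
        have h1 := conjAct_apply (swapsIn (P : Subgroup (Perm α))) (y ^ 2 ^ k) ⟨t, ht⟩
        rw [← hφ, hk2] at h1
        simpa using h1.symm
      have h3 := sq_eq_one_of_centralizer P hz
      refine ⟨k + 1, Subtype.ext ?_⟩
      have h3' : ((y : Perm α) ^ 2 ^ k) * ((y : Perm α) ^ 2 ^ k) = 1 := by simpa using h3
      show ((A.subtype y) ^ 2 ^ (k + 1)) = 1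
      rw [Subgroup.subtype_apply, pow_succ, pow_mul, pow_two]
      exact h3'
    have hPR : (P : Subgroup (Perm α)) ≤ R := by
      intro g hg
      refine ⟨⟨g, swapsIn_conj _ g hg⟩, ?_, rfl⟩
      apply hle
      exact ⟨⟨g, swapsIn_conj _ g hg⟩, hg, rfl⟩
    have hReq := P.is_maximal' hR2 hPR
    obtain ⟨x, hx⟩ := exists_lift P.isPGroup' σ
    have hxR : (x : Perm α) ∈ R := by
      refine ⟨x, ?_, rfl⟩
      show φ x ∈ Q
      rw [← hφ] at hx
      rw [hx]; exact hσ
    rw [hReq] at hxR
    exact ⟨x, hxR, hx⟩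

lemma mem_edgeSylow {P : Sylow 2 (Perm α)} {σ : Perm (swapsIn (P : Subgroup (Perm α)))} :
    σ ∈ (edgeSylow P : Subgroup _) ↔ ∃ g : conjStab (swapsIn (P : Subgroup (Perm α))),
      (g : Perm α) ∈ (P : Subgroup (Perm α)) ∧ conjAct _ g = σ := Iff.rfl

lemma act_mem_edgeSylow {P : Sylow 2 (Perm α)} (g : conjStab (swapsIn (P : Subgroup (Perm α))))
    (hg : (g : Perm α) ∈ (P : Subgroup (Perm α))) :
    conjAct _ g ∈ (edgeSylow P : Subgroup _) := ⟨g, hg, rfl⟩

lemma conjAct_mem_normalizer (P : Sylow 2 (Perm α)) (x : conjStab (swapsIn (P : Subgroup (Perm α))))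
    (hx : ∀ h, h ∈ (P : Subgroup (Perm α)) ↔ (x : Perm α) * h * (x : Perm α)⁻¹ ∈ (P : Subgroup (Perm α))) :
    conjAct _ x ∈ Subgroup.normalizer (((edgeSylow P : Subgroup (Perm (swapsIn (P : Subgroup (Perm α)))))) : Set (Perm (swapsIn (P : Subgroup (Perm α))))) := by
  rw [Subgroup.mem_normalizer_iff]
  intro σ
  constructor
  · rintro ⟨g, hg, rfl⟩
    have h1 : conjAct _ x * conjAct _ g * (conjAct _ x)⁻¹ = conjAct _ (x * g * x⁻¹) := by
      simp only [map_mul, map_inv]
    rw [h1]
    exact act_mem_edgeSylow _ ((hx _).1 hg)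
  · rintro ⟨g, hg, hgσ⟩
    have h1 : σ = conjAct _ (x⁻¹ * g * x) := by
      rw [map_mul, map_mul, map_inv, hgσ]; group
    rw [h1]
    apply act_mem_edgeSylow
    apply (hx _).2
    have hg' : (g : Perm α) ∈ (P : Subgroup (Perm α)) := hg
    simpa [mul_assoc] using hg'

/-- Sylow 2-subgroups of symmetric groups are self-normalizing. -/
theorem sylow_self_normalizing (n : ℕ) :
    ∀ (α : Type u_1) [Fintype α] [DecidableEq α], Nat.card α = n → ∀ (P : Sylow 2 (Perm α)) (x : Perm α),
      x ∈ Subgroup.normalizer ((P : Subgroup (Perm α)) : Set (Perm α)) →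
        x ∈ (P : Subgroup (Perm α)) := by
  induction n using Nat.strong_induction_on with
  | _ n ih =>
    intro α _ _ hn P x hx
    classical
    by_cases hn1 : n ≤ 1
    · have : Subsingleton α := (Finite.card_le_one_iff_subsingleton).1 (by omega)
      have : x = 1 := Subsingleton.elim _ _
      rw [this]; exact Subgroup.one_mem _
    have hP := P.isPGroup'
    -- the number of edges is smaller
    have hc1 : Nat.card (swapsIn (P : Subgroup (Perm α))) * 2 ≤ n := by
      have := Nat.card_le_card_of_injective _ (edgeLabel_injective hP)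
      rw [Nat.card_prod, hn] at this
      simpa using this
    have hc2 : 0 < Nat.card (swapsIn (P : Subgroup (Perm α))) := by
      obtain ⟨a, b, hab⟩ : ∃ a b : α, a ≠ b := by
        have : Nontrivial α := by
          rw [← Finite.one_lt_card_iff_nontrivial]; omega
        exact exists_pair_ne α
      have hne : Nonempty (swapsIn (P : Subgroup (Perm α))) := by
        rcases covered_or_covered P hab with ⟨z, hz, hzP⟩ | ⟨z, hz, hzP⟩
        · exact ⟨⟨_, hzP, a, z, hz, rfl⟩⟩
        · exact ⟨⟨_, hzP, b, z, hz, rfl⟩⟩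
      exact Nat.card_pos
    have hlt : Nat.card (swapsIn (P : Subgroup (Perm α))) < n := by omega
    letI : Fintype (swapsIn (P : Subgroup (Perm α))) := Fintype.ofFinite _
    have IH := ih _ hlt (swapsIn (P : Subgroup (Perm α))) rfl (edgeSylow P)
    -- `x` stabilizes the set of edges
    rw [Subgroup.mem_normalizer_iff] at hx
    have hxA : x ∈ conjStab (swapsIn (P : Subgroup (Perm α))) := by
      intro t
      constructor
      · rintro ⟨htP, a, b, hab, rfl⟩
        refine ⟨(hx _).1 htP, x a, x b, fun h => hab (x.injective h), ?_⟩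
        exact (swap_apply_apply x a b).symm
      · rintro ⟨htP, a, b, hab, h⟩
        have h2 := swap_apply_apply x⁻¹ a b
        rw [← h] at h2
        have h3 : x⁻¹ * (x * t * x⁻¹) * x⁻¹⁻¹ = t := by group
        rw [h3] at h2
        refine ⟨(hx _).2 htP, x⁻¹ a, x⁻¹ b, fun h4 => hab (x⁻¹.injective h4), h2.symm⟩
    have hφ := IH _ (conjAct_mem_normalizer P ⟨x, hxA⟩ hx)
    obtain ⟨g, hg, hgx⟩ := hφ
    -- hence `g⁻¹ x` commutes with all edges
    have hz : ∀ t ∈ swapsIn (P : Subgroup (Perm α)),
        ((g : Perm α)⁻¹ * x) * t * ((g : Perm α)⁻¹ * x)⁻¹ = t := by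
      intro t ht
      have h1 := congrArg (fun f => ((f ⟨t, ht⟩ : swapsIn (P : Subgroup (Perm α))) : Perm α)) hgx
      simp only [conjAct_apply] at h1
      calc ((g : Perm α)⁻¹ * x) * t * ((g : Perm α)⁻¹ * x)⁻¹
          = (g : Perm α)⁻¹ * (x * t * x⁻¹) * g := by group
        _ = t := by rw [← h1]; group
    have h5 := mem_of_centralizer P hz
    have h6 := (P : Subgroup (Perm α)).mul_mem hg h5
    simpa using h6

/-- A point moved by no transposition of `P`. -/
def Uncovered (P : Subgroup (Perm α)) (x : α) : Prop := ∀ z, x ≠ z → swap x z ∉ P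

lemma uncovered_unique (P : Sylow 2 (Perm α)) {x y : α} (hx : Uncovered (P : Subgroup (Perm α)) x)
    (hy : Uncovered (P : Subgroup (Perm α)) y) : x = y := by
  by_contra hne
  rcases covered_or_covered P hne with ⟨z, hz, hzP⟩ | ⟨z, hz, hzP⟩
  · exact hx z hz hzP
  · exact hy z hz hzP

lemma Uncovered.apply {P : Subgroup (Perm α)} {x : α} (hx : Uncovered P x) {g : Perm α}
    (hg : g ∈ P) : Uncovered P (g x) := by
  intro z hz hzP
  apply hx (g⁻¹ z)
  · intro h
    apply hz
    rw [h]; simp
  · have h1 := swap_apply_apply g⁻¹ (g x) z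
    have h0 : g⁻¹ (g x) = x := by simp
    rw [h0] at h1
    rw [h1]
    have := P.mul_mem (P.mul_mem (P.inv_mem hg) hzP) (P.inv_mem (P.inv_mem hg))
    exact this

lemma fix_uncovered (P : Sylow 2 (Perm α)) {x : α} (hx : Uncovered (P : Subgroup (Perm α)) x)
    {g : Perm α} (hg : g ∈ (P : Subgroup (Perm α))) : g x = x :=
  uncovered_unique P (hx.apply hg) hx

lemma edge_fix_uncovered {P : Subgroup (Perm α)} {x : α} (hx : Uncovered P x) (t : swapsIn P) :
    t.1 x = x := by
  obtain ⟨t, htP, a, b, hab, rfl⟩ := t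
  show swap a b x = x
  have h1 : x ≠ a := by
    rintro rfl
    exact hx b hab htP
  have h2 : x ≠ b := by
    rintro rfl
    exact hx a hab.symm (by rw [swap_comm]; exact htP)
  exact swap_apply_of_ne_of_ne h1 h2

/-- Only few edges move a given finite set of points. -/
lemma exists_bad {P : Subgroup (Perm α)} (hP : IsPGroup 2 P) (s : Finset α) :
    ∃ B : Finset (swapsIn P), B.card ≤ s.card ∧ ∀ t : swapsIn P, t ∉ B → ∀ x ∈ s, t.1 x = x := by
  classical
  induction s using Finset.induction_on with
  | empty => exact ⟨∅, by simp, by simp⟩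
  | insert a s ha ih =>
    obtain ⟨B, hB, hB2⟩ := ih
    by_cases hm : ∃ t : swapsIn P, t.1 a ≠ a
    · obtain ⟨t₀, ht₀⟩ := hm
      refine ⟨insert t₀ B, ?_, ?_⟩
      · rw [Finset.card_insert_of_notMem ha]
        exact (Finset.card_insert_le _ _).trans (by omega)
      · intro t ht x hx
        rw [Finset.mem_insert, not_or] at ht
        rcases Finset.mem_insert.1 hx with rfl | hx
        · by_contra hne
          exact ht.1 (edge_eq_of_share hP hne ht₀)
        · exact hB2 t ht.2 x hx
    · push Not at hm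
      refine ⟨B, ?_, ?_⟩
      · rw [Finset.card_insert_of_notMem ha]; omega
      · intro t ht x hx
        rcases Finset.mem_insert.1 hx with rfl | hx
        · exact hm t
        · exact hB2 t ht x hx

/-- An edge avoiding a small set of points. -/
lemma exists_avoid {P : Subgroup (Perm α)} (hP : IsPGroup 2 P) (s : Finset α)
    (h : s.card < Nat.card (swapsIn P)) : ∃ f : swapsIn P, ∀ x ∈ s, f.1 x = x := by
  classical
  obtain ⟨B, hB, hB2⟩ := exists_bad hP s
  letI : Fintype (swapsIn P) := Fintype.ofFinite _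
  have h2 : B.card < (Finset.univ : Finset (swapsIn P)).card := by
    rw [Finset.card_univ, ← Nat.card_eq_fintype_card]; omega
  obtain ⟨t, -, ht⟩ := Finset.exists_mem_notMem_of_card_lt_card h2
  exact ⟨t, hB2 t ht⟩

lemma card_edges_le {P : Subgroup (Perm α)} (hP : IsPGroup 2 P) :
    Nat.card (swapsIn P) * 2 ≤ Nat.card α := by
  have := Nat.card_le_card_of_injective _ (edgeLabel_injective hP)
  rw [Nat.card_prod] at this
  simpa using this

/-- The points of an edge. -/
lemma eq_fst_or_snd {P : Subgroup (Perm α)} (t : swapsIn P) {x : α} (hx : t.1 x ≠ x) :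
    x = fstPt t ∨ x = sndPt t := by
  by_contra h
  push Not at h
  rw [eq_swap_pts t] at hx
  exact hx (swap_apply_of_ne_of_ne h.1 h.2)

lemma range_edgeLabel_of_not_uncovered {P : Subgroup (Perm α)} {x : α} (hx : ¬ Uncovered P x) :
    x ∈ Set.range (edgeLabel (P := P)) := by
  unfold Uncovered at hx
  push Not at hx
  obtain ⟨z, hz, hzP⟩ := hx
  let t : swapsIn P := ⟨swap x z, hzP, x, z, hz, rfl⟩
  have h1 : t.1 x ≠ x := by
    show swap x z x ≠ x
    rw [swap_apply_left]; exact hz.symm
  rcases eq_fst_or_snd t h1 with h | h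
  · exact ⟨(t, true), by simp [edgeLabel, h]⟩
  · exact ⟨(t, false), by simp [edgeLabel, h]⟩

lemma not_uncovered_edgeLabel {P : Subgroup (Perm α)} (l : swapsIn P × Bool) :
    ¬ Uncovered P (edgeLabel l) := by
  rintro h
  obtain ⟨t, b⟩ := l
  have h2 := edge_fix_uncovered h t
  cases b
  · exact swap_moves_snd t h2
  · exact swap_moves_fst t h2

lemma card_le_edges (P : Sylow 2 (Perm α)) :
    Nat.card α ≤ 2 * Nat.card (swapsIn (P : Subgroup (Perm α))) + 1 := by
  classical
  set U : Set α := {x | Uncovered (P : Subgroup (Perm α)) x} with hU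
  have hU1 : U.ncard ≤ 1 := by
    rw [Set.ncard_le_one_iff]
    intro a b ha hb
    exact uncovered_unique P ha hb
  have hcov : (Set.univ : Set α) ⊆ Set.range (edgeLabel (P := (P : Subgroup (Perm α)))) ∪ U := by
    intro x _
    by_cases hx : Uncovered (P : Subgroup (Perm α)) x
    · exact Or.inr hx
    · exact Or.inl (range_edgeLabel_of_not_uncovered hx)
  have h1 := Set.ncard_le_ncard hcov (Set.toFinite _)
  have h2 := Set.ncard_union_le (Set.range (edgeLabel (P := (P : Subgroup (Perm α))))) U
  have h3 : (Set.range (edgeLabel (P := (P : Subgroup (Perm α))))).ncard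
      = Nat.card (swapsIn (P : Subgroup (Perm α))) * 2 := by
    rw [← Nat.card_coe_set_eq, Nat.card_range_of_injective (edgeLabel_injective P.isPGroup'),
      Nat.card_prod]
    simp
  rw [Set.ncard_univ] at h1
  omega

/-- Lifting a Sylow subgroup of the alternating group. -/
lemma exists_perm_sylow (R : Sylow 2 (alternatingGroup α)) :
    ∃ P : Sylow 2 (Perm α), ∀ g : alternatingGroup α,
      g ∈ (R : Subgroup (alternatingGroup α)) ↔ (g : Perm α) ∈ (P : Subgroup (Perm α)) := by
  have h1 : IsPGroup 2 ((R : Subgroup (alternatingGroup α)).map (alternatingGroup α).subtype) :=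
    R.isPGroup'.map _
  obtain ⟨P, hP⟩ := h1.exists_le_sylow
  refine ⟨P, fun g => ?_⟩
  have h2 : (R : Subgroup (alternatingGroup α)) ≤
      (P : Subgroup (Perm α)).comap (alternatingGroup α).subtype := by
    rw [← Subgroup.map_le_iff_le_comap]
    exact hP
  have h3 := R.is_maximal' (P.isPGroup'.comap_subtype) h2
  rw [← h3]
  exact Iff.rfl

/-- A transposition normalizing the even part of a Sylow 2-subgroup having at least three edges
lies in the Sylow subgroup. -/
lemma swap_mem_of_normalizes (P : Sylow 2 (Perm α))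
    (h3 : 3 ≤ Nat.card (swapsIn (P : Subgroup (Perm α)))) {a b : α} (hab : a ≠ b)
    (hu : ∀ y ∈ (P : Subgroup (Perm α)), sign y = 1 → swap a b * y * swap a b ∈ (P : Subgroup (Perm α))) :
    swap a b ∈ (P : Subgroup (Perm α)) := by
  classical
  have hP := P.isPGroup'
  -- reduce to the case `a` covered
  have key : ∀ a b : α, a ≠ b →
      (∀ y ∈ (P : Subgroup (Perm α)), sign y = 1 → swap a b * y * swap a b ∈ (P : Subgroup (Perm α))) →
      (∃ z, a ≠ z ∧ swap a z ∈ (P : Subgroup (Perm α))) → swap a b ∈ (P : Subgroup (Perm α)) := by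
    intro a b hab hu ⟨c, hac, hc⟩
    by_contra hnot
    have hcb : c ≠ b := by
      rintro rfl
      exact hnot hc
    obtain ⟨f, hf⟩ := exists_avoid hP {a, b} (by
      have : ({a, b} : Finset α).card ≤ 2 := Finset.card_le_two
      omega)
    have hfa : f.1 a = a := hf a (by simp)
    have hfb : f.1 b = b := hf b (by simp)
    have hfc : f.1 c = c := by
      by_contra hne
      let e : swapsIn (P : Subgroup (Perm α)) := ⟨swap a c, hc, a, c, hac, rfl⟩
      have he : e.1 c ≠ c := by
        show swap a c c ≠ c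
        rw [swap_apply_right]; exact hac
      have h4 : f = e := edge_eq_of_share hP hne he
      rw [h4] at hfa
      have h5 : swap a c a = a := hfa
      rw [swap_apply_left] at h5
      exact hac h5.symm
    have hfodd : sign f.1 = -1 := by
      obtain ⟨t, htP, p, q, hpq, rfl⟩ := f
      exact sign_swap hpq
    have hsign : sign (swap a c * f.1) = 1 := by
      rw [Perm.sign_mul, sign_swap hac, hfodd]; decide
    have hs := hu _ (P.toSubgroup.mul_mem hc f.2.1) hsign
    have hd1 : Disjoint f.1 (swap a b) := by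
      intro x
      by_cases h1 : x = a
      · left; rw [h1]; exact hfa
      by_cases h2 : x = b
      · left; rw [h2]; exact hfb
      · right; exact swap_apply_of_ne_of_ne h1 h2
    have hd2 : Disjoint f.1 (swap b c) := by
      intro x
      by_cases h1 : x = b
      · left; rw [h1]; exact hfb
      by_cases h2 : x = c
      · left; rw [h2]; exact hfc
      · right; exact swap_apply_of_ne_of_ne h1 h2
    have hfsq : f.1 * f.1 = 1 := by
      obtain ⟨t, htP, p, q, hpq, rfl⟩ := f
      exact swap_mul_self p q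
    have hconj : swap a b * swap a c * swap a b = swap b c := by
      have h1 := swap_apply_apply (swap a b) a c
      rw [swap_apply_left, swap_apply_of_ne_of_ne hac.symm hcb] at h1
      rw [h1]
      simp
    have heq : swap a b * (swap a c * f.1) * swap a b = swap b c * f.1 := by
      have h1 : swap a b * f.1 = f.1 * swap a b := hd1.commute.eq.symm
      calc swap a b * (swap a c * f.1) * swap a b
          = swap a b * swap a c * (f.1 * swap a b) := by group
        _ = swap a b * swap a c * (swap a b * f.1) := by rw [h1]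
        _ = (swap a b * swap a c * swap a b) * f.1 := by group
        _ = swap b c * f.1 := by rw [hconj]
    rw [heq] at hs
    have hprod : (swap a c * f.1) * (swap b c * f.1) = swap c a * swap c b := by
      have h1 : f.1 * swap b c = swap b c * f.1 := hd2.commute.eq
      calc (swap a c * f.1) * (swap b c * f.1)
          = swap a c * (f.1 * swap b c) * f.1 := by group
        _ = swap a c * (swap b c * f.1) * f.1 := by rw [h1]
        _ = swap a c * swap b c * (f.1 * f.1) := by group
        _ = swap c a * swap c b := by rw [hfsq, mul_one, swap_comm a c, swap_comm b c]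
    have hy := P.toSubgroup.mul_mem (P.toSubgroup.mul_mem hc f.2.1) hs
    rw [hprod] at hy
    exact no_threeCycle hP hy (isThreeCycle_swap_mul_swap_same hac.symm hcb hab)
  rcases covered_or_covered P hab with hc | hc
  · exact key a b hab hu hc
  · rw [swap_comm]
    apply key b a hab.symm _ hc
    rw [swap_comm]
    exact hu

/-- The even part of a Sylow subgroup is self-normalizing in the alternating group, in degree at
least six. -/
theorem alt_sylow_self_normalizing (hn : 6 ≤ Nat.card α) (R : Sylow 2 (alternatingGroup α))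
    (g : alternatingGroup α)
    (hg : g ∈ Subgroup.normalizer ((R : Subgroup (alternatingGroup α)) : Set (alternatingGroup α))) :
    g ∈ (R : Subgroup (alternatingGroup α)) := by
  classical
  obtain ⟨P, hRP⟩ := exists_perm_sylow R
  have hcard := card_le_edges P
  have h3 : 3 ≤ Nat.card (swapsIn (P : Subgroup (Perm α))) := by omega
  have hmemE : ∀ y : Perm α, y ∈ (P : Subgroup (Perm α)) → sign y = 1 →
      ∃ h : y ∈ alternatingGroup α, (⟨y, h⟩ : alternatingGroup α) ∈ (R : Subgroup (alternatingGroup α)) := by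
    intro y hy hs
    have h : y ∈ alternatingGroup α := Equiv.Perm.mem_alternatingGroup.2 hs
    exact ⟨h, (hRP ⟨y, h⟩).2 hy⟩
  have hg' := Subgroup.mem_normalizer_iff.1 hg
  have hgeven : sign (g : Perm α) = 1 := Equiv.Perm.mem_alternatingGroup.1 g.2
  -- `g` normalizes the even part
  have hE : ∀ y ∈ (P : Subgroup (Perm α)), sign y = 1 →
      (g : Perm α) * y * (g : Perm α)⁻¹ ∈ (P : Subgroup (Perm α)) := by
    intro y hy hs
    obtain ⟨h, hyR⟩ := hmemE y hy hs
    have := (hg' _).1 hyR
    exact (hRP _).1 this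
  have hE' : ∀ y ∈ (P : Subgroup (Perm α)), sign y = 1 →
      (g : Perm α)⁻¹ * y * (g : Perm α) ∈ (P : Subgroup (Perm α)) := by
    intro y hy hs
    obtain ⟨h, hyR⟩ := hmemE y hy hs
    have h5 : g * (g⁻¹ * ⟨y, h⟩ * g) * g⁻¹ ∈ (R : Subgroup (alternatingGroup α)) := by
      simpa [mul_assoc] using hyR
    have := (hg' _).2 h5
    exact (hRP _).1 this
  -- images of edges are edges
  have hedge : ∀ t ∈ swapsIn (P : Subgroup (Perm α)),
      (g : Perm α) * t * (g : Perm α)⁻¹ ∈ (P : Subgroup (Perm α)) := by
    rintro t ⟨htP, a, b, hab, rfl⟩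
    rw [← swap_apply_apply]
    apply swap_mem_of_normalizes P h3 (fun h => hab ((g : Perm α).injective h))
    intro y hy hs
    rw [swap_apply_apply]
    have h1 : (g : Perm α)⁻¹ * y * (g : Perm α) ∈ (P : Subgroup (Perm α)) := hE' y hy hs
    have h2 : swap a b * ((g : Perm α)⁻¹ * y * (g : Perm α)) * swap a b ∈ (P : Subgroup (Perm α)) :=
      P.toSubgroup.mul_mem (P.toSubgroup.mul_mem htP h1) htP
    have h3' : sign (swap a b * ((g : Perm α)⁻¹ * y * (g : Perm α)) * swap a b) = 1 := by
      simp only [Perm.sign_mul, sign_swap hab, sign_inv, hgeven, hs]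
      decide
    have h4 := hE _ h2 h3'
    have h5 : (g : Perm α) * swap a b * (g : Perm α)⁻¹ * y * ((g : Perm α) * swap a b * (g : Perm α)⁻¹)⁻¹
        = (g : Perm α) * (swap a b * ((g : Perm α)⁻¹ * y * (g : Perm α)) * swap a b) * (g : Perm α)⁻¹ := by
      simp only [mul_inv_rev, inv_inv, swap_inv]
      group
    have h6 : ((g : Perm α) * swap a b * (g : Perm α)⁻¹)⁻¹ = (g : Perm α) * swap a b * (g : Perm α)⁻¹ := by
      simp [mul_assoc]
    rw [h6] at h5
    rw [h5]
    exact h4
  -- an edge
  obtain ⟨t₀⟩ : Nonempty (swapsIn (P : Subgroup (Perm α))) := by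
    have : 0 < Nat.card (swapsIn (P : Subgroup (Perm α))) := by omega
    exact (Nat.card_pos_iff.1 this).1
  have ht₀odd : sign t₀.1 = -1 := by
    obtain ⟨t, htP, p, q, hpq, rfl⟩ := t₀
    exact sign_swap hpq
  have hnorm : (g : Perm α) ∈ Subgroup.normalizer ((P : Subgroup (Perm α)) : Set (Perm α)) := by
    apply Subgroup.mem_normalizer_fintype
    intro y hy
    rcases Int.units_eq_one_or (sign y) with hs | hs
    · exact hE y hy hs
    · have h1 : y * t₀.1 ∈ (P : Subgroup (Perm α)) := P.toSubgroup.mul_mem hy t₀.2.1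
      have h2 : sign (y * t₀.1) = 1 := by rw [Perm.sign_mul, hs, ht₀odd]; decide
      have h3' := hE _ h1 h2
      have h4 := hedge _ t₀.2
      have h5 := P.toSubgroup.mul_mem h3' (P.toSubgroup.inv_mem h4)
      have h6 : (g : Perm α) * (y * t₀.1) * (g : Perm α)⁻¹ * ((g : Perm α) * t₀.1 * (g : Perm α)⁻¹)⁻¹
          = (g : Perm α) * y * (g : Perm α)⁻¹ := by group
      rw [h6] at h5
      exact h5
  have := sylow_self_normalizing _ α rfl P _ hnorm
  exact (hRP g).2 this

end Finite

end Cfsg.Agent.Perm.SymSylow
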