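import Mathlib
import Cfsg.Agent.Lib.Perm.SymSylow
import Cfsg.Agent.Lib.Perm.PGroupFix

/-!
Maximal subgroups containing a Sylow 2-subgroup of a symmetric or alternating group.
-/

namespace Cfsg.Agent.Perm.SymSylow

open Equiv Equiv.Perm MulAction
open scoped Pointwise

universe u_1

set_option linter.style.haveILetI false

variable {α : Type u_1} [Fintype α] [DecidableEq α]

/-- Primitivity from a large subgroup fixing a point, transitive on the others. -/
lemma isPreprimitive_of_moves (H H₀ : Subgroup (Perm α)) (hle : H₀ ≤ H) {δ : α}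
    (hfix : ∀ h ∈ H₀, h δ = δ) (htr : ∀ x y, x ≠ δ → y ≠ δ → ∃ h ∈ H₀, h x = y)
    {g : Perm α} (hg : g ∈ H) (hgδ : g δ ≠ δ) : IsPreprimitive H α := by
  have htrans : IsPretransitive H α := by
    have h1 : ∀ x, ∃ h ∈ H, h δ = x := by
      intro x
      by_cases hx : x = δ
      · exact ⟨1, H.one_mem, by simp [hx]⟩
      · obtain ⟨h, hh, hhx⟩ := htr _ _ hgδ hx
        exact ⟨h * g, H.mul_mem (hle hh) hg, by simpa using hhx⟩
    refine ⟨fun x y => ?_⟩
    obtain ⟨a, ha, rfl⟩ := h1 x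
    obtain ⟨b, hb, rfl⟩ := h1 y
    refine ⟨⟨b * a⁻¹, H.mul_mem hb (H.inv_mem ha)⟩, ?_⟩
    show (b * a⁻¹) (a δ) = b δ
    simp
  apply IsPreprimitive.of_isTrivialBlock_base δ
  intro B hδB hB
  by_cases hsub : B.Subsingleton
  · exact Or.inl hsub
  right
  obtain ⟨x, hx, hxδ⟩ : ∃ x ∈ B, x ≠ δ := by
    by_contra hcon
    push Not at hcon
    exact hsub (fun a ha b hb => by rw [hcon a ha, hcon b hb])
  ext y
  simp only [Set.mem_univ, iff_true]
  by_cases hy : y = δ
  · rw [hy]; exact hδB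
  obtain ⟨h, hh, hhx⟩ := htr x y hxδ hy
  have h1 : (⟨h, hle hh⟩ : H) • δ ∈ B := by
    show h δ ∈ B
    rw [hfix h hh]; exact hδB
  have h2 := hB.smul_eq_of_mem hδB h1
  have h3 : (⟨h, hle hh⟩ : H) • x ∈ (⟨h, hle hh⟩ : H) • B := Set.smul_mem_smul_set hx
  rw [h2] at h3
  have h4 : (⟨h, hle hh⟩ : H) • x = y := hhx
  rwa [h4] at h3

/-- Edges are transitively permuted when their number is a power of 2. -/
lemma edge_trans (P : Sylow 2 (Perm α)) {j : ℕ}
    (hj : Nat.card (swapsIn (P : Subgroup (Perm α))) = 2 ^ j)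
    (t u : swapsIn (P : Subgroup (Perm α))) :
    ∃ g ∈ (P : Subgroup (Perm α)), g * t.1 * g⁻¹ = u.1 := by
  classical
  letI : Fintype (swapsIn (P : Subgroup (Perm α))) := Fintype.ofFinite _
  have h1 := Cfsg.Agent.Perm.PGroupFix.sylow_isPretransitive (G := Perm (swapsIn (P : Subgroup (Perm α))))
    (Ω := swapsIn (P : Subgroup (Perm α))) (p := 2) (f := j) hj (edgeSylow P)
  obtain ⟨σ, hσ⟩ := h1.exists_smul_eq t u
  obtain ⟨g, hg, hgσ⟩ := σ.2
  refine ⟨g.1, hg, ?_⟩
  have h2 : (σ : Perm (swapsIn (P : Subgroup (Perm α)))) t = u := hσ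
  rw [← hgσ] at h2
  have h3 := congrArg Subtype.val h2
  simpa using h3

/-- Transitivity on the covered points. -/
lemma covered_trans (P : Sylow 2 (Perm α)) {j : ℕ}
    (hj : Nat.card (swapsIn (P : Subgroup (Perm α))) = 2 ^ j) {x y : α}
    (hx : ¬ Uncovered (P : Subgroup (Perm α)) x) (hy : ¬ Uncovered (P : Subgroup (Perm α)) y) :
    ∃ g ∈ (P : Subgroup (Perm α)), g x = y := by
  have hx' := hx
  have hy' := hy
  unfold Uncovered at hx' hy'
  push Not at hx' hy'
  obtain ⟨x', hxx', hx'P⟩ := hx'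
  obtain ⟨y', hyy', hy'P⟩ := hy'
  obtain ⟨g, hg, hgt⟩ := edge_trans P hj ⟨swap x x', hx'P, x, x', hxx', rfl⟩
    ⟨swap y y', hy'P, y, y', hyy', rfl⟩
  simp only at hgt
  rw [← swap_apply_apply] at hgt
  -- `g x` is in the edge of `y`
  have h1 : g x = y ∨ g x = y' := by
    by_contra hcon
    push Not at hcon
    have h2 : swap y y' (g x) = g x := swap_apply_of_ne_of_ne hcon.1 hcon.2
    rw [← hgt, swap_apply_left] at h2
    exact hxx' (g.injective h2).symm
  rcases h1 with h1 | h1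
  · exact ⟨g, hg, h1⟩
  · exact ⟨swap y y' * g, (P : Subgroup (Perm α)).mul_mem hy'P hg, by simp [h1]⟩

/-- Transitivity of the even part on the covered points. -/
lemma covered_trans_even (P : Sylow 2 (Perm α)) {j : ℕ}
    (hj : Nat.card (swapsIn (P : Subgroup (Perm α))) = 2 ^ j)
    (h2 : 1 < Nat.card (swapsIn (P : Subgroup (Perm α)))) {x y : α}
    (hx : ¬ Uncovered (P : Subgroup (Perm α)) x) (hy : ¬ Uncovered (P : Subgroup (Perm α)) y) :
    ∃ g ∈ (P : Subgroup (Perm α)), sign g = 1 ∧ g x = y := by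
  obtain ⟨g, hg, hgx⟩ := covered_trans P hj hx hy
  rcases Int.units_eq_one_or (sign g) with hs | hs
  · exact ⟨g, hg, hs, hgx⟩
  · obtain ⟨f, hf⟩ := exists_avoid P.isPGroup' {x} (by simpa using h2)
    have hfx : f.1 x = x := hf x (by simp)
    have hfodd : sign f.1 = -1 := by
      obtain ⟨t, htP, p, q, hpq, rfl⟩ := f
      exact sign_swap hpq
    refine ⟨g * f.1, (P : Subgroup (Perm α)).mul_mem hg f.2.1, ?_, by simp [hfx, hgx]⟩
    rw [Perm.sign_mul, hs, hfodd]; decide

/-- The number of edges when the degree is odd, and the uncovered point. -/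
lemma exists_uncovered (P : Sylow 2 (Perm α)) (hn : Odd (Nat.card α)) :
    ∃ δ, Uncovered (P : Subgroup (Perm α)) δ := by
  by_contra hcon
  push Not at hcon
  have h1 : Function.Surjective (edgeLabel (P := (P : Subgroup (Perm α)))) := by
    intro x
    exact range_edgeLabel_of_not_uncovered (by simpa using hcon x)
  have h2 := Nat.card_le_card_of_surjective _ h1
  have h3 := card_edges_le P.isPGroup'
  rw [Nat.card_prod] at h2
  simp only [Nat.card_eq_fintype_card, Fintype.card_bool] at h2 h3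
  obtain ⟨m, hm⟩ := hn
  simp only [Nat.card_eq_fintype_card] at hm
  omega

lemma card_edges_of_odd (P : Sylow 2 (Perm α)) (hn : Odd (Nat.card α)) :
    Nat.card α = 2 * Nat.card (swapsIn (P : Subgroup (Perm α))) + 1 := by
  have h1 := card_le_edges P
  have h3 := card_edges_le P.isPGroup'
  obtain ⟨m, hm⟩ := hn
  omega

lemma card_edges_of_even (P : Sylow 2 (Perm α)) (hn : Even (Nat.card α)) :
    Nat.card α = 2 * Nat.card (swapsIn (P : Subgroup (Perm α))) := by
  have h1 := card_le_edges P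
  have h3 := card_edges_le P.isPGroup'
  obtain ⟨m, hm⟩ := hn
  omega

lemma not_uncovered_of_even (P : Sylow 2 (Perm α)) (hn : Even (Nat.card α)) (x : α) :
    ¬ Uncovered (P : Subgroup (Perm α)) x := by
  intro hx
  have h1 : x ∉ Set.range (edgeLabel (P := (P : Subgroup (Perm α)))) := by
    rintro ⟨l, rfl⟩
    exact not_uncovered_edgeLabel l hx
  have h2 := card_edges_of_even P hn
  have h3 : Nat.card (swapsIn (P : Subgroup (Perm α)) × Bool) < Nat.card α := by
    have h4 : Set.range (edgeLabel (P := (P : Subgroup (Perm α)))) ⊂ Set.univ :=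
      ⟨Set.subset_univ _, fun h => h1 (h (Set.mem_univ x))⟩
    have h5 := Set.ncard_lt_ncard h4 (Set.toFinite _)
    rw [Set.ncard_univ, ← Nat.card_coe_set_eq,
      Nat.card_range_of_injective (edgeLabel_injective P.isPGroup')] at h5
    exact h5
  rw [Nat.card_prod] at h3
  simp only [Nat.card_eq_fintype_card, Fintype.card_bool] at h2 h3
  omega

/-- A 3-cycle from two double transpositions meeting in a single point. -/
lemma three_cycle_core {K : Subgroup (Perm α)} {x y : Perm α} (hx : x ∈ K) (hy : y ∈ K)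
    {u u' v w s : α} (huv : u ≠ v) (huu' : u ≠ u') (hvu' : v ≠ u')
    (hxu : x u = u') (hxv : x v = v) (hxw : x w = w) (hxs : x s = s)
    (hyeq : y = swap u v * swap w s) : ∃ c ∈ K, c.IsThreeCycle := by
  refine ⟨x * y * x⁻¹ * y⁻¹, K.mul_mem (K.mul_mem (K.mul_mem hx hy) (K.inv_mem hx)) (K.inv_mem hy), ?_⟩
  have h1 : x * y * x⁻¹ = swap u' v * swap w s := by
    rw [hyeq]
    calc x * (swap u v * swap w s) * x⁻¹ = (x * swap u v * x⁻¹) * (x * swap w s * x⁻¹) := by group
      _ = swap u' v * swap w s := by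
        rw [← swap_apply_apply, ← swap_apply_apply, hxu, hxv, hxw, hxs]
  have h2 : x * y * x⁻¹ * y⁻¹ = swap v u' * swap v u := by
    rw [h1, hyeq, mul_inv_rev, swap_inv, swap_inv]
    calc swap u' v * swap w s * (swap w s * swap u v)
        = swap u' v * (swap w s * swap w s) * swap u v := by group
      _ = swap v u' * swap v u := by rw [swap_mul_self, mul_one, swap_comm u' v, swap_comm u v]
  rw [h2]
  exact isThreeCycle_swap_mul_swap_same hvu' huv.symm huu'.symm

/-- A subgroup containing the products of two distinct edges and moving the uncovered point contains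
a 3-cycle, if there are at least four edges. -/
lemma exists_three_cycle (P : Sylow 2 (Perm α))
    (h4 : 4 ≤ Nat.card (swapsIn (P : Subgroup (Perm α)))) {δ : α}
    (hδ : Uncovered (P : Subgroup (Perm α)) δ) (K : Subgroup (Perm α))
    (hK : ∀ t u : swapsIn (P : Subgroup (Perm α)), t ≠ u → t.1 * u.1 ∈ K)
    {h : Perm α} (hh : h ∈ K) (hhδ : h δ ≠ δ) : ∃ c ∈ K, c.IsThreeCycle := by
  classical
  have hP := P.isPGroup'
  have hcov : ∀ x, x ≠ δ → ∃ x', x ≠ x' ∧ swap x x' ∈ (P : Subgroup (Perm α)) := by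
    intro x hx
    by_contra hcon
    push Not at hcon
    exact hx (uncovered_unique P hcon hδ)
  have hnd : ∀ x x', x ≠ x' → swap x x' ∈ (P : Subgroup (Perm α)) → x ≠ δ ∧ x' ≠ δ := by
    intro x x' hxx' hs
    constructor
    · rintro rfl
      exact hδ x' hxx' hs
    · rintro rfl
      exact hδ x hxx'.symm (by rw [swap_comm]; exact hs)
  -- the first edge
  set p := h δ with hp
  obtain ⟨p', hpp', hp'P⟩ := hcov p hhδ
  obtain ⟨f₂, hf₂⟩ := exists_avoid hP {p, p'} (by
    have : ({p, p'} : Finset α).card ≤ 2 := Finset.card_le_two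
    omega)
  have hf₂p : f₂.1 p = p := hf₂ p (by simp)
  have hf₂p' : f₂.1 p' = p' := hf₂ p' (by simp)
  obtain ⟨r, r', hrr', hf₂eq⟩ := f₂.2.2
  have hrp : r ≠ p := by
    rintro rfl
    rw [hf₂eq, swap_apply_left] at hf₂p
    exact hrr' hf₂p.symm
  have hrp' : r ≠ p' := by
    rintro rfl
    rw [hf₂eq, swap_apply_left] at hf₂p'
    exact hrr' hf₂p'.symm
  have hr'p : r' ≠ p := by
    rintro rfl
    rw [hf₂eq, swap_apply_right] at hf₂p
    exact hrr' hf₂p
  have hr'p' : r' ≠ p' := by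
    rintro rfl
    rw [hf₂eq, swap_apply_right] at hf₂p'
    exact hrr' hf₂p'
  let e₁ : swapsIn (P : Subgroup (Perm α)) := ⟨swap p p', hp'P, p, p', hpp', rfl⟩
  have he₁f₂ : e₁ ≠ f₂ := by
    intro heq
    have h5 : e₁.1 p = p := by rw [heq]; exact hf₂p
    have h6 : swap p p' p = p := h5
    rw [swap_apply_left] at h6
    exact hpp' h6.symm
  have hz := hK e₁ f₂ he₁f₂
  -- conjugating by `h⁻¹`
  set g := h⁻¹ with hg
  have hgK : g ∈ K := K.inv_mem hh
  have hgp : g p = δ := by simp [hg, hp]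
  set q := g p' with hq
  set r₁ := g r with hr₁
  set r₂ := g r' with hr₂
  have hyK : g * (e₁.1 * f₂.1) * g⁻¹ ∈ K := K.mul_mem (K.mul_mem hgK hz) (K.inv_mem hgK)
  have hyeq : g * (e₁.1 * f₂.1) * g⁻¹ = swap δ q * swap r₁ r₂ := by
    have h5 : e₁.1 = swap p p' := rfl
    rw [h5, hf₂eq]
    calc g * (swap p p' * swap r r') * g⁻¹ = (g * swap p p' * g⁻¹) * (g * swap r r' * g⁻¹) := by group
      _ = swap δ q * swap r₁ r₂ := by rw [← swap_apply_apply, ← swap_apply_apply, hgp]
  -- distinctness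
  have hinj := g.injective
  have hδq : δ ≠ q := by rw [← hgp]; exact fun h => hpp' (hinj h)
  have hδr₁ : δ ≠ r₁ := by rw [← hgp]; exact fun h => hrp (hinj h).symm
  have hδr₂ : δ ≠ r₂ := by rw [← hgp]; exact fun h => hr'p (hinj h).symm
  have hqr₁ : q ≠ r₁ := fun h => hrp' (hinj h).symm
  have hqr₂ : q ≠ r₂ := fun h => hr'p' (hinj h).symm
  have hr₁r₂ : r₁ ≠ r₂ := fun h => hrr' (hinj h)
  -- an abstract final step
  have final : ∀ u u' v w s : α, u ≠ v → u ≠ u' → swap u u' ∈ (P : Subgroup (Perm α)) →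
      v ≠ u' → w ≠ u' → s ≠ u' → u ≠ w → u ≠ s → (δ = v ∨ δ = w ∨ δ = s) →
      g * (e₁.1 * f₂.1) * g⁻¹ = swap u v * swap w s → ∃ c ∈ K, c.IsThreeCycle := by
    intro u u' v w s huv huu' hu'P hvu' hwu' hsu' huw hus hδin hy
    obtain ⟨f, hf⟩ := exists_avoid hP (({u, v, w, s} : Finset α).erase δ) (by
      have h5 : δ ∈ ({u, v, w, s} : Finset α) := by
        simp only [Finset.mem_insert, Finset.mem_singleton]
        tauto
      rw [Finset.card_erase_of_mem h5]
      have h6 : ({u, v, w, s} : Finset α).card ≤ 4 := Finset.card_le_four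
      omega)
    have hfix : ∀ x ∈ ({u, v, w, s} : Finset α), f.1 x = x := by
      intro x hx
      by_cases hxδ : x = δ
      · rw [hxδ]; exact edge_fix_uncovered hδ f
      · exact hf x (Finset.mem_erase.2 ⟨hxδ, hx⟩)
    have hfu := hfix u (by simp)
    have hfv := hfix v (by simp)
    have hfw := hfix w (by simp)
    have hfs := hfix s (by simp)
    let e₃ : swapsIn (P : Subgroup (Perm α)) := ⟨swap u u', hu'P, u, u', huu', rfl⟩
    have he₃f : e₃ ≠ f := by
      intro heq
      have h5 : e₃.1 u = u := by rw [heq]; exact hfu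
      have h6 : swap u u' u = u := h5
      rw [swap_apply_left] at h6
      exact huu' h6.symm
    have hx := hK e₃ f he₃f
    refine three_cycle_core hx hyK huv huu' hvu' ?_ ?_ ?_ ?_ hy
    · show swap u u' (f.1 u) = u'
      rw [hfu, swap_apply_left]
    · show swap u u' (f.1 v) = v
      rw [hfv]; exact swap_apply_of_ne_of_ne huv.symm hvu'
    · show swap u u' (f.1 w) = w
      rw [hfw]; exact swap_apply_of_ne_of_ne huw.symm hwu'
    · show swap u u' (f.1 s) = s
      rw [hfs]; exact swap_apply_of_ne_of_ne hus.symm hsu'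
  -- choosing the point
  obtain ⟨q', hqq', hq'P⟩ := hcov q hδq.symm
  have hq'δ := (hnd _ _ hqq' hq'P).2
  have hcomm : swap δ q * swap r₁ r₂ = swap r₁ r₂ * swap δ q := by
    have hd : Disjoint (swap δ q) (swap r₁ r₂) := by
      intro x
      by_cases h1 : x = δ
      · right; rw [h1]; exact swap_apply_of_ne_of_ne hδr₁ hδr₂
      by_cases h2 : x = q
      · right; rw [h2]; exact swap_apply_of_ne_of_ne hqr₁ hqr₂
      · left; exact swap_apply_of_ne_of_ne h1 h2
    exact hd.commute.eq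
  by_cases hc1 : q' = r₁
  · rw [hc1] at hq'P
    obtain ⟨s', hs', hs'P⟩ := hcov r₂ hδr₂.symm
    have hs'δ := (hnd _ _ hs' hs'P).2
    have h5 : s' ≠ q := by
      intro heq
      have h6 : swap q r₂ ∈ (P : Subgroup (Perm α)) := by rw [swap_comm, ← heq]; exact hs'P
      exact hr₁r₂ (swap_unique hP hqr₁ hqr₂ hq'P h6)
    have h6 : s' ≠ r₁ := by
      intro heq
      have h7 : swap r₁ r₂ ∈ (P : Subgroup (Perm α)) := by rw [swap_comm, ← heq]; exact hs'P
      have h8 : swap r₁ q ∈ (P : Subgroup (Perm α)) := by rw [swap_comm]; exact hq'P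
      exact hqr₂ (swap_unique hP hqr₁.symm hr₁r₂ h8 h7)
    refine final r₂ s' r₁ q δ hr₁r₂.symm hs' hs'P h6.symm h5.symm hs'δ.symm hqr₂.symm hδr₂.symm
      (Or.inr (Or.inr rfl)) ?_
    rw [hyeq, hcomm, swap_comm r₂ r₁, swap_comm q δ]
  · by_cases hc2 : q' = r₂
    · rw [hc2] at hq'P
      obtain ⟨s', hs', hs'P⟩ := hcov r₁ hδr₁.symm
      have hs'δ := (hnd _ _ hs' hs'P).2
      have h5 : s' ≠ q := by
        intro heq
        have h6 : swap q r₁ ∈ (P : Subgroup (Perm α)) := by rw [swap_comm, ← heq]; exact hs'P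
        exact hr₁r₂.symm (swap_unique hP hqr₂ hqr₁ hq'P h6)
      have h6 : s' ≠ r₂ := by
        intro heq
        have h7 : swap r₂ r₁ ∈ (P : Subgroup (Perm α)) := by rw [swap_comm, ← heq]; exact hs'P
        have h8 : swap r₂ q ∈ (P : Subgroup (Perm α)) := by rw [swap_comm]; exact hq'P
        exact hqr₁ (swap_unique hP hqr₂.symm hr₁r₂.symm h8 h7)
      refine final r₁ s' r₂ q δ hr₁r₂ hs' hs'P h6.symm h5.symm hs'δ.symm hqr₁.symm hδr₁.symm
        (Or.inr (Or.inr rfl)) ?_
      rw [hyeq, hcomm, swap_comm q δ]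
    · refine final q q' δ r₁ r₂ hδq.symm hqq' hq'P (hnd _ _ hqq' hq'P).2.symm ?_ ?_ hqr₁ hqr₂ (Or.inl rfl) ?_
      · exact fun h => hc1 h.symm
      · exact fun h => hc2 h.symm
      · rw [hyeq, swap_comm δ q]

end Cfsg.Agent.Perm.SymSylow
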