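import Mathlib
import Cfsg.Agent.Lib.Perm.SymSylow2

/-!
Coatoms over Sylow 2-subgroups of symmetric and alternating groups.
-/

namespace Cfsg.Agent.Perm.SymSylow

open Equiv Equiv.Perm MulAction

universe u_1

set_option linter.style.haveILetI false

section Lattice

variable {G : Type*} [Group G] [Finite G]

/-- A criterion for a unique coatom above a subgroup. -/
lemma unique_coatom_of {R S : Subgroup G} (hRS : R ≤ S) (hS : S ≠ ⊤)
    (hkey : ∀ K : Subgroup G, R ≤ K → K ≠ ⊤ → K ≤ S) : ∃! M : Subgroup G, IsCoatom M ∧ R ≤ M := by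
  refine ⟨S, ⟨⟨hS, ?_⟩, hRS⟩, ?_⟩
  · intro K hK
    by_contra hne
    exact absurd (hkey K (hRS.trans hK.le) hne) (not_le_of_gt hK)
  · rintro M ⟨hM, hRM⟩
    have h1 := hkey M hRM hM.1
    by_contra hne
    exact hS (hM.2 S (lt_of_le_of_ne h1 hne))

/-- Two proper subgroups above `R` with join the whole group exclude a unique coatom. -/
lemma not_unique_coatom {R K₁ K₂ : Subgroup G} (h1 : R ≤ K₁) (h2 : R ≤ K₂) (h1t : K₁ ≠ ⊤)
    (h2t : K₂ ≠ ⊤) (hj : K₁ ⊔ K₂ = ⊤) : ¬ ∃! M : Subgroup G, IsCoatom M ∧ R ≤ M := by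
  rintro ⟨M, ⟨hM, hRM⟩, huniq⟩
  obtain ⟨M₁, hM₁, hle₁⟩ := (eq_top_or_exists_le_coatom K₁).resolve_left h1t
  obtain ⟨M₂, hM₂, hle₂⟩ := (eq_top_or_exists_le_coatom K₂).resolve_left h2t
  have h3 := huniq M₁ ⟨hM₁, h1.trans hle₁⟩
  have h4 := huniq M₂ ⟨hM₂, h2.trans hle₂⟩
  subst h3
  subst h4
  apply hM.1
  rw [eq_top_iff, ← hj]
  exact sup_le hle₁ hle₂

end Lattice

variable {α : Type u_1} [Fintype α] [DecidableEq α]

/-- The stabilizer of a relation. -/
def relStab (r : α → α → Prop) : Subgroup (Perm α) where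
  carrier := {g | ∀ x y, r x y ↔ r (g x) (g y)}
  one_mem' := by intro x y; simp
  mul_mem' := by
    intro g h hg hh x y
    rw [hh x y, hg (h x) (h y)]
    rfl
  inv_mem' := by
    intro g hg x y
    rw [hg (g⁻¹ x) (g⁻¹ y)]
    simp

lemma mem_relStab {r : α → α → Prop} {g : Perm α} :
    g ∈ relStab r ↔ ∀ x y, r x y ↔ r (g x) (g y) := Iff.rfl

lemma swap_mem_relStab {r : α → α → Prop} (hr : Equivalence r) {a c : α} (hac : r a c) :
    swap a c ∈ relStab r := by
  have h1 : ∀ x, r x (swap a c x) := by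
    intro x
    by_cases hxa : x = a
    · rw [hxa, swap_apply_left]; exact hac
    by_cases hxc : x = c
    · rw [hxc, swap_apply_right]; exact hr.symm hac
    · rw [swap_apply_of_ne_of_ne hxa hxc]; exact hr.refl x
  intro x y
  constructor
  · intro h
    exact hr.trans (hr.symm (h1 x)) (hr.trans h (h1 y))
  · intro h
    exact hr.trans (h1 x) (hr.trans h (hr.symm (h1 y)))

/-- The join criterion for the alternating group. -/
theorem alt_join {K₁ K₂ : Subgroup (Perm α)} {t : Perm α} (ht : sign t = -1) (ht1 : t ∈ K₁)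
    (ht2 : t ∈ K₂) (htt : t * t = 1) (hj : K₁ ⊔ K₂ = ⊤) :
    K₁.comap (alternatingGroup α).subtype ⊔ K₂.comap (alternatingGroup α).subtype = ⊤ := by
  set A₁ := K₁.comap (alternatingGroup α).subtype with hA₁
  set A₂ := K₂.comap (alternatingGroup α).subtype with hA₂
  set L := A₁ ⊔ A₂ with hL
  set L' := L.map (alternatingGroup α).subtype with hL'
  have hmem₁ : ∀ y ∈ K₁, sign y = 1 → y ∈ L' := by
    intro y hy hs
    exact ⟨⟨y, Equiv.Perm.mem_alternatingGroup.2 hs⟩, (le_sup_left : A₁ ≤ L) hy, rfl⟩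
  have hmem₂ : ∀ y ∈ K₂, sign y = 1 → y ∈ L' := by
    intro y hy hs
    exact ⟨⟨y, Equiv.Perm.mem_alternatingGroup.2 hs⟩, (le_sup_right : A₂ ≤ L) hy, rfl⟩
  have hinv : t⁻¹ = t := inv_eq_of_mul_eq_one_left htt
  have hsignconj : ∀ y : Perm α, sign (t * y * t⁻¹) = sign y := by
    intro y
    simp only [Perm.sign_mul, sign_inv]
    rw [mul_comm (sign t), mul_assoc]
    simp [ht]
  have hnorm : ∀ y ∈ L', t * y * t⁻¹ ∈ L' := by
    have h1 : L ≤ L'.comap ((MulAut.conj t).toMonoidHom.comp (alternatingGroup α).subtype) := by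
      apply sup_le
      · intro y hy
        apply hmem₁
        · exact K₁.mul_mem (K₁.mul_mem ht1 hy) (K₁.inv_mem ht1)
        · show sign (t * (y : Perm α) * t⁻¹) = 1
          rw [hsignconj]; exact Equiv.Perm.mem_alternatingGroup.1 y.2
      · intro y hy
        apply hmem₂
        · exact K₂.mul_mem (K₂.mul_mem ht2 hy) (K₂.inv_mem ht2)
        · show sign (t * (y : Perm α) * t⁻¹) = 1
          rw [hsignconj]; exact Equiv.Perm.mem_alternatingGroup.1 y.2
    rintro _ ⟨y, hy, rfl⟩
    exact h1 hy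
  let U : Subgroup (Perm α) :=
    { carrier := {x | x ∈ L' ∨ x * t ∈ L'}
      one_mem' := Or.inl L'.one_mem
      mul_mem' := by
        intro x y hx hy
        rcases hx with hx | hx <;> rcases hy with hy | hy
        · exact Or.inl (L'.mul_mem hx hy)
        · right
          have := L'.mul_mem hx hy
          rwa [← mul_assoc] at this
        · right
          have h2 := hnorm y hy
          have h3 := L'.mul_mem hx h2
          have h4 : x * t * (t * y * t⁻¹) = x * (t * t) * y * t⁻¹ := by group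
          rw [h4, htt, hinv, mul_one] at h3
          exact h3
        · left
          have h2 := hnorm _ hy
          have h3 := L'.mul_mem hx h2
          have h4 : x * t * (t * (y * t) * t⁻¹) = x * (t * t) * y * (t * t⁻¹) := by group
          rw [h4, htt, mul_one, mul_inv_cancel, mul_one] at h3
          exact h3
      inv_mem' := by
        intro x hx
        rcases hx with hx | hx
        · exact Or.inl (L'.inv_mem hx)
        · right
          have h2 := hnorm _ (L'.inv_mem hx)
          have h4 : t * (x * t)⁻¹ * t⁻¹ = x⁻¹ * t⁻¹ := by group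
          rw [h4, hinv] at h2
          exact h2 }
  have hU : U = ⊤ := by
    rw [eq_top_iff, ← hj]
    apply sup_le
    · intro y hy
      rcases Int.units_eq_one_or (sign y) with hs | hs
      · exact Or.inl (hmem₁ y hy hs)
      · refine Or.inr (hmem₁ _ (K₁.mul_mem hy ht1) ?_)
        rw [Perm.sign_mul, hs, ht]; decide
    · intro y hy
      rcases Int.units_eq_one_or (sign y) with hs | hs
      · exact Or.inl (hmem₂ y hy hs)
      · refine Or.inr (hmem₂ _ (K₂.mul_mem hy ht2) ?_)
        rw [Perm.sign_mul, hs, ht]; decide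
  rw [eq_top_iff]
  rintro g -
  have hg : (g : Perm α) ∈ U := by rw [hU]; exact Subgroup.mem_top _
  have hgs : sign (g : Perm α) = 1 := Equiv.Perm.mem_alternatingGroup.1 g.2
  have hg' : (g : Perm α) ∈ L' := by
    rcases hg with hg | hg
    · exact hg
    · exfalso
      obtain ⟨y, -, hy⟩ := hg
      have h1 : sign ((alternatingGroup α).subtype y) = 1 := Equiv.Perm.mem_alternatingGroup.1 y.2
      rw [hy, Perm.sign_mul, hgs, ht] at h1
      exact absurd h1 (by decide)
  obtain ⟨y, hy, hyg⟩ := hg'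
  have : y = g := Subtype.ext hyg
  rwa [← this]

/-- A subgroup of the symmetric group containing an odd element and the alternating group is the
whole group. -/
lemma eq_top_of_comap_eq_top {K : Subgroup (Perm α)} {t : Perm α} (ht : sign t = -1) (ht1 : t ∈ K)
    (hK : K.comap (alternatingGroup α).subtype = ⊤) : K = ⊤ := by
  rw [eq_top_iff]
  rintro y -
  have hev : ∀ z : Perm α, sign z = 1 → z ∈ K := by
    intro z hz
    have : (⟨z, Equiv.Perm.mem_alternatingGroup.2 hz⟩ : alternatingGroup α) ∈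
        K.comap (alternatingGroup α).subtype := by rw [hK]; exact Subgroup.mem_top _
    exact this
  rcases Int.units_eq_one_or (sign y) with hs | hs
  · exact hev y hs
  · have h1 : sign (y * t) = 1 := by rw [Perm.sign_mul, hs, ht]; decide
    have h2 := K.mul_mem (hev _ h1) (K.inv_mem ht1)
    simpa using h2

/-- Two proper overgroups in odd degree not of the form `2^k + 1`. -/
theorem odd_case (hn : Odd (Nat.card α)) (h5 : 5 ≤ Nat.card α)
    (hno : ¬ ∃ k, 2 ≤ k ∧ Nat.card α = 2 ^ k + 1) (P : Sylow 2 (Perm α)) :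
    ∃ K₁ K₂ : Subgroup (Perm α), (P : Subgroup (Perm α)) ≤ K₁ ∧ (P : Subgroup (Perm α)) ≤ K₂ ∧
      K₁ ≠ ⊤ ∧ K₂ ≠ ⊤ ∧ K₁ ⊔ K₂ = ⊤ := by
  classical
  obtain ⟨δ, hδ⟩ := exists_uncovered P hn
  have hfixδ := fun g hg => fix_uncovered P hδ (g := g) hg
  have hnontrans : ∃ x₀ d, x₀ ≠ δ ∧ d ≠ δ ∧ ∀ g ∈ (P : Subgroup (Perm α)), g x₀ ≠ d := by
    by_contra hcon
    push Not at hcon
    obtain ⟨x₀, hx₀⟩ : ∃ x₀ : α, x₀ ≠ δ := by
      have : Nontrivial α := by
        rw [← Finite.one_lt_card_iff_nontrivial]; omega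
      exact exists_ne δ
    obtain ⟨j, hj⟩ := (P.isPGroup').card_orbit x₀
    have horb : orbit (P : Subgroup (Perm α)) x₀ = ({δ}ᶜ : Set α) := by
      ext y
      simp only [Set.mem_compl_iff, Set.mem_singleton_iff]
      constructor
      · rintro ⟨g, rfl⟩ h
        have h1 : g.1 x₀ = δ := h
        have h2 : g.1 δ = δ := hfixδ g.1 g.2
        exact hx₀ (g.1.injective (h1.trans h2.symm))
      · intro hy
        obtain ⟨g, hg, hgx⟩ := hcon x₀ y hx₀ hy
        exact ⟨⟨g, hg⟩, hgx⟩
    rw [horb, Nat.card_coe_set_eq, Set.ncard_compl, Set.ncard_singleton] at hj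
    apply hno
    have h6 : 2 ≤ j := by
      by_contra hlt
      have : j ≤ 1 := by omega
      have h7 : 2 ^ j ≤ 2 ^ 1 := Nat.pow_le_pow_right (by norm_num) this
      omega
    exact ⟨j, h6, by omega⟩
  obtain ⟨x₀, d, hx₀, hd, hno2⟩ := hnontrans
  set O : Set α := {x | ∃ g ∈ (P : Subgroup (Perm α)), g x₀ = x} with hO
  have hx₀O : x₀ ∈ O := ⟨1, Subgroup.one_mem _, rfl⟩
  have hδO : δ ∉ O := by
    rintro ⟨g, hg, hgx⟩
    exact hx₀ (g.injective (hgx.trans (hfixδ g hg).symm))
  have hdO : d ∉ O := by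
    rintro ⟨g, hg, hgx⟩
    exact hno2 g hg hgx
  have hPO : ∀ g ∈ (P : Subgroup (Perm α)), ∀ x, x ∈ O ↔ g x ∈ O := by
    intro g hg x
    constructor
    · rintro ⟨h, hh, rfl⟩
      exact ⟨g * h, Subgroup.mul_mem _ hg hh, rfl⟩
    · rintro ⟨h, hh, hhx⟩
      refine ⟨g⁻¹ * h, Subgroup.mul_mem _ (Subgroup.inv_mem _ hg) hh, ?_⟩
      show g⁻¹ (h x₀) = x
      rw [hhx]; simp
  let r₁ : α → α → Prop := fun x y => x = δ ↔ y = δ
  let r₂ : α → α → Prop := fun x y => x ∈ O ↔ y ∈ O
  have hr₁ : Equivalence r₁ := ⟨fun _ => Iff.rfl, fun h => h.symm, fun h1 h2 => h1.trans h2⟩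
  have hr₂ : Equivalence r₂ := ⟨fun _ => Iff.rfl, fun h => h.symm, fun h1 h2 => h1.trans h2⟩
  refine ⟨relStab r₁, relStab r₂, ?_, ?_, ?_, ?_, ?_⟩
  · intro g hg x y
    have h1 : ∀ z, g z = δ ↔ z = δ := by
      intro z
      constructor
      · intro h
        exact g.injective (h.trans (hfixδ g hg).symm)
      · rintro rfl
        exact hfixδ g hg
    show (x = δ ↔ y = δ) ↔ (g x = δ ↔ g y = δ)
    rw [h1, h1]
  · intro g hg x y
    show (x ∈ O ↔ y ∈ O) ↔ (g x ∈ O ↔ g y ∈ O)
    rw [← hPO g hg x, ← hPO g hg y]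
  · intro htop
    have h1 : swap δ d ∈ relStab r₁ := by rw [htop]; exact Subgroup.mem_top _
    have h2 := (h1 d d).1 Iff.rfl
    have h3 := (h1 δ d).1
    have h4 : r₁ d x₀ := ⟨fun h => absurd h hd, fun h => absurd h hx₀⟩
    have h5 := (h1 d x₀).1 h4
    have h6 : r₁ (swap δ d d) (swap δ d x₀) := h5
    rw [swap_apply_right, swap_apply_of_ne_of_ne hx₀ (by
      rintro rfl
      exact hdO hx₀O)] at h6
    exact hx₀ (h6.1 rfl)
  · intro htop
    have h1 : swap d x₀ ∈ relStab r₂ := by rw [htop]; exact Subgroup.mem_top _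
    have h4 : r₂ δ d := ⟨fun h => absurd h hδO, fun h => absurd h hdO⟩
    have h5 := (h1 δ d).1 h4
    have h6 : r₂ (swap d x₀ δ) (swap d x₀ d) := h5
    rw [swap_apply_left, swap_apply_of_ne_of_ne hd.symm hx₀.symm] at h6
    exact hδO (h6.2 hx₀O)
  · rw [eq_top_iff, ← closure_isSwap, Subgroup.closure_le]
    rintro σ ⟨x, y, hxy, rfl⟩
    have hoff : ∀ x y : α, x ≠ δ → y ≠ δ → swap x y ∈ relStab r₁ ⊔ relStab r₂ := by
      intro x y hx hy
      apply (le_sup_left : relStab r₁ ≤ _)
      apply swap_mem_relStab hr₁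
      exact ⟨fun h => absurd h hx, fun h => absurd h hy⟩
    have hδs : swap δ d ∈ relStab r₁ ⊔ relStab r₂ := by
      apply (le_sup_right : relStab r₂ ≤ _)
      apply swap_mem_relStab hr₂
      exact ⟨fun h => absurd h hδO, fun h => absurd h hdO⟩
    have hδ2 : ∀ y : α, y ≠ δ → swap δ y ∈ relStab r₁ ⊔ relStab r₂ := by
      intro y hy
      have h1 := swap_apply_apply (swap d y) δ d
      rw [swap_apply_of_ne_of_ne hd.symm hy.symm, swap_apply_left] at h1
      rw [h1]
      exact Subgroup.mul_mem _ (Subgroup.mul_mem _ (hoff d y hd hy) hδs)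
        (Subgroup.inv_mem _ (hoff d y hd hy))
    by_cases hx : x = δ
    · rw [hx]; exact hδ2 y (by rw [← hx]; exact hxy.symm)
    by_cases hy : y = δ
    · rw [hy, swap_comm]; exact hδ2 x hx
    · exact hoff x y hx hy

/-- On an edge, a moved point goes to the other moved point. -/
lemma edge_apply {P : Subgroup (Perm α)} (t : swapsIn P) {u v : α} (hu : t.1 u ≠ u)
    (hv : t.1 v ≠ v) (huv : u ≠ v) : t.1 u = v := by
  rcases eq_fst_or_snd t hu with h1 | h1 <;> rcases eq_fst_or_snd t hv with h2 | h2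
  · exact absurd (h1.trans h2.symm) huv
  · rw [eq_swap_pts t, h1, h2, swap_apply_left]
  · rw [eq_swap_pts t, h1, h2, swap_apply_right]
  · exact absurd (h1.trans h2.symm) huv

lemma edge_eq_swap {P : Subgroup (Perm α)} (t : swapsIn P) {u v : α} (hu : t.1 u ≠ u)
    (hv : t.1 v ≠ v) (huv : u ≠ v) : t.1 = swap u v := by
  rcases eq_fst_or_snd t hu with h1 | h1 <;> rcases eq_fst_or_snd t hv with h2 | h2
  · exact absurd (h1.trans h2.symm) huv
  · rw [eq_swap_pts t, h1, h2]
  · rw [eq_swap_pts t, h1, h2, swap_comm]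
  · exact absurd (h1.trans h2.symm) huv

/-- Two proper overgroups in even degree at least 6. -/
theorem even_case (hn : Even (Nat.card α)) (h6 : 6 ≤ Nat.card α) (P : Sylow 2 (Perm α)) :
    ∃ K₁ K₂ : Subgroup (Perm α), (P : Subgroup (Perm α)) ≤ K₁ ∧ (P : Subgroup (Perm α)) ≤ K₂ ∧
      K₁ ≠ ⊤ ∧ K₂ ≠ ⊤ ∧ K₁ ⊔ K₂ = ⊤ := by
  classical
  have hP := P.isPGroup'
  have hcard := card_edges_of_even P hn
  set T := swapsIn (P : Subgroup (Perm α)) with hT
  have h3 : 3 ≤ Nat.card T := by omega
  letI : Fintype T := Fintype.ofFinite _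
  -- every point lies on a unique edge
  have hcov : ∀ x : α, ∃ t : T, t.1 x ≠ x := by
    intro x
    have h1 := not_uncovered_of_even P hn x
    unfold Uncovered at h1
    push Not at h1
    obtain ⟨z, hz, hzP⟩ := h1
    refine ⟨⟨swap x z, hzP, x, z, hz, rfl⟩, ?_⟩
    show swap x z x ≠ x
    rw [swap_apply_left]; exact hz.symm
  choose ε hε using hcov
  have hεu : ∀ (x : α) (t : T), t.1 x ≠ x → ε x = t := fun x t ht =>
    edge_eq_of_share hP (hε x) ht
  have hεfst : ∀ t : T, ε (fstPt t) = t := fun t => hεu _ t (swap_moves_fst t)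
  have hεsnd : ∀ t : T, ε (sndPt t) = t := fun t => hεu _ t (swap_moves_snd t)
  -- the quotient Sylow subgroup
  set Q := edgeSylow P with hQ
  obtain ⟨e, f, hef, hefQ⟩ : ∃ e f : T, e ≠ f ∧ swap e f ∈ (Q : Subgroup (Perm T)) := by
    have : Nontrivial T := by
      rw [← Finite.one_lt_card_iff_nontrivial]; omega
    obtain ⟨t₁, t₂, h12⟩ := exists_pair_ne T
    rcases covered_or_covered Q h12 with ⟨z, hz, hzP⟩ | ⟨z, hz, hzP⟩
    · exact ⟨t₁, z, hz, hzP⟩
    · exact ⟨t₂, z, hz, hzP⟩
  obtain ⟨h, hhe, hhf⟩ : ∃ h : T, h ≠ e ∧ h ≠ f := by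
    have h2 : (({e, f} : Finset T)).card < (Finset.univ : Finset T).card := by
      rw [Finset.card_univ, ← Nat.card_eq_fintype_card]
      have : ({e, f} : Finset T).card ≤ 2 := Finset.card_le_two
      omega
    obtain ⟨t, -, ht⟩ := Finset.exists_mem_notMem_of_card_lt_card h2
    simp only [Finset.mem_insert, Finset.mem_singleton, not_or] at ht
    exact ⟨t, ht.1, ht.2⟩
  set a := fstPt e with ha
  set a' := sndPt e with ha'
  set c := fstPt f with hc
  set z := fstPt h with hz
  have hεa : ε a = e := hεfst e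
  have hεa' : ε a' = e := hεsnd e
  have hεc : ε c = f := hεfst f
  have hεz : ε z = h := hεfst h
  have hac : a ≠ c := by
    intro heq
    rw [heq, hεc] at hεa
    exact hef hεa.symm
  have haz : a ≠ z := by
    intro heq
    rw [heq, hεz] at hεa
    exact hhe hεa
  have hcz : c ≠ z := by
    intro heq
    rw [heq, hεz] at hεc
    exact hhf hεc
  have ha'c : a' ≠ c := by
    intro heq
    rw [heq, hεc] at hεa'
    exact hef hεa'.symm
  have haa' : a ≠ a' := fstPt_ne e
  -- the relation
  let r' : T → T → Prop := fun p q => p = q ∨ swap p q ∈ (Q : Subgroup (Perm T))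
  have hQ2 := Q.isPGroup'
  have hr'eq : Equivalence r' := by
    refine ⟨fun _ => Or.inl rfl, ?_, ?_⟩
    · rintro p q (h1 | h1)
      · exact Or.inl h1.symm
      · right; rw [swap_comm]; exact h1
    · rintro p q w (h1 | h1) (h2 | h2)
      · exact Or.inl (h1.trans h2)
      · rw [h1]; exact Or.inr h2
      · rw [← h2]; exact Or.inr h1
      · by_cases hpw : p = w
        · exact Or.inl hpw
        by_cases hqp : q = p
        · rw [← hqp]; exact Or.inr h2
        by_cases hqw : q = w
        · rw [← hqw]; exact Or.inr h1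
        have h3 : swap q p ∈ (Q : Subgroup (Perm T)) := by rw [swap_comm]; exact h1
        exact absurd (swap_unique hQ2 hqp hqw h3 h2) hpw
  let r : α → α → Prop := fun x y => r' (ε x) (ε y)
  have hreq : Equivalence r :=
    ⟨fun x => hr'eq.refl _, fun h => hr'eq.symm h, fun h1 h2 => hr'eq.trans h1 h2⟩
  refine ⟨conjStab T, relStab r, sylow_le_conjStab _, ?_, ?_, ?_, ?_⟩
  · -- `P` preserves the relation
    intro g hg x y
    let gA : conjStab T := ⟨g, swapsIn_conj _ g hg⟩
    let σ := conjAct T gA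
    have hσ : σ ∈ (Q : Subgroup (Perm T)) := act_mem_edgeSylow gA hg
    have hεg : ∀ x, ε (g x) = σ (ε x) := by
      intro x
      apply hεu
      have h1 : (σ (ε x)).1 (g x) = g ((ε x).1 x) := by
        show (g * (ε x).1 * g⁻¹) (g x) = _
        simp
      rw [h1]
      exact fun h => hε x (g.injective h)
    show r' (ε x) (ε y) ↔ r' (ε (g x)) (ε (g y))
    rw [hεg, hεg]
    have h2 : ∀ p q : T, r' (σ p) (σ q) ↔ r' p q := by
      intro p q
      have h3 : swap (σ p) (σ q) = σ * swap p q * σ⁻¹ := swap_apply_apply σ p q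
      show (σ p = σ q ∨ swap (σ p) (σ q) ∈ (Q : Subgroup (Perm T))) ↔
        (p = q ∨ swap p q ∈ (Q : Subgroup (Perm T)))
      rw [h3, σ.injective.eq_iff]
      refine or_congr Iff.rfl ?_
      constructor
      · intro h4
        have h5 := Subgroup.mul_mem _ (Subgroup.mul_mem _ (Subgroup.inv_mem _ hσ) h4) hσ
        simpa [mul_assoc] using h5
      · intro h4
        exact Subgroup.mul_mem _ (Subgroup.mul_mem _ hσ h4) (Subgroup.inv_mem _ hσ)
    exact (h2 _ _).symm
  · -- the edge stabilizer is proper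
    intro htop
    have h1 : swap a c ∈ conjStab T := by rw [htop]; exact Subgroup.mem_top _
    have h2 := (h1 e.1).1 e.2
    rw [eq_swap_pts e, ← swap_apply_apply, swap_apply_left,
      swap_apply_of_ne_of_ne haa'.symm ha'c] at h2
    let u : T := ⟨_, h2⟩
    have hu1 : u.1 c ≠ c := by
      show swap c a' c ≠ c
      rw [swap_apply_left]; exact ha'c
    have hu2 : u.1 a' ≠ a' := by
      show swap c a' a' ≠ a'
      rw [swap_apply_right]; exact ha'c.symm
    have h3 := hεu c u hu1
    have h4 := hεu a' u hu2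
    rw [hεc] at h3
    rw [hεa'] at h4
    exact hef (h4.trans h3.symm)
  · -- the second overgroup is proper
    intro htop
    have h1 : swap c z ∈ relStab r := by rw [htop]; exact Subgroup.mem_top _
    have hrac : r a c := by
      show r' (ε a) (ε c)
      rw [hεa, hεc]
      exact Or.inr hefQ
    have h2 := (h1 a c).1 hrac
    have h3 : r' (ε (swap c z a)) (ε (swap c z c)) := h2
    rw [swap_apply_of_ne_of_ne hac haz, swap_apply_left, hεa, hεz] at h3
    rcases h3 with h3 | h3
    · exact hhe h3.symm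
    · exact hhf (swap_unique hQ2 hef hhe.symm hefQ h3).symm
  · -- the join is everything
    have hswapK₂ : swap a c ∈ relStab r := by
      apply swap_mem_relStab hreq
      show r' (ε a) (ε c)
      rw [hεa, hεc]
      exact Or.inr hefQ
    have hPK : ∀ g ∈ (P : Subgroup (Perm α)), g ∈ conjStab T := fun g hg => swapsIn_conj _ g hg
    have hadj : ∀ u v : α, ε u = ε v → ∃ τ ∈ (P : Subgroup (Perm α)), τ u = v ∧
        ∀ p, ε p ≠ ε u → τ p = p := by
      intro u v huv
      by_cases hne : u = v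
      · exact ⟨1, Subgroup.one_mem _, by simp [hne], by simp⟩
      refine ⟨(ε u).1, (ε u).2.1, ?_, ?_⟩
      · apply edge_apply (ε u) (hε u) _ hne
        rw [huv]; exact hε v
      · intro p hp
        by_contra hne2
        exact hp (hεu p (ε u) hne2)
    rw [eq_top_iff, ← closure_isSwap, Subgroup.closure_le]
    rintro τ ⟨x, y, hxy, rfl⟩
    by_cases hxyε : ε x = ε y
    · apply (le_sup_left : conjStab T ≤ _)
      apply hPK
      have h3 : (ε x).1 = swap x y := by
        apply edge_eq_swap (ε x) (hε x) _ hxy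
        rw [hxyε]; exact hε y
      rw [← h3]
      exact (ε x).2.1
    · let σ₁ : Perm T := swap e (ε x)
      let σ : Perm T := swap (σ₁ f) (ε y) * σ₁
      have hσ₁e : σ₁ e = ε x := swap_apply_left _ _
      have hσ₁f : σ₁ f ≠ ε x := by
        rw [← hσ₁e]
        exact fun h => hef (σ₁.injective h).symm
      have hσe : σ e = ε x := by
        show swap (σ₁ f) (ε y) (σ₁ e) = _
        rw [hσ₁e]
        exact swap_apply_of_ne_of_ne hσ₁f.symm hxyε
      have hσf : σ f = ε y := by
        show swap (σ₁ f) (ε y) (σ₁ f) = _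
        exact swap_apply_left _ _
      obtain ⟨w, hw⟩ := exists_lift hP σ
      have hwconj : ∀ t : T, (σ t).1 = w.1 * t.1 * w.1⁻¹ := by
        intro t
        rw [← hw]
        rfl
      have hwa : ε (w.1 a) = ε x := by
        apply hεu
        rw [← hσe, hwconj]
        have h1 : (w.1 * e.1 * w.1⁻¹) (w.1 a) = w.1 (e.1 a) := by simp
        rw [h1]
        have h2 : e.1 a ≠ a := swap_moves_fst e
        exact fun h => h2 (w.1.injective h)
      have hwc : ε (w.1 c) = ε y := by
        apply hεu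
        rw [← hσf, hwconj]
        have h1 : (w.1 * f.1 * w.1⁻¹) (w.1 c) = w.1 (f.1 c) := by simp
        rw [h1]
        have h2 : f.1 c ≠ c := swap_moves_fst f
        exact fun h => h2 (w.1.injective h)
      obtain ⟨τ₁, hτ₁, hτ₁a, hτ₁f⟩ := hadj _ _ hwa
      obtain ⟨τ₂, hτ₂, hτ₂c, hτ₂f⟩ := hadj _ _ hwc
      set g : Perm α := τ₂ * τ₁ * w.1 with hg
      have hga : g a = x := by
        show τ₂ (τ₁ (w.1 a)) = x
        rw [hτ₁a]
        apply hτ₂f
        rw [hwc]; exact hxyε
      have hgc : g c = y := by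
        show τ₂ (τ₁ (w.1 c)) = y
        rw [hτ₁f (w.1 c) (by rw [hwc, hwa]; exact fun h => hxyε h.symm), hτ₂c]
      have hgK : g ∈ conjStab T :=
        Subgroup.mul_mem _ (Subgroup.mul_mem _ (hPK _ hτ₂) (hPK _ hτ₁)) w.2
      have h1 := swap_apply_apply g a c
      rw [hga, hgc] at h1
      rw [h1]
      have hgJ : g ∈ conjStab T ⊔ relStab r := (le_sup_left : conjStab T ≤ _) hgK
      exact Subgroup.mul_mem _ (Subgroup.mul_mem _ hgJ ((le_sup_right : relStab r ≤ _) hswapK₂))
        (Subgroup.inv_mem _ hgJ)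

end Cfsg.Agent.Perm.SymSylow
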