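import Mathlib
import Cfsg.Agent.Lib.Perm.SymSylow3
import Cfsg.Agent.Lib.Perm.Orbits

/-!
Unique maximal overgroups of Sylow 2-subgroups of symmetric and alternating groups.
-/

namespace Cfsg.Agent.Perm.SymSylow

open Equiv Equiv.Perm MulAction

universe u_1

set_option linter.style.haveILetI false

variable {α : Type u_1} [Fintype α] [DecidableEq α]

lemma card_edges_of_pow {k : ℕ} (hk : 2 ≤ k) (hn : Nat.card α = 2 ^ k + 1)
    (P : Sylow 2 (Perm α)) : Nat.card (swapsIn (P : Subgroup (Perm α))) = 2 ^ (k - 1) := by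
  have hodd : Odd (Nat.card α) := by
    rw [hn]
    obtain ⟨j, rfl⟩ : ∃ j, k = j + 1 := ⟨k - 1, by omega⟩
    exact ⟨2 ^ j, by rw [pow_succ]; ring⟩
  have h1 := card_edges_of_odd P hodd
  obtain ⟨j, rfl⟩ : ∃ j, k = j + 1 := ⟨k - 1, by omega⟩
  simp only [Nat.add_sub_cancel]
  rw [hn, pow_succ] at h1
  omega

/-- The symmetric group: `⇐`. -/
theorem perm_unique_of_pow {k : ℕ} (hk : 2 ≤ k) (hn : Nat.card α = 2 ^ k + 1)
    (R : Sylow 2 (Perm α)) :
    ∃! M : Subgroup (Perm α), IsCoatom M ∧ (R : Subgroup (Perm α)) ≤ M := by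
  classical
  have hodd : Odd (Nat.card α) := by
    rw [hn]
    obtain ⟨j, rfl⟩ : ∃ j, k = j + 1 := ⟨k - 1, by omega⟩
    exact ⟨2 ^ j, by rw [pow_succ]; ring⟩
  obtain ⟨δ, hδ⟩ := exists_uncovered R hodd
  have hT := card_edges_of_pow hk hn R
  have hpos : 1 ≤ 2 ^ (k - 1) := Nat.one_le_two_pow
  have hneδ : ∀ x, x ≠ δ → ¬ Uncovered (R : Subgroup (Perm α)) x := fun x hx hu =>
    hx (uncovered_unique R hu hδ)
  obtain ⟨t⟩ : Nonempty (swapsIn (R : Subgroup (Perm α))) := by
    have : 0 < Nat.card (swapsIn (R : Subgroup (Perm α))) := by omega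
    exact (Nat.card_pos_iff.1 this).1
  have ht1 : t.1.IsSwap := t.2.2
  have hx1 : fstPt t ≠ δ := by
    intro h
    have := edge_fix_uncovered hδ t
    rw [← h] at this
    exact swap_moves_fst t this
  apply unique_coatom_of (S := stabilizer (Perm α) δ)
  · intro g hg
    exact fix_uncovered R hδ hg
  · intro htop
    have h1 : swap δ (fstPt t) ∈ stabilizer (Perm α) δ := by rw [htop]; exact Subgroup.mem_top _
    have h2 : swap δ (fstPt t) δ = δ := h1
    rw [swap_apply_left] at h2
    exact hx1 h2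
  · intro K hRK hKt g hg
    by_contra hgδ
    have hgδ' : g δ ≠ δ := hgδ
    have hprim := isPreprimitive_of_moves K (R : Subgroup (Perm α)) hRK
      (fun h hh => fix_uncovered R hδ hh)
      (fun x y hx hy => covered_trans R hT (hneδ x hx) (hneδ y hy)) hg hgδ'
    exact hKt (subgroup_eq_top_of_isPreprimitive_of_isSwap_mem hprim t.1 ht1 (hRK t.2.1))

/-- The symmetric group, characterization. -/
theorem perm_coatom_iff (hn : 5 ≤ Nat.card α) (R : Sylow 2 (Perm α)) :
    (∃! M : Subgroup (Perm α), IsCoatom M ∧ (R : Subgroup (Perm α)) ≤ M) ↔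
      ∃ k, 2 ≤ k ∧ Nat.card α = 2 ^ k + 1 := by
  constructor
  · intro huniq
    by_contra hno
    rcases Nat.even_or_odd (Nat.card α) with he | ho
    · obtain ⟨K₁, K₂, h1, h2, h3, h4, h5⟩ := even_case he (by
        obtain ⟨m, hm⟩ := he
        omega) R
      exact not_unique_coatom h1 h2 h3 h4 h5 huniq
    · obtain ⟨K₁, K₂, h1, h2, h3, h4, h5⟩ := odd_case ho hn hno R
      exact not_unique_coatom h1 h2 h3 h4 h5 huniq
  · rintro ⟨k, hk, hnk⟩
    exact perm_unique_of_pow hk hnk R

/-- A proper subgroup of odd index containing a point-transitive piece in degree 5. -/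
lemma top_of_degree_five (hn : Nat.card α = 5) (hs : IsSimpleGroup (alternatingGroup α))
    (K : Subgroup (alternatingGroup α)) (hodd : ¬ 2 ∣ K.index)
    (htr : IsPretransitive (K.map (alternatingGroup α).subtype) α) : K = ⊤ := by
  classical
  have hnt : Nontrivial α := by
    rw [← Finite.one_lt_card_iff_nontrivial]; omega
  have hG : Nat.card (alternatingGroup α) = 60 := by
    have h1 := two_mul_nat_card_alternatingGroup (α := α)
    rw [Nat.card_perm, hn] at h1
    have h2 : Nat.factorial 5 = 120 := rfl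
    omega
  obtain ⟨δ⟩ : Nonempty α := inferInstance
  have h1 := Cfsg.Agent.Lib.Perm.card_orbit_mul_card_stabilizer
    (K := K.map (alternatingGroup α).subtype) (X := α) δ
  rw [MulAction.orbit_eq_univ] at h1
  have h2 : Nat.card (Set.univ : Set α) = 5 := by
    rw [Nat.card_coe_set_eq, Set.ncard_univ, hn]
  rw [h2] at h1
  have h3 : Nat.card (K.map (alternatingGroup α).subtype) = Nat.card K :=
    Nat.card_congr (K.equivMapOfInjective _ Subtype.val_injective).symm.toEquiv
  rw [h3] at h1
  have h4 := K.index_mul_card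
  rw [hG] at h4
  have h5 : K.index ∣ 12 := by
    have h6 : K.index * Nat.card (stabilizer (K.map (alternatingGroup α).subtype) δ) * 5 = 12 * 5 := by
      rw [← h1] at h4
      nlinarith [h4]
    have h7 : K.index * Nat.card (stabilizer (K.map (alternatingGroup α).subtype) δ) = 12 := by
      omega
    exact ⟨_, h7.symm⟩
  have h8 : K.index = 1 ∨ K.index = 3 := by
    have h9 : K.index ≤ 12 := Nat.le_of_dvd (by norm_num) h5
    interval_cases hi : K.index <;> first | omega | (exfalso; revert h5 hodd; decide)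
  rcases h8 with h8 | h8
  · exact Subgroup.index_eq_one.1 h8
  · have hcore : K.normalCore.Normal := Subgroup.normalCore_normal K
    rcases hcore.eq_bot_or_eq_top with h9 | h9
    · exfalso
      have h10 : Function.Injective (MulAction.toPermHom (alternatingGroup α) (alternatingGroup α ⧸ K)) := by
        rw [← MonoidHom.ker_eq_bot_iff, ← Subgroup.normalCore_eq_ker]
        exact h9
      have h11 := Nat.card_le_card_of_injective _ h10
      rw [Nat.card_perm, hG] at h11
      have h12 : Nat.card (alternatingGroup α ⧸ K) = 3 := h8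
      rw [h12] at h11
      exact absurd h11 (by decide)
    · rw [eq_top_iff, ← h9]
      exact Subgroup.normalCore_le K

/-- The alternating group: a proper overgroup of a Sylow 2-subgroup fixes the uncovered point. -/
theorem alt_fix_of_proper {k : ℕ} (hk : 2 ≤ k) (hn : Nat.card α = 2 ^ k + 1)
    (hs : Nat.card α = 5 → IsSimpleGroup (alternatingGroup α))
    (R : Sylow 2 (alternatingGroup α)) (P : Sylow 2 (Perm α))
    (hRP : ∀ g : alternatingGroup α,
      g ∈ (R : Subgroup (alternatingGroup α)) ↔ (g : Perm α) ∈ (P : Subgroup (Perm α)))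
    {δ : α} (hδ : Uncovered (P : Subgroup (Perm α)) δ)
    (K : Subgroup (alternatingGroup α)) (hRK : (R : Subgroup (alternatingGroup α)) ≤ K)
    (hKt : K ≠ ⊤) (g : alternatingGroup α) (hg : g ∈ K) : (g : Perm α) δ = δ := by
  classical
  have hT := card_edges_of_pow hk hn P
  have hpos : 2 ≤ 2 ^ (k - 1) := by
    calc 2 = 2 ^ 1 := rfl
      _ ≤ 2 ^ (k - 1) := Nat.pow_le_pow_right (by norm_num) (by omega)
  have hneδ : ∀ x, x ≠ δ → ¬ Uncovered (P : Subgroup (Perm α)) x := fun x hx hu =>
    hx (uncovered_unique P hu hδ)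
  let H₀ := (R : Subgroup (alternatingGroup α)).map (alternatingGroup α).subtype
  have hevenmem : ∀ y ∈ (P : Subgroup (Perm α)), sign y = 1 → y ∈ H₀ := by
    intro y hy hys
    have h : y ∈ alternatingGroup α := Equiv.Perm.mem_alternatingGroup.2 hys
    exact ⟨⟨y, h⟩, (hRP ⟨y, h⟩).2 hy, rfl⟩
  by_contra hgδ'
  set K' := K.map (alternatingGroup α).subtype with hK'
  have hH₀ : H₀ ≤ K' := Subgroup.map_mono hRK
  have hfix : ∀ h ∈ H₀, h δ = δ := by
    rintro _ ⟨y, hy, rfl⟩
    exact fix_uncovered P hδ ((hRP y).1 hy)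
  have htr : ∀ x y, x ≠ δ → y ≠ δ → ∃ h ∈ H₀, h x = y := by
    intro x y hx hy
    obtain ⟨h, hh, hsh, hhx⟩ := covered_trans_even P hT (by omega) (hneδ x hx) (hneδ y hy)
    exact ⟨h, hevenmem h hh hsh, hhx⟩
  have hprim := isPreprimitive_of_moves K' H₀ hH₀ hfix htr (⟨g, hg, rfl⟩ : (g : Perm α) ∈ K') hgδ'
  by_cases hk2 : k = 2
  · subst hk2
    have hn5 : Nat.card α = 5 := by rw [hn]; norm_num
    apply hKt
    apply top_of_degree_five hn5 (hs hn5) K _ hprim.toIsPretransitive
    intro h2
    exact R.not_dvd_index (h2.trans (Subgroup.index_dvd_of_le hRK))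
  · have h4 : 4 ≤ Nat.card (swapsIn (P : Subgroup (Perm α))) := by
      rw [hT]
      calc 4 = 2 ^ 2 := rfl
        _ ≤ 2 ^ (k - 1) := Nat.pow_le_pow_right (by norm_num) (by omega)
    have hedgeK : ∀ t u : swapsIn (P : Subgroup (Perm α)), t ≠ u → t.1 * u.1 ∈ K' := by
      intro t u _
      apply hH₀
      apply hevenmem _ (Subgroup.mul_mem _ t.2.1 u.2.1)
      obtain ⟨t, htP, a, b, hab, rfl⟩ := t
      obtain ⟨u, huP, c, d, hcd, rfl⟩ := u
      rw [Perm.sign_mul, sign_swap hab, sign_swap hcd]; decide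
    obtain ⟨c, hc, hc3⟩ := exists_three_cycle P h4 hδ K' hedgeK
      (⟨g, hg, rfl⟩ : (g : Perm α) ∈ K') hgδ'
    have hle := alternatingGroup_le_of_isPreprimitive_of_isThreeCycle_mem hprim hc3 hc
    apply hKt
    rw [eq_top_iff]
    rintro y -
    obtain ⟨z, hz, hzy⟩ := hle y.2
    have : z = y := Subtype.ext hzy
    rwa [← this]

/-- An element of the alternating group moving a given point: the 3-cycle through an edge. -/
lemma exists_even_moves (P : Sylow 2 (Perm α)) (h1 : 1 ≤ Nat.card (swapsIn (P : Subgroup (Perm α))))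
    {δ : α} (hδ : Uncovered (P : Subgroup (Perm α)) δ) :
    ∃ g : alternatingGroup α, (g : Perm α) δ ≠ δ := by
  obtain ⟨t⟩ : Nonempty (swapsIn (P : Subgroup (Perm α))) := by
    have : 0 < Nat.card (swapsIn (P : Subgroup (Perm α))) := by omega
    exact (Nat.card_pos_iff.1 this).1
  have hx1 : fstPt t ≠ δ := by
    intro h
    have := edge_fix_uncovered hδ t
    rw [← h] at this
    exact swap_moves_fst t this
  have hx2 : sndPt t ≠ δ := by
    intro h
    have := edge_fix_uncovered hδ t
    rw [← h] at this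
    exact swap_moves_snd t this
  have hev : sign (swap δ (fstPt t) * swap δ (sndPt t)) = 1 := by
    rw [Perm.sign_mul, sign_swap hx1.symm, sign_swap hx2.symm]; decide
  refine ⟨⟨_, Equiv.Perm.mem_alternatingGroup.2 hev⟩, ?_⟩
  show (swap δ (fstPt t) * swap δ (sndPt t)) δ ≠ δ
  rw [Perm.mul_apply, swap_apply_left, swap_apply_of_ne_of_ne hx2 (fstPt_ne t).symm]
  exact hx2

/-- The alternating group: `⇐`. -/
theorem alt_unique_of_pow {k : ℕ} (hk : 2 ≤ k) (hn : Nat.card α = 2 ^ k + 1)
    (hs : Nat.card α = 5 → IsSimpleGroup (alternatingGroup α))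
    (R : Sylow 2 (alternatingGroup α)) :
    ∃! M : Subgroup (alternatingGroup α), IsCoatom M ∧ (R : Subgroup (alternatingGroup α)) ≤ M := by
  classical
  obtain ⟨P, hRP⟩ := exists_perm_sylow R
  have hodd : Odd (Nat.card α) := by
    rw [hn]
    obtain ⟨j, rfl⟩ : ∃ j, k = j + 1 := ⟨k - 1, by omega⟩
    exact ⟨2 ^ j, by rw [pow_succ]; ring⟩
  obtain ⟨δ, hδ⟩ := exists_uncovered P hodd
  have hT := card_edges_of_pow hk hn P
  have hpos : 1 ≤ 2 ^ (k - 1) := Nat.one_le_two_pow
  apply unique_coatom_of (S := (stabilizer (Perm α) δ).comap (alternatingGroup α).subtype)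
  · intro g hg
    exact fix_uncovered P hδ ((hRP g).1 hg)
  · intro htop
    obtain ⟨g, hg⟩ := exists_even_moves P (by omega) hδ
    have h1 : g ∈ (stabilizer (Perm α) δ).comap (alternatingGroup α).subtype := by
      rw [htop]; exact Subgroup.mem_top _
    exact hg h1
  · intro K hRK hKt g hg
    exact alt_fix_of_proper hk hn hs R P hRP hδ K hRK hKt g hg

/-- The alternating group, characterization. -/
theorem alt_coatom_iff (hn : 5 ≤ Nat.card α)
    (hs : Nat.card α = 5 → IsSimpleGroup (alternatingGroup α))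
    (R : Sylow 2 (alternatingGroup α)) :
    (∃! M : Subgroup (alternatingGroup α), IsCoatom M ∧ (R : Subgroup (alternatingGroup α)) ≤ M) ↔
      ∃ k, 2 ≤ k ∧ Nat.card α = 2 ^ k + 1 := by
  classical
  constructor
  · intro huniq
    by_contra hno
    obtain ⟨P, hRP⟩ := exists_perm_sylow R
    obtain ⟨K₁, K₂, h1, h2, h3, h4, h5⟩ : ∃ K₁ K₂ : Subgroup (Perm α),
        (P : Subgroup (Perm α)) ≤ K₁ ∧ (P : Subgroup (Perm α)) ≤ K₂ ∧
        K₁ ≠ ⊤ ∧ K₂ ≠ ⊤ ∧ K₁ ⊔ K₂ = ⊤ := by
      rcases Nat.even_or_odd (Nat.card α) with he | ho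
      · exact even_case he (by
          obtain ⟨m, hm⟩ := he
          omega) P
      · exact odd_case ho hn hno P
    obtain ⟨t⟩ : Nonempty (swapsIn (P : Subgroup (Perm α))) := by
      have hc := card_le_edges P
      have : 0 < Nat.card (swapsIn (P : Subgroup (Perm α))) := by omega
      exact (Nat.card_pos_iff.1 this).1
    have htodd : sign t.1 = -1 := by
      obtain ⟨t, htP, p, q, hpq, rfl⟩ := t
      exact sign_swap hpq
    have htt : t.1 * t.1 = 1 := by
      obtain ⟨t, htP, p, q, hpq, rfl⟩ := t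
      exact swap_mul_self p q
    apply not_unique_coatom (R := (R : Subgroup (alternatingGroup α)))
      (K₁ := K₁.comap (alternatingGroup α).subtype) (K₂ := K₂.comap (alternatingGroup α).subtype)
      ?_ ?_ ?_ ?_ (alt_join htodd (h1 t.2.1) (h2 t.2.1) htt h5) huniq
    · intro g hg
      exact h1 ((hRP g).1 hg)
    · intro g hg
      exact h2 ((hRP g).1 hg)
    · intro h
      exact h3 (eq_top_of_comap_eq_top htodd (h1 t.2.1) h)
    · intro h
      exact h4 (eq_top_of_comap_eq_top htodd (h2 t.2.1) h)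
  · rintro ⟨k, hk, hnk⟩
    exact alt_unique_of_pow hk hnk hs R

end Cfsg.Agent.Perm.SymSylow
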