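import Cfsg.Agent.Lib.Perm.SymSylow

/-!
Two-elements of symmetric groups lying in a unique Sylow 2-subgroup.
-/

namespace Cfsg.Agent.Perm.SymSylow

open Equiv Equiv.Perm

universe u_1

set_option linter.style.haveILetI false

variable {α : Type u_1} [Fintype α] [DecidableEq α]

lemma pow_fix_iff (x : Perm α) (a : α) (k : ℕ) :
    (x ^ k) a = a ↔ Function.minimalPeriod x a ∣ k := by
  rw [← Function.isPeriodicPt_iff_minimalPeriod_dvd, Function.IsPeriodicPt, Function.IsFixedPt,
    Equiv.Perm.iterate_eq_pow]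

/-- At most two fixed points. -/
def FixLe (x : Perm α) : Prop :=
  ∀ a b c, x a = a → x b = b → x c = c → a = b ∨ a = c ∨ b = c

/-- Distinct nontrivial cycles have distinct lengths. -/
def NoRep (x : Perm α) : Prop :=
  ∀ a b, x a ≠ a → x b ≠ b → (∀ k : ℕ, (x ^ k) a = a ↔ (x ^ k) b = b) → x.SameCycle a b

lemma edge_pow_aux {P : Subgroup (Perm α)} (hP : IsPGroup 2 P) {y : Perm α} (hy : y ∈ P) {a b : α}
    (hab : a ≠ b) (hs : swap a b ∈ P) (h : y a = a) : y b = b := by
  have h1 : swap (y a) (y b) ∈ P := by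
    rw [swap_apply_apply]
    exact P.mul_mem (P.mul_mem hy hs) (P.inv_mem hy)
  rw [h] at h1
  have hne : a ≠ y b := by
    intro h2
    have : y a = y b := by rw [h]; exact h2
    exact hab (y.injective this)
  exact (swap_unique hP hab hne hs h1).symm

lemma edge_pow {P : Subgroup (Perm α)} (hP : IsPGroup 2 P) {x : Perm α} (hx : x ∈ P) {a b : α}
    (hab : a ≠ b) (hs : swap a b ∈ P) (k : ℕ) : (x ^ k) a = a ↔ (x ^ k) b = b := by
  have hy := P.pow_mem hx k
  refine ⟨edge_pow_aux hP hy hab hs, edge_pow_aux hP hy hab.symm ?_⟩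
  rw [swap_comm]; exact hs

lemma exists_partner (P : Sylow 2 (Perm α)) {x : Perm α} (hx : x ∈ (P : Subgroup (Perm α)))
    {a : α} (ha : x a ≠ a) : ∃ b, a ≠ b ∧ swap a b ∈ (P : Subgroup (Perm α)) := by
  by_contra h
  push Not at h
  exact ha (fix_uncovered P h hx)

lemma half_of_dvd {l j : ℕ} (h1 : l ∣ 2 * j) (h2 : ¬ l ∣ j) : j % l = l / 2 ∧ 2 ∣ l := by
  have hl : 0 < l := by
    rcases Nat.eq_zero_or_pos l with h | h
    · subst h
      have : j = 0 := by simpa using h1
      subst this; simp at h2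
    · exact h
  have hr : j % l < l := Nat.mod_lt _ hl
  have hr0 : j % l ≠ 0 := fun h => h2 (Nat.dvd_of_mod_eq_zero h)
  have h3 : l ∣ 2 * (j % l) := by
    have h4 : 2 * j = 2 * (l * (j / l)) + 2 * (j % l) := by
      have := Nat.div_add_mod j l
      omega
    rw [h4] at h1
    exact (Nat.dvd_add_right (Dvd.dvd.mul_left (Dvd.intro _ rfl) 2)).1 h1
  obtain ⟨q, hq⟩ := h3
  have hq1 : q = 1 := by
    have h5 : 0 < q := by
      rcases Nat.eq_zero_or_pos q with h | h
      · subst h; omega
      · exact h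
    have h6 : q < 2 := by
      by_contra h7
      push Not at h7
      have : l * 2 ≤ l * q := Nat.mul_le_mul_left _ h7
      omega
    omega
  subst hq1
  constructor <;> omega

/-- The partner of a moved point in the same cycle is the half-way point. -/
lemma partner_eq {P : Subgroup (Perm α)} (hP : IsPGroup 2 P) {x : Perm α} (hx : x ∈ P) {a b : α}
    (hab : a ≠ b) (hs : swap a b ∈ P) (hsc : x.SameCycle a b) :
    2 ∣ Function.minimalPeriod x a ∧ (x ^ (Function.minimalPeriod x a / 2)) a = b := by
  obtain ⟨j, -, hj⟩ := hsc.exists_pow_eq'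
  have hy := P.pow_mem hx j
  have h1 : swap ((x ^ j) a) ((x ^ j) b) ∈ P := by
    rw [swap_apply_apply]
    exact P.mul_mem (P.mul_mem hy hs) (P.inv_mem hy)
  rw [hj] at h1
  have h2 : swap b a ∈ P := by rw [swap_comm]; exact hs
  have hne : b ≠ (x ^ j) b := fun h3 => hab ((x ^ j).injective (hj.trans h3))
  have h3 : a = (x ^ j) b := swap_unique hP hab.symm hne h2 h1
  have h4 : (x ^ (2 * j)) a = a := by
    rw [two_mul, pow_add, Perm.mul_apply, hj]
    exact h3.symm
  rw [pow_fix_iff] at h4
  have h5 : ¬ Function.minimalPeriod x a ∣ j := by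
    rw [← pow_fix_iff, hj]
    exact fun h => hab h.symm
  obtain ⟨h6, h7⟩ := half_of_dvd h4 h5
  refine ⟨h7, ?_⟩
  rw [← h6, ← hj, ← Equiv.Perm.iterate_eq_pow, ← Equiv.Perm.iterate_eq_pow]
  exact Function.iterate_mod_minimalPeriod_eq

/-- The conjugation action of an element of `P` on the edges of `P`. -/
noncomputable def xS (P : Subgroup (Perm α)) (x : Perm α) (hx : x ∈ P) : Perm (swapsIn P) :=
  conjAct (swapsIn P) ⟨x, swapsIn_conj P x hx⟩

lemma xS_pow_val (P : Subgroup (Perm α)) (x : Perm α) (hx : x ∈ P) (k : ℕ) (t : swapsIn P) :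
    (((xS P x hx) ^ k) t : Perm α) = (x ^ k) * t.1 * (x ^ k)⁻¹ := by
  unfold xS
  rw [← map_pow, conjAct_apply]
  simp

lemma xS_pow_swap (P : Subgroup (Perm α)) (x : Perm α) (hx : x ∈ P) (k : ℕ) (t : swapsIn P)
    {a b : α} (ht : t.1 = swap a b) :
    (((xS P x hx) ^ k) t : Perm α) = swap ((x ^ k) a) ((x ^ k) b) := by
  rw [xS_pow_val, ht, swap_apply_apply]

/-- The stabilizer of an edge in terms of the period of its points. -/
lemma edge_fix_iff {P : Subgroup (Perm α)} (hP : IsPGroup 2 P) {x : Perm α} (hx : x ∈ P)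
    (t : swapsIn P) {a b : α} (hab : a ≠ b) (ht : t.1 = swap a b) (hsc : x.SameCycle a b) (k : ℕ) :
    ((xS P x hx) ^ k) t = t ↔ Function.minimalPeriod x a ∣ 2 * k := by
  have hs : swap a b ∈ P := by rw [← ht]; exact t.2.1
  obtain ⟨he, hb⟩ := partner_eq hP hx hab hs hsc
  set l := Function.minimalPeriod x a with hl
  constructor
  · intro h
    have h1 := xS_pow_swap P x hx k t ht
    rw [h, ht] at h1
    set y := x ^ k with hy
    rw [← pow_fix_iff, two_mul, pow_add, Perm.mul_apply, ← hy]
    have h2 : y b = swap a b (y a) := by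
      rw [h1, swap_apply_left]
    by_cases h3 : y a = a
    · rw [h3, h3]
    by_cases h4 : y a = b
    · rw [h4, h2, h4, swap_apply_right]
    · rw [swap_apply_of_ne_of_ne h3 h4] at h2
      exact absurd (y.injective h2).symm hab
  · intro h
    obtain ⟨m, hm⟩ := he
    have hl2 : l / 2 = m := by omega
    rw [hl2] at hb
    have hu : m ∣ k := by
      obtain ⟨c, hc⟩ := h
      refine ⟨c, ?_⟩
      rw [hm] at hc
      have h0 : 2 * k = 2 * (m * c) := by rw [hc]; ring
      omega
    obtain ⟨u, rfl⟩ := hu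
    set y := x ^ m with hy
    have hya : y a = b := hb
    have hyb : y b = a := by
      rw [← hb, ← Perm.mul_apply, ← pow_add]
      rw [pow_fix_iff, ← hl, ← two_mul, hm]
    have hcomm : Commute y (swap a b) := by
      show y * swap a b = swap a b * y
      rw [← mul_inv_eq_iff_eq_mul, ← swap_apply_apply, hya, hyb, swap_comm]
    have hcu : Commute (y ^ u) (swap a b) := hcomm.pow_left u
    apply Subtype.ext
    rw [xS_pow_val, ht, pow_mul, ← hy, hcu.eq, mul_inv_cancel_right]

/-- Edges through points of a common cycle are in a common cycle. -/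
lemma edges_of_sameCycle {P : Subgroup (Perm α)} (hP : IsPGroup 2 P) {x : Perm α} (hx : x ∈ P)
    (t u : swapsIn P) {a b c d : α} (hab : a ≠ b) (hcd : c ≠ d) (ht : t.1 = swap a b)
    (hu : u.1 = swap c d) (hsc : x.SameCycle a c) :
    ∃ j : ℕ, ((xS P x hx) ^ j) t = u := by
  obtain ⟨j, -, hj⟩ := hsc.exists_pow_eq'
  refine ⟨j, ?_⟩
  have h1 := xS_pow_swap P x hx j t ht
  rw [hj] at h1
  have h2 : swap c ((x ^ j) b) ∈ P := by
    rw [← h1]; exact (((xS P x hx) ^ j) t).2.1
  have hs : swap c d ∈ P := by rw [← hu]; exact u.2.1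
  have hne : c ≠ (x ^ j) b := by
    intro h3
    exact hab ((x ^ j).injective (hj.trans h3))
  have h3 := swap_unique hP hcd hne hs h2
  apply Subtype.ext
  rw [h1, hu, h3]

/-- `xS` is fixed on edges of fixed points. -/
lemma xS_fix_of_fix {P : Subgroup (Perm α)} (hP : IsPGroup 2 P) {x : Perm α} (hx : x ∈ P)
    (t : swapsIn P) {a b : α} (hab : a ≠ b) (ht : t.1 = swap a b) (h : x a = a) :
    xS P x hx t = t := by
  have hs : swap a b ∈ P := by rw [← ht]; exact t.2.1
  have h2 : x b = b := edge_pow_aux hP hx hab hs h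
  have h3 := xS_pow_swap P x hx 1 t ht
  rw [pow_one, pow_one, h, h2, ← ht] at h3
  exact Subtype.ext h3

lemma noRep_xS {P : Subgroup (Perm α)} (hP : IsPGroup 2 P) {x : Perm α} (hx : x ∈ P)
    (hn : NoRep x) (hsc : ∀ a b, a ≠ b → swap a b ∈ P → x a ≠ a → x.SameCycle a b) :
    NoRep (xS P x hx) := by
  intro t u ht hu hk
  obtain ⟨_, a, b, hab, hta⟩ := t.2
  obtain ⟨_, c, d, hcd, huc⟩ := u.2
  have hsab : swap a b ∈ P := by rw [← hta]; exact t.2.1
  have hscd : swap c d ∈ P := by rw [← huc]; exact u.2.1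
  have hxa : x a ≠ a := fun h => ht (xS_fix_of_fix hP hx t hab hta h)
  have hxc : x c ≠ c := fun h => hu (xS_fix_of_fix hP hx u hcd huc h)
  have h1 := edge_fix_iff hP hx t hab hta (hsc a b hab hsab hxa)
  have h2 := edge_fix_iff hP hx u hcd huc (hsc c d hcd hscd hxc)
  obtain ⟨ea, -⟩ := partner_eq hP hx hab hsab (hsc a b hab hsab hxa)
  obtain ⟨ec, -⟩ := partner_eq hP hx hcd hscd (hsc c d hcd hscd hxc)
  have hper : Function.minimalPeriod x a = Function.minimalPeriod x c := by
    apply Nat.dvd_antisymm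
    · have h3 := hk (Function.minimalPeriod x c / 2)
      rw [h1, h2, Nat.mul_div_cancel' ec] at h3
      exact h3.2 dvd_rfl
    · have h3 := hk (Function.minimalPeriod x a / 2)
      rw [h1, h2, Nat.mul_div_cancel' ea] at h3
      exact h3.1 dvd_rfl
  have hs2 : x.SameCycle a c := by
    apply hn a c hxa hxc
    intro k
    rw [pow_fix_iff, pow_fix_iff, hper]
  obtain ⟨j, hj⟩ := edges_of_sameCycle hP hx t u hab hcd hta huc hs2
  exact ⟨j, by rw [zpow_natCast]; exact hj⟩

lemma fixLe_xS {P : Subgroup (Perm α)} (hP : IsPGroup 2 P) {x : Perm α} (hx : x ∈ P)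
    (hf : FixLe x) (hn : NoRep x)
    (hsc : ∀ a b, a ≠ b → swap a b ∈ P → x a ≠ a → x.SameCycle a b) :
    FixLe (xS P x hx) := by
  -- two fixed edges of the same kind coincide
  have key : ∀ t u : swapsIn P, xS P x hx t = t → xS P x hx u = u → ∀ a b c d : α, a ≠ b → c ≠ d →
      t.1 = swap a b → u.1 = swap c d → (x a = a ↔ x c = c) → t = u := by
    intro t u ht hu a b c d hab hcd hta huc hiff
    have hsab : swap a b ∈ P := by rw [← hta]; exact t.2.1
    have hscd : swap c d ∈ P := by rw [← huc]; exact u.2.1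
    by_cases hfa : x a = a
    · have hfc := hiff.1 hfa
      have hfb : x b = b := edge_pow_aux hP hx hab hsab hfa
      have hshare : ∀ e : α, (e = a ∨ e = b) → (e = c ∨ e = d) → t = u := by
        intro e he he2
        apply edge_eq_of_share hP (a := e)
        · rw [hta]
          rcases he with rfl | rfl
          · rw [swap_apply_left]; exact hab.symm
          · rw [swap_apply_right]; exact hab
        · rw [huc]
          rcases he2 with rfl | rfl
          · rw [swap_apply_left]; exact hcd.symm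
          · rw [swap_apply_right]; exact hcd
      rcases hf a b c hfa hfb hfc with h | h | h
      · exact absurd h hab
      · exact hshare a (Or.inl rfl) (Or.inl h)
      · exact hshare b (Or.inr rfl) (Or.inl h)
    · have hfc : x c ≠ c := fun h => hfa (hiff.2 h)
      have h1 := edge_fix_iff hP hx t hab hta (hsc a b hab hsab hfa) 1
      have h2 := edge_fix_iff hP hx u hcd huc (hsc c d hcd hscd hfc) 1
      rw [pow_one] at h1 h2
      have h3 := h1.1 ht
      have h4 := h2.1 hu
      have hper : ∀ e : α, x e ≠ e → Function.minimalPeriod x e ∣ 2 → Function.minimalPeriod x e = 2 := by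
        intro e he h5
        have h6 := (Nat.dvd_prime Nat.prime_two).1 h5
        rcases h6 with h6 | h6
        · exfalso
          apply he
          have := (pow_fix_iff x e 1).2 (by rw [h6])
          simpa using this
        · exact h6
      have ha2 := hper a hfa h3
      have hc2 := hper c hfc h4
      have hs2 : x.SameCycle a c := by
        apply hn a c hfa hfc
        intro k
        rw [pow_fix_iff, pow_fix_iff, ha2, hc2]
      obtain ⟨j, hj⟩ := edges_of_sameCycle hP hx t u hab hcd hta huc hs2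
      have h7 : ∀ j : ℕ, ((xS P x hx) ^ j) t = t := by
        intro j
        induction j with
        | zero => simp
        | succ n ih => rw [pow_succ, Perm.mul_apply, ht, ih]
      rw [← hj, h7]
  intro t u v ht hu hv
  obtain ⟨_, a, b, hab, hta⟩ := t.2
  obtain ⟨_, c, d, hcd, huc⟩ := u.2
  obtain ⟨_, e, f, hef, hve⟩ := v.2
  have k1 := key t u ht hu a b c d hab hcd hta huc
  have k2 := key t v ht hv a b e f hab hef hta hve
  have k3 := key u v hu hv c d e f hcd hef huc hve
  by_cases h1 : x a = a <;> by_cases h2 : x c = c <;> by_cases h3 : x e = e <;>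
    simp only [h1, h2, h3, iff_true, true_iff, iff_false, false_iff, not_true_eq_false,
      not_false_eq_true, forall_true_left] at k1 k2 k3 <;> tauto

/-- Under the hypotheses the edge partner is in the same cycle. -/
lemma sameCycle_partner {P : Subgroup (Perm α)} (hP : IsPGroup 2 P) {x : Perm α} (hx : x ∈ P)
    (hn : NoRep x) {a b : α} (hab : a ≠ b) (hs : swap a b ∈ P) (ha : x a ≠ a) :
    x.SameCycle a b := by
  apply hn a b ha
  · intro h
    have h1 := edge_pow_aux hP hx hab.symm (by rw [swap_comm]; exact hs) h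
    exact ha h1
  · exact edge_pow hP hx hab hs

/-- The edge sets of two Sylow subgroups containing a good element agree. -/
lemma swapsIn_sub {x : Perm α} (hf : FixLe x) (hn : NoRep x) (P P' : Sylow 2 (Perm α))
    (hx : x ∈ (P : Subgroup (Perm α))) (hx' : x ∈ (P' : Subgroup (Perm α))) :
    swapsIn (P : Subgroup (Perm α)) ⊆ swapsIn (P' : Subgroup (Perm α)) := by
  rintro t ⟨htP, a, b, hab, rfl⟩
  refine ⟨?_, a, b, hab, rfl⟩
  have hPP := P.isPGroup'
  have hPP' := P'.isPGroup'
  by_cases ha : x a = a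
  · have hb : x b = b := edge_pow_aux hPP hx hab htP ha
    -- the fixed points
    have hcov : ∃ z, a ≠ z ∧ swap a z ∈ (P' : Subgroup (Perm α)) := by
      by_contra hcon
      push Not at hcon
      rcases covered_or_covered P' hab with ⟨z, hz, hzP⟩ | ⟨z, hz, hzP⟩
      · exact hcon z hz hzP
      · have hzf : x z = z := edge_pow_aux hPP' hx' hz hzP hb
        rcases hf a b z ha hb hzf with h | h | h
        · exact hab h
        · subst h
          exact hcon b hab.symm.symm (by rw [swap_comm]; exact hzP)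
        · exact hz h
    obtain ⟨z, hz, hzP⟩ := hcov
    have hzf : x z = z := edge_pow_aux hPP' hx' hz hzP ha
    rcases hf a b z ha hb hzf with h | h | h
    · exact absurd h hab
    · exact absurd h hz
    · rw [h]; exact hzP
  · obtain ⟨z, hz, hzP⟩ := exists_partner P' hx' ha
    have h1 := partner_eq hPP hx hab htP (sameCycle_partner hPP hx hn hab htP ha)
    have h2 := partner_eq hPP' hx' hz hzP (sameCycle_partner hPP' hx' hn hz hzP ha)
    have hbz : b = z := h1.2.symm.trans h2.2
    rw [hbz]; exact hzP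

lemma card_edges_lt (P : Sylow 2 (Perm α)) (t : swapsIn (P : Subgroup (Perm α))) :
    Nat.card (swapsIn (P : Subgroup (Perm α))) < Nat.card α := by
  have hP := P.isPGroup'
  have hc1 : Nat.card (swapsIn (P : Subgroup (Perm α))) * 2 ≤ Nat.card α := by
    have := Nat.card_le_card_of_injective _ (edgeLabel_injective hP)
    rw [Nat.card_prod] at this
    simpa using this
  have hc2 : 0 < Nat.card (swapsIn (P : Subgroup (Perm α))) := by
    have : Nonempty (swapsIn (P : Subgroup (Perm α))) := ⟨t⟩
    exact Nat.card_pos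
  omega

lemma exists_edge_sylow (P : Sylow 2 (Perm α)) (S : Set (Perm α))
    (hS : swapsIn (P : Subgroup (Perm α)) = S) :
    ∃ Q : Sylow 2 (Perm S), (Q : Subgroup (Perm S)) =
      ((P : Subgroup (Perm α)).subgroupOf (conjStab S)).map (conjAct S) := by
  subst hS
  exact ⟨edgeSylow P, rfl⟩

/-- Good elements lie in a unique Sylow 2-subgroup. -/
theorem unique_of_good (n : ℕ) :
    ∀ (α : Type u_1) [Fintype α] [DecidableEq α], Nat.card α = n → ∀ x : Perm α,
      FixLe x → NoRep x → ∀ P P' : Sylow 2 (Perm α), x ∈ (P : Subgroup (Perm α)) →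
        x ∈ (P' : Subgroup (Perm α)) → P = P' := by
  induction n using Nat.strong_induction_on with
  | _ n ih =>
    intro α _ _ hn x hf hnr P P' hx hx'
    classical
    by_cases hne : IsEmpty (swapsIn (P : Subgroup (Perm α)))
    · -- no edges: trivial
      have hss : Subsingleton α := by
        by_contra hcon
        rw [not_subsingleton_iff_nontrivial] at hcon
        obtain ⟨a, b, hab⟩ := exists_pair_ne α
        rcases covered_or_covered P hab with ⟨z, hz, hzP⟩ | ⟨z, hz, hzP⟩
        · exact hne.false ⟨_, hzP, a, z, hz, rfl⟩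
        · exact hne.false ⟨_, hzP, b, z, hz, rfl⟩
      apply Sylow.ext
      ext y
      have : y = 1 := Subsingleton.elim _ _
      subst this
      simp only [Subgroup.one_mem]
    rw [not_isEmpty_iff] at hne
    obtain ⟨t0⟩ := hne
    have hPP := P.isPGroup'
    have hlt := card_edges_lt P t0
    rw [hn] at hlt
    have hSeq : swapsIn (P : Subgroup (Perm α)) = swapsIn (P' : Subgroup (Perm α)) :=
      Set.Subset.antisymm (swapsIn_sub hf hnr P P' hx hx') (swapsIn_sub hf hnr P' P hx' hx)
    letI : Fintype (swapsIn (P : Subgroup (Perm α))) := Fintype.ofFinite _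
    have hsc := fun a b (hab : a ≠ b) (hs : swap a b ∈ (P : Subgroup (Perm α))) (ha : x a ≠ a) =>
      sameCycle_partner hPP hx hnr hab hs ha
    have hfS := fixLe_xS hPP hx hf hnr hsc
    have hnS := noRep_xS hPP hx hnr hsc
    obtain ⟨Q, hQ⟩ := exists_edge_sylow P _ rfl
    obtain ⟨Q', hQ'⟩ := exists_edge_sylow P' _ hSeq.symm
    have hxA : x ∈ conjStab (swapsIn (P : Subgroup (Perm α))) := swapsIn_conj _ x hx
    have hxQ : xS (P : Subgroup (Perm α)) x hx ∈ (Q : Subgroup _) := by
      rw [hQ]
      exact ⟨⟨x, hxA⟩, hx, rfl⟩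
    have hxQ' : xS (P : Subgroup (Perm α)) x hx ∈ (Q' : Subgroup _) := by
      rw [hQ']
      exact ⟨⟨x, hxA⟩, hx', rfl⟩
    have hQQ := ih _ hlt (swapsIn (P : Subgroup (Perm α))) rfl _ hfS hnS Q Q' hxQ hxQ'
    have hle : (P : Subgroup (Perm α)) ≤ (P' : Subgroup (Perm α)) := by
      intro g hg
      have hgA : g ∈ conjStab (swapsIn (P : Subgroup (Perm α))) := swapsIn_conj _ g hg
      have h1 : conjAct _ (⟨g, hgA⟩ : conjStab (swapsIn (P : Subgroup (Perm α)))) ∈ (Q : Subgroup _) := by
        rw [hQ]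
        exact ⟨⟨g, hgA⟩, hg, rfl⟩
      rw [hQQ, hQ'] at h1
      obtain ⟨g', hg', hgg⟩ := h1
      have hz : ∀ t ∈ swapsIn (P' : Subgroup (Perm α)),
          ((g' : Perm α)⁻¹ * g) * t * ((g' : Perm α)⁻¹ * g)⁻¹ = t := by
        intro t ht
        have ht' : t ∈ swapsIn (P : Subgroup (Perm α)) := by rw [hSeq]; exact ht
        have h2 := congrArg (fun f => ((f ⟨t, ht'⟩ : swapsIn (P : Subgroup (Perm α))) : Perm α)) hgg
        simp only [conjAct_apply] at h2
        calc ((g' : Perm α)⁻¹ * g) * t * ((g' : Perm α)⁻¹ * g)⁻¹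
            = (g' : Perm α)⁻¹ * (g * t * g⁻¹) * g' := by group
          _ = t := by rw [← h2]; group
      have h5 := mem_of_centralizer P' hz
      have h6 := (P' : Subgroup (Perm α)).mul_mem hg' h5
      simpa using h6
    have := P.is_maximal' P'.isPGroup' hle
    exact Sylow.ext this.symm

/-- The preimage of a 2-subgroup of the symmetric group on the edges is a 2-group. -/
lemma isPGroup_preimage (P : Sylow 2 (Perm α)) (Q : Subgroup (Perm (swapsIn (P : Subgroup (Perm α)))))
    (hQ : IsPGroup 2 Q) :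
    IsPGroup 2 ((Q.comap (conjAct (swapsIn (P : Subgroup (Perm α))))).map
      (conjStab (swapsIn (P : Subgroup (Perm α)))).subtype) := by
  set A := conjStab (swapsIn (P : Subgroup (Perm α))) with hA
  set φ := conjAct (swapsIn (P : Subgroup (Perm α))) with hφ
  rintro ⟨x, y, hy, rfl⟩
  obtain ⟨k, hk⟩ := hQ ⟨φ y, hy⟩
  have hk' : (φ y) ^ 2 ^ k = 1 := by
    have := congrArg Subtype.val hk
    simpa using this
  have hk2 : φ (y ^ 2 ^ k) = 1 := by rw [map_pow, hk']
  have hz : ∀ t ∈ swapsIn (P : Subgroup (Perm α)),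
      ((y ^ 2 ^ k : A) : Perm α) * t * ((y ^ 2 ^ k : A) : Perm α)⁻¹ = t := by
    intro t ht
    have h1 := conjAct_apply (swapsIn (P : Subgroup (Perm α))) (y ^ 2 ^ k) ⟨t, ht⟩
    rw [← hφ, hk2] at h1
    simpa using h1.symm
  have h3 := sq_eq_one_of_centralizer P hz
  refine ⟨k + 1, Subtype.ext ?_⟩
  have h3' : ((y : Perm α) ^ 2 ^ k) * ((y : Perm α) ^ 2 ^ k) = 1 := by simpa using h3
  show ((A.subtype y) ^ 2 ^ (k + 1)) = 1
  rw [Subgroup.subtype_apply, pow_succ, pow_mul, pow_two]
  exact h3'

/-- An element in a unique Sylow 2-subgroup induces an element in a unique Sylow subgroup. -/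
lemma edge_unique (P : Sylow 2 (Perm α)) {x : Perm α} (hx : x ∈ (P : Subgroup (Perm α)))
    (hu : ∀ P' : Sylow 2 (Perm α), x ∈ (P' : Subgroup (Perm α)) → P' = P)
    (Q : Sylow 2 (Perm (swapsIn (P : Subgroup (Perm α)))))
    (hQ : xS (P : Subgroup (Perm α)) x hx ∈ (Q : Subgroup _)) : Q = edgeSylow P := by
  have h1 := isPGroup_preimage P Q Q.isPGroup'
  obtain ⟨R, hR⟩ := h1.exists_le_sylow
  have hxR : x ∈ (R : Subgroup (Perm α)) := by
    apply hR
    exact ⟨⟨x, swapsIn_conj _ x hx⟩, hQ, rfl⟩
  have hRP := hu R hxR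
  subst hRP
  have hle : (Q : Subgroup (Perm (swapsIn (R : Subgroup (Perm α))))) ≤ ((edgeSylow R : Sylow 2 _) : Subgroup (Perm (swapsIn (R : Subgroup (Perm α))))) := by
    intro σ hσ
    obtain ⟨y, hy⟩ := exists_lift R.isPGroup' σ
    refine ⟨y, ?_, hy⟩
    apply hR
    refine ⟨y, ?_, rfl⟩
    show conjAct _ y ∈ (Q : Subgroup _)
    rw [hy]; exact hσ
  have := Q.is_maximal' (edgeSylow R).isPGroup' hle
  exact Sylow.ext this.symm

/-- Uniqueness implies centralizers and more lie in the Sylow subgroup. -/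
lemma mem_of_conj_mem (P : Sylow 2 (Perm α)) {x : Perm α}
    (hu : ∀ P' : Sylow 2 (Perm α), x ∈ (P' : Subgroup (Perm α)) → P' = P) {g : Perm α}
    (hg : g⁻¹ * x * g ∈ (P : Subgroup (Perm α))) : g ∈ (P : Subgroup (Perm α)) := by
  have h1 : x ∈ ((g • P : Sylow 2 (Perm α)) : Subgroup (Perm α)) := mem_sylow_smul.2 hg
  have h2 := hu _ h1
  have h3 := Sylow.smul_eq_iff_mem_normalizer.1 h2
  exact sylow_self_normalizing _ α rfl P g h3

lemma mem_of_commute (P : Sylow 2 (Perm α)) {x : Perm α} (hx : x ∈ (P : Subgroup (Perm α)))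
    (hu : ∀ P' : Sylow 2 (Perm α), x ∈ (P' : Subgroup (Perm α)) → P' = P) {g : Perm α}
    (hg : Commute g x) : g ∈ (P : Subgroup (Perm α)) := by
  apply mem_of_conj_mem P hu
  have : g⁻¹ * x * g = x := by
    rw [mul_assoc, ← hg.eq, inv_mul_cancel_left]
  rw [this]; exact hx

theorem fixLe_of_unique (P : Sylow 2 (Perm α)) {x : Perm α} (hx : x ∈ (P : Subgroup (Perm α)))
    (hu : ∀ P' : Sylow 2 (Perm α), x ∈ (P' : Subgroup (Perm α)) → P' = P) : FixLe x := by
  intro a b c ha hb hc
  by_contra hcon
  push Not at hcon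
  obtain ⟨hab, hac, hbc⟩ := hcon
  have h3 := isThreeCycle_swap_mul_swap_same hab hac hbc
  have hc1 : ∀ e f : α, x e = e → x f = f → Commute (swap e f) x := by
    intro e f he hf
    have h := swap_apply_apply x e f
    rw [he, hf] at h
    exact (mul_inv_eq_iff_eq_mul.1 h.symm).symm
  exact no_threeCycle P.isPGroup' (mem_of_commute P hx hu ((hc1 a b ha hb).mul_left (hc1 a c ha hc))) h3

/-- Under uniqueness, partners of moved points are in the same cycle. -/
lemma sameCycle_partner_of_unique (P : Sylow 2 (Perm α)) {x : Perm α}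
    (hx : x ∈ (P : Subgroup (Perm α)))
    (hu : ∀ P' : Sylow 2 (Perm α), x ∈ (P' : Subgroup (Perm α)) → P' = P) {a b : α} (hab : a ≠ b)
    (hs : swap a b ∈ (P : Subgroup (Perm α))) (ha : x a ≠ a) : x.SameCycle a b := by
  by_contra hcon
  have hb : x b ≠ b := fun h => ha (edge_pow_aux P.isPGroup' hx hab.symm (by rw [swap_comm]; exact hs) h)
  have hmem : x.cycleOf b ∈ x.cycleFactorsFinset :=
    cycleOf_mem_cycleFactorsFinset_iff.2 (mem_support.2 hb)
  have hcomm : Commute (x.cycleOf b) x := self_mem_cycle_factors_commute hmem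
  have hg := mem_of_commute P hx hu hcomm
  have h1 : x.cycleOf b a = a := cycleOf_apply_of_not_sameCycle (fun h => hcon h.symm)
  have h2 : x.cycleOf b b = x b := cycleOf_apply_self x b
  have h3 := swap_apply_apply (x.cycleOf b) a b
  rw [h1, h2] at h3
  have h4 : swap a (x b) ∈ (P : Subgroup (Perm α)) := by
    rw [h3]
    exact Subgroup.mul_mem _ (Subgroup.mul_mem _ hg hs) (Subgroup.inv_mem _ hg)
  have hne : a ≠ x b := by
    intro h
    apply hcon
    rw [h]
    exact (SameCycle.refl x b).apply_left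
  exact hb (swap_unique P.isPGroup' hab hne hs h4).symm

/-- An identity in the Klein four-group. -/
lemma swap_klein {c d e f : α} (hcd : c ≠ d) (hce : c ≠ e) (hcf : c ≠ f) (hde : d ≠ e) (hdf : d ≠ f)
    (hef : e ≠ f) : swap c f * swap d e = (swap c d * swap e f) * (swap c e * swap d f) := by
  ext y
  simp only [Perm.mul_apply, swap_apply_def]
  by_cases h1 : y = c
  · subst h1; simp [*, hcd.symm, hce.symm, hcf.symm, hde.symm, hdf.symm, hef.symm]
  by_cases h2 : y = d
  · subst h2; simp [*, hcd.symm, hce.symm, hcf.symm, hde.symm, hdf.symm, hef.symm]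
  by_cases h3 : y = e
  · subst h3; simp [*, hcd.symm, hce.symm, hcf.symm, hde.symm, hdf.symm, hef.symm]
  by_cases h4 : y = f
  · subst h4; simp [*, hcd.symm, hce.symm, hcf.symm, hde.symm, hdf.symm, hef.symm]
  simp [*]

/-- Two cycles of length two are impossible under uniqueness. -/
lemma two_cycles_impossible (P : Sylow 2 (Perm α)) {x : Perm α}
    (hx : x ∈ (P : Subgroup (Perm α)))
    (hu : ∀ P' : Sylow 2 (Perm α), x ∈ (P' : Subgroup (Perm α)) → P' = P) {c d e f : α}
    (hcd : c ≠ d) (hce : c ≠ e) (hcf : c ≠ f) (hde : d ≠ e) (hdf : d ≠ f) (hef : e ≠ f)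
    (h1 : swap c d ∈ (P : Subgroup (Perm α))) (h2 : swap e f ∈ (P : Subgroup (Perm α)))
    (hxc : x c = d) (hxd : x d = c) (hxe : x e = f) (hxf : x f = e) : False := by
  have hdisj : Disjoint (swap c e) (swap d f) := by
    intro y
    by_cases hy1 : y = c
    · subst hy1; right; exact swap_apply_of_ne_of_ne hcd hcf
    by_cases hy2 : y = e
    · subst hy2; right; exact swap_apply_of_ne_of_ne hde.symm hef
    · left; exact swap_apply_of_ne_of_ne hy1 hy2
  have hv2 : swap c e * swap d f ∈ (P : Subgroup (Perm α)) := by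
    apply mem_of_commute P hx hu
    have h3 : x * (swap c e * swap d f) * x⁻¹ = swap c e * swap d f := by
      have h4 : x * (swap c e * swap d f) * x⁻¹ = (x * swap c e * x⁻¹) * (x * swap d f * x⁻¹) := by
        group
      rw [h4, ← swap_apply_apply, ← swap_apply_apply, hxc, hxe, hxd, hxf]
      exact hdisj.commute.eq.symm
    exact (mul_inv_eq_iff_eq_mul.1 h3).symm
  have hv1 : swap c d * swap e f ∈ (P : Subgroup (Perm α)) := Subgroup.mul_mem _ h1 h2
  have hw : x * (swap c d * swap e f) ∈ (P : Subgroup (Perm α)) := Subgroup.mul_mem _ hx hv1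
  set w := x * (swap c d * swap e f) with hwdef
  have hv11 : (swap c d * swap e f) * (swap c d * swap e f) = 1 := by
    have hd2 : Disjoint (swap c d) (swap e f) := by
      intro y
      by_cases hy1 : y = c
      · subst hy1; right; exact swap_apply_of_ne_of_ne hce hcf
      by_cases hy2 : y = d
      · subst hy2; right; exact swap_apply_of_ne_of_ne hde hdf
      · left; exact swap_apply_of_ne_of_ne hy1 hy2
    have : swap c d * swap e f * (swap c d * swap e f)
        = swap c d * (swap e f * swap c d) * swap e f := by group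
    rw [this, ← hd2.commute.eq]
    have h5 : swap c d * (swap c d * swap e f) * swap e f
        = (swap c d * swap c d) * (swap e f * swap e f) := by group
    rw [h5, swap_mul_self, swap_mul_self, one_mul]
  have hxw : x = w * (swap c d * swap e f) := by
    rw [hwdef, mul_assoc, hv11, mul_one]
  set g := swap e d * swap e f with hg
  have hg3 : g.IsThreeCycle := isThreeCycle_swap_mul_swap_same hde.symm hef hdf
  have hgc : g c = c := by
    rw [hg, Perm.mul_apply, swap_apply_of_ne_of_ne hce hcf, swap_apply_of_ne_of_ne hce hcd]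
  have hgd : g d = e := by
    rw [hg, Perm.mul_apply, swap_apply_of_ne_of_ne hde hdf, swap_apply_right]
  have hge : g e = f := by
    rw [hg, Perm.mul_apply, swap_apply_left, swap_apply_of_ne_of_ne hef.symm hdf.symm]
  have hgf : g f = d := by
    rw [hg, Perm.mul_apply, swap_apply_right, swap_apply_left]
  have hwc : w c = c := by
    rw [hwdef, Perm.mul_apply, Perm.mul_apply, swap_apply_of_ne_of_ne hce hcf, swap_apply_left, hxd]
  have hwd : w d = d := by
    rw [hwdef, Perm.mul_apply, Perm.mul_apply, swap_apply_of_ne_of_ne hde hdf, swap_apply_right, hxc]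
  have hwe : w e = e := by
    rw [hwdef, Perm.mul_apply, Perm.mul_apply, swap_apply_left,
      swap_apply_of_ne_of_ne hcf.symm hdf.symm, hxf]
  have hwf : w f = f := by
    rw [hwdef, Perm.mul_apply, Perm.mul_apply, swap_apply_right,
      swap_apply_of_ne_of_ne hce.symm hde.symm, hxe]
  have hdis : Disjoint w g := by
    intro y
    by_cases hy1 : y = d
    · subst hy1; left; exact hwd
    by_cases hy2 : y = e
    · subst hy2; left; exact hwe
    by_cases hy3 : y = f
    · subst hy3; left; exact hwf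
    · right
      rw [hg, Perm.mul_apply, swap_apply_of_ne_of_ne hy2 hy3, swap_apply_of_ne_of_ne hy2 hy1]
  have hcomm : g⁻¹ * w = w * g⁻¹ := (hdis.symm.inv_left).commute.eq
  have hgi : g⁻¹ c = c ∧ g⁻¹ d = f ∧ g⁻¹ e = d ∧ g⁻¹ f = e := by
    refine ⟨?_, ?_, ?_, ?_⟩
    · rw [Perm.inv_eq_iff_eq]; exact hgc.symm
    · rw [Perm.inv_eq_iff_eq]; exact hgf.symm
    · rw [Perm.inv_eq_iff_eq]; exact hgd.symm
    · rw [Perm.inv_eq_iff_eq]; exact hge.symm
  have hconj : g⁻¹ * x * g = w * (swap c f * swap d e) := by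
    have h5 : g⁻¹ * (swap c d * swap e f) * g = swap c f * swap d e := by
      have h6 := swap_apply_apply g⁻¹ c d
      have h7 := swap_apply_apply g⁻¹ e f
      rw [hgi.1, hgi.2.1] at h6
      rw [hgi.2.2.1, hgi.2.2.2] at h7
      rw [h6, h7]
      group
    rw [← h5]
    conv_lhs => rw [hxw]
    calc g⁻¹ * (w * (swap c d * swap e f)) * g
        = (g⁻¹ * w) * ((swap c d * swap e f) * g) := by group
      _ = w * (g⁻¹ * (swap c d * swap e f) * g) := by rw [hcomm]; group
  have hmem : g⁻¹ * x * g ∈ (P : Subgroup (Perm α)) := by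
    rw [hconj, swap_klein hcd hce hcf hde hdf hef]
    exact Subgroup.mul_mem _ hw (Subgroup.mul_mem _ hv1 hv2)
  exact no_threeCycle P.isPGroup' (mem_of_conj_mem P hu hmem) hg3

/-- An element in a unique Sylow 2-subgroup has no repeated nontrivial cycle lengths. -/
theorem noRep_of_unique (n : ℕ) :
    ∀ (α : Type u_1) [Fintype α] [DecidableEq α], Nat.card α = n → ∀ (P : Sylow 2 (Perm α))
      (x : Perm α) (_ : x ∈ (P : Subgroup (Perm α))),
      (∀ P' : Sylow 2 (Perm α), x ∈ (P' : Subgroup (Perm α)) → P' = P) → NoRep x := by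
  induction n using Nat.strong_induction_on with
  | _ n ih =>
    intro α _ _ hn P x hx hu a b ha hb hk
    classical
    by_contra hcon
    have hPP := P.isPGroup'
    obtain ⟨a', haa', hsa⟩ := exists_partner P hx ha
    obtain ⟨b', hbb', hsb⟩ := exists_partner P hx hb
    have hsca := sameCycle_partner_of_unique P hx hu haa' hsa ha
    have hscb := sameCycle_partner_of_unique P hx hu hbb' hsb hb
    obtain ⟨ea, ha2⟩ := partner_eq hPP hx haa' hsa hsca
    obtain ⟨eb, hb2⟩ := partner_eq hPP hx hbb' hsb hscb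
    have hper : Function.minimalPeriod x a = Function.minimalPeriod x b := by
      apply Nat.dvd_antisymm
      · rw [← pow_fix_iff, hk, pow_fix_iff]
      · rw [← pow_fix_iff, ← hk, pow_fix_iff]
    by_cases hl : Function.minimalPeriod x a = 2
    · have hl' : Function.minimalPeriod x b = 2 := by rw [← hper]; exact hl
      rw [hl] at ha2
      rw [hl'] at hb2
      have ha3 : x a = a' := by simpa using ha2
      have hb3 : x b = b' := by simpa using hb2
      have hxa : x a' = a := by
        rw [← ha3, ← Perm.mul_apply, ← pow_two, pow_fix_iff, hl]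
      have hxb : x b' = b := by
        rw [← hb3, ← Perm.mul_apply, ← pow_two, pow_fix_iff, hl']
      have hab : a ≠ b := fun h => hcon (h ▸ SameCycle.refl x a)
      have hab' : a ≠ b' := fun h => hcon (h ▸ hscb.symm)
      have ha'b : a' ≠ b := fun h => hcon (h ▸ hsca)
      have ha'b' : a' ≠ b' := fun h => hcon (hsca.trans (h ▸ hscb.symm))
      exact two_cycles_impossible P hx hu haa' hab hab' ha'b ha'b' hbb' hsa hsb ha3 hxa hb3 hxb
    · let ta : swapsIn (P : Subgroup (Perm α)) := ⟨swap a a', hsa, a, a', haa', rfl⟩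
      let tb : swapsIn (P : Subgroup (Perm α)) := ⟨swap b b', hsb, b, b', hbb', rfl⟩
      have hlt := card_edges_lt P ta
      rw [hn] at hlt
      letI : Fintype (swapsIn (P : Subgroup (Perm α))) := Fintype.ofFinite _
      have hxE : xS (P : Subgroup (Perm α)) x hx ∈ (edgeSylow P : Subgroup _) :=
        act_mem_edgeSylow ⟨x, swapsIn_conj _ x hx⟩ hx
      have hnS : NoRep (xS (P : Subgroup (Perm α)) x hx) :=
        ih _ hlt (swapsIn (P : Subgroup (Perm α))) rfl (edgeSylow P) _ hxE
          (fun Q hQ => edge_unique P hx hu Q hQ)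
      have hfa := edge_fix_iff hPP hx ta haa' rfl hsca
      have hfb := edge_fix_iff hPP hx tb hbb' rfl hscb
      have hnd : ¬ Function.minimalPeriod x a ∣ 2 := by
        intro h5
        rcases (Nat.dvd_prime Nat.prime_two).1 h5 with h6 | h6
        · apply ha
          have := (pow_fix_iff x a 1).2 (by rw [h6])
          simpa using this
        · exact hl h6
      have hna : xS (P : Subgroup (Perm α)) x hx ta ≠ ta := by
        intro h
        have h1 := hfa 1
        rw [pow_one] at h1
        exact hnd (by simpa using h1.1 h)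
      have hnb : xS (P : Subgroup (Perm α)) x hx tb ≠ tb := by
        intro h
        have h1 := hfb 1
        rw [pow_one] at h1
        rw [hper] at hnd
        exact hnd (by simpa using h1.1 h)
      have hsc := hnS ta tb hna hnb (fun k => by rw [hfa, hfb, hper])
      obtain ⟨j, -, hj⟩ := hsc.exists_pow_eq'
      have h1 := xS_pow_swap (P : Subgroup (Perm α)) x hx j ta (a := a) (b := a') rfl
      rw [hj] at h1
      have h2 : ((x ^ j) a = b) ∨ ((x ^ j) a' = b) := by
        by_contra h3
        push Not at h3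
        have h4 : swap b b' b = b := by
          have h5 : (tb : Perm α) = swap ((x ^ j) a) ((x ^ j) a') := h1
          have h6 : (tb : Perm α) = swap b b' := rfl
          rw [← h6, h5]
          exact swap_apply_of_ne_of_ne (Ne.symm h3.1) (Ne.symm h3.2)
        rw [swap_apply_left] at h4
        exact hbb' h4.symm
      rcases h2 with h2 | h2
      · exact hcon ⟨j, by rw [zpow_natCast]; exact h2⟩
      · exact hcon (hsca.trans ⟨j, by rw [zpow_natCast]; exact h2⟩)

lemma fixLe_iff (x : Perm α) : FixLe x ↔ Fintype.card α ≤ x.support.card + 2 := by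
  have hc : (x.supportᶜ).card = Fintype.card α - x.support.card := Finset.card_compl _
  have hle : x.support.card ≤ Fintype.card α := Finset.card_le_univ _
  constructor
  · intro h
    by_contra hcon
    have h2 : 2 < (x.supportᶜ).card := by omega
    obtain ⟨a, b, c, ha, hb, hc', hab, hac, hbc⟩ := Finset.two_lt_card_iff.1 h2
    simp only [Finset.mem_compl, mem_support, ne_eq, not_not] at ha hb hc'
    rcases h a b c ha hb hc' with h3 | h3 | h3
    · exact hab h3
    · exact hac h3
    · exact hbc h3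
  · intro h a b c ha hb hc'
    by_contra hcon
    push Not at hcon
    have h2 : 2 < (x.supportᶜ).card :=
      Finset.two_lt_card_iff.2 ⟨a, b, c, by simpa using ha, by simpa using hb, by simpa using hc',
        hcon.1, hcon.2.1, hcon.2.2⟩
    omega

lemma pow_fix_iff_card (x : Perm α) {a : α} (ha : x a ≠ a) (k : ℕ) :
    (x ^ k) a = a ↔ (x.cycleOf a).support.card ∣ k :=
  (isCycleOn_support_cycleOf x a).pow_apply_eq (by
    rw [mem_support_cycleOf_iff]
    exact ⟨SameCycle.refl x a, mem_support.2 ha⟩)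

lemma noRep_iff (x : Perm α) : NoRep x ↔ x.cycleType.Nodup := by
  rw [cycleType_def, Multiset.nodup_map_iff_inj_on x.cycleFactorsFinset.nodup]
  constructor
  · intro h c1 hc1 c2 hc2 hcc
    have hc1' : c1 ∈ x.cycleFactorsFinset := hc1
    have hc2' : c2 ∈ x.cycleFactorsFinset := hc2
    obtain ⟨a, ha⟩ := ((mem_cycleFactorsFinset_iff.1 hc1').1).nonempty_support
    obtain ⟨b, hb⟩ := ((mem_cycleFactorsFinset_iff.1 hc2').1).nonempty_support
    have h1 := cycle_is_cycleOf ha hc1'
    have h2 := cycle_is_cycleOf hb hc2'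
    have hxa : x a ≠ a := by
      rw [← mem_support]
      exact (mem_cycleFactorsFinset_support_le hc1') ha
    have hxb : x b ≠ b := by
      rw [← mem_support]
      exact (mem_cycleFactorsFinset_support_le hc2') hb
    have hs := h a b hxa hxb (fun k => by
      rw [pow_fix_iff_card x hxa, pow_fix_iff_card x hxb, ← h1, ← h2]
      have : c1.support.card = c2.support.card := hcc
      rw [this])
    rw [h1, h2]
    exact hs.cycleOf_eq
  · intro h a b ha hb hk
    have hm1 : x.cycleOf a ∈ x.cycleFactorsFinset :=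
      cycleOf_mem_cycleFactorsFinset_iff.2 (mem_support.2 ha)
    have hm2 : x.cycleOf b ∈ x.cycleFactorsFinset :=
      cycleOf_mem_cycleFactorsFinset_iff.2 (mem_support.2 hb)
    have hcard : (x.cycleOf a).support.card = (x.cycleOf b).support.card := by
      apply Nat.dvd_antisymm
      · rw [← pow_fix_iff_card x ha, hk, pow_fix_iff_card x hb]
      · rw [← pow_fix_iff_card x hb, ← hk, pow_fix_iff_card x ha]
    have h3 := h _ hm1 _ hm2 hcard
    have h4 : b ∈ (x.cycleOf a).support := by
      rw [h3, mem_support_cycleOf_iff]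
      exact ⟨SameCycle.refl x b, mem_support.2 hb⟩
    exact (mem_support_cycleOf_iff.1 h4).1

/-- The characterization of 2-elements lying in a unique Sylow 2-subgroup. -/
theorem unique_sylow_iff (x : Perm α) (k : ℕ) (hx : orderOf x = 2 ^ k) :
    (∃! P : Sylow 2 (Perm α), x ∈ P) ↔
      (Fintype.card α ≤ x.support.card + 2 ∧ x.cycleType.Nodup) := by
  rw [← fixLe_iff, ← noRep_iff]
  constructor
  · rintro ⟨P, hP, huniq⟩
    exact ⟨fixLe_of_unique P hP huniq, noRep_of_unique _ α rfl P x hP huniq⟩
  · rintro ⟨hf, hn⟩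
    have h2 : IsPGroup 2 (Subgroup.zpowers x) := by
      apply IsPGroup.of_card (n := k)
      rw [Nat.card_zpowers, hx]
    obtain ⟨P, hP⟩ := h2.exists_le_sylow
    have hxP : x ∈ P := hP (Subgroup.mem_zpowers x)
    exact ⟨P, hxP, fun P' hP' => unique_of_good _ α rfl x hf hn P' P hP' hxP⟩

end Cfsg.Agent.Perm.SymSylow
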