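import Mathlib

/-! Tuples and multiple transitivity: general helper lemmas. -/

set_option autoImplicit false

namespace Cfsg.Agent.Lib.Perm

open MulAction SubMulAction

variable {G α : Type*} [Group G] [MulAction G α]

/-- If `G` is transitive on `|s|`-tuples and the pointwise stabiliser of `s` is `k`-transitive on
the complement of `s`, then `G` is `(|s| + k)`-transitive. -/
theorem isMultiplyPretransitive_add_fixing (s : Set α) [Finite s] {k : ℕ}
    (hm : IsMultiplyPretransitive G α s.ncard)
    (h : IsMultiplyPretransitive (fixingSubgroup G s) (ofFixingSubgroup G s) k) :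
    IsMultiplyPretransitive G α (s.ncard + k) := by
  have hreduce : ∀ x : Fin (s.ncard + k) ↪ α, ∃ (g : G) (x' : Fin k ↪ ofFixingSubgroup G s),
      g • x = ofFixingSubgroup.append x' := by
    intro x
    let x₀ : Fin s.ncard ↪ α := (Fin.castAddEmb k).trans x
    -- an enumeration of `s`, as used by `append`
    let Hs : Nonempty (Fin (s.ncard) ≃ s) :=
      Finite.card_eq.mp (by simp [Nat.card_coe_set_eq])
    let e := Classical.choice Hs
    let e₀ : Fin s.ncard ↪ α := e.toEmbedding.trans (Function.Embedding.subtype _)
    obtain ⟨g, hg⟩ := exists_smul_eq G x₀ e₀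
    have hg' : ∀ i, g • x (Fin.castAdd k i) = e i := by
      intro i
      have := congrArg (fun f : Fin s.ncard ↪ α => f i) hg
      simpa [x₀, e₀] using this
    have hout : ∀ i : Fin k, g • x (Fin.natAdd s.ncard i) ∈ ofFixingSubgroup G s := by
      intro i
      rw [mem_ofFixingSubgroup_iff]
      intro hmem
      let j := e.symm ⟨_, hmem⟩
      have hj : e j = ⟨_, hmem⟩ := e.apply_symm_apply _
      have h1 := hg' j
      rw [hj] at h1
      have h2 : x (Fin.castAdd k j) = x (Fin.natAdd s.ncard i) := smul_left_cancel g h1
      have h3 := x.injective h2
      have : (Fin.castAdd k j : Fin (s.ncard + k)).val = (Fin.natAdd s.ncard i).val := by rw [h3]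
      simp at this
      omega
    let x' : Fin k ↪ ofFixingSubgroup G s :=
      ⟨fun i => ⟨_, hout i⟩, fun a b hab => by
        have h1 : g • x (Fin.natAdd s.ncard a) = g • x (Fin.natAdd s.ncard b) :=
          congrArg Subtype.val hab
        have h2 := x.injective (smul_left_cancel g h1)
        exact Fin.natAdd_injective _ _ h2⟩
    refine ⟨g, x', ?_⟩
    ext i
    induction i using Fin.addCases with
    | left i =>
      have := ofFixingSubgroup.append_left x' i
      simp only at this
      rw [Function.Embedding.smul_apply, hg', this]
    | right i =>
      have := ofFixingSubgroup.append_right x' i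
      rw [Function.Embedding.smul_apply, this]
      rfl
  have hbase : ∀ (x' y' : Fin k ↪ ofFixingSubgroup G s), ∃ g : G,
      g • (ofFixingSubgroup.append x') = ofFixingSubgroup.append y' := by
    intro x' y'
    obtain ⟨c, hc⟩ := exists_smul_eq (fixingSubgroup G s) x' y'
    refine ⟨(c : G), ?_⟩
    ext i
    induction i using Fin.addCases with
    | left i =>
      have h1 := ofFixingSubgroup.append_left x' i
      have h2 := ofFixingSubgroup.append_left y' i
      simp only at h1 h2
      rw [Function.Embedding.smul_apply, h1, h2]
      exact (mem_fixingSubgroup_iff G).mp c.2 _ (Subtype.coe_prop _)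
    | right i =>
      have h1 := ofFixingSubgroup.append_right x' i
      have h2 := ofFixingSubgroup.append_right y' i
      rw [Function.Embedding.smul_apply, h1, h2]
      have := congrArg (fun f : Fin k ↪ ofFixingSubgroup G s => ((f i : ofFixingSubgroup G s) : α)) hc
      exact this
  refine ⟨fun x y => ?_⟩
  obtain ⟨g₁, x', hx⟩ := hreduce x
  obtain ⟨g₂, y', hy⟩ := hreduce y
  obtain ⟨g, hg⟩ := hbase x' y'
  refine ⟨g₂⁻¹ * g * g₁, ?_⟩
  rw [mul_smul, mul_smul, hx, hg, ← hy, inv_smul_smul]

/-- The embedding obtained from `x` by replacing the value at `i` by a point outside the range. -/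
noncomputable def updateEmb {k : ℕ} (x : Fin k ↪ α) (i : Fin k) (z : α) (hz : z ∉ Set.range x) :
    Fin k ↪ α :=
  ⟨Function.update x i z, by
    classical
    intro a b hab
    by_cases ha : a = i <;> by_cases hb : b = i
    · rw [ha, hb]
    · subst ha
      simp only [Function.update_self, Function.update_of_ne hb] at hab
      exact absurd ⟨b, hab.symm⟩ hz
    · subst hb
      simp only [Function.update_self, Function.update_of_ne ha] at hab
      exact absurd ⟨a, hab⟩ hz
    · simp only [Function.update_of_ne ha, Function.update_of_ne hb] at hab
      exact x.injective hab⟩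

theorem updateEmb_same {k : ℕ} (x : Fin k ↪ α) (i : Fin k) (z : α) (hz : z ∉ Set.range x) :
    updateEmb x i z hz i = z := by
  change Function.update x i z i = z
  simp

theorem updateEmb_ne {k : ℕ} (x : Fin k ↪ α) (i j : Fin k) (z : α) (hz : z ∉ Set.range x)
    (hj : j ≠ i) : updateEmb x i z hz j = x j := by
  change Function.update x i z j = x j
  simp [Function.update_of_ne hj]

/-- Connectivity of injective tuples under one-coordinate changes: if `G` can move a tuple to
any tuple obtained by changing one coordinate to a point outside the range, and `k < |α|`,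
then `G` is `k`-transitive. -/
theorem isMultiplyPretransitive_of_update [Finite α] {k : ℕ} (hk : k < Nat.card α)
    (h : ∀ (x : Fin k ↪ α) (i : Fin k) (z : α) (hz : z ∉ Set.range x),
      ∃ g : G, g • x = updateEmb x i z hz) :
    IsMultiplyPretransitive G α k := by
  classical
  have hrange : ∀ x : Fin k ↪ α, ∃ z, z ∉ Set.range x := by
    intro x
    by_contra hcon
    push Not at hcon
    have hsurj : Function.Surjective x := hcon
    have : Nat.card α ≤ k := by
      have := Nat.card_le_card_of_surjective x hsurj
      simpa using this
    omega
  let d : (Fin k ↪ α) → (Fin k ↪ α) → ℕ := fun x y => (Finset.univ.filter fun i => x i ≠ y i).card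
  have key : ∀ n, ∀ x y : Fin k ↪ α, d x y = n → ∃ g : G, g • x = y := by
    intro n
    induction n using Nat.strong_induction_on with
    | _ n ih =>
      intro x y hd
      by_cases hxy : x = y
      · exact ⟨1, by rw [one_smul, hxy]⟩
      · have hex : ∃ i, x i ≠ y i := by
          by_contra hcon
          push Not at hcon
          exact hxy (Function.Embedding.ext hcon)
        obtain ⟨i, hi⟩ := hex
        by_cases hyi : y i ∈ Set.range x
        · obtain ⟨j, hj⟩ := hyi
          have hji : j ≠ i := by
            rintro rfl
            exact hi hj
          have hxj : x j ≠ y j := by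
            rw [hj]
            intro hcon
            exact hji (y.injective hcon).symm
          obtain ⟨z, hz⟩ := hrange x
          let x2 := updateEmb x j z hz
          have hyi2 : y i ∉ Set.range x2 := by
            rintro ⟨l, hl⟩
            by_cases hlj : l = j
            · subst hlj
              rw [updateEmb_same] at hl
              exact hz ⟨l, by rw [hl, hj]⟩
            · rw [updateEmb_ne _ _ _ _ _ hlj, ← hj] at hl
              exact hlj (x.injective hl)
          let x3 := updateEmb x2 i (y i) hyi2
          have hx2i : x2 i = x i := updateEmb_ne _ _ _ _ _ hji.symm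
          have hlt : d x3 y < n := by
            rw [← hd]
            apply Finset.card_lt_card
            rw [Finset.ssubset_iff_of_subset]
            · refine ⟨i, by simp [hi], ?_⟩
              simp [x3, updateEmb_same]
            · intro l hl
              simp only [Finset.mem_filter, Finset.mem_univ, true_and] at hl ⊢
              by_cases hli : l = i
              · rw [hli]; exact hi
              · rw [updateEmb_ne _ _ _ _ _ hli] at hl
                by_cases hlj : l = j
                · rw [hlj]; exact hxj
                · rwa [updateEmb_ne _ _ _ _ _ hlj] at hl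
          obtain ⟨g₃, hg₃⟩ := ih _ hlt x3 y rfl
          obtain ⟨g₁, hg₁⟩ := h x j z hz
          obtain ⟨g₂, hg₂⟩ := h x2 i (y i) hyi2
          refine ⟨g₃ * g₂ * g₁, ?_⟩
          rw [mul_smul, mul_smul, hg₁]
          change g₃ • g₂ • x2 = y
          rw [hg₂, hg₃]
        · let x3 := updateEmb x i (y i) hyi
          have hlt : d x3 y < n := by
            rw [← hd]
            apply Finset.card_lt_card
            rw [Finset.ssubset_iff_of_subset]
            · refine ⟨i, by simp [hi], ?_⟩
              simp [x3, updateEmb_same]
            · intro l hl
              simp only [Finset.mem_filter, Finset.mem_univ, true_and] at hl ⊢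
              by_cases hli : l = i
              · rw [hli]; exact hi
              · rwa [updateEmb_ne _ _ _ _ _ hli] at hl
          obtain ⟨g₃, hg₃⟩ := ih _ hlt x3 y rfl
          obtain ⟨g₁, hg₁⟩ := h x i (y i) hyi
          refine ⟨g₃ * g₁, ?_⟩
          rw [mul_smul, hg₁, hg₃]
  exact ⟨fun x y => key _ x y rfl⟩

/-- If every orbit of a group on a finite set has size `d`, then `d` divides the size of the set. -/
theorem dvd_card_of_orbits_eq {H X : Type*} [Group H] [MulAction H X] [Finite X] {d : ℕ}
    (h : ∀ x : X, Nat.card (orbit H x) = d) : d ∣ Nat.card X := by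
  classical
  have e := MulAction.selfEquivSigmaOrbits H X
  have : Finite (orbitRel.Quotient H X) := Quotient.finite _
  have : Fintype (orbitRel.Quotient H X) := Fintype.ofFinite _
  rw [Nat.card_congr e, Nat.card_sigma]
  apply Finset.dvd_sum
  intro ω _
  rw [h]

end Cfsg.Agent.Lib.Perm
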