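import Mathlib

/-!
A commuting group of additive automorphisms acting semiregularly with at most two orbits on the
nonzero vectors makes the vector group into a field.
-/

set_option autoImplicit false

namespace Cfsg.Agent.Lib.Perm

universe u

theorem zf_exists_field_coords {V : Type u} [AddCommGroup V] [Finite V]
    (A : Set (AddMonoid.End V))
    (hcomm : ∀ a ∈ A, ∀ b ∈ A, a * b = b * a)
    (hfree : ∀ a ∈ A, ∀ v, v ≠ 0 → a v ≠ 0)
    (hsemi : ∀ a ∈ A, ∀ b ∈ A, ∀ v, v ≠ 0 → a v = b v → a = b)
    (hbig : Nat.card V ≤ 2 * Set.ncard A + 1)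
    (x₀ : V) (hx₀ : x₀ ≠ 0) :
    ∃ (K : Type u) (_ : Field K) (_ : Fintype K) (e : V ≃+ K), e x₀ = 1 ∧
      ∀ a ∈ A, ∀ v, e (a v) = e (a x₀) * e v := by
  classical
  -- invariant subgroups
  have hW : ∀ W : AddSubgroup V, (∀ a ∈ A, ∀ v ∈ W, a v ∈ W) → W ≠ ⊥ → W = ⊤ := by
    intro W hinv hne
    obtain ⟨⟨v, hv⟩, hv0'⟩ := AddSubgroup.ne_bot_iff_exists_ne_zero.mp hne
    have hv0 : v ≠ 0 := fun h => hv0' (Subtype.ext h)
    by_contra htop
    have hO : Set.ncard ((fun a : AddMonoid.End V => a v) '' A) = Set.ncard A := by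
      apply Set.ncard_image_of_injOn
      intro a ha b hb hab
      exact hsemi a ha b hb v hv0 hab
    have hsub : insert 0 ((fun a : AddMonoid.End V => a v) '' A) ⊆ (W : Set V) := by
      intro y hy
      rcases hy with rfl | ⟨a, ha, rfl⟩
      · exact W.zero_mem
      · exact hinv a ha v hv
    have h0 : (0 : V) ∉ ((fun a : AddMonoid.End V => a v) '' A) := by
      rintro ⟨a, ha, h⟩
      exact hfree a ha v hv0 h
    have hle := Set.ncard_le_ncard hsub (Set.toFinite _)
    rw [Set.ncard_insert_of_notMem h0 (Set.toFinite _), hO] at hle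
    have hcard : Nat.card W * W.index = Nat.card V := W.card_mul_index
    have hidx : W.index ≠ 1 := fun h => htop (AddSubgroup.index_eq_one.mp h)
    have hidx0 : W.index ≠ 0 := AddSubgroup.index_ne_zero_of_finite
    have h2 : 2 ≤ W.index := by omega
    have hW' : (W : Set V).ncard = Nat.card W := (Nat.card_coe_set_eq _).symm
    rw [hW'] at hle
    nlinarith
  let R := Subring.closure A
  have hRcomm : ∀ x y : R, x * y = y * x := by
    haveI hRc : IsMulCommutative R := Subring.isMulCommutative_closure hcomm
    exact fun x y => mul_comm' x y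
  letI : CommRing R := { (inferInstance : Ring R) with mul_comm := hRcomm }
  have hinj : ∀ r : R, r ≠ 0 → Function.Injective (r : AddMonoid.End V) := by
    intro r hr
    let W : AddSubgroup V := (r : V →+ V).ker
    have hWb : W = ⊥ := by
      by_contra hb
      have htop : W = ⊤ := hW W (fun a ha v hv => by
        have h1 : (a : AddMonoid.End V) * (r : AddMonoid.End V) = r * a := by
          have h2 : (⟨a, Subring.subset_closure ha⟩ : R) * r = r * ⟨a, Subring.subset_closure ha⟩ :=
            mul_comm _ _
          exact congrArg Subtype.val h2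
        have h3 : (r : AddMonoid.End V) (a v) = a ((r : AddMonoid.End V) v) :=
          (DFunLike.congr_fun h1 v).symm
        rw [AddMonoidHom.mem_ker] at hv ⊢
        change (r : AddMonoid.End V) (a v) = 0
        rw [h3]
        have hv' : (r : AddMonoid.End V) v = 0 := hv
        rw [hv', map_zero]) hb
      apply hr
      apply Subtype.ext
      apply AddMonoidHom.ext
      intro v
      have : v ∈ W := by rw [htop]; trivial
      exact this
    exact (AddMonoidHom.ker_eq_bot_iff _).mp hWb
  have hzd : ∀ r s : R, r * s = 0 → r = 0 ∨ s = 0 := by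
    intro r s hrs
    by_contra hcon
    push Not at hcon
    obtain ⟨hr, hs⟩ := hcon
    apply hs
    apply Subtype.ext
    apply AddMonoidHom.ext
    intro v
    apply hinj r hr
    have h1 : ((r * s : R) : AddMonoid.End V) v = 0 := by rw [hrs]; rfl
    have h2 : (r : AddMonoid.End V) ((s : AddMonoid.End V) v) = 0 := h1
    refine h2.trans ?_
    exact (map_zero (r : AddMonoid.End V)).symm
  haveI hnt : Nontrivial R := ⟨⟨1, 0, fun h => hx₀ (by
    have := congrArg (fun r : R => (r : AddMonoid.End V) x₀) h
    exact this)⟩⟩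
  haveI : NoZeroDivisors R := ⟨fun {r s} h => hzd r s h⟩
  haveI : IsDomain R := NoZeroDivisors.to_isDomain R
  haveI : Finite (AddMonoid.End V) := DFunLike.finite (V →+ V)
  letI : Fintype R := Fintype.ofFinite R
  letI : Field R := Fintype.fieldOfDomain R
  let ev : R →+ V :=
    { toFun := fun r => (r : AddMonoid.End V) x₀
      map_zero' := rfl
      map_add' := fun _ _ => rfl }
  have hevinj : Function.Injective ev := by
    rw [injective_iff_map_eq_zero]
    intro r hr
    by_contra hne
    apply hx₀
    apply hinj r hne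
    rw [map_zero]
    exact hr
  have hevsurj : Function.Surjective ev := by
    have h1 : ev.range = ⊤ := by
      apply hW
      · rintro a ha _ ⟨r, rfl⟩
        exact ⟨⟨a, Subring.subset_closure ha⟩ * r, rfl⟩
      · intro hb
        have : x₀ ∈ ev.range := ⟨1, rfl⟩
        rw [hb] at this
        exact hx₀ this
    exact AddMonoidHom.range_eq_top.mp h1
  let e : V ≃+ R := (AddEquiv.ofBijective ev ⟨hevinj, hevsurj⟩).symm
  have heev : ∀ r : R, e (ev r) = r := fun r => (AddEquiv.ofBijective ev ⟨hevinj, hevsurj⟩).symm_apply_apply r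
  have heev' : ∀ v : V, ev (e v) = v := fun v => (AddEquiv.ofBijective ev ⟨hevinj, hevsurj⟩).apply_symm_apply v
  refine ⟨R, inferInstance, inferInstance, e, ?_, ?_⟩
  · exact heev 1
  · intro a ha v
    have ha' : a ∈ R := Subring.subset_closure ha
    have h1 : a x₀ = ev ⟨a, ha'⟩ := rfl
    have h2 : a v = ev (⟨a, ha'⟩ * e v) := by
      conv_lhs => rw [← heev' v]
      rfl
    rw [h1, h2, heev, heev]

end Cfsg.Agent.Lib.Perm
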