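import Mathlib
import Cfsg.Agent.Lib.Perm.ZFField

/-!
Field coordinates on the projective line for a group with a regular abelian normal subgroup of the
point stabiliser and a large commuting group of multiplications.
-/

set_option autoImplicit false
set_option linter.style.haveILetI false

namespace Cfsg.Agent.Lib.Perm

open OnePoint

universe u v

theorem zf_coords {G : Type u} {Ω : Type v} [Group G] [Finite G] [MulAction G Ω] [Finite Ω]
    {a b c : Ω} (hab : a ≠ b) (hac : a ≠ c) (hbc : b ≠ c) (F A : Subgroup G)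
    (hFa : ∀ u ∈ F, u • a = a)
    (hFreg : ∀ y z : Ω, y ≠ a → z ≠ a → ∃! u : F, (u : G) • y = z)
    (hFcomm : ∀ u ∈ F, ∀ v ∈ F, u * v = v * u)
    (hAb : ∀ k ∈ A, k • b = b)
    (hAcomm : ∀ k ∈ A, ∀ l ∈ A, k * l = l * k)
    (hAF : ∀ k ∈ A, ∀ u ∈ F, k * u * k⁻¹ ∈ F)
    (hAsemi : ∀ k ∈ A, ∀ y : Ω, y ≠ a → y ≠ b → k • y = y → k = 1)
    (hbig : Nat.card Ω ≤ 2 * Nat.card A + 2) :
    ∃ (K : Type u) (_ : Field K) (_ : Fintype K) (ρ : OnePoint K ≃ Ω),
      ρ ∞ = a ∧ ρ ((0 : K) : OnePoint K) = b ∧ ρ ((1 : K) : OnePoint K) = c ∧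
      Nat.card K + 1 = Nat.card Ω ∧
      (∀ u ∈ F, ∃ s : K, ∀ x : K, u • ρ (x : OnePoint K) = ρ ((x + s : K) : OnePoint K)) ∧
      (∀ s : K, ∃ u ∈ F, ∀ x : K, u • ρ (x : OnePoint K) = ρ ((x + s : K) : OnePoint K)) ∧
      (∀ k ∈ A, ∃ r : K, r ≠ 0 ∧ ∀ x : K, k • ρ (x : OnePoint K) = ρ ((r * x : K) : OnePoint K)) := by
  classical
  letI instF : CommGroup F :=
    { (inferInstance : Group F) with
      mul_comm := fun x y => Subtype.ext (hFcomm x x.2 y y.2) }
  let ρk : A → AddMonoid.End (Additive F) := fun k =>
    { toFun := fun v => Additive.ofMul ⟨(k : G) * (v.toMul : G) * (k : G)⁻¹,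
        hAF k k.2 _ v.toMul.2⟩
      map_zero' := by
        apply Additive.toMul.injective
        apply Subtype.ext
        change (k : G) * 1 * (k : G)⁻¹ = 1
        group
      map_add' := fun v w => by
        apply Additive.toMul.injective
        apply Subtype.ext
        change (k : G) * ((v.toMul : G) * (w.toMul : G)) * (k : G)⁻¹ =
          ((k : G) * (v.toMul : G) * (k : G)⁻¹) * ((k : G) * (w.toMul : G) * (k : G)⁻¹)
        group }
  have hρk : ∀ (k : A) (v : Additive F), (((ρk k v).toMul : F) : G) = (k : G) * (v.toMul : G) * (k : G)⁻¹ :=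
    fun _ _ => rfl
  -- the point map
  have hfree : ∀ u : F, (u : G) • b = b → u = 1 := by
    intro u hu
    obtain ⟨w, -, hw⟩ := hFreg b b hab.symm hab.symm
    rw [hw u hu, hw 1 (by simp)]
  have hsemi' : ∀ (k l : A) (v : Additive F), v ≠ 0 → ρk k v = ρk l v → k = l := by
    intro k l v hv h
    have hv1 : (v.toMul : F) ≠ 1 := fun h1 => hv (Additive.toMul.injective h1)
    have h1 : (k : G) * (v.toMul : G) * (k : G)⁻¹ = (l : G) * (v.toMul : G) * (l : G)⁻¹ := by
      rw [← hρk, ← hρk, h]
    set u : G := (v.toMul : G) with hu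
    have hy1 : u • b ≠ a := by
      intro h2
      have h3 : u • a = a := hFa _ v.toMul.2
      apply hab
      exact MulAction.injective u (h3.trans h2.symm)
    have hy2 : u • b ≠ b := fun h2 => hv1 (hfree _ h2)
    have hmem : (k : G)⁻¹ * l ∈ A := A.mul_mem (A.inv_mem k.2) l.2
    have hfix : ((k : G)⁻¹ * l) • (u • b) = u • b := by
      have h2 : (l : G) • (u • b) = (k : G) • (u • b) := by
        have h3 : (l : G) • b = b := hAb _ l.2
        have h4 : (k : G) • b = b := hAb _ k.2
        have e1 : (l : G) • (u • b) = ((l : G) * u * (l : G)⁻¹) • ((l : G) • b) := by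
          simp [mul_smul]
        have e2 : (k : G) • (u • b) = ((k : G) * u * (k : G)⁻¹) • ((k : G) • b) := by
          simp [mul_smul]
        rw [e1, e2, h3, h4, h1]
      rw [mul_smul, h2, inv_smul_smul]
    have h5 := hAsemi _ hmem _ hy1 hy2 hfix
    apply Subtype.ext
    exact (inv_mul_eq_one.mp h5)
  have hρinj : Function.Injective ρk := by
    -- needs a nonzero vector
    intro k l h
    obtain ⟨w, hw, -⟩ := hFreg b c hab.symm hac.symm
    have hw1 : Additive.ofMul w ≠ 0 := by
      intro h0
      have h1 : w = 1 := h0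
      rw [h1] at hw
      exact hbc (by simpa using hw)
    exact hsemi' k l _ hw1 (by rw [h])
  obtain ⟨w₀, hw₀, -⟩ := hFreg b c hab.symm hac.symm
  have hx₀ : Additive.ofMul w₀ ≠ (0 : Additive F) := by
    intro h0
    have h1 : w₀ = 1 := h0
    rw [h1] at hw₀
    exact hbc (by simpa using hw₀)
  -- point count
  let pt : F → Ω := fun u => (u : G) • b
  have hptinj : Function.Injective pt := by
    intro u v huv
    have h1 : ((v⁻¹ * u : F) : G) • b = b := by
      change ((v : G)⁻¹ * (u : G)) • b = b
      rw [mul_smul]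
      change _ • ((u : G) • b) = b
      have : (u : G) • b = (v : G) • b := huv
      rw [this, inv_smul_smul]
    have h2 := hfree _ h1
    exact (inv_mul_eq_one.mp h2).symm
  have hptrange : ∀ y : Ω, y ≠ a → ∃ u : F, pt u = y := by
    intro y hy
    obtain ⟨u, hu, -⟩ := hFreg b y hab.symm hy
    exact ⟨u, hu⟩
  have hptne : ∀ u : F, pt u ≠ a := by
    intro u h
    have h1 : (u : G) • a = a := hFa _ u.2
    exact hab (MulAction.injective (u : G) (h1.trans h.symm))
  -- cardinality of `Ω`
  let κ0 : Option F → Ω := fun o => o.elim a pt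
  have hκ0 : Function.Bijective κ0 := by
    constructor
    · rintro (_ | u) (_ | v) h
      · rfl
      · exact absurd h.symm (hptne v)
      · exact absurd h (hptne u)
      · exact congrArg Option.some (hptinj h)
    · intro y
      by_cases hy : y = a
      · exact ⟨none, hy.symm⟩
      · obtain ⟨u, hu⟩ := hptrange y hy
        exact ⟨Option.some u, hu⟩
  have hcardΩ : Nat.card Ω = Nat.card F + 1 := by
    haveI : Finite (Option F) := inferInstance
    rw [← Nat.card_congr (Equiv.ofBijective κ0 hκ0)]
    letI := Fintype.ofFinite F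
    rw [Nat.card_eq_fintype_card, Nat.card_eq_fintype_card, Fintype.card_option]
  have hbig' : Nat.card (Additive F) ≤ 2 * Set.ncard (Set.range ρk) + 1 := by
    have h1 : Nat.card (Additive F) = Nat.card F := rfl
    have h2 : Set.ncard (Set.range ρk) = Nat.card A := by
      rw [← Set.image_univ, Set.InjOn.ncard_image hρinj.injOn, Set.ncard_univ]
    rw [h1, h2]
    omega
  obtain ⟨K, iF, iK, e, hex, hem⟩ := zf_exists_field_coords (Set.range ρk)
    (by
      rintro _ ⟨k, rfl⟩ _ ⟨l, rfl⟩
      apply AddMonoidHom.ext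
      intro v
      apply Additive.toMul.injective
      apply Subtype.ext
      change (k : G) * ((l : G) * (v.toMul : G) * (l : G)⁻¹) * (k : G)⁻¹ =
        (l : G) * ((k : G) * (v.toMul : G) * (k : G)⁻¹) * (l : G)⁻¹
      have h1 : (k : G) * (l : G) = (l : G) * (k : G) := hAcomm _ k.2 _ l.2
      calc (k : G) * ((l : G) * (v.toMul : G) * (l : G)⁻¹) * (k : G)⁻¹
          = ((k : G) * (l : G)) * (v.toMul : G) * ((k : G) * (l : G))⁻¹ := by group
        _ = ((l : G) * (k : G)) * (v.toMul : G) * ((l : G) * (k : G))⁻¹ := by rw [h1]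
        _ = _ := by group)
    (by
      rintro _ ⟨k, rfl⟩ v hv h
      apply hv
      apply Additive.toMul.injective
      apply Subtype.ext
      have h1 : (k : G) * (v.toMul : G) * (k : G)⁻¹ = 1 := by
        rw [← hρk, h]; rfl
      have h2 : (v.toMul : G) = 1 := by
        have := congrArg (fun x => (k : G)⁻¹ * x * (k : G)) h1
        simpa [mul_assoc] using this
      exact h2)
    (by
      rintro _ ⟨k, rfl⟩ _ ⟨l, rfl⟩ v hv h
      rw [hsemi' k l v hv h])
    hbig' (Additive.ofMul w₀) hx₀
  -- the coordinate map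
  let κ : OnePoint K → Ω := fun p => p.elim a (fun x => pt (e.symm x).toMul)
  have hκ : Function.Bijective κ := by
    constructor
    · intro p q h
      induction p using OnePoint.rec with
      | infty =>
        induction q using OnePoint.rec with
        | infty => rfl
        | coe y => exact absurd h.symm (hptne _)
      | coe x =>
        induction q using OnePoint.rec with
        | infty => exact absurd h (hptne _)
        | coe y =>
          have h1 := hptinj h
          have h2 : e.symm x = e.symm y := Additive.toMul.injective h1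
          rw [e.symm.injective h2]
    · intro y
      by_cases hy : y = a
      · exact ⟨∞, hy.symm⟩
      · obtain ⟨u, hu⟩ := hptrange y hy
        refine ⟨((e (Additive.ofMul u) : K) : OnePoint K), ?_⟩
        change pt (e.symm (e (Additive.ofMul u))).toMul = y
        rw [e.symm_apply_apply]
        exact hu
  refine ⟨K, iF, iK, Equiv.ofBijective κ hκ, rfl, ?_, ?_, ?_, ?_, ?_, ?_⟩
  · change pt (e.symm 0).toMul = b
    rw [map_zero]
    change ((1 : F) : G) • b = b
    simp
  · change pt (e.symm 1).toMul = c
    rw [← hex, e.symm_apply_apply]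
    exact hw₀
  · have h1 : Nat.card K = Nat.card F := (Nat.card_congr e.toEquiv).symm
    omega
  · intro u hu
    refine ⟨e (Additive.ofMul ⟨u, hu⟩), fun x => ?_⟩
    change u • pt (e.symm x).toMul = pt (e.symm (x + e (Additive.ofMul ⟨u, hu⟩))).toMul
    rw [map_add, e.symm_apply_apply]
    change u • (((e.symm x).toMul : G) • b) = (((e.symm x).toMul : G) * u) • b
    rw [← mul_smul, hFcomm _ hu _ (e.symm x).toMul.2]
  · intro s
    refine ⟨((e.symm s).toMul : G), (e.symm s).toMul.2, fun x => ?_⟩
    change ((e.symm s).toMul : G) • pt (e.symm x).toMul = pt (e.symm (x + s)).toMul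
    rw [map_add]
    change ((e.symm s).toMul : G) • (((e.symm x).toMul : G) • b) =
      (((e.symm x).toMul : G) * ((e.symm s).toMul : G)) • b
    rw [← mul_smul, hFcomm _ (e.symm s).toMul.2 _ (e.symm x).toMul.2]
  · intro k hk
    let k' : A := ⟨k, hk⟩
    refine ⟨e (ρk k' (Additive.ofMul w₀)), ?_, fun x => ?_⟩
    · intro h0
      have h1 : ρk k' (Additive.ofMul w₀) = 0 := by
        apply e.injective
        rw [h0, map_zero]
      apply hx₀
      apply Additive.toMul.injective
      apply Subtype.ext
      have h2 : (k : G) * (w₀ : G) * (k : G)⁻¹ = 1 := by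
        have := congrArg (fun v : Additive F => ((v.toMul : F) : G)) h1
        exact this
      have h3 : (w₀ : G) = 1 := by
        have := congrArg (fun y => (k : G)⁻¹ * y * (k : G)) h2
        simpa [mul_assoc] using this
      exact h3
    · change k • pt (e.symm x).toMul = pt (e.symm (e (ρk k' (Additive.ofMul w₀)) * x)).toMul
      have h1 := hem (ρk k') ⟨k', rfl⟩ (e.symm x)
      rw [e.apply_symm_apply] at h1
      rw [← h1, e.symm_apply_apply]
      change k • (((e.symm x).toMul : G) • b) = (k * ((e.symm x).toMul : G) * k⁻¹) • b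
      have h3 : k • b = b := hAb k hk
      have e1 : (k * ((e.symm x).toMul : G) * k⁻¹) • b = k • (((e.symm x).toMul : G) • (k⁻¹ • b)) := by
        simp [mul_smul]
      rw [e1]
      congr 2
      exact (inv_smul_eq_iff.mpr h3.symm).symm

end Cfsg.Agent.Lib.Perm
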