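import Mathlib
import Cfsg.Agent.Lib.OddLocal.UniqueP2

/-!
Anticommuting automorphisms force even dimension; a group with a unique involution and no
anticommuting pair has an element of order the full power of two.
-/

set_option autoImplicit false
set_option linter.style.haveILetI false

namespace Cfsg.Agent.Lib.Perm

universe u

theorem zf_even_aux {V : Type u} [AddCommGroup V] [Finite V] {p f : ℕ} [hpp : Fact p.Prime]
    [Module (ZMod p) V]
    (hp2 : p ≠ 2) (hcard : Nat.card V = p ^ f) (X Y : AddMonoid.End V)
    (hX : Function.Bijective X) (hY : Function.Bijective Y) (hanti : ∀ v, X (Y v) = - Y (X v)) :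
    Even f := by
  classical
  haveI : Module.Finite (ZMod p) V := Module.Finite.of_finite
  let X' : V →ₗ[ZMod p] V := AddMonoidHom.toZModLinearMap p X
  let Y' : V →ₗ[ZMod p] V := AddMonoidHom.toZModLinearMap p Y
  have hXa : ∀ v : V, X' v = X v := fun _ => rfl
  have hYa : ∀ v : V, Y' v = Y v := fun _ => rfl
  have hrel : X' ∘ₗ Y' = (-1 : ZMod p) • (Y' ∘ₗ X') := by
    apply LinearMap.ext
    intro v
    rw [LinearMap.comp_apply, LinearMap.smul_apply, LinearMap.comp_apply, hXa, hYa, hXa, hYa, hanti]
    rw [neg_smul, one_smul]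
  have hd := congrArg LinearMap.det hrel
  rw [LinearMap.det_comp, LinearMap.det_smul, LinearMap.det_comp] at hd
  let eX : V ≃ₗ[ZMod p] V := LinearEquiv.ofBijective X' hX
  let eY : V ≃ₗ[ZMod p] V := LinearEquiv.ofBijective Y' hY
  have hdX : IsUnit (LinearMap.det X') := LinearEquiv.isUnit_det' eX
  have hdY : IsUnit (LinearMap.det Y') := LinearEquiv.isUnit_det' eY
  have hone : (-1 : ZMod p) ^ Module.finrank (ZMod p) V = 1 := by
    have h1 : (LinearMap.det X' * LinearMap.det Y') * ((-1 : ZMod p) ^ Module.finrank (ZMod p) V - 1) = 0 := by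
      linear_combination -hd
    have h2 : IsUnit (LinearMap.det X' * LinearMap.det Y') := hdX.mul hdY
    have h3 := (h2.mul_right_eq_zero).mp h1
    exact sub_eq_zero.mp h3
  have hm1 : (-1 : ZMod p) ≠ 1 := by
    haveI : Fact (2 < p) := ⟨lt_of_le_of_ne hpp.out.two_le (Ne.symm hp2)⟩
    exact ZMod.neg_one_ne_one
  have heven : Even (Module.finrank (ZMod p) V) := (neg_one_pow_eq_one_iff_even hm1).mp hone
  have hfr : Module.finrank (ZMod p) V = f := by
    letI := Fintype.ofFinite V
    have h4 := Module.card_eq_pow_finrank (K := ZMod p) (V := V)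
    rw [ZMod.card, ← Nat.card_eq_fintype_card, hcard] at h4
    exact (Nat.pow_right_injective hpp.out.two_le h4).symm
  rwa [hfr] at heven

theorem zf_even_of_anticomm {V : Type u} [AddCommGroup V] [Finite V] {p f : ℕ} [hpp : Fact p.Prime]
    (hp2 : p ≠ 2) (hV : ∀ v : V, p • v = 0) (hcard : Nat.card V = p ^ f) (X Y : AddMonoid.End V)
    (hX : Function.Bijective X) (hY : Function.Bijective Y) (hanti : ∀ v, X (Y v) = - Y (X v)) :
    Even f := by
  letI : Module (ZMod p) V := AddCommGroup.zmodModule hV
  exact zf_even_aux hp2 hcard X Y hX hY hanti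

/-- A finite group of even order with a unique involution `t`, having no pair `x, y` with
`x y = t y x`, has an element whose order is the full power of two. -/
theorem zf_full_two_element {H : Type u} [Group H] [Finite H] (t : H) (ht : t * t = 1) (ht1 : t ≠ 1)
    (huniq : ∀ x : H, x * x = 1 → x ≠ 1 → x = t)
    (hQ : ∀ x y : H, x * y = t * (y * x) → False) :
    ∃ (g : H) (k : ℕ), Even (orderOf g) ∧ Nat.card H = orderOf g * k ∧ Odd k := by
  classical
  haveI hp2 : Fact (Nat.Prime 2) := ⟨Nat.prime_two⟩
  obtain ⟨S⟩ : Nonempty (Sylow 2 H) := inferInstance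
  have hS : IsPGroup 2 (S : Subgroup H) := S.isPGroup'
  have hcardH : Nat.card H = Nat.card (S : Subgroup H) * (S : Subgroup H).index :=
    (Subgroup.card_mul_index (S : Subgroup H)).symm
  have hidx : Odd (S : Subgroup H).index := by
    rw [← Nat.not_even_iff_odd, even_iff_two_dvd]
    exact S.not_dvd_index
  have ht2 : orderOf t = 2 := orderOf_eq_prime (by rw [pow_two]; exact ht) ht1
  have h2H : 2 ∣ Nat.card H := by
    rw [← ht2]
    exact orderOf_dvd_natCard t
  have h2S : 2 ∣ Nat.card (S : Subgroup H) := by
    have hcop := (Nat.Prime.dvd_mul Nat.prime_two).mp (hcardH ▸ h2H)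
    rcases hcop with h | h
    · exact h
    · exact absurd h S.not_dvd_index
  have hE : Even (Nat.card (S : Subgroup H)) := even_iff_two_dvd.mpr h2S
  have huniqS : Cfsg.Agent.Lib.OddLocal.UniqueP 2 (S : Subgroup H) := by
    have hinS : ∀ A : Subgroup (S : Subgroup H), Nat.card A = 2 → ∀ y : (S : Subgroup H), y ∈ A →
        y = 1 ∨ (y : H) = t := by
      intro A hA y hy
      by_cases hy1 : y = 1
      · exact Or.inl hy1
      · right
        apply huniq
        · have h1 : (⟨y, hy⟩ : A) ^ (Nat.card A) = 1 := pow_card_eq_one'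
          rw [hA] at h1
          have h2 := congrArg (fun z : A => ((z : (S : Subgroup H)) : H)) h1
          simp only [pow_two] at h2
          exact h2
        · intro h
          exact hy1 (Subtype.ext h)
    have hexists : ∀ A : Subgroup (S : Subgroup H), Nat.card A = 2 → ∃ y ∈ A, y ≠ 1 := by
      intro A hA
      haveI : Finite A := inferInstance
      have : Nontrivial A := by
        rw [← Finite.one_lt_card_iff_nontrivial, hA]
        omega
      obtain ⟨y, hy⟩ := exists_ne (1 : A)
      exact ⟨y, y.2, fun h => hy (Subtype.ext h)⟩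
    intro A B hA hB
    obtain ⟨x, hxA, hx1⟩ := hexists A hA
    obtain ⟨y, hyB, hy1⟩ := hexists B hB
    have hx := (hinS A hA x hxA).resolve_left hx1
    have hy := (hinS B hB y hyB).resolve_left hy1
    have hxy : x = y := Subtype.ext (hx.trans hy.symm)
    subst hxy
    ext z
    constructor
    · intro hz
      rcases hinS A hA z hz with h | h
      · rw [h]; exact B.one_mem
      · have : z = x := Subtype.ext (h.trans hx.symm)
        rw [this]; exact hyB
    · intro hz
      rcases hinS B hB z hz with h | h
      · rw [h]; exact A.one_mem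
      · have : z = x := Subtype.ext (h.trans hx.symm)
        rw [this]; exact hxA
  rcases Cfsg.Agent.Lib.OddLocal.cyclic_or_quaternion hS huniqS with hcyc | ⟨n, ⟨e⟩⟩
  · obtain ⟨g, hg⟩ := IsCyclic.exists_generator (α := (S : Subgroup H))
    have hord : orderOf (g : H) = Nat.card (S : Subgroup H) := by
      rw [Subgroup.orderOf_coe]
      exact orderOf_eq_card_of_forall_mem_zpowers hg
    exact ⟨g, _, by rw [hord]; exact hE, by rw [hord]; exact hcardH, hidx⟩
  · rcases Nat.eq_zero_or_pos n with rfl | hn
    · -- `Q` of order 4, cyclic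
      haveI : NeZero (2 ^ 0) := ⟨by norm_num⟩
      let g : (S : Subgroup H) := e.symm (QuaternionGroup.xa 0)
      have hord : orderOf (g : H) = Nat.card (S : Subgroup H) := by
        rw [Subgroup.orderOf_coe, MulEquiv.orderOf_eq, QuaternionGroup.orderOf_xa,
          Nat.card_congr e.toEquiv, Nat.card_eq_fintype_card, QuaternionGroup.card]
        norm_num
      exact ⟨g, _, by rw [hord]; exact hE, by rw [hord]; exact hcardH, hidx⟩
    · exfalso
      obtain ⟨l, rfl⟩ : ∃ l, n = l + 1 := ⟨n - 1, by omega⟩
      haveI : NeZero (2 ^ (l + 1)) := ⟨by positivity⟩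
      set m := 2 ^ (l + 1) with hm
      let h₀ : ZMod (2 * m) := ((2 ^ l : ℕ) : ZMod (2 * m))
      have h4 : 4 * h₀ = 0 := by
        have : ((4 * 2 ^ l : ℕ) : ZMod (2 * m)) = 0 := by
          have e1 : 4 * 2 ^ l = 2 * m := by rw [hm]; ring
          rw [e1]
          exact ZMod.natCast_self _
        simpa [h₀] using this
      let x₀ : QuaternionGroup m := QuaternionGroup.xa 0
      let y₀ : QuaternionGroup m := QuaternionGroup.a h₀
      have hrel : x₀ * y₀ = (y₀ * y₀) * (y₀ * x₀) := by
        simp only [x₀, y₀, QuaternionGroup.a_mul_a, QuaternionGroup.a_mul_xa, QuaternionGroup.xa_mul_a]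
        congr 1
        linear_combination h4
      let tt : QuaternionGroup m := y₀ * y₀
      have htt : tt * tt = 1 := by
        simp only [tt, y₀, QuaternionGroup.a_mul_a]
        rw [QuaternionGroup.one_def]
        congr 1
        linear_combination h4
      have htt1 : tt ≠ 1 := by
        simp only [tt, y₀, QuaternionGroup.a_mul_a]
        rw [QuaternionGroup.one_def]
        intro h
        have h5 : h₀ + h₀ = 0 := QuaternionGroup.a.inj h
        have h6 : ((2 ^ l + 2 ^ l : ℕ) : ZMod (2 * m)) = 0 := by
          push_cast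
          simpa [h₀] using h5
        rw [ZMod.natCast_eq_zero_iff] at h6
        have h7 : 2 ^ l + 2 ^ l = m := by rw [hm]; ring
        rw [h7] at h6
        have hmpos : 0 < m := by positivity
        have := Nat.le_of_dvd hmpos h6
        omega
      let X : (S : Subgroup H) := e.symm x₀
      let Y : (S : Subgroup H) := e.symm y₀
      have hYY : ((Y * Y : (S : Subgroup H)) : H) = t := by
        apply huniq
        · have : e.symm tt * e.symm tt = 1 := by rw [← map_mul, htt, map_one]
          have h8 := congrArg (fun z : (S : Subgroup H) => (z : H)) this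
          simp only [tt, map_mul, Subgroup.coe_mul, OneMemClass.coe_one] at h8
          simpa [X, Y] using h8
        · intro h
          apply htt1
          have h9 : Y * Y = 1 := Subtype.ext h
          apply e.symm.injective
          rw [map_one]
          simpa [tt, X, Y] using h9
      apply hQ (X : H) (Y : H)
      have h10 : X * Y = (Y * Y) * (Y * X) := by
        simp only [X, Y]
        rw [← map_mul, hrel]
        simp
      have h11 := congrArg (fun z : (S : Subgroup H) => (z : H)) h10
      simp only [Subgroup.coe_mul] at h11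
      rw [h11, ← hYY]
      simp

end Cfsg.Agent.Lib.Perm
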