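import Mathlib

/-!
The form of an involution swapping `0` and `∞` and normalising an index two subgroup of the
multiplicative group of a finite field.
-/

set_option autoImplicit false
set_option linter.style.haveILetI false

namespace Cfsg.Agent.Lib.Perm

open OnePoint

universe u

variable {K : Type u} [Field K] [Fintype K]

/-- The map `x ↦ 1 - x` on the projective line. -/
def zfTau (p : OnePoint K) : OnePoint K := p.elim ∞ (fun x => ((1 - x : K) : OnePoint K))

@[simp] theorem zfTau_infty : zfTau (∞ : OnePoint K) = ∞ := rfl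
@[simp] theorem zfTau_coe (x : K) : zfTau (x : OnePoint K) = ((1 - x : K) : OnePoint K) := rfl

theorem zf_exists_nonsq (Q : Subgroup Kˣ) (hQ : Q.index = 2) (hm1 : (-1 : Kˣ) ∈ Q) :
    ∃ x : Kˣ, x ∉ Q ∧ ∃ z ∈ Q, (z : K) = 1 - x := by
  classical
  by_contra hcon
  push Not at hcon
  -- `Q ∪ {0}` is an additive subgroup
  have hclosed : ∀ u ∈ Q, ∀ v ∈ Q, ∀ w : Kˣ, (w : K) = (u : K) + v → w ∈ Q := by
    intro u hu v hv w hw
    by_contra hwQ
    have h1 : w * u⁻¹ ∉ Q := fun h => hwQ (by
      have := Q.mul_mem h hu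
      simpa using this)
    have h2 : -(v * u⁻¹) ∈ Q := by
      have := Q.mul_mem hm1 (Q.mul_mem hv (Q.inv_mem hu))
      simpa using this
    apply hcon _ h1 _ h2
    have hu0 : (u : K) ≠ 0 := u.ne_zero
    push_cast
    rw [hw]
    field_simp
    ring
  let Q₀ : AddSubgroup K :=
    { carrier := {x | x = 0 ∨ ∃ u ∈ Q, (u : K) = x}
      zero_mem' := Or.inl rfl
      add_mem' := by
        rintro x y (rfl | ⟨u, hu, rfl⟩) (rfl | ⟨v, hv, rfl⟩)
        · left; simp
        · right; exact ⟨v, hv, by simp⟩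
        · right; exact ⟨u, hu, by simp⟩
        · by_cases h0 : (u : K) + v = 0
          · left; exact h0
          · right
            exact ⟨Units.mk0 _ h0, hclosed u hu v hv _ rfl, rfl⟩
      neg_mem' := by
        rintro x (rfl | ⟨u, hu, rfl⟩)
        · left; simp
        · right
          refine ⟨-u, ?_, by simp⟩
          have := Q.mul_mem hm1 hu
          simpa using this }
  have hcard : Nat.card Q₀ = Nat.card Q + 1 := by
    let φ : Option Q → Q₀ := fun o => o.elim ⟨0, Or.inl rfl⟩ (fun u => ⟨(u : Kˣ), Or.inr ⟨u, u.2, rfl⟩⟩)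
    have hφ : Function.Bijective φ := by
      constructor
      · rintro (_ | u) (_ | v) h
        · rfl
        · exact absurd (congrArg Subtype.val h).symm (v : Kˣ).ne_zero
        · exact absurd (congrArg Subtype.val h) (u : Kˣ).ne_zero
        · have h1 : ((u : Kˣ) : K) = ((v : Kˣ) : K) := congrArg Subtype.val h
          exact congrArg Option.some (Subtype.ext (Units.ext h1))
      · rintro ⟨x, (rfl | ⟨u, hu, rfl⟩)⟩
        · exact ⟨Option.none, rfl⟩
        · exact ⟨Option.some ⟨u, hu⟩, rfl⟩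
    rw [← Nat.card_congr (Equiv.ofBijective φ hφ)]
    letI := Fintype.ofFinite Q
    rw [Nat.card_eq_fintype_card, Nat.card_eq_fintype_card, Fintype.card_option]
  have h1 : Nat.card Q₀ ∣ Nat.card K := AddSubgroup.card_addSubgroup_dvd_card Q₀
  have h2 : 2 * Nat.card Q + 1 = Nat.card K := by
    have h3 := Q.card_mul_index
    rw [hQ, Nat.card_units] at h3
    have : 2 ≤ Nat.card K := Finite.one_lt_card
    have h4 : Nat.card K = Fintype.card K := Nat.card_eq_fintype_card
    omega
  rw [hcard] at h1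
  have h3 : Nat.card Q + 1 ∣ 2 * (Nat.card Q + 1) := Dvd.intro_left 2 rfl
  have h4 : Nat.card Q + 1 ∣ 1 := by
    have h5 : 2 * (Nat.card Q + 1) = Nat.card K + 1 := by omega
    rw [h5] at h3
    exact (Nat.dvd_add_right h1).mp h3
  have hpos : 0 < Nat.card Q := Nat.card_pos
  have := Nat.le_of_dvd one_pos h4
  omega

theorem zf_jform (Q : Subgroup Kˣ) (hQ : Q.index = 2) (hm1 : (-1 : Kˣ) ∈ Q)
    (j : OnePoint K → OnePoint K) (hji : j ∞ = ((0 : K) : OnePoint K))
    (hj0 : j ((0 : K) : OnePoint K) = ∞) (hj1 : j ((1 : K) : OnePoint K) = ((1 : K) : OnePoint K))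
    (hjj : ∀ p, j (j p) = p)
    (hmul : ∀ r ∈ Q, ∀ x y : K, x ≠ 0 → j (x : OnePoint K) = (y : OnePoint K) →
      j (((r : K) * x : K) : OnePoint K) = ((((r⁻¹ : Kˣ) : K) * y : K) : OnePoint K))
    (h3 : ∀ p, j (zfTau (j (zfTau (j (zfTau p))))) = p) :
    ∀ x : K, x ≠ 0 → j (x : OnePoint K) = ((x⁻¹ : K) : OnePoint K) := by
  classical
  have hne : ∀ x : K, x ≠ 0 → ∃ y : K, y ≠ 0 ∧ j (x : OnePoint K) = (y : OnePoint K) := by
    intro x hx
    cases hp : j (x : OnePoint K) using OnePoint.rec with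
    | infty =>
      exfalso
      have := hjj (x : OnePoint K)
      rw [hp, hji] at this
      exact hx (OnePoint.coe_injective this).symm
    | coe y =>
      refine ⟨y, ?_, rfl⟩
      rintro rfl
      have := hjj (x : OnePoint K)
      rw [hp, hj0] at this
      exact OnePoint.coe_ne_infty _ this.symm
  have hQv : ∀ r ∈ Q, j (((r : Kˣ) : K) : OnePoint K) = (((r⁻¹ : Kˣ) : K) : OnePoint K) := by
    intro r hr
    have := hmul r hr 1 1 one_ne_zero hj1
    simpa using this
  obtain ⟨x₀, hx₀, z, hz, hzx⟩ := zf_exists_nonsq Q hQ hm1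
  obtain ⟨y₀, hy₀, hjx₀⟩ := hne x₀ x₀.ne_zero
  set c : K := y₀ * x₀ with hc
  have hN : ∀ x : Kˣ, x ∉ Q → j ((x : K) : OnePoint K) = ((c * (x : K)⁻¹ : K) : OnePoint K) := by
    intro x hx
    have hr : x * x₀⁻¹ ∈ Q := by
      rw [Subgroup.mul_mem_iff_of_index_two hQ]
      constructor
      · intro h; exact absurd h hx
      · intro h; exact absurd (by simpa using Q.inv_mem h) hx₀
    have h1 := hmul _ hr (x₀ : K) y₀ x₀.ne_zero hjx₀
    have h2 : (((x * x₀⁻¹ : Kˣ) : K) * (x₀ : K)) = (x : K) := by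
      simp
    rw [h2] at h1
    rw [h1]
    congr 1
    have hx0 := x.ne_zero
    have hx₀0 := x₀.ne_zero
    simp only [mul_inv_rev, inv_inv, Units.val_mul, Units.val_inv_eq_inv_val]
    rw [hc]
    field_simp
  have hc1 : c = 1 := by
    have hz0 : (z : K) ≠ 0 := z.ne_zero
    have hx0 : (x₀ : K) ≠ 0 := x₀.ne_zero
    have e1 := h3 ((x₀ : K) : OnePoint K)
    rw [zfTau_coe, ← hzx, hQv z hz, zfTau_coe] at e1
    -- `1 - z⁻¹ = - x₀ / z`
    let w : Kˣ := -(x₀ * z⁻¹)
    have hw : (w : K) = 1 - ((z⁻¹ : Kˣ) : K) := by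
      simp only [w, Units.val_neg, Units.val_mul, Units.val_inv_eq_inv_val]
      have : (x₀ : K) = 1 - z := by rw [hzx]; ring
      rw [this]
      field_simp
      ring
    have hwQ : w ∉ Q := by
      intro h
      apply hx₀
      have h1 := Q.mul_mem hm1 (Q.mul_mem h hz)
      have h2 : (-1 : Kˣ) * (w * z) = x₀ := by
        simp [w]
      rwa [h2] at h1
    rw [← hw, hN w hwQ, zfTau_coe] at e1
    have e2 := congrArg j e1
    rw [hjj, hN x₀ hx₀] at e2
    have e3 := OnePoint.coe_injective e2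
    have hw0 : (w : K) ≠ 0 := w.ne_zero
    have hwv : (w : K) = -((x₀ : K) * (z : K)⁻¹) := by
      simp [w]
    rw [hwv] at e3
    have e4 : (x₀ : K) + c * (z : K) = c := by
      field_simp at e3
      linear_combination e3
    rw [hzx] at e4
    have e5 : (x₀ : K) * (1 - c) = 0 := by linear_combination e4
    rcases mul_eq_zero.mp e5 with h | h
    · exact absurd h hx0
    · linear_combination -h
  intro x hx
  by_cases hxQ : Units.mk0 x hx ∈ Q
  · have := hQv _ hxQ
    simpa using this
  · have := hN _ hxQ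
    rw [hc1, one_mul] at this
    simpa using this

/-- A nontrivial involutive automorphism forces the order of the field to be a square. -/
theorem zf_card_sq_of_invol (hc : (2 : K) ≠ 0) (α : K →+* K) (hα : ∀ x, α (α x) = x)
    (hne : ∃ x, α x ≠ x) : ∃ m : ℕ, Nat.card K = m ^ 2 := by
  classical
  obtain ⟨z₀, hz₀⟩ := hne
  set w : K := z₀ - α z₀ with hw
  have hw0 : w ≠ 0 := fun h => hz₀ (sub_eq_zero.mp h).symm
  have hαw : α w = -w := by
    rw [hw, map_sub, hα]
    ring
  let K₁ := {x : K // α x = x}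
  let φ : K₁ × K₁ → K := fun p => (p.1 : K) + p.2 * w
  have hφ : Function.Bijective φ := by
    constructor
    · rintro ⟨⟨x, hx⟩, ⟨y, hy⟩⟩ ⟨⟨x', hx'⟩, ⟨y', hy'⟩⟩ h
      have h1 : x + y * w = x' + y' * w := h
      have h2 : x - y * w = x' - y' * w := by
        have := congrArg α h1
        simp only [map_add, map_mul, hx, hy, hx', hy', hαw] at this
        linear_combination this
      have h3 : 2 * x = 2 * x' := by linear_combination h1 + h2
      have h4 : x = x' := mul_left_cancel₀ hc h3
      have h5 : y = y' := by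
        have : (y - y') * w = 0 := by rw [h4] at h1; linear_combination h1
        rcases mul_eq_zero.mp this with h | h
        · exact sub_eq_zero.mp h
        · exact absurd h hw0
      subst h4 h5
      rfl
    · intro z
      refine ⟨(⟨(z + α z) / 2, ?_⟩, ⟨(z - α z) / (2 * w), ?_⟩), ?_⟩
      · rw [map_div₀, map_add, hα, map_ofNat]
        ring
      · rw [map_div₀, map_sub, hα, map_mul, map_ofNat, hαw]
        field_simp
        ring
      · change (z + α z) / 2 + (z - α z) / (2 * w) * w = z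
        field_simp
        ring
  refine ⟨Nat.card K₁, ?_⟩
  rw [← Nat.card_congr (Equiv.ofBijective φ hφ), Nat.card_prod, sq]

end Cfsg.Agent.Lib.Perm
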