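import Mathlib
import Cfsg.Agent.Lib.TwoFusion.ZassIso
import Cfsg.Agent.Lib.Classical.Card2
import Cfsg.Agent.Lib.Classical.SL2Local
import Cfsg.Agent.Lib.Classical.Transfer

/-!
Recognising a permutation group on the projective line as `PGL₂` or `PSL₂`.
-/

set_option autoImplicit false
set_option linter.style.haveILetI false

namespace Cfsg.Agent.Lib.Perm

open OnePoint Matrix
open Cfsg.Agent.Lib.TwoFusion

universe u v w

section gen

variable {G : Type u} {Ω : Type v} [Group G] [MulAction G Ω]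

/-- A group is generated by a regular subgroup of the point stabiliser, the two-point stabiliser and
an element moving the first point to the second. -/
lemma zf_gen_eq_top {a b : Ω} (F H L : Subgroup G) (J : G) (hJ : J • a = b)
    (hFa : ∀ u ∈ F, u • a = a) (hFt : ∀ y : Ω, y ≠ a → ∃ u ∈ F, u • b = y)
    (hH : ∀ g : G, g • a = a → g • b = b → g ∈ H)
    (hFL : F ≤ L) (hHL : H ≤ L) (hJL : J ∈ L) (g : G) : g ∈ L := by
  have hstab : ∀ g : G, g • a = a → g ∈ L := by
    intro g hg
    by_cases hy : g • b = a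
    · -- impossible unless `a = b`; handle through `J` if `a = b`
      have hab : a = b := by
        apply MulAction.injective g
        change g • a = g • b
        rw [hg, hy]
      exact hHL (hH g hg (by rw [← hab]; exact hg))
    · obtain ⟨u, hu, hub⟩ := hFt (g • b) hy
      have h1 : u⁻¹ * g ∈ H := by
        apply hH
        · rw [mul_smul, hg, inv_smul_eq_iff, hFa u hu]
        · rw [mul_smul, ← hub, inv_smul_smul]
      have h2 : g = u * (u⁻¹ * g) := by group
      rw [h2]
      exact L.mul_mem (hFL hu) (hHL h1)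
  by_cases hg : g • a = a
  · exact hstab g hg
  · obtain ⟨u, hu, hub⟩ := hFt (g • a) hg
    have h1 : J⁻¹ * (u⁻¹ * g) ∈ L := by
      apply hstab
      rw [mul_smul, mul_smul, inv_smul_eq_iff, hJ, inv_smul_eq_iff, hub]
    have h2 : g = u * (J * (J⁻¹ * (u⁻¹ * g))) := by group
    rw [h2]
    exact L.mul_mem (hFL hu) (L.mul_mem hJL h1)

end gen

section recog

variable {G : Type u} {Ω : Type v} {M : Type w} [Group G] [Finite G] [MulAction G Ω] [Group M]
  {K : Type*}

/-- A faithful action on a set identified with `X`, induced by elements of a group `M` acting on `X`. -/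
theorem zf_recog {X : Type*} [Finite X] (θ : M →* Equiv.Perm X) (ρ : X ≃ Ω)
    (hfaith : ∀ g : G, (∀ x : Ω, g • x = x) → g = 1)
    (hcard : Nat.card G = Nat.card (M ⧸ θ.ker))
    (hgen : ∀ g : G, ∃ m : M, ∀ p : X, g • ρ p = ρ (θ m p)) :
    Nonempty (G ≃* (M ⧸ θ.ker)) := by
  classical
  let ψ : G →* Equiv.Perm X := (ρ.symm.permCongrHom.toMonoidHom).comp (MulAction.toPermHom G Ω)
  have hψ : ∀ (g : G) (p : X), ψ g p = ρ.symm (g • ρ p) := by
    intro g p
    simp [ψ, Equiv.permCongrHom]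
  have hψinj : Function.Injective ψ := by
    rw [injective_iff_map_eq_one]
    intro g hg
    apply hfaith
    intro x
    have h1 := hψ g (ρ.symm x)
    rw [hg] at h1
    simp only [Equiv.Perm.coe_one, id_eq, Equiv.apply_symm_apply] at h1
    exact (ρ.symm.injective h1).symm
  have hle : ψ.range ≤ θ.range := by
    rintro _ ⟨g, rfl⟩
    obtain ⟨m, hm⟩ := hgen g
    refine ⟨m, ?_⟩
    ext p
    rw [hψ, hm, Equiv.symm_apply_apply]
  have hc1 : Nat.card ψ.range = Nat.card G :=
    Nat.card_congr (MonoidHom.ofInjective hψinj).symm.toEquiv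
  let e2 : (M ⧸ θ.ker) ≃* θ.range := QuotientGroup.quotientKerEquivRange θ
  have hc2 : Nat.card θ.range = Nat.card (M ⧸ θ.ker) := Nat.card_congr e2.symm.toEquiv
  have heq : ψ.range = θ.range :=
    Subgroup.eq_of_le_of_card_ge hle (by rw [hc1, hc2, hcard])
  exact ⟨((MonoidHom.ofInjective hψinj).trans (MulEquiv.subgroupCongr heq)).trans e2.symm⟩

end recog

section field

variable {K : Type u} [Field K] [DecidableEq K]

/-- The action of `GL₂` on the projective line. -/
noncomputable def zfGl (K : Type u) [Field K] [DecidableEq K] : GL (Fin 2) K →* Equiv.Perm (OnePoint K) :=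
  MulAction.toPermHom _ _

theorem zfGl_apply (m : GL (Fin 2) K) (p : OnePoint K) : zfGl K m p = m • p := rfl

theorem zfGl_ker : (zfGl K).ker = Subgroup.center (GL (Fin 2) K) := by
  ext m
  rw [MonoidHom.mem_ker, Matrix.GeneralLinearGroup.mem_center_iff_val_mem_range_scalar]
  constructor
  · intro hm
    have h_inf := congrArg (fun f : Equiv.Perm (OnePoint K) => f ∞) hm
    have h_0 := congrArg (fun f : Equiv.Perm (OnePoint K) => f ((0 : K) : OnePoint K)) hm
    have h_1 := congrArg (fun f : Equiv.Perm (OnePoint K) => f ((1 : K) : OnePoint K)) hm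
    simp only [Equiv.Perm.coe_one, id_eq, zfGl_apply] at h_inf h_0 h_1
    rw [smul_infty_eq_ite] at h_inf
    rw [smul_some_eq_ite] at h_0 h_1
    have hdet : (m : Matrix (Fin 2) (Fin 2) K).det ≠ 0 := m.det_ne_zero
    rw [det_fin_two] at hdet
    set a := m 0 0 with ha
    set b := m 0 1 with hb
    set c := m 1 0 with hc
    set d := m 1 1 with hd
    have hdet' : a * d - b * c ≠ 0 := hdet
    have hc0 : c = 0 := by
      by_contra hne
      rw [if_neg hne] at h_inf
      exact OnePoint.coe_ne_infty _ h_inf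
    rw [hc0] at h_0 h_1 hdet'
    simp only [zero_mul, zero_add, mul_one, mul_zero, sub_zero, add_zero] at h_0 h_1 hdet'
    have hd0 : d ≠ 0 := right_ne_zero_of_mul hdet'
    rw [if_neg hd0] at h_0 h_1
    have hb0 : b = 0 := by
      have := OnePoint.coe_injective h_0
      rw [div_eq_zero_iff] at this
      rcases this with h | h
      · exact h
      · exact absurd h hd0
    have hab : a = d := by
      have := OnePoint.coe_injective h_1
      rw [hb0, add_zero, div_eq_one_iff_eq hd0] at this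
      exact this
    refine ⟨d, ?_⟩
    ext i j
    fin_cases i <;> fin_cases j
    · simp [Matrix.scalar_apply]
      exact hab.symm
    · simp [Matrix.scalar_apply]
      exact hb0.symm
    · simp [Matrix.scalar_apply]
      exact hc0.symm
    · simp [Matrix.scalar_apply]
      try rfl
  · rintro ⟨r, hr⟩
    have hm : ∀ i j, m i j = (Matrix.scalar (Fin 2) r) i j := fun i j => by
      rw [hr]
    have h00 : m 0 0 = r := by rw [hm]; simp [Matrix.scalar_apply]
    have h01 : m 0 1 = 0 := by rw [hm]; simp [Matrix.scalar_apply]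
    have h10 : m 1 0 = 0 := by rw [hm]; simp [Matrix.scalar_apply]
    have h11 : m 1 1 = r := by rw [hm]; simp [Matrix.scalar_apply]
    have hr0 : r ≠ 0 := by
      intro h
      have hdet : (m : Matrix (Fin 2) (Fin 2) K).det ≠ 0 := m.det_ne_zero
      rw [det_fin_two] at hdet
      apply hdet
      change m 0 0 * m 1 1 - m 0 1 * m 1 0 = 0
      rw [h00, h01, h, zero_mul, zero_mul, sub_zero]
    ext p
    induction p using OnePoint.rec with
    | infty =>
      change m • (∞ : OnePoint K) = ∞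
      rw [smul_infty_eq_ite, if_pos h10]
    | coe x =>
      change m • (x : OnePoint K) = x
      rw [smul_some_eq_ite, h10, h11, h00, h01, zero_mul, zero_add, if_neg hr0, add_zero]
      congr 1
      field_simp

theorem sl2Perm_ker : (sl2Perm K).ker = Subgroup.center (SpecialLinearGroup (Fin 2) K) := by
  ext m
  rw [MonoidHom.mem_ker, ← Matrix.SpecialLinearGroup.toGL_mem_center_iff, ← zfGl_ker, MonoidHom.mem_ker]
  rfl

/-- Glue: the quotient of `GL₂`. -/
noncomputable def zfPglEquiv : ((GL (Fin 2) K) ⧸ (zfGl K).ker) ≃* ProjGenLinGroup (Fin 2) K :=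
  QuotientGroup.quotientMulEquivOfEq zfGl_ker

noncomputable def zfPslEquiv :
    ((SpecialLinearGroup (Fin 2) K) ⧸ (sl2Perm K).ker) ≃* ProjectiveSpecialLinearGroup (Fin 2) K :=
  QuotientGroup.quotientMulEquivOfEq sl2Perm_ker

theorem zf_card_sl [Finite K] :
    Nat.card (SpecialLinearGroup (Fin 2) K) = Nat.card K * (Nat.card K ^ 2 - 1) := by
  have h5 := Cfsg.Agent.Lib.Classical.card_SL_two (F := K)
  have hq : 2 ≤ Nat.card K := Finite.one_lt_card
  obtain ⟨k, hk⟩ : ∃ k, Nat.card K = k + 1 := ⟨Nat.card K - 1, by omega⟩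
  rw [hk] at h5 ⊢
  simp only [Nat.add_sub_cancel] at h5 ⊢
  have hk0 : 0 < k := by omega
  apply Nat.eq_of_mul_eq_mul_left hk0
  rw [h5]
  have e1 : (k + 1) ^ 2 - 1 = k * (k + 2) := by
    have : (k + 1) ^ 2 = k * (k + 2) + 1 := by ring
    omega
  have e2 : (k + 1) ^ 2 - (k + 1) = k * (k + 1) := by
    have : (k + 1) ^ 2 = k * (k + 1) + (k + 1) := by ring
    omega
  rw [e1, e2]
  ring

theorem zf_card_pgl [Finite K] :
    Nat.card (ProjGenLinGroup (Fin 2) K) = Nat.card K * (Nat.card K ^ 2 - 1) := by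
  rw [Cfsg.Agent.Lib.Classical.card_PGL_eq_card_SL, zf_card_sl]

/-- A diagonal element of `GL₂`. -/
noncomputable def zfDiag (r : K) (hr : r ≠ 0) : GL (Fin 2) K :=
  Matrix.GeneralLinearGroup.mkOfDetNeZero !![r, 0; 0, 1] (by simp [det_fin_two, hr])

theorem zfDiag_infty (r : K) (hr : r ≠ 0) : zfDiag r hr • (∞ : OnePoint K) = ∞ := by
  rw [smul_infty_eq_ite, if_pos]
  simp [zfDiag, Matrix.GeneralLinearGroup.mkOfDetNeZero]

theorem zfDiag_coe (r : K) (hr : r ≠ 0) (x : K) :
    zfDiag r hr • (x : OnePoint K) = ((r * x : K) : OnePoint K) := by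
  rw [smul_some_eq_ite]
  have h0 : (zfDiag r hr) 1 0 = 0 := by simp [zfDiag, Matrix.GeneralLinearGroup.mkOfDetNeZero]
  have h1 : (zfDiag r hr) 1 1 = 1 := by simp [zfDiag, Matrix.GeneralLinearGroup.mkOfDetNeZero]
  have h2 : (zfDiag r hr) 0 0 = r := by simp [zfDiag, Matrix.GeneralLinearGroup.mkOfDetNeZero]
  have h3 : (zfDiag r hr) 0 1 = 0 := by simp [zfDiag, Matrix.GeneralLinearGroup.mkOfDetNeZero]
  rw [h0, h1, h2, h3]
  simp

/-- Inversion with a coefficient in `GL₂`. -/
noncomputable def zfInvC (c : K) (hc : c ≠ 0) : GL (Fin 2) K :=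
  Matrix.GeneralLinearGroup.mkOfDetNeZero !![0, c; 1, 0] (by simp [det_fin_two, hc])

theorem zfInvC_infty (c : K) (hc : c ≠ 0) : zfInvC c hc • (∞ : OnePoint K) = ((0 : K) : OnePoint K) := by
  rw [smul_infty_eq_ite]
  simp [zfInvC, Matrix.GeneralLinearGroup.mkOfDetNeZero]

theorem zfInvC_zero (c : K) (hc : c ≠ 0) : zfInvC c hc • ((0 : K) : OnePoint K) = ∞ := by
  rw [smul_some_eq_ite]
  simp [zfInvC, Matrix.GeneralLinearGroup.mkOfDetNeZero]

theorem zfInvC_coe (c : K) (hc : c ≠ 0) {x : K} (hx : x ≠ 0) :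
    zfInvC c hc • (x : OnePoint K) = ((c * x⁻¹ : K) : OnePoint K) := by
  rw [smul_some_eq_ite]
  simp [zfInvC, Matrix.GeneralLinearGroup.mkOfDetNeZero, hx, div_eq_mul_inv]

/-- Inversion with a coefficient in `SL₂`. -/
noncomputable def zfInvS (c γ : K) (h : c * γ * γ = -1) : SpecialLinearGroup (Fin 2) K :=
  ⟨!![0, c * γ; γ, 0], by
    simp only [det_fin_two_of, zero_mul, sub_self, zero_sub]
    linear_combination -h⟩

theorem zfInvS_ne (c γ : K) (h : c * γ * γ = -1) : γ ≠ 0 := by
  rintro rfl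
  have h1 : (-1 : K) = 0 := by rw [← h]; ring
  exact one_ne_zero (neg_eq_zero.mp h1)

theorem zfInvS_infty (c γ : K) (h : c * γ * γ = -1) :
    sl2Perm K (zfInvS c γ h) (∞ : OnePoint K) = ((0 : K) : OnePoint K) := by
  have hγ := zfInvS_ne c γ h
  rw [sl2Perm_infty]
  simp [zfInvS, hγ]

theorem zfInvS_zero (c γ : K) (h : c * γ * γ = -1) :
    sl2Perm K (zfInvS c γ h) ((0 : K) : OnePoint K) = ∞ := by
  rw [sl2Perm_coe]
  simp [zfInvS]

theorem zfInvS_coe (c γ : K) (h : c * γ * γ = -1) {x : K} (hx : x ≠ 0) :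
    sl2Perm K (zfInvS c γ h) (x : OnePoint K) = ((c * x⁻¹ : K) : OnePoint K) := by
  have hγ := zfInvS_ne c γ h
  rw [sl2Perm_coe]
  simp only [zfInvS, of_apply, cons_val', cons_val_zero, cons_val_one, cons_val_fin_one, add_zero, zero_mul,
    zero_add, mul_eq_zero, hγ, hx, or_self, if_false]
  congr 1
  field_simp

end field

section main

variable {G : Type u} {Ω : Type v} [Group G] [Finite G] [MulAction G Ω] {K : Type w} [Field K]
  [Finite K]

/-- Recognising `PGL₂`. -/
theorem zf_recog_pgl (ρ : OnePoint K ≃ Ω)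
    (hfaith : ∀ g : G, (∀ x : Ω, g • x = x) → g = 1)
    (hcard : Nat.card G = Nat.card K * (Nat.card K ^ 2 - 1))
    (F H : Subgroup G) (J : G)
    (hFa : ∀ u ∈ F, u • ρ ∞ = ρ ∞)
    (hFs : ∀ u ∈ F, ∃ s : K, ∀ x : K, u • ρ (x : OnePoint K) = ρ ((x + s : K) : OnePoint K))
    (hFt : ∀ s : K, ∃ u ∈ F, ∀ x : K, u • ρ (x : OnePoint K) = ρ ((x + s : K) : OnePoint K))
    (hH : ∀ g : G, g • ρ ∞ = ρ ∞ → g • ρ ((0 : K) : OnePoint K) = ρ ((0 : K) : OnePoint K) → g ∈ H)
    (hHa : ∀ h ∈ H, h • ρ ∞ = ρ ∞)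
    (hHr : ∀ h ∈ H, ∃ r : K, r ≠ 0 ∧ ∀ x : K, h • ρ (x : OnePoint K) = ρ ((r * x : K) : OnePoint K))
    (hJi : J • ρ ∞ = ρ ((0 : K) : OnePoint K)) (hJ0 : J • ρ ((0 : K) : OnePoint K) = ρ ∞)
    (hJx : ∀ x : K, x ≠ 0 → J • ρ (x : OnePoint K) = ρ ((x⁻¹ : K) : OnePoint K)) :
    Nonempty (G ≃* ProjGenLinGroup (Fin 2) K) := by
  classical
  haveI : Finite (OnePoint K) := inferInstanceAs (Finite (Option K))
  let L : Subgroup G :=
    { carrier := {g | ∃ m : GL (Fin 2) K, ∀ p : OnePoint K, g • ρ p = ρ (zfGl K m p)}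
      one_mem' := ⟨1, fun p => by simp⟩
      mul_mem' := by
        rintro g g' ⟨m, hm⟩ ⟨m', hm'⟩
        refine ⟨m * m', fun p => ?_⟩
        rw [mul_smul, hm', hm, map_mul]
        rfl
      inv_mem' := by
        rintro g ⟨m, hm⟩
        refine ⟨m⁻¹, fun p => ?_⟩
        rw [inv_smul_eq_iff, hm, map_inv]
        congr 1
        exact (Equiv.apply_symm_apply _ _).symm }
  have hall : ∀ g : G, g ∈ L := by
    intro g
    refine zf_gen_eq_top (a := ρ ∞) (b := ρ ((0 : K) : OnePoint K)) F H L J hJi hFa ?_ hH ?_ ?_ ?_ g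
    · intro y hy
      obtain ⟨p, rfl⟩ := ρ.surjective y
      induction p using OnePoint.rec with
      | infty => exact absurd rfl hy
      | coe x =>
        obtain ⟨u, hu, hus⟩ := hFt x
        refine ⟨u, hu, ?_⟩
        rw [hus, zero_add]
    · intro u hu
      obtain ⟨s, hs⟩ := hFs u hu
      refine ⟨Matrix.SpecialLinearGroup.toGL (slTrans s), fun p => ?_⟩
      induction p using OnePoint.rec with
      | infty =>
        rw [hFa u hu]
        congr 1
        exact (slTrans_infty s).symm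
      | coe x =>
        rw [hs]
        congr 1
        exact (slTrans_coe s x).symm
    · intro h hh
      obtain ⟨r, hr, hrx⟩ := hHr h hh
      refine ⟨zfDiag r hr, fun p => ?_⟩
      induction p using OnePoint.rec with
      | infty =>
        rw [hHa h hh, zfGl_apply, zfDiag_infty]
      | coe x =>
        rw [hrx, zfGl_apply, zfDiag_coe]
    · refine ⟨zfInvC 1 one_ne_zero, fun p => ?_⟩
      induction p using OnePoint.rec with
      | infty =>
        rw [hJi, zfGl_apply, zfInvC_infty]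
      | coe x =>
        by_cases hx : x = 0
        · subst hx
          rw [hJ0, zfGl_apply, zfInvC_zero]
        · rw [hJx x hx, zfGl_apply, zfInvC_coe _ _ hx, one_mul]
  have hm : ∀ g : G, ∃ m : GL (Fin 2) K, ∀ p : OnePoint K, g • ρ p = ρ (zfGl K m p) := hall
  obtain ⟨e⟩ := zf_recog (zfGl K) ρ hfaith (by
    rw [hcard, Nat.card_congr (zfPglEquiv (K := K)).toEquiv, zf_card_pgl]) hm
  exact ⟨e.trans zfPglEquiv⟩

/-- Recognising `PSL₂`. -/
theorem zf_recog_psl (ρ : OnePoint K ≃ Ω)
    (hfaith : ∀ g : G, (∀ x : Ω, g • x = x) → g = 1)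
    (hcard : Nat.card G = Nat.card (ProjectiveSpecialLinearGroup (Fin 2) K))
    (F H : Subgroup G) (J : G)
    (hFa : ∀ u ∈ F, u • ρ ∞ = ρ ∞)
    (hFs : ∀ u ∈ F, ∃ s : K, ∀ x : K, u • ρ (x : OnePoint K) = ρ ((x + s : K) : OnePoint K))
    (hFt : ∀ s : K, ∃ u ∈ F, ∀ x : K, u • ρ (x : OnePoint K) = ρ ((x + s : K) : OnePoint K))
    (hH : ∀ g : G, g • ρ ∞ = ρ ∞ → g • ρ ((0 : K) : OnePoint K) = ρ ((0 : K) : OnePoint K) → g ∈ H)
    (hHa : ∀ h ∈ H, h • ρ ∞ = ρ ∞)
    (hHr : ∀ h ∈ H, ∃ r : K, r ≠ 0 ∧ ∀ x : K, h • ρ (x : OnePoint K) = ρ ((r * r * x : K) : OnePoint K))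
    (c γ : K) (hc : c * γ * γ = -1)
    (hJi : J • ρ ∞ = ρ ((0 : K) : OnePoint K)) (hJ0 : J • ρ ((0 : K) : OnePoint K) = ρ ∞)
    (hJx : ∀ x : K, x ≠ 0 → J • ρ (x : OnePoint K) = ρ ((c * x⁻¹ : K) : OnePoint K)) :
    Nonempty (G ≃* ProjectiveSpecialLinearGroup (Fin 2) K) := by
  classical
  haveI : Finite (OnePoint K) := inferInstanceAs (Finite (Option K))
  let L : Subgroup G :=
    { carrier := {g | ∃ m : SpecialLinearGroup (Fin 2) K, ∀ p : OnePoint K, g • ρ p = ρ (sl2Perm K m p)}
      one_mem' := ⟨1, fun p => by simp⟩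
      mul_mem' := by
        rintro g g' ⟨m, hm⟩ ⟨m', hm'⟩
        refine ⟨m * m', fun p => ?_⟩
        rw [mul_smul, hm', hm, map_mul]
        rfl
      inv_mem' := by
        rintro g ⟨m, hm⟩
        refine ⟨m⁻¹, fun p => ?_⟩
        rw [inv_smul_eq_iff, hm, map_inv]
        congr 1
        exact (Equiv.apply_symm_apply _ _).symm }
  have hall : ∀ g : G, g ∈ L := by
    intro g
    refine zf_gen_eq_top (a := ρ ∞) (b := ρ ((0 : K) : OnePoint K)) F H L J hJi hFa ?_ hH ?_ ?_ ?_ g
    · intro y hy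
      obtain ⟨p, rfl⟩ := ρ.surjective y
      induction p using OnePoint.rec with
      | infty => exact absurd rfl hy
      | coe x =>
        obtain ⟨u, hu, hus⟩ := hFt x
        refine ⟨u, hu, ?_⟩
        rw [hus, zero_add]
    · intro u hu
      obtain ⟨s, hs⟩ := hFs u hu
      refine ⟨slTrans s, fun p => ?_⟩
      induction p using OnePoint.rec with
      | infty =>
        rw [hFa u hu, slTrans_infty]
      | coe x =>
        rw [hs, slTrans_coe]
    · intro h hh
      obtain ⟨r, hr, hrx⟩ := hHr h hh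
      refine ⟨slDiag r hr, fun p => ?_⟩
      induction p using OnePoint.rec with
      | infty =>
        rw [hHa h hh, slDiag_infty]
      | coe x =>
        rw [hrx, slDiag_coe]
    · refine ⟨zfInvS c γ hc, fun p => ?_⟩
      induction p using OnePoint.rec with
      | infty =>
        rw [hJi, zfInvS_infty]
      | coe x =>
        by_cases hx : x = 0
        · subst hx
          rw [hJ0, zfInvS_zero]
        · rw [hJx x hx, zfInvS_coe _ _ _ hx]
  have hm : ∀ g : G, ∃ m : SpecialLinearGroup (Fin 2) K, ∀ p : OnePoint K, g • ρ p = ρ (sl2Perm K m p) := hall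
  obtain ⟨e⟩ := zf_recog (sl2Perm K) ρ hfaith (by
    rw [hcard, Nat.card_congr (zfPslEquiv (K := K)).toEquiv]) hm
  exact ⟨e.trans zfPslEquiv⟩

end main

/-- Any finite field is isomorphic to one in the lowest universe. -/
theorem zf_type0 (K : Type u) [Field K] [Fintype K] :
    ∃ (K' : Type) (_ : Field K') (_ : Fintype K'), Nonempty (K ≃+* K') := by
  classical
  obtain ⟨p, hchar, n, hp, hn⟩ := FiniteField.card' K
  haveI : Fact p.Prime := ⟨hp⟩
  have hn0 : (n : ℕ) ≠ 0 := n.ne_zero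
  letI : Fintype (GaloisField p n) := Fintype.ofFinite _
  refine ⟨GaloisField p n, inferInstance, inferInstance, ⟨FiniteField.ringEquivOfCardEq ?_⟩⟩
  rw [hn, ← Nat.card_eq_fintype_card, GaloisField.card p n hn0]

end Cfsg.Agent.Lib.Perm
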