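import Mathlib
import Cfsg.Prelude.Def_LieExceptional
import Cfsg.Agent.Lib.Char.Zassenhaus

/-!
Involutions in Zassenhaus groups.
-/

set_option autoImplicit false

namespace Cfsg.Agent.Lib.Perm

open MulAction Cfsg Cfsg.Agent.Lib.Char

variable {G Ω : Type*} [Group G] [MulAction G Ω]

/-- An involution has as many fixed points as the degree, modulo two. -/
lemma zi_parity [Fintype Ω] (s : G) (hs : s ^ 2 = 1) :
    Nat.card Ω ≡ Nat.card (fixedBy Ω s) [MOD 2] := by
  classical
  have hp : Fact (Nat.Prime 2) := ⟨Nat.prime_two⟩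
  let f : Function.End Ω := fun x => s • x
  have hf : f ^ 2 ^ 1 = 1 := by
    funext x
    change (s • s • x) = x
    rw [← mul_smul, ← pow_two, hs, one_smul]
  have h := Equiv.Perm.card_fixedPoints_modEq (α := Ω) (f := f) (p := 2) (n := 1) hf
  rw [Nat.card_eq_fintype_card]
  have : Nat.card (fixedBy Ω s) = Fintype.card (Function.fixedPoints f) := by
    rw [← Nat.card_eq_fintype_card]
    rfl
  rw [this]
  exact h

/-- In a Zassenhaus group a non-identity element has at most two fixed points. -/
lemma zi_fix_le [Finite Ω] (hZ : IsZassenhausGroup G Ω) {s : G} (hs : s ≠ 1) :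
    Nat.card (fixedBy Ω s) ≤ 2 := by
  by_contra hcon
  push Not at hcon
  rw [Nat.card_coe_set_eq, Set.two_lt_ncard_iff] at hcon
  obtain ⟨a, b, c, ha, hb, hc, hab, hac, hbc⟩ := hcon
  exact hs (Zass.eq_one_of_three hZ hab hbc hac ha hb hc)

/-- An involution of a two-point stabiliser gives, by conjugation, an involution interchanging any
two points and having exactly two fixed points. -/
lemma zi_exists_two_fixed [Finite G] (hZ : IsZassenhausGroup G Ω) {a b : Ω} (hab : a ≠ b)
    (heven : Even (Nat.card ↥(stabilizer G a ⊓ stabilizer G b))) :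
    ∃ s : G, orderOf s = 2 ∧ s • a = b ∧ s • b = a ∧ Nat.card (fixedBy Ω s) = 2 := by
  classical
  have hp : Fact (Nat.Prime 2) := ⟨Nat.prime_two⟩
  obtain ⟨t', ht'⟩ := exists_prime_orderOf_dvd_card' (G := ↥(stabilizer G a ⊓ stabilizer G b)) 2
    heven.two_dvd
  set t : G := (t' : G) with ht
  have hto : orderOf t = 2 := by rw [ht, Subgroup.orderOf_coe]; exact ht'
  have ht2 : t ^ 2 = 1 := by rw [← hto]; exact pow_orderOf_eq_one t
  have hta : t • a = a := t'.2.1
  have htb : t • b = b := t'.2.2
  have ht1 : t ≠ 1 := by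
    intro h
    rw [h, orderOf_one] at hto
    omega
  obtain ⟨c, hca, hcb⟩ := Zass.exists_third hZ hab
  have htt : ∀ x : Ω, t • t • x = x := fun x => by rw [← mul_smul, ← pow_two, ht2, one_smul]
  set e := t • c with he
  have hce : c ≠ e := by
    intro h
    exact ht1 (Zass.eq_one_of_three hZ hab hcb.symm hca.symm hta htb h.symm)
  obtain ⟨g, hg1, hg2⟩ := Zass.two_trans hZ hce hab
  have hte : t • e = c := htt c
  refine ⟨g * t * g⁻¹, ?_, ?_, ?_, ?_⟩
  · apply orderOf_eq_prime
    · rw [conj_pow, ht2]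
      group
    · intro h
      apply ht1
      have : t = g⁻¹ * (g * t * g⁻¹) * g := by group
      rw [this, h]
      group
  · rw [← hg1, mul_smul, mul_smul, inv_smul_smul, ← he, hg2]
  · rw [← hg2, mul_smul, mul_smul, inv_smul_smul, hte, hg1]
  · have hfix : fixedBy Ω (g * t * g⁻¹) = {g • a, g • b} := by
      ext x
      simp only [mem_fixedBy, Set.mem_insert_iff, Set.mem_singleton_iff]
      constructor
      · intro hx
        have hx' : t • (g⁻¹ • x) = g⁻¹ • x := by
          rw [mul_smul, mul_smul] at hx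
          calc t • (g⁻¹ • x) = g⁻¹ • (g • t • g⁻¹ • x) := by simp
            _ = g⁻¹ • x := by rw [hx]
        by_cases h1 : g⁻¹ • x = a
        · left
          rw [← h1, smul_inv_smul]
        by_cases h2 : g⁻¹ • x = b
        · right
          rw [← h2, smul_inv_smul]
        exact absurd (Zass.eq_one_of_three hZ hab (Ne.symm h2) (Ne.symm h1) hta htb hx') ht1
      · rintro (rfl | rfl)
        · rw [mul_smul, mul_smul, inv_smul_smul, hta]
        · rw [mul_smul, mul_smul, inv_smul_smul, htb]
    rw [hfix, Nat.card_coe_set_eq, Set.ncard_pair]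
    intro h
    exact hab (smul_left_cancel g h)

/-- Two points of a finite Zassenhaus group are interchanged by an involution. -/
lemma zi_exists_swap [Finite G] (hZ : IsZassenhausGroup G Ω) {a b : Ω} (hab : a ≠ b) :
    ∃ s : G, orderOf s = 2 ∧ s • a = b ∧ s • b = a := by
  classical
  by_cases heven : Even (Nat.card ↥(stabilizer G a ⊓ stabilizer G b))
  · obtain ⟨s, h1, h2, h3, -⟩ := zi_exists_two_fixed hZ hab heven
    exact ⟨s, h1, h2, h3⟩
  · have hodd : Odd (Nat.card ↥(stabilizer G a ⊓ stabilizer G b)) :=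
      Nat.not_even_iff_odd.mp heven
    obtain ⟨g, hg1, hg2⟩ := Zass.two_trans hZ hab hab.symm
    obtain ⟨e, m, hm, hord⟩ := Nat.exists_eq_two_pow_mul_odd (orderOf_pos g).ne'
    obtain ⟨k, rfl⟩ := hm
    have hg2a : (g ^ 2) • a = a := by rw [pow_two, mul_smul, hg1, hg2]
    have hg2b : (g ^ 2) • b = b := by rw [pow_two, mul_smul, hg2, hg1]
    have hpa : ∀ j : ℕ, (g ^ (2 * j)) • a = a ∧ (g ^ (2 * j)) • b = b := by
      intro j
      rw [pow_mul]
      induction j with
      | zero => simp
      | succ j ih =>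
        rw [pow_succ, mul_smul, mul_smul, hg2a, hg2b]
        exact ih
    set s := g ^ (2 * k + 1) with hs
    have hsa : s • a = b := by
      rw [hs, pow_succ, mul_smul, hg1]
      exact (hpa k).2
    have hsb : s • b = a := by
      rw [hs, pow_succ, mul_smul, hg2]
      exact (hpa k).1
    refine ⟨s, ?_, hsa, hsb⟩
    have hs2H : s ^ 2 ∈ stabilizer G a ⊓ stabilizer G b := by
      constructor
      · change s ^ 2 • a = a
        rw [pow_two, mul_smul, hsa, hsb]
      · change s ^ 2 • b = b
        rw [pow_two, mul_smul, hsb, hsa]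
    have hdvd1 : orderOf (s ^ 2) ∣ Nat.card ↥(stabilizer G a ⊓ stabilizer G b) :=
      Subgroup.orderOf_dvd_natCard _ hs2H
    have hdvd2 : orderOf (s ^ 2) ∣ 2 ^ e := by
      apply orderOf_dvd_of_pow_eq_one
      rw [← pow_mul, hs, ← pow_mul]
      rw [show (2 * k + 1) * (2 * 2 ^ e) = 2 * (2 ^ e * (2 * k + 1)) by ring, ← hord, mul_comm,
        pow_mul, pow_orderOf_eq_one, one_pow]
    have hcop : Nat.Coprime (orderOf (s ^ 2)) (2 ^ e) := by
      apply Nat.Coprime.coprime_dvd_left hdvd1
      exact Nat.Coprime.pow_right e (Nat.coprime_two_right.mpr hodd)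
    have h1 : orderOf (s ^ 2) = 1 := Nat.Coprime.eq_one_of_dvd hcop hdvd2
    have hp : Fact (Nat.Prime 2) := ⟨Nat.prime_two⟩
    apply orderOf_eq_prime
    · exact orderOf_eq_one_iff.mp h1
    · intro h
      rw [h, one_smul] at hsa
      exact hab hsa

end Cfsg.Agent.Lib.Perm
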