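import Mathlib
import Cfsg.Prelude.Def_LieExceptional
import Cfsg.Agent.Lib.Char.Zassenhaus
import Cfsg.Agent.Lib.Perm.ZassInv
import Cfsg.Agent.S0035

/-!
The Frobenius structure of point stabilisers of a Zassenhaus group.
-/

set_option autoImplicit false

namespace Cfsg.Agent.Lib.Perm

open MulAction Cfsg Cfsg.Agent.Lib.Char
open scoped Pointwise

variable {G Ω : Type*} [Group G] [MulAction G Ω]

/-- The Frobenius kernel of a point stabiliser. -/
theorem zf_kernel [Finite G] [Fintype Ω] (hZ : IsZassenhausGroup G Ω) {a b : Ω} (hab : a ≠ b) :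
    ∃ F : Subgroup G, Nat.card F + 1 = Fintype.card Ω ∧ F ≤ stabilizer G a ∧
      ∀ u ∈ F, u ≠ 1 → ∀ c : Ω, u • c = c → c = a := by
  classical
  let G' := stabilizer G a
  let H' : Subgroup G' := (stabilizer G b).subgroupOf G'
  have hmemH : ∀ g : G', g ∈ H' ↔ (g : G) • b = b := fun g => Iff.rfl
  have htrans : ∀ c : Ω, c ≠ a → ∃ g : G', (g : G) • b = c := by
    intro c hc
    obtain ⟨g, h1, h2⟩ := Zass.two_trans hZ hab hc.symm
    exact ⟨⟨g, h1⟩, h2⟩
  have hFC : IsFrobeniusComplement H' := by
    refine ⟨?_, ?_, ?_⟩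
    · intro h
      obtain ⟨g, hg, h1, h2⟩ := Zass.exists_ne_one_fix hZ hab
      have : (⟨g, h1⟩ : G') ∈ H' := h2
      rw [h, Subgroup.mem_bot] at this
      exact hg (congrArg Subtype.val this)
    · intro h
      obtain ⟨c, hca, hcb⟩ := Zass.exists_third hZ hab
      obtain ⟨g, hg⟩ := htrans c hca
      have : g ∈ H' := by rw [h]; trivial
      rw [hmemH, hg] at this
      exact hcb this
    · intro g hg
      rw [eq_bot_iff]
      rintro x ⟨hx1, hx2⟩
      rw [Subgroup.mem_bot]
      have hx3 := (Subgroup.mem_pointwise_smul_iff_inv_smul_mem).mp hx2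
      have hx4 : (g : G)⁻¹ * x * g ∈ stabilizer G b := by
        have : (MulAut.conj g)⁻¹ • x ∈ H' := hx3
        have h5 : (((MulAut.conj g)⁻¹ • x : G') : G) = (g : G)⁻¹ * x * g := by
          simp [MulAut.smul_def]
        have h6 : (((MulAut.conj g)⁻¹ • x : G') : G) ∈ stabilizer G b := this
        rwa [h5] at h6
      have hx5 : (x : G) • ((g : G) • b) = (g : G) • b := by
        have h7 : ((g : G)⁻¹ * x * g) • b = b := hx4
        simp only [mul_smul] at h7
        rw [inv_smul_eq_iff] at h7
        exact h7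
      have hgb : (g : G) • b ≠ a := by
        intro h
        have h8 : (g : G) • a = a := g.2
        exact hab ((smul_left_cancel (g : G) (h.trans h8.symm))).symm
      have hgb2 : b ≠ (g : G) • b := fun h => hg ((hmemH g).mpr h.symm)
      apply Subtype.ext
      exact Zass.eq_one_of_three hZ hab hgb2 hgb.symm x.2 hx1 hx5
  obtain ⟨N, hNset, hNn, hNc⟩ := Cfsg.Agent.S0035.result H' hFC
  have hfree : ∀ u ∈ N, u ≠ 1 → ∀ c : Ω, (u : G) • c = c → c = a := by
    intro u hu hu1 c hc
    by_contra hca
    obtain ⟨g, hg⟩ := htrans c hca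
    have hk : u ∈ frobeniusKernel H' := by rw [← hNset]; exact hu
    rcases hk with h | h
    · exact hu1 h
    · apply h g
      rw [Subgroup.mem_pointwise_smul_iff_inv_smul_mem]
      change (((MulAut.conj g)⁻¹ • u : G') : G) • b = b
      have h5 : (((MulAut.conj g)⁻¹ • u : G') : G) = (g : G)⁻¹ * u * g := by
        simp [MulAut.smul_def]
      rw [h5, mul_smul, mul_smul, hg, hc, ← hg, inv_smul_smul]
  refine ⟨N.map G'.subtype, ?_, ?_, ?_⟩
  · have hcard1 : Nat.card (N.map G'.subtype) = Nat.card N :=
      Nat.card_congr (Subgroup.equivMapOfInjective N G'.subtype G'.subtype_injective).symm.toEquiv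
    rw [hcard1]
    have hne : ∀ u : N, ((u : G') : G) • b ≠ a := by
      intro u h
      have h8 : ((u : G') : G) • a = a := (u : G').2
      exact hab ((smul_left_cancel ((u : G') : G) (h.trans h8.symm))).symm
    let φ : N → {x : Ω // x ≠ a} := fun u => ⟨((u : G') : G) • b, hne u⟩
    have hinj : Function.Injective φ := by
      intro u v huv
      have h1 : ((u : G') : G) • b = ((v : G') : G) • b := congrArg Subtype.val huv
      by_contra hne'
      have hm : (v : G')⁻¹ * (u : G') ∈ N := N.mul_mem (N.inv_mem v.2) u.2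
      have h3 : (v : G')⁻¹ * (u : G') ≠ 1 := by
        intro h
        apply hne'
        apply Subtype.ext
        exact (inv_mul_eq_one.mp h).symm
      have := hfree _ hm h3 b (by
        change (((v : G') : G)⁻¹ * ((u : G') : G)) • b = b
        rw [mul_smul, h1, inv_smul_smul])
      exact hab this.symm
    have hsurj : Function.Surjective φ := by
      rintro ⟨c, hc⟩
      obtain ⟨g, hg⟩ := htrans c hc
      obtain ⟨⟨n, h⟩, hnh⟩ := hNc.2 g
      refine ⟨n, Subtype.ext ?_⟩
      change ((n : G') : G) • b = c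
      have hhb : ((h : G') : G) • b = b := h.2
      rw [← hg, ← hnh]
      change ((n : G') : G) • b = (((n : G') : G) * ((h : G') : G)) • b
      rw [mul_smul, hhb]
    have hc2 : Nat.card N = Nat.card {x : Ω // x ≠ a} :=
      Nat.card_congr (Equiv.ofBijective φ ⟨hinj, hsurj⟩)
    rw [hc2, Nat.card_eq_fintype_card, Fintype.card_subtype_compl, Fintype.card_subtype_eq]
    have : 0 < Fintype.card Ω := Fintype.card_pos_iff.mpr ⟨a⟩
    omega
  · rintro _ ⟨u, -, rfl⟩
    exact u.2
  · rintro _ ⟨u, hu, rfl⟩ hu1 c hc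
    apply hfree u hu _ c hc
    intro h
    apply hu1
    simp [h]

/-- An involution of a two-point stabiliser inverts the kernel elementwise. -/
theorem zf_invert [Finite G] [Fintype Ω] (hZ : IsZassenhausGroup G Ω) {a b : Ω} (hab : a ≠ b)
    {F : Subgroup G} (hcard : Nat.card F + 1 = Fintype.card Ω) (hFa : F ≤ stabilizer G a)
    (hFfix : ∀ u ∈ F, u ≠ 1 → ∀ c : Ω, u • c = c → c = a) {t : G} (hta : t • a = a)
    (htb : t • b = b) (ht2 : orderOf t = 2) :
    (∀ u ∈ F, t * u * t⁻¹ = u⁻¹) ∧ (∀ u ∈ F, ∀ v ∈ F, u * v = v * u) ∧ Odd (Nat.card F) := by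
  classical
  have hnorm : ∀ u ∈ F, t * u * t⁻¹ ∈ F := fun u hu =>
    Zass.conj_mem_kernel hZ hcard hFa hFfix hta hu
  let φ : F →* F :=
    { toFun := fun u => ⟨t * u * t⁻¹, hnorm u u.2⟩
      map_one' := by
        apply Subtype.ext
        simp
      map_mul' := fun u v => by
        apply Subtype.ext
        simp only [Subgroup.coe_mul]
        group }
  have hφ : ∀ u : F, ((φ u : F) : G) = t * u * t⁻¹ := fun u => rfl
  have htt : t * t = 1 := by
    rw [← pow_two, ← ht2]
    exact pow_orderOf_eq_one t
  have htinv : t⁻¹ = t := inv_eq_of_mul_eq_one_left htt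
  have hfpf : MonoidHom.FixedPointFree φ := by
    intro u hu
    by_contra hu1
    have hu1' : (u : G) ≠ 1 := fun h => hu1 (Subtype.ext h)
    have hcomm : t * u * t⁻¹ = u := congrArg Subtype.val hu
    have hub : (u : G) • b ≠ b := by
      intro h
      exact hab (hFfix u u.2 hu1' b h).symm
    have hua : (u : G) • a = a := hFa u.2
    have huba : (u : G) • b ≠ a := by
      intro h
      exact hab (smul_left_cancel (u : G) (h.trans hua.symm)).symm
    have htub : t • ((u : G) • b) = (u : G) • b := by
      have : t * u = u * t := by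
        calc t * u = (t * u * t⁻¹) * t := by group
          _ = u * t := by rw [hcomm]
      rw [← mul_smul, this, mul_smul, htb]
    have ht1 : t = 1 := Zass.eq_one_of_three hZ hab (Ne.symm hub) (Ne.symm huba) hta htb htub
    rw [ht1, orderOf_one] at ht2
    omega
  have hinvol : Function.Involutive φ := by
    intro u
    apply Subtype.ext
    rw [hφ, hφ]
    calc t * (t * (u : G) * t⁻¹) * t⁻¹ = (t * t) * u * (t * t)⁻¹ := by group
      _ = u := by rw [htt]; group
  have hinv := hfpf.coe_eq_inv_of_involutive hinvol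
  refine ⟨?_, ?_, ?_⟩
  · intro u hu
    have := congrFun hinv ⟨u, hu⟩
    exact congrArg Subtype.val this
  · intro u hu v hv
    have := hfpf.commute_all_of_involutive hinvol ⟨u, hu⟩ ⟨v, hv⟩
    exact congrArg Subtype.val this.eq
  · exact hfpf.odd_card_of_involutive hinvol

/-- The two-point stabilisers of a Zassenhaus group have at most one involution. -/
theorem zf_unique_inv [Finite G] [Fintype Ω] (hZ : IsZassenhausGroup G Ω) {a b : Ω} (hab : a ≠ b)
    {t t' : G} (hta : t • a = a) (htb : t • b = b) (ht2 : orderOf t = 2)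
    (hta' : t' • a = a) (htb' : t' • b = b) (ht2' : orderOf t' = 2) : t = t' := by
  classical
  obtain ⟨F, hcard, hFa, hFfix⟩ := zf_kernel hZ hab
  obtain ⟨hinv, -, -⟩ := zf_invert hZ hab hcard hFa hFfix hta htb ht2
  obtain ⟨hinv', -, -⟩ := zf_invert hZ hab hcard hFa hFfix hta' htb' ht2'
  obtain ⟨c, hca, hcb⟩ := Zass.exists_third hZ hab
  obtain ⟨u, huF, hu⟩ := Zass.regular_of_kernel hcard hFa hFfix hab.symm hca
  have hu1 : u ≠ 1 := by
    intro h
    rw [h, one_smul] at hu
    exact hcb hu.symm
  set w := t⁻¹ * t' with hw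
  have hwa : w • a = a := by
    rw [hw, mul_smul, hta', inv_smul_eq_iff, hta]
  have hwb : w • b = b := by
    rw [hw, mul_smul, htb', inv_smul_eq_iff, htb]
  have hcomm : w * u = u * w := by
    have h1 := hinv u huF
    have h2 := hinv' u huF
    have h3 : t * u * t⁻¹ = t' * u * t'⁻¹ := h1.trans h2.symm
    rw [hw]
    have h4 : t⁻¹ * (t' * u * t'⁻¹) * t = u := by
      rw [← h3]; group
    calc t⁻¹ * t' * u = (t⁻¹ * (t' * u * t'⁻¹) * t) * (t⁻¹ * t') := by group
      _ = u * (t⁻¹ * t') := by rw [h4]
  have hwc : w • c = c := by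
    rw [← hu, ← mul_smul, hcomm, mul_smul, hwb]
  have hw1 : w = 1 := Zass.eq_one_of_three hZ hab (Ne.symm hcb) (Ne.symm hca) hwa hwb hwc
  rw [hw] at hw1
  exact (inv_mul_eq_one.mp hw1)

/-- The degree bound for even two-point stabilisers. -/
theorem zf_degree_bound [Finite G] [Fintype Ω] (hZ : IsZassenhausGroup G Ω) {a b : Ω} (hab : a ≠ b)
    (heven : Even (Nat.card ↥(stabilizer G a ⊓ stabilizer G b))) :
    Fintype.card Ω - 2 ≤ 2 * Nat.card ↥(stabilizer G a ⊓ stabilizer G b) := by
  classical
  have hp : Fact (Nat.Prime 2) := ⟨Nat.prime_two⟩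
  obtain ⟨t', ht'⟩ := exists_prime_orderOf_dvd_card' (G := ↥(stabilizer G a ⊓ stabilizer G b)) 2
    heven.two_dvd
  set t : G := (t' : G) with ht
  have hto : orderOf t = 2 := by rw [ht, Subgroup.orderOf_coe]; exact ht'
  have ht2 : t ^ 2 = 1 := by rw [← hto]; exact pow_orderOf_eq_one t
  have hta : t • a = a := t'.2.1
  have htb : t • b = b := t'.2.2
  have ht1 : t ≠ 1 := by
    intro h
    rw [h, orderOf_one] at hto
    omega
  have htt : ∀ x : Ω, t • t • x = x := fun x => by rw [← mul_smul, ← pow_two, ht2, one_smul]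
  have htfix : ∀ x : Ω, t • x = x → x = a ∨ x = b := by
    intro x hx
    by_contra hcon
    push Not at hcon
    exact ht1 (Zass.eq_one_of_three hZ hab (Ne.symm hcon.2) (Ne.symm hcon.1) hta htb hx)
  have key : ∀ c : Ω, ∃ s : G, c ≠ a → c ≠ b →
      (orderOf s = 2 ∧ s • c = c ∧ s • a = b ∧ s • b = a) := by
    intro c
    by_cases hca : c = a
    · exact ⟨1, fun h => absurd hca h⟩
    by_cases hcb : c = b
    · exact ⟨1, fun _ h => absurd hcb h⟩
    have hce : c ≠ t • c := by
      intro h
      rcases htfix c h.symm with h | h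
      · exact hca h
      · exact hcb h
    obtain ⟨g, hg1, hg2⟩ := Zass.two_trans hZ hab hce
    set s := g * t * g⁻¹ with hs
    have hsord : orderOf s = 2 := by
      apply orderOf_eq_prime
      · rw [hs, conj_pow, ht2]
        group
      · intro h
        apply ht1
        have : t = g⁻¹ * s * g := by rw [hs]; group
        rw [this, h]
        group
    have hsc : s • c = c := by
      rw [hs, ← hg1, mul_smul, mul_smul, inv_smul_smul, hta]
    have hse : s • (t • c) = t • c := by
      rw [hs, ← hg2, mul_smul, mul_smul, inv_smul_smul, htb]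
    have hs1 : s ≠ 1 := by
      intro h
      rw [h, orderOf_one] at hsord
      omega
    have htinv : t⁻¹ = t := inv_eq_of_mul_eq_one_left (by rw [← pow_two, ht2])
    -- `s` commutes with `t`
    have hcomm : t * s * t⁻¹ = s := by
      apply zf_unique_inv hZ hce
      · rw [mul_smul, mul_smul, htinv, hse, htt]
      · rw [mul_smul, mul_smul, htinv, htt, hsc]
      · apply orderOf_eq_prime
        · rw [conj_pow, ← hsord, pow_orderOf_eq_one]
          group
        · intro h
          apply hs1
          have : s = t⁻¹ * (t * s * t⁻¹) * t := by group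
          rw [this, h]
          group
      · exact hsc
      · exact hse
      · exact hsord
    have hcomm' : t * s = s * t := by
      calc t * s = (t * s * t⁻¹) * t := by group
        _ = s * t := by rw [hcomm]
    have hsa' : t • (s • a) = s • a := by
      rw [← mul_smul, hcomm', mul_smul, hta]
    have hsb' : t • (s • b) = s • b := by
      rw [← mul_smul, hcomm', mul_smul, htb]
    have hne : ∀ x : Ω, t • x = x → c ≠ x := by
      intro x hx h
      rcases htfix x hx with h' | h'
      · exact hca (h.trans h')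
      · exact hcb (h.trans h')
    have hne2 : ∀ x : Ω, t • x = x → t • c ≠ x := by
      intro x hx h
      rw [← h] at hx
      have := smul_left_cancel t hx
      exact hce this.symm
    have hsnofix : ∀ x : Ω, t • x = x → s • x ≠ x := by
      intro x hx h
      exact hs1 (Zass.eq_one_of_three hZ (hne x hx).symm hce (hne2 x hx).symm h hsc hse)
    refine ⟨s, fun _ _ => ⟨hsord, hsc, ?_, ?_⟩⟩
    · rcases htfix _ hsa' with h | h
      · exact absurd h (hsnofix a hta)
      · exact h
    · rcases htfix _ hsb' with h | h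
      · exact h
      · exact absurd h (hsnofix b htb)
  choose T hT using key
  have : Fintype G := Fintype.ofFinite G
  let S : Finset Ω := Finset.univ.filter fun c => c ≠ a ∧ c ≠ b
  let W : Finset G := Finset.univ.filter fun s => s • a = b ∧ s • b = a
  have hScard : S.card + 2 = Fintype.card Ω := by
    have h1 : S = Finset.univ \ {a, b} := by
      ext x
      simp [S]
    rw [h1, Finset.card_sdiff_of_subset (Finset.subset_univ _), Finset.card_pair hab,
      Finset.card_univ]
    have : 2 ≤ Fintype.card Ω := by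
      have := Finset.card_le_univ ({a, b} : Finset Ω)
      rwa [Finset.card_pair hab] at this
    omega
  have himg : S.image T ⊆ W := by
    intro s hs
    obtain ⟨c, hc, rfl⟩ := Finset.mem_image.mp hs
    have hc' := (Finset.mem_filter.mp hc).2
    obtain ⟨-, -, h1, h2⟩ := hT c hc'.1 hc'.2
    exact Finset.mem_filter.mpr ⟨Finset.mem_univ _, h1, h2⟩
  have hWcard : W.card ≤ Nat.card ↥(stabilizer G a ⊓ stabilizer G b) := by
    obtain ⟨g₀, hg1, hg2⟩ := Zass.two_trans hZ hab hab.symm
    let f : W → ↥(stabilizer G a ⊓ stabilizer G b) := fun s => ⟨g₀⁻¹ * s, by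
      have hs := (Finset.mem_filter.mp s.2).2
      constructor
      · change (g₀⁻¹ * (s : G)) • a = a
        rw [mul_smul, hs.1, inv_smul_eq_iff, hg1]
      · change (g₀⁻¹ * (s : G)) • b = b
        rw [mul_smul, hs.2, inv_smul_eq_iff, hg2]⟩
    have hf : Function.Injective f := by
      intro x y hxy
      have h1 : g₀⁻¹ * (x : G) = g₀⁻¹ * (y : G) := congrArg Subtype.val hxy
      exact Subtype.ext (mul_left_cancel h1)
    have := Nat.card_le_card_of_injective f hf
    rwa [Nat.card_eq_fintype_card, Fintype.card_coe] at this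
  have hfib : ∀ s ∈ S.image T, (S.filter fun x => T x = s).card ≤ 2 := by
    intro s hs
    obtain ⟨c, hc, rfl⟩ := Finset.mem_image.mp hs
    have hc' := (Finset.mem_filter.mp hc).2
    obtain ⟨hord, -, -, -⟩ := hT c hc'.1 hc'.2
    have hs1 : T c ≠ 1 := by
      intro h
      rw [h, orderOf_one] at hord
      omega
    have hle := Cfsg.Agent.Lib.Perm.zi_fix_le hZ hs1
    rw [Nat.card_coe_set_eq] at hle
    refine le_trans ?_ hle
    rw [← Set.ncard_coe_finset]
    apply Set.ncard_le_ncard _ (Set.toFinite _)
    intro x hx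
    have hx' := Finset.mem_filter.mp (Finset.mem_coe.mp hx)
    have hx2 := (Finset.mem_filter.mp hx'.1).2
    obtain ⟨-, h1, -, -⟩ := hT x hx2.1 hx2.2
    rw [hx'.2] at h1
    exact h1
  have h1 := Finset.card_le_mul_card_image S 2 hfib
  have h2 := Finset.card_le_card himg
  omega

end Cfsg.Agent.Lib.Perm
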