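import Mathlib
import Cfsg.Agent.Lib.Perm.ZassFrob
import Cfsg.Agent.Lib.Perm.Orbits
import Cfsg.Agent.Lib.OddLocal.FrobComp

/-!
Zassenhaus groups with two-point stabiliser of odd order.
-/

set_option autoImplicit false

namespace Cfsg.Agent.Lib.Perm

open MulAction Cfsg Cfsg.Agent.Lib.Char
open scoped commutatorElement

section Elementary

variable {G : Type*} [Group G]

/-- A subgroup containing all Sylow subgroups is everything. -/
lemma zs_eq_top_of_sylow {H : Type*} [Group H] [Finite H] (A : Subgroup H)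
    (h : ∀ q : ℕ, q.Prime → q ∣ Nat.card H → ∀ P : Sylow q H, (P : Subgroup H) ≤ A) : A = ⊤ := by
  by_contra hA
  have hne : A.index ≠ 1 := fun h1 => hA (Subgroup.index_eq_one.mp h1)
  obtain ⟨q, hq, hqi⟩ := Nat.exists_prime_and_dvd hne
  have : Fact q.Prime := ⟨hq⟩
  have hqc : q ∣ Nat.card H := hqi.trans (Subgroup.index_dvd_card A)
  let P : Sylow q H := default
  have hle := h q hq hqc P
  exact P.not_dvd_index (hqi.trans (Subgroup.index_dvd_of_le hle))

/-- An involutory automorphism of a cyclic `q`-group of odd order is trivial or the inversion. -/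
lemma zs_invert_of_cyclic {q : ℕ} (hq : q.Prime) (hq2 : q ≠ 2) [Finite G] {Q : Subgroup G}
    (hQc : IsCyclic Q) (hQp : IsPGroup q Q) {x : G} (hxn : x ∈ Subgroup.normalizer (Q : Set G))
    (hx2 : ∀ y ∈ Q, x ^ 2 * y * (x ^ 2)⁻¹ = y) (hne : ∃ y ∈ Q, x * y * x⁻¹ ≠ y) :
    ∀ y ∈ Q, x * y * x⁻¹ = y⁻¹ := by
  have hmem : ∀ y ∈ Q, x * y * x⁻¹ ∈ Q := fun y hy => (Subgroup.mem_normalizer_iff.mp hxn y).mp hy
  let σ : Q →* Q :=
    { toFun := fun y => ⟨x * y * x⁻¹, hmem y y.2⟩
      map_one' := Subtype.ext (by simp)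
      map_mul' := fun u v => Subtype.ext (by
        simp only [Subgroup.coe_mul]
        group) }
  have hσ : ∀ y : Q, ((σ y : Q) : G) = x * y * x⁻¹ := fun _ => rfl
  obtain ⟨m, hm⟩ := σ.map_cyclic
  have : Fact q.Prime := ⟨hq⟩
  obtain ⟨k, hk⟩ := IsPGroup.iff_card.mp hQp
  obtain ⟨g₀, hg₀⟩ := IsCyclic.exists_ofOrder_eq_natCard (α := Q)
  have hσσ : ∀ y : Q, σ (σ y) = y := by
    intro y
    apply Subtype.ext
    rw [hσ, hσ]
    have := hx2 y y.2
    calc x * (x * (y : G) * x⁻¹) * x⁻¹ = (x * x) * y * (x * x)⁻¹ := by group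
      _ = x ^ 2 * y * (x ^ 2)⁻¹ := by rw [pow_two]
      _ = y := this
  have h1 : g₀ ^ (m * m - 1) = 1 := by
    have h2 := hσσ g₀
    rw [hm (σ g₀), hm g₀, ← zpow_mul] at h2
    rw [zpow_sub, zpow_one, h2]
    simp
  have hdvd : (Nat.card Q : ℤ) ∣ (m - 1) * (m + 1) := by
    rw [← hg₀, show (m - 1) * (m + 1) = m * m - 1 by ring]
    exact orderOf_dvd_iff_zpow_eq_one.mpr h1
  have hpowQ : ∀ (g : Q) (t : ℤ), (Nat.card Q : ℤ) ∣ t → g ^ t = 1 := by
    intro g t ht
    obtain ⟨c, rfl⟩ := ht
    rw [zpow_mul, zpow_natCast, pow_card_eq_one', one_zpow]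
  have hqZ : Prime (q : ℤ) := Nat.prime_iff_prime_int.mp hq
  have hcop : ¬ ((q : ℤ) ∣ m - 1 ∧ (q : ℤ) ∣ m + 1) := by
    rintro ⟨h3, h4⟩
    have h5 : (q : ℤ) ∣ 2 := by
      have := dvd_sub h4 h3
      rwa [show m + 1 - (m - 1) = 2 by ring] at this
    have h6 : q ∣ 2 := by exact_mod_cast h5
    exact hq2 ((Nat.prime_dvd_prime_iff_eq hq Nat.prime_two).mp h6)
  rw [hk] at hdvd hpowQ
  push_cast at hdvd hpowQ
  by_cases h3 : (q : ℤ) ∣ m + 1
  · have h4 : ¬ (q : ℤ) ∣ m - 1 := fun h => hcop ⟨h, h3⟩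
    have h5 : IsCoprime ((q : ℤ) ^ k) (m - 1) :=
      IsCoprime.pow_left ((Irreducible.coprime_iff_not_dvd hqZ.irreducible).mpr h4)
    have h6 : (q : ℤ) ^ k ∣ m + 1 := h5.dvd_of_dvd_mul_left hdvd
    intro y hy
    have h7 := hpowQ ⟨y, hy⟩ (m + 1) h6
    rw [zpow_add, zpow_one, ← hm] at h7
    have h8 := congrArg Subtype.val h7
    simp only [Subgroup.coe_mul, hσ, Subgroup.coe_one] at h8
    exact eq_inv_of_mul_eq_one_left h8
  · exfalso
    have h5 : IsCoprime ((q : ℤ) ^ k) (m + 1) :=
      IsCoprime.pow_left ((Irreducible.coprime_iff_not_dvd hqZ.irreducible).mpr h3)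
    have h6 : (q : ℤ) ^ k ∣ m - 1 := h5.dvd_of_dvd_mul_right hdvd
    obtain ⟨y, hy, hyne⟩ := hne
    apply hyne
    have h7 := hpowQ ⟨y, hy⟩ (m - 1) h6
    rw [zpow_sub, zpow_one, ← hm] at h7
    have h8 := congrArg Subtype.val h7
    simp only [Subgroup.coe_mul, hσ, Subgroup.coe_one, Subgroup.coe_inv] at h8
    exact mul_inv_eq_one.mp h8

/-- Elements inverted by an element normalising a cyclic subgroup act trivially on it. -/
lemma zs_commute_of_invert {C : Subgroup G} (hCc : IsCyclic C) {x y : G}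
    (hxC : ∀ c ∈ C, x * c * x⁻¹ ∈ C) (hxC' : ∀ c ∈ C, x⁻¹ * c * x ∈ C)
    (hyC : ∀ c ∈ C, y * c * y⁻¹ ∈ C) (hxy : x * y * x⁻¹ = y⁻¹) (hodd : Odd (orderOf y)) :
    ∀ c ∈ C, y * c = c * y := by
  let σx : C →* C :=
    { toFun := fun c => ⟨x * c * x⁻¹, hxC c c.2⟩
      map_one' := Subtype.ext (by simp)
      map_mul' := fun u v => Subtype.ext (by
        simp only [Subgroup.coe_mul]
        group) }
  let σy : C →* C :=
    { toFun := fun c => ⟨y * c * y⁻¹, hyC c c.2⟩
      map_one' := Subtype.ext (by simp)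
      map_mul' := fun u v => Subtype.ext (by
        simp only [Subgroup.coe_mul]
        group) }
  obtain ⟨u, hu⟩ := σx.map_cyclic
  obtain ⟨v, hv⟩ := σy.map_cyclic
  have hcomm : ∀ c : C, σx (σy c) = σy (σx c) := by
    intro c
    rw [hu, hv, hv, hu, ← zpow_mul, ← zpow_mul, mul_comm]
  have hy2 : ∀ c ∈ C, y ^ 2 * c = c * y ^ 2 := by
    intro c hc
    have h1 := congrArg Subtype.val (hcomm ⟨x⁻¹ * c * x, hxC' c hc⟩)
    have h2 : x * (y * (x⁻¹ * c * x) * y⁻¹) * x⁻¹ = y * (x * (x⁻¹ * c * x) * x⁻¹) * y⁻¹ := h1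
    have h3 : x * (y * (x⁻¹ * c * x) * y⁻¹) * x⁻¹ = (x * y * x⁻¹) * c * (x * y * x⁻¹)⁻¹ := by group
    have h4 : y * (x * (x⁻¹ * c * x) * x⁻¹) * y⁻¹ = y * c * y⁻¹ := by group
    rw [h3, h4, hxy, inv_inv] at h2
    calc y ^ 2 * c = y * (y * c * y⁻¹) * y := by rw [pow_two]; group
      _ = y * (y⁻¹ * c * y) * y := by rw [h2]
      _ = c * y ^ 2 := by rw [pow_two]; group
  have hcop : (orderOf y).Coprime 2 := Nat.coprime_two_right.mpr hodd
  obtain ⟨m, hm⟩ := exists_pow_eq_self_of_coprime hcop.symm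
  intro c hc
  have h5 : ∀ j : ℕ, (y ^ 2) ^ j * c = c * (y ^ 2) ^ j := by
    intro j
    induction j with
    | zero => simp
    | succ j ih =>
      rw [pow_succ, mul_assoc, hy2 c hc, ← mul_assoc, ih, mul_assoc]
  have := h5 m
  rwa [hm] at this

end Elementary

section Main

variable {G Ω : Type*} [Group G] [MulAction G Ω]

/-- The order of a Zassenhaus group. -/
lemma zs_card [Finite G] [Fintype Ω] (hZ : IsZassenhausGroup G Ω) {a b : Ω} (hab : a ≠ b) :
    Nat.card G = Fintype.card Ω * (Fintype.card Ω - 1) *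
      Nat.card ↥(stabilizer G a ⊓ stabilizer G b) := by
  classical
  have h := card_orbit_mul_card_stabilizer (K := G) (X := Ω × Ω) (a, b)
  have hS : stabilizer G (a, b) = stabilizer G a ⊓ stabilizer G b := by
    ext x
    simp [mem_stabilizer_iff, Prod.smul_mk]
  have hO : orbit G (a, b) = {p : Ω × Ω | p.1 ≠ p.2} := by
    ext ⟨c, d⟩
    constructor
    · rintro ⟨g, hg⟩
      have h1 : g • a = c := congrArg Prod.fst hg
      have h2 : g • b = d := congrArg Prod.snd hg
      change c ≠ d
      rw [← h1, ← h2]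
      intro h3
      exact hab (smul_left_cancel g h3)
    · intro hcd
      obtain ⟨g, h1, h2⟩ := Zass.two_trans hZ hab hcd
      exact ⟨g, Prod.ext h1 h2⟩
  rw [hS, hO] at h
  rw [← h]
  congr 1
  change Nat.card {p : Ω × Ω // p.1 ≠ p.2} = _
  rw [Nat.card_eq_fintype_card]
  have : Fintype.card {p : Ω × Ω // p.1 ≠ p.2} = (Finset.univ : Finset Ω).offDiag.card := by
    apply Fintype.card_of_subtype
    intro p
    simp
  rw [this, Finset.offDiag_card, Finset.card_univ, Nat.mul_sub, mul_one]

/-- The order of the two-point stabiliser divides `|Ω| - 2`. -/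
lemma zs_dvd [Fintype Ω] (hZ : IsZassenhausGroup G Ω) {a b : Ω} (hab : a ≠ b) :
    Nat.card ↥(stabilizer G a ⊓ stabilizer G b) ∣ Fintype.card Ω - 2 := by
  classical
  let H := stabilizer G a ⊓ stabilizer G b
  let Y : SubMulAction H Ω :=
    { carrier := {c | c ≠ a ∧ c ≠ b}
      smul_mem' := by
        rintro h c ⟨h1, h2⟩
        constructor
        · intro h3
          apply h1
          have h4 : (h : G) • a = a := h.2.1
          exact smul_left_cancel (h : G) (h3.trans h4.symm)
        · intro h3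
          apply h2
          have h4 : (h : G) • b = b := h.2.2
          exact smul_left_cancel (h : G) (h3.trans h4.symm) }
  have hfree : ∀ y : Y, stabilizer H y = ⊥ := by
    intro y
    rw [eq_bot_iff]
    intro h hh
    rw [Subgroup.mem_bot]
    have h3 : (h : G) • (y : Ω) = y := congrArg Subtype.val (show h • y = y from hh)
    have hy : (y : Ω) ≠ a ∧ (y : Ω) ≠ b := y.2
    exact Subtype.ext (Zass.eq_one_of_three hZ hab (Ne.symm hy.2) (Ne.symm hy.1) h.2.1 h.2.2 h3)
  have := Cfsg.Agent.Lib.Basic.card_dvd_of_free hfree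
  have hc : Nat.card Y = Fintype.card Ω - 2 := by
    have h1 : Nat.card Y = Nat.card {c : Ω // c ∈ (Finset.univ \ {a, b} : Finset Ω)} := by
      apply Nat.card_congr
      refine Equiv.subtypeEquivRight ?_
      intro c
      simp only [Finset.mem_sdiff, Finset.mem_univ, true_and, Finset.mem_insert,
        Finset.mem_singleton, not_or]
      rfl
    rw [h1, Nat.card_eq_fintype_card, Fintype.card_coe,
      Finset.card_sdiff_of_subset (Finset.subset_univ _), Finset.card_pair hab, Finset.card_univ]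
  rwa [hc] at this

/-- The two-point stabiliser is a Z-group when it has odd order. -/
lemma zs_zgroup [Finite G] [Fintype Ω] (hZ : IsZassenhausGroup G Ω) {a b : Ω} (hab : a ≠ b)
    (hodd : Odd (Nat.card ↥(stabilizer G a ⊓ stabilizer G b))) :
    IsZGroup ↥(stabilizer G a ⊓ stabilizer G b) := by
  classical
  obtain ⟨F, hcard, hFa, hFfix⟩ := zf_kernel hZ hab
  set H := stabilizer G a ⊓ stabilizer G b with hH
  refine ⟨fun p hp P => ?_⟩
  have : Fact p.Prime := ⟨hp⟩
  by_cases hp2 : p = 2
  · subst hp2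
    have h1 : Nat.card P ∣ Nat.card H := Subgroup.card_subgroup_dvd_card _
    obtain ⟨k, hk⟩ := IsPGroup.iff_card.mp P.isPGroup'
    rw [hk] at h1
    have h2 : Nat.Coprime (2 ^ k) (Nat.card H) :=
      Nat.Coprime.pow_left k (Nat.coprime_two_left.mpr hodd)
    have h3 : 2 ^ k = 1 := Nat.Coprime.eq_one_of_dvd h2 h1
    rw [h3] at hk
    have : Subsingleton P := (Nat.card_eq_one_iff_unique.mp hk).1
    exact isCyclic_of_subsingleton
  · let A := stabilizer G a
    have hHA : H ≤ A := inf_le_left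
    let ι : H →* A := Subgroup.inclusion hHA
    have hι : Function.Injective ι := Subgroup.inclusion_injective hHA
    let T : Subgroup A := (P : Subgroup H).map ι
    let K : Subgroup A := F.subgroupOf A
    have hKn : K.Normal := by
      refine ⟨fun k hk g => ?_⟩
      exact Zass.conj_mem_kernel hZ hcard hFa hFfix g.2 hk
    have hTeq : (P : Subgroup H) ≃* T := (P : Subgroup H).equivMapOfInjective ι hι
    have hTp : IsPGroup p T := P.isPGroup'.of_equiv hTeq
    have hKne : K ≠ ⊥ := by
      obtain ⟨c, hca, hcb⟩ := Zass.exists_third hZ hab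
      obtain ⟨u, huF, hu⟩ := Zass.regular_of_kernel hcard hFa hFfix hab.symm hca
      intro h
      have : (⟨u, hFa huF⟩ : A) ∈ K := huF
      rw [h, Subgroup.mem_bot] at this
      have hu1 : u = 1 := congrArg Subtype.val this
      rw [hu1, one_smul] at hu
      exact hcb hu.symm
    have hfpf : ∀ h ∈ T, h ≠ 1 → K ⊓ Subgroup.centralizer {h} = ⊥ := by
      rintro _ ⟨t, -, rfl⟩ ht1
      rw [eq_bot_iff]
      rintro k ⟨hkK, hkc⟩
      rw [Subgroup.mem_bot]
      by_contra hk1
      have hkF : (k : G) ∈ F := hkK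
      have hk1' : (k : G) ≠ 1 := fun h => hk1 (Subtype.ext h)
      have hkb : (k : G) • b ≠ b := fun h => hab (hFfix _ hkF hk1' b h).symm
      have hkba : (k : G) • b ≠ a := by
        intro h
        have h8 : (k : G) • a = a := k.2
        exact hab (smul_left_cancel (k : G) (h.trans h8.symm)).symm
      have hcomm : (t : G) * k = k * t := by
        have := Subgroup.mem_centralizer_singleton_iff.mp hkc
        have h2 := congrArg (fun z : A => (z : G)) this
        exact h2.symm
      have htb : (t : G) • b = b := t.2.2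
      have hta : (t : G) • a = a := t.2.1
      have htk : (t : G) • ((k : G) • b) = (k : G) • b := by
        rw [← mul_smul, hcomm, mul_smul, htb]
      have ht : (t : G) = 1 :=
        Zass.eq_one_of_three hZ hab (Ne.symm hkb) (Ne.symm hkba) hta htb htk
      apply ht1
      have : t = 1 := Subtype.ext ht
      rw [this, map_one]
    have hU := Cfsg.Agent.Lib.OddLocal.uniqueP_of_fpf hKne hTp hfpf
    have hTc : IsCyclic T := Cfsg.Agent.Lib.OddLocal.isCyclic_of_uniqueP_odd hp2 _ T rfl hTp hU
    change IsCyclic (P : Subgroup H)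
    exact isCyclic_of_surjective hTeq.symm hTeq.symm.surjective

/-- Burnside's transfer theorem, in the form needed here. -/
lemma zs_no_central [Finite G] {q : ℕ} (hq : q.Prime)
    (hnil : ¬ ∃ N : Subgroup G, N.Normal ∧ N.index = q ^ (Nat.card G).factorization q)
    {Q : Subgroup G} (hQc : Nat.card Q = q ^ (Nat.card G).factorization q) :
    ∃ x ∈ Subgroup.normalizer (Q : Set G), ∃ y ∈ Q, x * y * x⁻¹ ≠ y := by
  by_contra hcon
  push Not at hcon
  have : Fact q.Prime := ⟨hq⟩
  let P : Sylow q G := Sylow.ofCard Q hQc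
  have hPQ : (P : Subgroup G) = Q := rfl
  have hP : Subgroup.normalizer ((P : Subgroup G) : Set G) ≤
      Subgroup.centralizer ((P : Subgroup G) : Set G) := by
    rw [hPQ]
    intro x hx
    rw [Subgroup.mem_centralizer_iff]
    intro y hy
    have h1 := hcon x hx y hy
    calc y * x = (x * y * x⁻¹) * x := by rw [h1]
      _ = x * y := by group
  apply hnil
  refine ⟨(MonoidHom.transferSylow P hP).ker, inferInstance, ?_⟩
  rw [(MonoidHom.ker_transferSylow_isComplement' P hP).symm.index_eq_card, ← hQc]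
  rfl

/-- Elements normalising a non-trivial subgroup of the two-point stabiliser permute the two
points. -/
lemma zs_perm_of_normalize [Fintype Ω] (hZ : IsZassenhausGroup G Ω) {a b : Ω} (hab : a ≠ b)
    {Q : Subgroup G} (hQH : Q ≤ stabilizer G a ⊓ stabilizer G b) {y : G} (hy : y ∈ Q) (hy1 : y ≠ 1)
    {x : G} (hx : x ∈ Subgroup.normalizer (Q : Set G)) :
    (x • a = a ∧ x • b = b) ∨ (x • a = b ∧ x • b = a) := by
  have hz : x⁻¹ * y * x ∈ Q := by
    have := (Subgroup.mem_normalizer_iff.mp (Subgroup.inv_mem _ hx) y).mp hy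
    simpa using this
  have hza : (x⁻¹ * y * x) • a = a := (hQH hz).1
  have hzb : (x⁻¹ * y * x) • b = b := (hQH hz).2
  have hya : y • a = a := (hQH hy).1
  have hyb : y • b = b := (hQH hy).2
  have h1 : y • (x • a) = x • a := by
    rw [mul_smul, mul_smul, inv_smul_eq_iff] at hza
    exact hza
  have h2 : y • (x • b) = x • b := by
    rw [mul_smul, mul_smul, inv_smul_eq_iff] at hzb
    exact hzb
  have hfix : ∀ c : Ω, y • c = c → c = a ∨ c = b := by
    intro c hc
    by_contra hcon
    push Not at hcon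
    exact hy1 (Zass.eq_one_of_three hZ hab (Ne.symm hcon.2) (Ne.symm hcon.1) hya hyb hc)
  have hne : x • a ≠ x • b := fun h => hab (smul_left_cancel x h)
  rcases hfix _ h1 with h3 | h3 <;> rcases hfix _ h2 with h4 | h4
  · exact absurd (h3.trans h4.symm) hne
  · exact Or.inl ⟨h3, h4⟩
  · exact Or.inr ⟨h3, h4⟩
  · exact absurd (h3.trans h4.symm) hne

/-- The main theorem on Zassenhaus groups with two-point stabilisers of odd order. -/
theorem zs_main [Finite G] [Fintype Ω] (hZ : IsZassenhausGroup G Ω) {a b : Ω} (hab : a ≠ b)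
    (hodd : Odd (Nat.card ↥(stabilizer G a ⊓ stabilizer G b)))
    (hnil : ∀ q : ℕ, q.Prime → q ∣ Nat.card ↥(stabilizer G a ⊓ stabilizer G b) →
      ¬ ∃ N : Subgroup G, N.Normal ∧ N.index = q ^ (Nat.card G).factorization q) :
    IsCyclic ↥(stabilizer G a ⊓ stabilizer G b) ∧
      Subgroup.centralizer ((stabilizer G a ⊓ stabilizer G b : Subgroup G) : Set G) =
        stabilizer G a ⊓ stabilizer G b ∧
      ∀ s : G, s • a = b → s • b = a → ∀ h ∈ stabilizer G a ⊓ stabilizer G b,
        s * h * s⁻¹ = h⁻¹ := by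
  classical
  have hZg := zs_zgroup hZ hab hodd
  have hdN := zs_dvd hZ hab
  have hcardG := zs_card hZ hab
  set H : Subgroup G := stabilizer G a ⊓ stabilizer G b with hH
  have hmemH : ∀ x : G, x ∈ H ↔ x • a = a ∧ x • b = b := fun x => Iff.rfl
  have hoddel : ∀ y ∈ H, Odd (orderOf y) := by
    intro y hy
    have h1 : orderOf y ∣ Nat.card H := Subgroup.orderOf_dvd_natCard H hy
    exact Odd.of_dvd_nat hodd h1
  have hq2 : ∀ q : ℕ, q ∣ Nat.card H → q ≠ 2 := by
    rintro q hq rfl
    exact (Nat.not_even_iff_odd.mpr hodd) (even_iff_two_dvd.mpr hq)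
  -- Sylow subgroups of `H` in `G`
  have hS : ∀ (q : ℕ) (_ : q.Prime), q ∣ Nat.card H → ∀ P : Sylow q H,
      ∃ x ∈ Subgroup.normalizer (((P : Subgroup H).map H.subtype : Subgroup G) : Set G),
        ∃ y ∈ (P : Subgroup H).map H.subtype, x * y * x⁻¹ ≠ y := by
    intro q hq hqd P
    have : Fact q.Prime := ⟨hq⟩
    apply zs_no_central hq (hnil q hq hqd)
    have h1 : Nat.card ((P : Subgroup H).map H.subtype) = Nat.card P :=
      Nat.card_congr ((P : Subgroup H).equivMapOfInjective _ H.subtype_injective).symm.toEquiv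
    rw [h1, P.card_eq_multiplicity]
    congr 1
    have hN3 : 3 ≤ Fintype.card Ω := by
      obtain ⟨c, hca, hcb⟩ := Zass.exists_third hZ hab
      have h3 : ({a, b, c} : Finset Ω).card = 3 := by
        rw [Finset.card_insert_of_notMem, Finset.card_pair hcb.symm]
        simp [hab, hca.symm]
      rw [← h3]
      exact Finset.card_le_univ _
    have hqN2 : q ∣ Fintype.card Ω - 2 := hqd.trans hdN
    have hnd1 : ¬ q ∣ Fintype.card Ω := by
      intro h
      have h2 : q ∣ 2 := by
        have := (Nat.dvd_sub h hqN2)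
        rwa [show Fintype.card Ω - (Fintype.card Ω - 2) = 2 by omega] at this
      exact hq2 q hqd ((Nat.prime_dvd_prime_iff_eq hq Nat.prime_two).mp h2)
    have hnd2 : ¬ q ∣ Fintype.card Ω - 1 := by
      intro h
      have h2 : q ∣ 1 := by
        have := (Nat.dvd_sub h hqN2)
        rwa [show Fintype.card Ω - 1 - (Fintype.card Ω - 2) = 1 by omega] at this
      exact hq.one_lt.ne' (Nat.dvd_one.mp h2)
    have hpos1 : Fintype.card Ω ≠ 0 := by omega
    have hpos2 : Fintype.card Ω - 1 ≠ 0 := by omega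
    have hpos3 : Nat.card H ≠ 0 := Nat.card_pos.ne'
    rw [hcardG, Nat.factorization_mul (mul_ne_zero hpos1 hpos2) hpos3,
      Nat.factorization_mul hpos1 hpos2]
    simp only [Finsupp.add_apply]
    rw [Nat.factorization_eq_zero_of_not_dvd hnd1, Nat.factorization_eq_zero_of_not_dvd hnd2]
    omega
  have hQle : ∀ (q : ℕ) (P : Sylow q H), (P : Subgroup H).map H.subtype ≤ H := fun q P =>
    Subgroup.map_subtype_le _
  -- elements of `Q`: non-trivial elements exist
  have hQnt : ∀ (q : ℕ) (_ : q.Prime), q ∣ Nat.card H → ∀ P : Sylow q H,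
      ∃ y ∈ (P : Subgroup H).map H.subtype, y ≠ 1 := by
    intro q hq hqd P
    obtain ⟨x, -, y, hy, hne⟩ := hS q hq hqd P
    refine ⟨y, hy, ?_⟩
    rintro rfl
    apply hne
    group
  -- general inversion statement
  have hinv : ∀ (q : ℕ) (_ : q.Prime), q ∣ Nat.card H → ∀ P : Sylow q H,
      (∀ z ∈ H, z ∈ Subgroup.normalizer (((P : Subgroup H).map H.subtype : Subgroup G) : Set G) →
        ∀ w ∈ (P : Subgroup H).map H.subtype, z * w * z⁻¹ = w) →
      ∃ x : G, x • a = b ∧ x • b = a ∧
        ∀ y ∈ (P : Subgroup H).map H.subtype, x * y * x⁻¹ = y⁻¹ := by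
    intro q hq hqd P hcen
    have : Fact q.Prime := ⟨hq⟩
    obtain ⟨x, hxn, y₀, hy₀, hne⟩ := hS q hq hqd P
    obtain ⟨y₁, hy₁, hy₁1⟩ := hQnt q hq hqd P
    have hperm := zs_perm_of_normalize hZ hab (hQle q P) hy₁ hy₁1 hxn
    rcases hperm with ⟨h1, h2⟩ | ⟨h1, h2⟩
    · exact absurd (hcen x ⟨h1, h2⟩ hxn y₀ hy₀) hne
    · refine ⟨x, h1, h2, ?_⟩
      have hx2H : x ^ 2 ∈ H := by
        rw [hmemH, pow_two, mul_smul, mul_smul, h1, h2]
        exact ⟨rfl, by rw [h1]⟩
      have hx2n : x ^ 2 ∈ Subgroup.normalizer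
          (((P : Subgroup H).map H.subtype : Subgroup G) : Set G) := Subgroup.pow_mem _ hxn 2
      have hQcyc : IsCyclic ((P : Subgroup H).map H.subtype) := by
        have hPc : IsCyclic (P : Subgroup H) := hZg.isZGroup q hq P
        exact isCyclic_of_surjective _
          ((P : Subgroup H).equivMapOfInjective _ H.subtype_injective).surjective
      have hQp : IsPGroup q ((P : Subgroup H).map H.subtype) := by
        exact P.isPGroup'.of_equiv ((P : Subgroup H).equivMapOfInjective _ H.subtype_injective)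
      exact zs_invert_of_cyclic hq (hq2 q hqd) hQcyc hQp hxn (hcen _ hx2H hx2n) ⟨y₀, hy₀, hne⟩
  -- the commutator subgroup
  have hCcyc : IsCyclic (commutator H) := IsZGroup.isCyclic_commutator H
  have hCcop := IsZGroup.coprime_commutator_index H
  let C : Subgroup G := (commutator H).map H.subtype
  have hCle : C ≤ H := Subgroup.map_subtype_le _
  have hCmem : ∀ c : H, (c : G) ∈ C ↔ c ∈ commutator H := by
    intro c
    constructor
    · rintro ⟨d, hd, hdc⟩
      have : d = c := Subtype.ext hdc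
      rwa [← this]
    · intro hc
      exact ⟨c, hc, rfl⟩
  have hCcyc' : IsCyclic C := isCyclic_of_surjective _
    ((commutator H).equivMapOfInjective _ H.subtype_injective).surjective
  -- conjugation by elements preserving `H` preserves `C`
  have hCconj : ∀ x : G, (∀ h ∈ H, x * h * x⁻¹ ∈ H) → ∀ c ∈ C, x * c * x⁻¹ ∈ C := by
    intro x hx c hc
    let φ : H →* H :=
      { toFun := fun h => ⟨x * h * x⁻¹, hx h h.2⟩
        map_one' := Subtype.ext (by simp)
        map_mul' := fun u v => Subtype.ext (by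
          simp only [Subgroup.coe_mul]
          group) }
    obtain ⟨d, hd, rfl⟩ := hc
    have h1 : φ d ∈ commutator H := by
      have h2 : (commutator H).map φ ≤ commutator H := by
        rw [commutator_def, Subgroup.map_commutator]
        exact Subgroup.commutator_mono le_top le_top
      exact h2 (Subgroup.mem_map_of_mem φ hd)
    exact ⟨φ d, h1, rfl⟩
  have hswapH : ∀ x : G, x • a = b → x • b = a → ∀ h ∈ H, x * h * x⁻¹ ∈ H := by
    intro x h1 h2 h hh
    have h1' : x⁻¹ • b = a := by rw [inv_smul_eq_iff, h1]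
    have h2' : x⁻¹ • a = b := by rw [inv_smul_eq_iff, h2]
    rw [hmemH]
    constructor
    · rw [mul_smul, mul_smul, h2', ((hmemH h).mp hh).2, h2]
    · rw [mul_smul, mul_smul, h1', ((hmemH h).mp hh).1, h1]
  have hHC : ∀ y ∈ H, ∀ c ∈ C, y * c * y⁻¹ ∈ C :=
    fun y hy => hCconj y (fun h hh => H.mul_mem (H.mul_mem hy hh) (H.inv_mem hy))
  -- Sylow subgroups centralise the commutator subgroup
  have hcl1 : ∀ (q : ℕ) (_ : q.Prime), q ∣ Nat.card H → ∀ P : Sylow q H,
      ∀ y ∈ (P : Subgroup H), ∀ c ∈ commutator H, y * c = c * y := by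
    intro q hq hqd P y hy c hc
    have : Fact q.Prime := ⟨hq⟩
    have hyp : ∃ k, orderOf y = q ^ k := by
      obtain ⟨k, hk⟩ := IsPGroup.iff_card.mp P.isPGroup'
      have h1 : orderOf y ∣ q ^ k := by
        rw [← hk]
        exact Subgroup.orderOf_dvd_natCard _ hy
      obtain ⟨j, -, hj⟩ := (Nat.dvd_prime_pow hq).mp h1
      exact ⟨j, hj⟩
    by_cases hqC : q ∣ Nat.card (commutator H)
    · -- `y` lies in the commutator subgroup
      have hqi : ¬ q ∣ (commutator H).index := by
        intro h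
        have := Nat.dvd_gcd hqC h
        rw [hCcop] at this
        exact hq.one_lt.ne' (Nat.dvd_one.mp this)
      have hcop : Nat.Coprime (commutator H).index (orderOf y) := by
        obtain ⟨k, hk⟩ := hyp
        rw [hk]
        exact Nat.Coprime.pow_right k ((Nat.Prime.coprime_iff_not_dvd hq).mpr hqi).symm
      obtain ⟨m, hm⟩ := exists_pow_eq_self_of_coprime hcop
      have hyC : y ∈ commutator H := by
        rw [← hm]
        exact Subgroup.pow_mem _ (Subgroup.pow_index_mem _ y) m
      have h2 := hCcyc.isMulCommutative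
      have h3 : (⟨y, hyC⟩ : commutator H) * ⟨c, hc⟩ = ⟨c, hc⟩ * ⟨y, hyC⟩ := h2.is_comm.comm _ _
      exact congrArg Subtype.val h3
    · -- `q` does not divide the order of the commutator subgroup
      have hcen : ∀ z ∈ H, z ∈ Subgroup.normalizer (((P : Subgroup H).map H.subtype : Subgroup G) : Set G) →
          ∀ w ∈ (P : Subgroup H).map H.subtype, z * w * z⁻¹ = w := by
        intro z hz hzn w hw
        have hwH := hQle q P hw
        have hcmem : z * w * z⁻¹ * w⁻¹ ∈ (P : Subgroup H).map H.subtype :=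
          Subgroup.mul_mem _ ((Subgroup.mem_normalizer_iff.mp hzn w).mp hw) (Subgroup.inv_mem _ hw)
        obtain ⟨u, hu, hue⟩ := hcmem
        have hu2 : u ∈ commutator H := by
          have h3 : u = ⁅(⟨z, hz⟩ : H), (⟨w, hwH⟩ : H)⁆ := by
            apply Subtype.ext
            rw [show (u : G) = H.subtype u from rfl, hue, commutatorElement_def]
            rfl
          rw [h3]
          exact Subgroup.commutator_mem_commutator (Subgroup.mem_top _) (Subgroup.mem_top _)
        have ho1 : orderOf u ∣ Nat.card (commutator H) := Subgroup.orderOf_dvd_natCard _ hu2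
        have ho2 : ∃ k, orderOf u = q ^ k := by
          obtain ⟨k, hk⟩ := IsPGroup.iff_card.mp P.isPGroup'
          have h1 : orderOf u ∣ q ^ k := by
            rw [← hk]
            exact Subgroup.orderOf_dvd_natCard _ hu
          obtain ⟨j, -, hj⟩ := (Nat.dvd_prime_pow hq).mp h1
          exact ⟨j, hj⟩
        obtain ⟨k, hk⟩ := ho2
        have hu1 : u = 1 := by
          rw [← orderOf_eq_one_iff]
          by_cases hk0 : k = 0
          · rw [hk, hk0, pow_zero]
          · exfalso
            apply hqC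
            rw [hk] at ho1
            exact (dvd_pow_self q hk0).trans ho1
        rw [hu1] at hue
        have h7 : z * w * z⁻¹ * w⁻¹ = 1 := by rw [← hue]; rfl
        exact mul_inv_eq_one.mp h7
      obtain ⟨x, hxa, hxb, hxinv⟩ := hinv q hq hqd P hcen
      have hyQ : (y : G) ∈ (P : Subgroup H).map H.subtype := ⟨y, hy, rfl⟩
      have hxC := hCconj x (hswapH x hxa hxb)
      have hxC' := hCconj x⁻¹ (by
        apply hswapH
        · rw [inv_smul_eq_iff, hxb]
        · rw [inv_smul_eq_iff, hxa])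
      have hxC'' : ∀ c ∈ C, x⁻¹ * c * x ∈ C := by
        intro c hc
        simpa using hxC' c hc
      have hodd' : Odd (orderOf (y : G)) := hoddel y y.2
      have := zs_commute_of_invert hCcyc' hxC hxC'' (hHC y y.2) (hxinv y hyQ) hodd' c
        ((hCmem c).mpr hc)
      exact Subtype.ext this
  -- the commutator subgroup is central
  have hA : Subgroup.centralizer ((commutator H : Subgroup H) : Set H) = ⊤ := by
    apply zs_eq_top_of_sylow
    intro q hq hqd P y hy
    rw [Subgroup.mem_centralizer_iff]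
    intro c hc
    exact (hcl1 q hq hqd P y hy c hc).symm
  have hcomm : ∀ u v : H, u * v = v * u := by
    intro u v
    have hker : (Abelianization.of (G := H)).ker ≤ Subgroup.center H := by
      rw [Abelianization.ker_of]
      intro c hc
      rw [Subgroup.mem_center_iff]
      intro g
      have hg : g ∈ Subgroup.centralizer ((commutator H : Subgroup H) : Set H) := by
        rw [hA]; trivial
      exact (Subgroup.mem_centralizer_iff.mp hg c hc).symm
    exact (MonoidHom.isMulCommutative_of_isCyclic_of_ker_le_center _ hker).is_comm.comm u v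
  have hcommG : ∀ u ∈ H, ∀ v ∈ H, u * v = v * u := fun u hu v hv =>
    congrArg Subtype.val (hcomm ⟨u, hu⟩ ⟨v, hv⟩)
  have hcyc : IsCyclic H := by
    let cg : CommGroup H := { (inferInstance : Group H) with mul_comm := hcomm }
    have hn : Group.IsNilpotent H := CommGroup.isNilpotent
    infer_instance
  -- inversion
  have hinvert : ∀ s : G, s • a = b → s • b = a → ∀ h ∈ H, s * h * s⁻¹ = h⁻¹ := by
    intro s hsa hsb
    let I : Subgroup H :=
      { carrier := {y | s * (y : G) * s⁻¹ = (y : G)⁻¹}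
        mul_mem' := fun {u v} hu hv => by
          change s * ((u : G) * v) * s⁻¹ = ((u : G) * v)⁻¹
          have hu' : s * (u : G) * s⁻¹ = (u : G)⁻¹ := hu
          have hv' : s * (v : G) * s⁻¹ = (v : G)⁻¹ := hv
          calc s * ((u : G) * v) * s⁻¹ = (s * (u : G) * s⁻¹) * (s * v * s⁻¹) := by group
            _ = (u : G)⁻¹ * (v : G)⁻¹ := by rw [hu', hv']
            _ = ((v : G) * u)⁻¹ := by group
            _ = ((u : G) * v)⁻¹ := by rw [hcommG v v.2 u u.2]
        one_mem' := by
          change s * ((1 : H) : G) * s⁻¹ = ((1 : H) : G)⁻¹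
          simp
        inv_mem' := fun {u} hu => by
          change s * ((u : G))⁻¹ * s⁻¹ = ((u : G)⁻¹)⁻¹
          have hu' : s * (u : G) * s⁻¹ = (u : G)⁻¹ := hu
          have h1 : s * ((u : G))⁻¹ * s⁻¹ = (s * (u : G) * s⁻¹)⁻¹ := by group
          rw [h1, hu'] }
    have hI : I = ⊤ := by
      apply zs_eq_top_of_sylow
      intro q hq hqd P y hy
      have hcen : ∀ z ∈ H, z ∈ Subgroup.normalizer (((P : Subgroup H).map H.subtype : Subgroup G) : Set G) →
          ∀ w ∈ (P : Subgroup H).map H.subtype, z * w * z⁻¹ = w := by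
        intro z hz _ w hw
        rw [hcommG z hz w (hQle q P hw)]
        group
      obtain ⟨x, hxa, hxb, hxinv⟩ := hinv q hq hqd P hcen
      have hyQ : (y : G) ∈ (P : Subgroup H).map H.subtype := ⟨y, hy, rfl⟩
      have hh : x⁻¹ * s ∈ H := by
        rw [hmemH, mul_smul, mul_smul, hsa, hsb]
        constructor
        · rw [inv_smul_eq_iff, hxa]
        · rw [inv_smul_eq_iff, hxb]
      change s * (y : G) * s⁻¹ = (y : G)⁻¹
      have h1 := hcommG _ hh y y.2
      calc s * (y : G) * s⁻¹ = x * ((x⁻¹ * s) * y) * (x⁻¹ * s)⁻¹ * x⁻¹ := by group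
        _ = x * (y * (x⁻¹ * s)) * (x⁻¹ * s)⁻¹ * x⁻¹ := by rw [h1]
        _ = x * y * x⁻¹ := by group
        _ = (y : G)⁻¹ := hxinv y hyQ
    intro h hh
    have : (⟨h, hh⟩ : H) ∈ I := by rw [hI]; trivial
    exact this
  refine ⟨hcyc, ?_, hinvert⟩
  apply le_antisymm
  · intro x hx
    rw [Subgroup.mem_centralizer_iff] at hx
    obtain ⟨g, hg, hga, hgb⟩ := Zass.exists_ne_one_fix hZ hab
    have hgH : g ∈ H := ⟨hga, hgb⟩
    have hxg : x * g * x⁻¹ = g := by
      have := hx g hgH
      rw [← this]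
      group
    have hc : Commute x g := by
      have h0 : x * g = (x * g * x⁻¹) * x := by group
      rw [hxg] at h0
      exact h0
    have hcz : ∀ k : ℤ, x * g ^ k * x⁻¹ = g ^ k := fun k => by
      rw [(hc.zpow_right k).eq]
      group
    have hxn : x ∈ Subgroup.normalizer ((Subgroup.zpowers g : Subgroup G) : Set G) := by
      rw [Subgroup.mem_normalizer_iff]
      intro h
      constructor
      · rintro ⟨k, rfl⟩
        exact ⟨k, (hcz k).symm⟩
      · rintro ⟨k, hk⟩
        have hk' : g ^ k = x * h * x⁻¹ := hk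
        have h3 : x * g ^ k * x⁻¹ = x * h * x⁻¹ := (hcz k).trans hk'
        have h4 : g ^ k = h := mul_left_cancel (mul_right_cancel h3)
        exact ⟨k, h4⟩
    have hzle : Subgroup.zpowers g ≤ H := by
      rw [Subgroup.zpowers_le]
      exact hgH
    rcases zs_perm_of_normalize hZ hab hzle (Subgroup.mem_zpowers g) hg hxn with ⟨h1, h2⟩ | ⟨h1, h2⟩
    · exact ⟨h1, h2⟩
    · exfalso
      have h3 := hinvert x h1 h2 g hgH
      rw [hxg] at h3
      have h4 : g * g = 1 := by
        nth_rw 1 [h3]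
        group
      have h5 : orderOf g ∣ 2 := orderOf_dvd_of_pow_eq_one (by rw [pow_two, h4])
      have h6 := hoddel g hgH
      have h7 : orderOf g = 1 := by
        rcases (Nat.dvd_prime Nat.prime_two).mp h5 with h | h
        · exact h
        · rw [h] at h6
          exact absurd h6 (by decide)
      exact hg (orderOf_eq_one_iff.mp h7)
  · intro u hu
    rw [Subgroup.mem_centralizer_iff]
    intro v hv
    exact hcommG v hv u hu

end Main

end Cfsg.Agent.Lib.Perm
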