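import Mathlib
import Cfsg.Agent.Lib.Perm.ZFCoords
import Cfsg.Agent.Lib.Perm.ZFMoebius
import Cfsg.Agent.Lib.Perm.ZFForm
import Cfsg.Agent.Lib.Perm.ZassFrob
import Cfsg.Agent.Lib.Perm.ZassOdd

/-!
Zassenhaus groups with `2d = n - 1`: coordinates and identification with `PSL₂`.
-/

set_option autoImplicit false
set_option linter.style.haveILetI false

namespace Cfsg.Agent.Lib.Perm

open MulAction OnePoint Cfsg Cfsg.Agent.Lib.Char

universe u v

variable {G : Type u} {Ω : Type v} [Group G] [Finite G] [MulAction G Ω] [Fintype Ω]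

lemma zq_card_off {a b : Ω} (hab : a ≠ b) : Nat.card {y : Ω // y ≠ a ∧ y ≠ b} + 2 = Fintype.card Ω := by
  classical
  rw [Nat.card_eq_fintype_card]
  have h3 : Fintype.card {y : Ω // y ≠ a ∧ y ≠ b} = (Finset.univ.filter fun y : Ω => y ≠ a ∧ y ≠ b).card :=
    Fintype.card_subtype _
  have h4 : (Finset.univ.filter fun y : Ω => y ≠ a ∧ y ≠ b) = (Finset.univ.erase a).erase b := by
    ext y
    simp
    tauto
  rw [h3, h4, Finset.card_erase_of_mem (by simp [hab.symm]), Finset.card_erase_of_mem (by simp),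
    Finset.card_univ]
  have h6 : 2 ≤ Fintype.card Ω := Fintype.one_lt_card_iff.mpr ⟨a, b, hab⟩
  omega

/-- Coordinates for a Zassenhaus group with `2d + 2 = |Ω|`, abelian kernel and abelian two-point
stabiliser. -/
theorem zq_setup (hZ : IsZassenhausGroup G Ω) {a b c : Ω} (hab : a ≠ b) (hac : a ≠ c) (hbc : b ≠ c)
    {F : Subgroup G} (hcard : Nat.card F + 1 = Fintype.card Ω) (hFa : F ≤ stabilizer G a)
    (hFfix : ∀ u ∈ F, u ≠ 1 → ∀ c : Ω, u • c = c → c = a)
    (hFc : ∀ u ∈ F, ∀ v ∈ F, u * v = v * u)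
    (hHc : ∀ h k : G, h • a = a → h • b = b → k • a = a → k • b = b → h * k = k * h)
    (hd : 2 * Nat.card ↥(stabilizer G a ⊓ stabilizer G b) + 2 = Fintype.card Ω) :
    ∃ (K : Type u) (_ : Field K) (_ : Fintype K) (ρ : OnePoint K ≃ Ω) (Q : Subgroup Kˣ),
      ρ ∞ = a ∧ ρ ((0 : K) : OnePoint K) = b ∧ ρ ((1 : K) : OnePoint K) = c ∧
      Nat.card K + 1 = Fintype.card Ω ∧
      (∀ u ∈ F, ∃ s : K, ∀ x : K, u • ρ (x : OnePoint K) = ρ ((x + s : K) : OnePoint K)) ∧
      (∀ s : K, ∃ u ∈ F, ∀ x : K, u • ρ (x : OnePoint K) = ρ ((x + s : K) : OnePoint K)) ∧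
      Q.index = 2 ∧
      (∀ k : G, k • a = a → k • b = b →
        ∃ r ∈ Q, ∀ x : K, k • ρ (x : OnePoint K) = ρ (((r : K) * x : K) : OnePoint K)) ∧
      (∀ r ∈ Q, ∃ k : G, k • a = a ∧ k • b = b ∧
        ∀ x : K, k • ρ (x : OnePoint K) = ρ (((r : K) * x : K) : OnePoint K)) ∧
      (∀ r ∈ Q, IsSquare (r : K)) ∧ Odd (Nat.card K) := by
  classical
  set H : Subgroup G := stabilizer G a ⊓ stabilizer G b with hH
  have hFreg : ∀ y z : Ω, y ≠ a → z ≠ a → ∃! u : F, (u : G) • y = z := by
    intro y z hy hz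
    obtain ⟨u, hu, huy⟩ := Zass.regular_of_kernel hcard hFa hFfix hy hz
    refine ⟨⟨u, hu⟩, huy, ?_⟩
    rintro ⟨v, hv⟩ hvy
    apply Subtype.ext
    change v = u
    by_contra hne
    have h1 : u⁻¹ * v ≠ 1 := fun h => hne (inv_mul_eq_one.mp h).symm
    refine hy (hFfix _ (F.mul_mem (F.inv_mem hu) hv) h1 y ?_)
    rw [mul_smul, inv_smul_eq_iff]
    exact (show v • y = z from hvy).trans huy.symm
  have hnormal : ∀ k ∈ H, ∀ u ∈ F, k * u * k⁻¹ ∈ F := fun k hk u hu =>
    Zass.conj_mem_kernel hZ hcard hFa hFfix hk.1 hu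
  have hbig : Nat.card Ω ≤ 2 * Nat.card H + 2 := by
    rw [Nat.card_eq_fintype_card]
    omega
  obtain ⟨K, iF, iK, ρ, h1, h2, h3, h4, h5, h6, h7⟩ := zf_coords hab hac hbc F H
    (fun u hu => hFa hu) hFreg hFc (fun k hk => hk.2) (fun k hk l hl => hHc k l hk.1 hk.2 hl.1 hl.2)
    hnormal
    (fun k hk y hya hyb hy => Zass.eq_one_of_three hZ hab (Ne.symm hyb) (Ne.symm hya) hk.1 hk.2 hy) hbig
  rw [Nat.card_eq_fintype_card (α := Ω)] at h4
  let Q : Subgroup Kˣ :=
    { carrier := {r | ∃ k ∈ H, ∀ x : K, k • ρ (x : OnePoint K) = ρ (((r : K) * x : K) : OnePoint K)}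
      one_mem' := ⟨1, H.one_mem, fun x => by simp⟩
      mul_mem' := by
        rintro r s ⟨k, hk, hkr⟩ ⟨l, hl, hls⟩
        refine ⟨k * l, H.mul_mem hk hl, fun x => ?_⟩
        rw [mul_smul, hls, hkr]
        congr 2
        simp [mul_assoc]
      inv_mem' := by
        rintro r ⟨k, hk, hkr⟩
        refine ⟨k⁻¹, H.inv_mem hk, fun x => ?_⟩
        rw [inv_smul_eq_iff, hkr]
        congr 2
        simp }
  have hmemQ : ∀ k : G, k • a = a → k • b = b →
        ∃ r ∈ Q, ∀ x : K, k • ρ (x : OnePoint K) = ρ (((r : K) * x : K) : OnePoint K) := by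
    intro k hka hkb
    obtain ⟨r, hr, hrx⟩ := h7 k ⟨hka, hkb⟩
    exact ⟨Units.mk0 r hr, ⟨k, ⟨hka, hkb⟩, hrx⟩, hrx⟩
  have hcardQ : Nat.card Q = Nat.card H := by
    have hex : ∀ k : H, ∃ r : Q, ∀ x : K, (k : G) • ρ (x : OnePoint K) = ρ ((((r : Kˣ) : K) * x : K) : OnePoint K) := by
      intro k
      obtain ⟨r, hr, hrx⟩ := hmemQ k k.2.1 k.2.2
      exact ⟨⟨r, hr⟩, hrx⟩
    choose f hf using hex
    have hbij : Function.Bijective f := by
      constructor
      · intro k l hkl
        have e : ∀ x : K, (k : G) • ρ (x : OnePoint K) = (l : G) • ρ (x : OnePoint K) := by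
          intro x
          rw [hf, hf, hkl]
        have h8 : (l : G)⁻¹ * k = 1 := by
          apply Zass.eq_one_of_three hZ hab hbc hac
          · rw [mul_smul, (k.2.1 : (k : G) • a = a), inv_smul_eq_iff]
            exact (l.2.1 : (l : G) • a = a).symm
          · rw [mul_smul, (k.2.2 : (k : G) • b = b), inv_smul_eq_iff]
            exact (l.2.2 : (l : G) • b = b).symm
          · rw [mul_smul, ← h3, e, inv_smul_smul]
        exact Subtype.ext (inv_mul_eq_one.mp h8).symm
      · rintro ⟨r, k, hk, hkr⟩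
        refine ⟨⟨k, hk⟩, ?_⟩
        have e := hf ⟨k, hk⟩ 1
        rw [hkr] at e
        have e2 := OnePoint.coe_injective (ρ.injective e)
        simp only [mul_one] at e2
        apply Subtype.ext
        exact Units.ext e2.symm
    exact (Nat.card_congr (Equiv.ofBijective f hbij)).symm
  have hHpos : 0 < Nat.card H := Nat.card_pos
  have hcardK : Nat.card K = 2 * Nat.card H + 1 := by omega
  have hidx : Q.index = 2 := by
    have e := Q.card_mul_index
    rw [Nat.card_units, hcardK, hcardQ] at e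
    have e2 : Nat.card H * Q.index = Nat.card H * 2 := by
      rw [e]
      simp [mul_comm]
    exact Nat.eq_of_mul_eq_mul_left hHpos e2
  have hodd : Odd (Nat.card K) := ⟨Nat.card H, hcardK⟩
  refine ⟨K, iF, iK, ρ, Q, h1, h2, h3, h4, h5, h6, hidx, hmemQ, ?_, ?_, hodd⟩
  · rintro r ⟨k, hk, hkr⟩
    exact ⟨k, hk.1, hk.2, hkr⟩
  · intro r hr
    have hchar : ringChar K ≠ 2 := by
      intro h
      have h9 := (FiniteField.even_card_iff_char_two (F := K)).mp h
      rw [← Nat.card_eq_fintype_card] at h9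
      rw [hcardK] at h9
      omega
    have hpow : r ^ (Fintype.card K / 2) = 1 := by
      have e1 : Fintype.card K / 2 = Nat.card H := by
        rw [← Nat.card_eq_fintype_card, hcardK]
        omega
      rw [e1, ← hcardQ]
      have e2 := pow_card_eq_one' (G := Q) (x := ⟨r, hr⟩)
      exact congrArg Subtype.val e2
    have hsq : IsSquare r := (FiniteField.unit_isSquare_iff hchar r).mpr hpow
    exact hsq.map (Units.coeHom K)

/-- The final step: identification with `PSL₂`. -/
theorem zq_final (hZ : IsZassenhausGroup G Ω) {a b : Ω} (hab : a ≠ b) {F : Subgroup G}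
    (hFa : F ≤ stabilizer G a)
    (hd : 2 * Nat.card ↥(stabilizer G a ⊓ stabilizer G b) + 2 = Fintype.card Ω)
    {K : Type u} [Field K] [Fintype K] (ρ : OnePoint K ≃ Ω) (Q : Subgroup Kˣ)
    (h1 : ρ ∞ = a) (h2 : ρ ((0 : K) : OnePoint K) = b) (h4 : Nat.card K + 1 = Fintype.card Ω)
    (h5 : ∀ u ∈ F, ∃ s : K, ∀ x : K, u • ρ (x : OnePoint K) = ρ ((x + s : K) : OnePoint K))
    (h6 : ∀ s : K, ∃ u ∈ F, ∀ x : K, u • ρ (x : OnePoint K) = ρ ((x + s : K) : OnePoint K))
    (h7 : ∀ k : G, k • a = a → k • b = b →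
        ∃ r ∈ Q, ∀ x : K, k • ρ (x : OnePoint K) = ρ (((r : K) * x : K) : OnePoint K))
    (hsq : ∀ r ∈ Q, IsSquare (r : K)) (hodd : Odd (Nat.card K))
    (J : G) (hJa : J • a = b) (hJb : J • b = a) (c γ : K) (hc : c * γ * γ = -1)
    (hJx : ∀ x : K, x ≠ 0 → J • ρ (x : OnePoint K) = ρ ((c * x⁻¹ : K) : OnePoint K)) :
    ∃ (K' : Type) (_ : Field K') (_ : Fintype K'), Nat.card K' = Nat.card K ∧
      Nonempty (G ≃* Matrix.ProjectiveSpecialLinearGroup (Fin 2) K') := by
  classical
  have hfaith : ∀ g : G, (∀ x : Ω, g • x = x) → g = 1 := by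
    intro g hg
    haveI := hZ.1
    apply FaithfulSMul.eq_of_smul_eq_smul (α := Ω)
    intro x
    rw [hg x, one_smul]
  have hcard : Nat.card G = Nat.card (Matrix.ProjectiveSpecialLinearGroup (Fin 2) K) := by
    have e1 := zs_card hZ hab
    have e2 := Cfsg.Agent.Lib.Classical.card_psl2_odd (F := K) (q := Fintype.card K) rfl
      (by rw [← Nat.card_eq_fintype_card]; exact hodd)
    rw [← Nat.card_eq_fintype_card] at e2
    set q := Nat.card K with hq
    set d := Nat.card ↥(stabilizer G a ⊓ stabilizer G b) with hdd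
    have hq2 : q = 2 * d + 1 := by omega
    have e3 : Fintype.card Ω = q + 1 := h4.symm
    rw [e3] at e1
    have e4 : 2 * Nat.card G = q * (q ^ 2 - 1) := by
      rw [e1]
      have e5 : q ^ 2 - 1 = 2 * d * (q + 1) := by
        have : q ^ 2 = 2 * d * (q + 1) + 1 := by
          rw [hq2]; ring
        omega
      rw [e5]
      simp only [Nat.add_sub_cancel]
      ring
    omega
  obtain ⟨e⟩ := zf_recog_psl (K := K) ρ hfaith hcard F (stabilizer G a ⊓ stabilizer G b) J
    (by rw [h1]; exact fun u hu => hFa hu) h5 h6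
    (by rw [h1, h2]; exact fun g g1 g2 => ⟨g1, g2⟩) (by rw [h1]; exact fun h hh => hh.1)
    (by
      intro k hk
      obtain ⟨r, hr, hrx⟩ := h7 k hk.1 hk.2
      obtain ⟨s, hs⟩ := hsq r hr
      have hs0 : s ≠ 0 := by
        rintro rfl
        rw [mul_zero] at hs
        exact r.ne_zero hs
      refine ⟨s, hs0, fun x => ?_⟩
      rw [hrx, hs])
    c γ hc (by rw [h1, h2]; exact hJa) (by rw [h1, h2]; exact hJb) hJx
  obtain ⟨K', iF, iT, ⟨eK⟩⟩ := zf_type0 K
  exact ⟨K', iF, iT, (Nat.card_congr eK.toEquiv).symm, ⟨e.trans (Cfsg.Agent.Lib.Classical.pslCongr eK)⟩⟩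

/-- When `2d = n - 1` and `d` is even, everything swapping two points is an involution with two
fixed points. -/
theorem zq_swap_all (hZ : IsZassenhausGroup G Ω) {a b : Ω} (hab : a ≠ b)
    (hd : 2 * Nat.card ↥(stabilizer G a ⊓ stabilizer G b) + 2 = Fintype.card Ω)
    {t : G} (hta : t • a = a) (htb : t • b = b) (ht2 : orderOf t = 2) :
    ∀ s : G, s • a = b → s • b = a → s * s = 1 ∧ ∃ z : Ω, z ≠ a ∧ z ≠ b ∧ s • z = z := by
  classical
  letI := Fintype.ofFinite G
  have htt : t * t = 1 := by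
    rw [← pow_two, ← ht2]
    exact pow_orderOf_eq_one t
  have ht1 : t ≠ 1 := by
    rintro rfl
    rw [orderOf_one] at ht2
    omega
  have htinv : t⁻¹ = t := inv_eq_of_mul_eq_one_left htt
  have htfix : ∀ y : Ω, t • y = y → y = a ∨ y = b := by
    intro y hy
    by_contra hcon
    push Not at hcon
    exact ht1 (Zass.eq_one_of_three hZ hab (Ne.symm hcon.2) (Ne.symm hcon.1) hta htb hy)
  have hkey : ∀ z : {y : Ω // y ≠ a ∧ y ≠ b}, ∃ s : G, s • (z : Ω) = z ∧ s • (t • (z : Ω)) = t • (z : Ω) ∧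
      s • a = b ∧ s • b = a ∧ s * s = 1 := by
    rintro ⟨z, hza, hzb⟩
    have hz' : z ≠ t • z := by
      intro h
      rcases htfix z h.symm with h1 | h1
      · exact hza h1
      · exact hzb h1
    have hz'a : t • z ≠ a := by
      intro h
      apply hza
      have : t • (t • z) = z := by rw [← mul_smul, htt, one_smul]
      rw [← this, h, hta]
    have hz'b : t • z ≠ b := by
      intro h
      apply hzb
      have : t • (t • z) = z := by rw [← mul_smul, htt, one_smul]
      rw [← this, h, htb]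
    obtain ⟨g, hga, hgb⟩ := Zass.two_trans hZ hab hz'
    set s := g * t * g⁻¹ with hs
    have hsz : s • z = z := by
      rw [← hga, hs]
      simp only [mul_smul, inv_smul_smul, hta]
    have hsz' : s • (t • z) = t • z := by
      rw [← hgb, hs]
      simp only [mul_smul, inv_smul_smul, htb]
    have hss : s * s = 1 := by
      rw [hs]
      calc g * t * g⁻¹ * (g * t * g⁻¹) = g * (t * t) * g⁻¹ := by group
        _ = 1 := by rw [htt]; group
    have hs1 : s ≠ 1 := by
      intro h
      apply ht1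
      have : t = g⁻¹ * s * g := by rw [hs]; group
      rw [this, h]; group
    have hso : orderOf s = 2 := orderOf_eq_prime (by rw [pow_two]; exact hss) hs1
    -- `t` centralises `s`
    set s' := t * s * t⁻¹ with hs'
    have hs'z : s' • z = z := by
      rw [hs', htinv]
      simp only [mul_smul]
      rw [hsz']
      rw [← mul_smul, htt, one_smul]
    have hs'z' : s' • (t • z) = t • z := by
      rw [hs', htinv]
      simp only [mul_smul]
      have : t • (t • z) = z := by rw [← mul_smul, htt, one_smul]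
      rw [this, hsz]
    have hs's : s' * s' = 1 := by
      rw [hs']
      calc t * s * t⁻¹ * (t * s * t⁻¹) = t * (s * s) * t⁻¹ := by group
        _ = 1 := by rw [hss]; group
    have hs'1 : s' ≠ 1 := by
      intro h
      apply hs1
      have : s = t⁻¹ * s' * t := by rw [hs']; group
      rw [this, h]; group
    have hs'o : orderOf s' = 2 := orderOf_eq_prime (by rw [pow_two]; exact hs's) hs'1
    have heq : s = s' := zf_unique_inv hZ hz' hsz hsz' hso hs'z hs'z' hs'o
    have hcomm : t * s = s * t := by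
      have : s * t = t * s := by
        calc s * t = s' * t := by rw [← heq]
          _ = t * s := by rw [hs']; group
      exact this.symm
    have hsa : s • a = b := by
      have h1 : t • (s • a) = s • a := by
        rw [← mul_smul, hcomm, mul_smul, hta]
      rcases htfix _ h1 with h2 | h2
      · exact absurd (Zass.eq_one_of_three hZ (Ne.symm hza) hz' (Ne.symm hz'a) h2 hsz hsz') hs1
      · exact h2
    have hsb : s • b = a := by
      have h1 : t • (s • b) = s • b := by
        rw [← mul_smul, hcomm, mul_smul, htb]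
      rcases htfix _ h1 with h2 | h2
      · exact h2
      · exfalso
        apply hab
        exact MulAction.injective s (hsa.trans h2.symm)
    exact ⟨s, hsz, hsz', hsa, hsb, hss⟩
  choose ψ hψ1 hψ2 hψ3 hψ4 hψ5 using hkey
  obtain ⟨J₀, hJ0a, hJ0b⟩ := Zass.two_trans hZ hab hab.symm
  let Sw : Finset G := Finset.univ.filter fun s => s • a = b ∧ s • b = a
  have hSw : Sw.card ≤ Nat.card ↥(stabilizer G a ⊓ stabilizer G b) := by
    rw [Nat.card_eq_fintype_card]
    rw [← Fintype.card_coe]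
    refine Fintype.card_le_of_injective (fun s : Sw => (⟨(s : G) * J₀⁻¹, ?_, ?_⟩ : ↥(stabilizer G a ⊓ stabilizer G b))) ?_
    · have hs := (Finset.mem_filter.mp s.2).2
      change ((s : G) * J₀⁻¹) • a = a
      rw [mul_smul]
      have : J₀⁻¹ • a = b := by rw [inv_smul_eq_iff, hJ0b]
      rw [this, hs.2]
    · have hs := (Finset.mem_filter.mp s.2).2
      change ((s : G) * J₀⁻¹) • b = b
      rw [mul_smul]
      have : J₀⁻¹ • b = a := by rw [inv_smul_eq_iff, hJ0a]
      rw [this, hs.1]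
    · intro s s' h
      have h1 : (s : G) * J₀⁻¹ = (s' : G) * J₀⁻¹ := congrArg Subtype.val h
      exact Subtype.ext (mul_right_cancel h1)
  let X : Finset {y : Ω // y ≠ a ∧ y ≠ b} := Finset.univ
  have hXcard : X.card = 2 * Nat.card ↥(stabilizer G a ⊓ stabilizer G b) := by
    have e := zq_card_off hab
    rw [Nat.card_eq_fintype_card] at e
    rw [Finset.card_univ]
    omega
  have hfib : ∀ s ∈ X.image ψ, (X.filter fun z => ψ z = s).card ≤ 2 := by
    intro s hs
    obtain ⟨z, -, rfl⟩ := Finset.mem_image.mp hs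
    have hz' : (z : Ω) ≠ t • (z : Ω) := by
      intro h
      rcases htfix z h.symm with h1 | h1
      · exact z.2.1 h1
      · exact z.2.2 h1
    have hz'a : t • (z : Ω) ≠ a := by
      intro h
      apply z.2.1
      have : t • (t • (z : Ω)) = z := by rw [← mul_smul, htt, one_smul]
      rw [← this, h, hta]
    have hz'b : t • (z : Ω) ≠ b := by
      intro h
      apply z.2.2
      have : t • (t • (z : Ω)) = z := by rw [← mul_smul, htt, one_smul]
      rw [← this, h, htb]
    have hsub : (X.filter fun w => ψ w = ψ z) ⊆ {z, ⟨t • (z : Ω), hz'a, hz'b⟩} := by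
      intro w hw
      have hw' : ψ w = ψ z := (Finset.mem_filter.mp hw).2
      by_contra hne
      simp only [Finset.mem_insert, Finset.mem_singleton, not_or] at hne
      have h3 : (w : Ω) ≠ z := fun h => hne.1 (Subtype.ext h)
      have h4 : (w : Ω) ≠ t • z := fun h => hne.2 (Subtype.ext h)
      have hfixw : ψ z • (w : Ω) = w := by rw [← hw']; exact hψ1 w
      have h5 := Zass.eq_one_of_three hZ hz' (Ne.symm h4) (Ne.symm h3) (hψ1 z) (hψ2 z) hfixw
      have h6 := hψ3 z
      rw [h5, one_smul] at h6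
      exact hab h6
    calc _ ≤ ({z, ⟨t • (z : Ω), hz'a, hz'b⟩} : Finset {y : Ω // y ≠ a ∧ y ≠ b}).card := Finset.card_le_card hsub
      _ ≤ 2 := Finset.card_le_two
  have hle := Finset.card_le_mul_card_image X 2 hfib
  have himg : X.image ψ = Sw := by
    apply Finset.eq_of_subset_of_card_le
    · intro s hs
      obtain ⟨z, -, rfl⟩ := Finset.mem_image.mp hs
      exact Finset.mem_filter.mpr ⟨Finset.mem_univ _, hψ3 z, hψ4 z⟩
    · omega
  intro s hsa hsb
  have hs : s ∈ Sw := Finset.mem_filter.mpr ⟨Finset.mem_univ _, hsa, hsb⟩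
  rw [← himg] at hs
  obtain ⟨z, -, rfl⟩ := Finset.mem_image.mp hs
  exact ⟨hψ5 z, z, z.2.1, z.2.2, hψ1 z⟩

end Cfsg.Agent.Lib.Perm
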