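import Mathlib
import Cfsg.Agent.Lib.Perm.ZFZass

/-!
Zassenhaus groups with even two-point stabiliser of order `(n-1)/2` are `PSL₂(n)`.
-/

set_option autoImplicit false
set_option linter.style.haveILetI false

namespace Cfsg.Agent.Lib.Perm

open MulAction OnePoint Cfsg Cfsg.Agent.Lib.Char

universe u v

variable {G : Type u} {Ω : Type v} [Group G] [Finite G] [MulAction G Ω] [Fintype Ω]

theorem zq_even_psl (hZ : IsZassenhausGroup G Ω) {a b : Ω} (hab : a ≠ b)
    (heven : Even (Nat.card ↥(stabilizer G a ⊓ stabilizer G b)))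
    (hd : 2 * Nat.card ↥(stabilizer G a ⊓ stabilizer G b) + 2 = Fintype.card Ω) :
    ∃ (K' : Type) (_ : Field K') (_ : Fintype K'), Nat.card K' + 1 = Fintype.card Ω ∧
      Nonempty (G ≃* Matrix.ProjectiveSpecialLinearGroup (Fin 2) K') := by
  classical
  have hp2 : Fact (Nat.Prime 2) := ⟨Nat.prime_two⟩
  obtain ⟨t', ht'⟩ := exists_prime_orderOf_dvd_card' (G := ↥(stabilizer G a ⊓ stabilizer G b)) 2
    heven.two_dvd
  set t : G := (t' : G) with ht
  have hto : orderOf t = 2 := by rw [ht, Subgroup.orderOf_coe]; exact ht'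
  have hta : t • a = a := t'.2.1
  have htb : t • b = b := t'.2.2
  have htt : t * t = 1 := by
    rw [← pow_two, ← hto]
    exact pow_orderOf_eq_one t
  have ht1 : t ≠ 1 := by
    intro h
    rw [h, orderOf_one] at hto
    omega
  obtain ⟨F, hcard, hFa, hFfix⟩ := zf_kernel hZ hab
  obtain ⟨-, hFc, -⟩ := zf_invert hZ hab hcard hFa hFfix hta htb hto
  obtain ⟨J, hJa, hJb⟩ := Zass.two_trans hZ hab hab.symm
  have hsw := zq_swap_all hZ hab hd hta htb hto
  obtain ⟨hJJ, c, hca, hcb, hJc⟩ := hsw J hJa hJb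
  have hJi : J⁻¹ = J := inv_eq_of_mul_eq_one_left hJJ
  have hJinv : ∀ h : G, h • a = a → h • b = b → J * h * J⁻¹ = h⁻¹ := by
    intro h hha hhb
    have h1 := (hsw (h * J) (by rw [mul_smul, hJa, hhb]) (by rw [mul_smul, hJb, hha])).1
    rw [hJi]
    have h2 : h * (J * h * J) = 1 := by
      calc h * (J * h * J) = h * J * (h * J) := by group
        _ = 1 := h1
    exact eq_inv_of_mul_eq_one_right h2
  have hHc : ∀ h k : G, h • a = a → h • b = b → k • a = a → k • b = b → h * k = k * h := by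
    intro h k hha hhb hka hkb
    have h1 := hJinv (h * k) (by rw [mul_smul, hka, hha]) (by rw [mul_smul, hkb, hhb])
    have h2 : J * (h * k) * J⁻¹ = (J * h * J⁻¹) * (J * k * J⁻¹) := by group
    rw [h2, hJinv h hha hhb, hJinv k hka hkb, mul_inv_rev] at h1
    -- `h⁻¹ * k⁻¹ = k⁻¹ * h⁻¹`
    have h3 : (h⁻¹ * k⁻¹)⁻¹ = (k⁻¹ * h⁻¹)⁻¹ := by rw [h1]
    simpa using h3.symm
  obtain ⟨K, iF, iK, ρ, Q, h1, h2, h3, h4, h5, h6, hidx, hmemQ, hQk, hsq, hodd⟩ :=
    zq_setup hZ hab hca.symm hcb.symm hcard hFa hFfix hFc hHc hd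
  -- `-1` lies in `Q`, acting as the involution `t`
  obtain ⟨r₀, hr₀, htr⟩ := hmemQ t hta htb
  have hr₀1 : (r₀ : K) * r₀ = 1 := by
    have e3 : t • (t • ρ ((1 : K) : OnePoint K)) = ρ ((1 : K) : OnePoint K) := by
      rw [← mul_smul, htt, one_smul]
    rw [htr, htr] at e3
    have e4 := OnePoint.coe_injective (ρ.injective e3)
    simpa using e4
  have hr₀ne : (r₀ : K) ≠ 1 := by
    intro h
    apply ht1
    apply Zass.eq_one_of_three hZ hab hcb.symm hca.symm hta htb
    have e := htr 1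
    rw [h, mul_one, h3] at e
    exact e
  have hr₀m : r₀ = -1 := by
    apply Units.ext
    have e : ((r₀ : K) - 1) * ((r₀ : K) + 1) = 0 := by linear_combination hr₀1
    rcases mul_eq_zero.mp e with e1 | e1
    · exact absurd (sub_eq_zero.mp e1) hr₀ne
    · push_cast
      linear_combination e1
  have hm1 : (-1 : Kˣ) ∈ Q := hr₀m ▸ hr₀
  have htneg : ∀ x : K, t • ρ (x : OnePoint K) = ρ ((-x : K) : OnePoint K) := by
    intro x
    rw [htr, hr₀m]
    simp
  -- coordinates of `J`
  let j : OnePoint K → OnePoint K := fun p => ρ.symm (J • ρ p)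
  have hj : ∀ p, ρ (j p) = J • ρ p := fun p => ρ.apply_symm_apply _
  have hji : j ∞ = ((0 : K) : OnePoint K) := by
    apply ρ.injective
    rw [hj, h1, h2, hJa]
  have hj0 : j ((0 : K) : OnePoint K) = ∞ := by
    apply ρ.injective
    rw [hj, h1, h2, hJb]
  have hj1 : j ((1 : K) : OnePoint K) = ((1 : K) : OnePoint K) := by
    apply ρ.injective
    rw [hj, h3, hJc]
  have hjj : ∀ p, j (j p) = p := by
    intro p
    apply ρ.injective
    rw [hj, hj, ← mul_smul, hJJ, one_smul]
  have hmul : ∀ r ∈ Q, ∀ x y : K, x ≠ 0 → j (x : OnePoint K) = (y : OnePoint K) →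
      j (((r : K) * x : K) : OnePoint K) = ((((r⁻¹ : Kˣ) : K) * y : K) : OnePoint K) := by
    intro r hr x y _ hxy
    obtain ⟨k, hka, hkb, hk⟩ := hQk r hr
    apply ρ.injective
    rw [hj, ← hk]
    have e3 : J * k = k⁻¹ * J := by
      have := hJinv k hka hkb
      calc J * k = (J * k * J⁻¹) * J := by group
        _ = k⁻¹ * J := by rw [this]
    rw [← mul_smul, e3, mul_smul, ← hj, hxy, inv_smul_eq_iff, hk]
    congr 2
    simp
  -- the element of order three
  obtain ⟨u₁, hu₁, hu₁x⟩ := h6 1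
  let τ : G := u₁ * t
  have hτ : ∀ p : OnePoint K, τ • ρ p = ρ (zfTau p) := by
    intro p
    induction p using OnePoint.rec with
    | infty =>
      simp only [τ, zfTau_infty]
      rw [h1, mul_smul, hta]
      exact hFa hu₁
    | coe x =>
      simp only [τ, zfTau_coe]
      rw [mul_smul, htneg, hu₁x]
      congr 2
      ring
  let y : G := J * τ
  have hy : ∀ p : OnePoint K, y • ρ p = ρ (j (zfTau p)) := by
    intro p
    simp only [y]
    rw [mul_smul, hτ, hj]
  have hy3 : y * y * y = 1 := by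
    have ea : y • ρ ∞ = ρ ((0 : K) : OnePoint K) := by
      rw [hy, zfTau_infty, hji]
    have eb : y • ρ ((0 : K) : OnePoint K) = ρ ((1 : K) : OnePoint K) := by
      rw [hy, zfTau_coe, sub_zero, hj1]
    have ec : y • ρ ((1 : K) : OnePoint K) = ρ ∞ := by
      rw [hy, zfTau_coe, sub_self, hj0]
    apply Zass.eq_one_of_three hZ hab hcb.symm hca.symm
    · rw [← h1]
      simp only [mul_smul]
      rw [ea, eb, ec]
    · rw [← h2]
      simp only [mul_smul]
      rw [eb, ec, ea]
    · rw [← h3]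
      simp only [mul_smul]
      rw [ec, ea, eb]
  have hj3 : ∀ p, j (zfTau (j (zfTau (j (zfTau p))))) = p := by
    intro p
    apply ρ.injective
    have e : (y * y * y) • ρ p = ρ p := by rw [hy3, one_smul]
    simp only [mul_smul] at e
    rw [hy, hy, hy] at e
    exact e
  have hform := zf_jform Q hidx hm1 j hji hj0 hj1 hjj hmul hj3
  obtain ⟨γ, hγ⟩ := hsq (-1) hm1
  have hγ' : (1 : K) * γ * γ = -1 := by
    rw [one_mul, ← hγ]
    simp
  obtain ⟨K', iF', iT', hK', hiso⟩ := zq_final hZ hab hFa hd ρ Q h1 h2 h4 h5 h6 hmemQ hsq hodd J hJa hJb 1 γ hγ'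
    (fun x hx => by
      rw [one_mul, ← hj, hform x hx])
  exact ⟨K', iF', iT', by rw [hK']; exact h4, hiso⟩

end Cfsg.Agent.Lib.Perm
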