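import Mathlib
import Cfsg.Agent.Lib.Perm.ZFForm

/-!
Multiplications, and semilinear maps normalising a subgroup of index two.
-/

set_option autoImplicit false
set_option linter.style.haveILetI false

namespace Cfsg.Agent.Lib.Perm

open OnePoint

universe u v w

theorem zf_mult_subgroup {G : Type u} {Ω : Type v} [Group G] [Finite G] [MulAction G Ω] {K : Type w}
    [Field K] [Fintype K] (ρ : OnePoint K ≃ Ω) (A : Subgroup G)
    (hA : ∀ k ∈ A, ∃ r : K, r ≠ 0 ∧ ∀ x : K, k • ρ (x : OnePoint K) = ρ ((r * x : K) : OnePoint K))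
    (hfree : ∀ k ∈ A, ∀ l ∈ A, (∀ x : K, k • ρ (x : OnePoint K) = l • ρ (x : OnePoint K)) → k = l) :
    ∃ Q : Subgroup Kˣ, Nat.card Q = Nat.card A ∧
      (∀ k ∈ A, ∃ r ∈ Q, ∀ x : K, k • ρ (x : OnePoint K) = ρ (((r : K) * x : K) : OnePoint K)) ∧
      (∀ r ∈ Q, ∃ k ∈ A, ∀ x : K, k • ρ (x : OnePoint K) = ρ (((r : K) * x : K) : OnePoint K)) := by
  classical
  let Q : Subgroup Kˣ :=
    { carrier := {r | ∃ k ∈ A, ∀ x : K, k • ρ (x : OnePoint K) = ρ (((r : K) * x : K) : OnePoint K)}
      one_mem' := ⟨1, A.one_mem, fun x => by simp⟩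
      mul_mem' := by
        rintro r s ⟨k, hk, hkr⟩ ⟨l, hl, hls⟩
        refine ⟨k * l, A.mul_mem hk hl, fun x => ?_⟩
        rw [mul_smul, hls, hkr]
        congr 2
        simp [mul_assoc]
      inv_mem' := by
        rintro r ⟨k, hk, hkr⟩
        refine ⟨k⁻¹, A.inv_mem hk, fun x => ?_⟩
        rw [inv_smul_eq_iff, hkr]
        congr 2
        simp }
  have hmemQ : ∀ k ∈ A, ∃ r ∈ Q, ∀ x : K, k • ρ (x : OnePoint K) = ρ (((r : K) * x : K) : OnePoint K) := by
    intro k hk
    obtain ⟨r, hr, hrx⟩ := hA k hk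
    exact ⟨Units.mk0 r hr, ⟨k, hk, hrx⟩, hrx⟩
  refine ⟨Q, ?_, hmemQ, fun r hr => hr⟩
  have hex : ∀ k : A, ∃ r : Q, ∀ x : K, (k : G) • ρ (x : OnePoint K) = ρ ((((r : Kˣ) : K) * x : K) : OnePoint K) := by
    intro k
    obtain ⟨r, hr, hrx⟩ := hmemQ k k.2
    exact ⟨⟨r, hr⟩, hrx⟩
  choose f hf using hex
  have hbij : Function.Bijective f := by
    constructor
    · intro k l hkl
      exact Subtype.ext (hfree k k.2 l l.2 (fun x => by rw [hf, hf, hkl]))
    · rintro ⟨r, k, hk, hkr⟩
      refine ⟨⟨k, hk⟩, ?_⟩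
      have e := hf ⟨k, hk⟩ 1
      rw [hkr] at e
      have e2 := OnePoint.coe_injective (ρ.injective e)
      simp only [mul_one] at e2
      apply Subtype.ext
      exact Units.ext e2.symm
  exact (Nat.card_congr (Equiv.ofBijective f hbij)).symm

variable {K : Type u} [Field K] [Fintype K]

/-- An additive map normalising an index two subgroup of multiplications, whose square is a
multiplication, is linear unless the field has square order. -/
theorem zf_semilinear (hc : (2 : K) ≠ 0) (Q : Subgroup Kˣ) (hQ : Q.index = 2) (S : K → K)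
    (hadd : ∀ x y, S (x + y) = S x + S y) (h1 : S 1 ≠ 0)
    (hmul : ∀ r ∈ Q, ∃ r' : K, ∀ x, S ((r : K) * x) = r' * S x)
    (hsq : ∃ r₀ : K, ∀ x, S (S x) = r₀ * x)
    (hns : ¬ ∃ m : ℕ, Nat.card K = m ^ 2) :
    ∀ r ∈ Q, ∀ x, S ((r : K) * x) = r * S x := by
  classical
  set w := S 1 with hw
  have hS0 : S 0 = 0 := by
    have := hadd 0 0
    rw [add_zero] at this
    linear_combination -this
  have hSneg : ∀ x, S (-x) = - S x := by
    intro x
    have := hadd x (-x)
    rw [add_neg_cancel, hS0] at this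
    linear_combination -this
  let α : K → K := fun x => S x / w
  have hαdef : ∀ x, S x = α x * w := fun x => by
    simp only [α]
    field_simp
  -- additive closure of `Q`
  let W : AddSubgroup K := AddSubgroup.closure ((fun u : Kˣ => (u : K)) '' (Q : Set Kˣ))
  have hW : W = ⊤ := by
    by_contra hne
    have hidx : W.index ≠ 1 := fun h => hne (AddSubgroup.index_eq_one.mp h)
    have hidx0 : W.index ≠ 0 := AddSubgroup.index_ne_zero_of_finite
    have h2 : 2 ≤ W.index := by omega
    have hcard : Nat.card W * W.index = Nat.card K := W.card_mul_index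
    have hQc : 2 * Nat.card Q + 1 = Nat.card K := by
      have h3 := Q.card_mul_index
      rw [hQ, Nat.card_units] at h3
      have : 2 ≤ Nat.card K := Finite.one_lt_card
      omega
    have hsub : insert (0 : K) ((fun u : Kˣ => (u : K)) '' (Q : Set Kˣ)) ⊆ (W : Set K) := by
      intro y hy
      rcases hy with rfl | hy
      · exact W.zero_mem
      · exact AddSubgroup.subset_closure hy
    have hle := Set.ncard_le_ncard hsub (Set.toFinite _)
    have h0 : (0 : K) ∉ ((fun u : Kˣ => (u : K)) '' (Q : Set Kˣ)) := by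
      rintro ⟨u, -, hu⟩
      exact u.ne_zero hu
    rw [Set.ncard_insert_of_notMem h0 (Set.toFinite _),
      Set.InjOn.ncard_image (fun a _ b _ h => Units.ext h)] at hle
    have e1 : (Q : Set Kˣ).ncard = Nat.card Q := (Nat.card_coe_set_eq _).symm
    have e2 : (W : Set K).ncard = Nat.card W := (Nat.card_coe_set_eq _).symm
    rw [e1, e2] at hle
    nlinarith
  have hr' : ∀ r ∈ Q, ∀ x, S ((r : K) * x) = α (r : K) * S x := by
    intro r hr x
    obtain ⟨r', hrx⟩ := hmul r hr
    have h3 := hrx 1
    rw [mul_one, hαdef] at h3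
    have h4 : α (r : K) = r' := mul_right_cancel₀ h1 h3
    rw [hrx, h4]
  have hall : ∀ z x, S (z * x) = α z * S x := by
    intro z
    have hz : z ∈ W := by rw [hW]; trivial
    induction hz using AddSubgroup.closure_induction with
    | mem y hy =>
      obtain ⟨u, hu, rfl⟩ := hy
      exact hr' u hu
    | zero =>
      intro x
      simp only [α]
      rw [zero_mul, hS0]
      simp
    | add y y' _ _ ih ih' =>
      intro x
      simp only [α] at ih ih' ⊢
      rw [add_mul, hadd, ih, ih', hadd]
      ring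
    | neg y _ ih =>
      intro x
      simp only [α] at ih ⊢
      rw [neg_mul, hSneg, ih, hSneg]
      ring
  have hαone : α 1 = 1 := div_self h1
  let αh : K →+* K :=
    { toFun := α
      map_one' := hαone
      map_zero' := by simp only [α]; rw [hS0]; simp
      map_add' := fun x y => by
        simp only [α]
        rw [hadd]
        ring
      map_mul' := fun x y => by
        simp only [α]
        rw [hall]
        ring }
  have hαa : ∀ x, αh x = α x := fun _ => rfl
  obtain ⟨r₀, hr₀⟩ := hsq
  have hαα : ∀ x, αh (αh x) = x := by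
    intro x
    have e1 : ∀ y, S (S y) = αh w * w * αh (αh y) := by
      intro y
      rw [hαdef y, hall]
      rw [hαdef w]
      simp only [hαa]
      ring
    have e2 := e1 1
    rw [hr₀, mul_one, map_one, map_one, mul_one] at e2
    have e3 := e1 x
    rw [hr₀, e2] at e3
    have hne : αh w * w ≠ 0 := mul_ne_zero ((map_ne_zero αh).mpr h1) h1
    exact (mul_left_cancel₀ hne e3).symm
  have hid : ∀ x, αh x = x := by
    by_contra hcon
    push Not at hcon
    exact hns (zf_card_sq_of_invol hc αh hαα hcon)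
  intro r hr x
  rw [hr' r hr x]
  rw [← hαa, hid]

end Cfsg.Agent.Lib.Perm
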