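import Mathlib
import Cfsg.Agent.Lib.Perm.Sharp2
import Cfsg.Agent.Lib.Perm.Sharp3
import Cfsg.Agent.Lib.Perm.ZFCoords
import Cfsg.Agent.Lib.Perm.ZFMoebius
import Cfsg.Agent.Lib.Perm.ZFForm

/-!
Sharply triply transitive groups: basic structure and coordinates.
-/

set_option autoImplicit false
set_option linter.style.haveILetI false

namespace Cfsg.Agent.Lib.Perm

open MulAction OnePoint

universe u v

/-- Sharp triple transitivity, element form. -/
structure Sh3 (G : Type u) (Ω : Type v) [Group G] [MulAction G Ω] : Prop where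
  trans : ∀ a b c a' b' c' : Ω, a ≠ b → a ≠ c → b ≠ c → a' ≠ b' → a' ≠ c' → b' ≠ c' →
    ∃ g : G, g • a = a' ∧ g • b = b' ∧ g • c = c'
  fix : ∀ (g : G) (a b c : Ω), a ≠ b → a ≠ c → b ≠ c → g • a = a → g • b = b → g • c = c → g = 1

theorem sh3_of_subgroup {α : Type u} [Fintype α] [DecidableEq α] {G : Subgroup (Equiv.Perm α)}
    (h3 : IsMultiplyPretransitive G α 3) (hsharp : ∀ x : Fin 3 ↪ α, stabilizer G x = ⊥) :
    Sh3 G α := by
  constructor
  · intro a b c a' b' c' hab hac hbc hab' hac' hbc'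
    obtain ⟨g, hg⟩ := h3.exists_smul_eq (mk3 a b c hab hac hbc) (mk3 a' b' c' hab' hac' hbc')
    refine ⟨g, ?_, ?_, ?_⟩
    · exact congrArg (fun f : Fin 3 ↪ α => f 0) hg
    · exact congrArg (fun f : Fin 3 ↪ α => f 1) hg
    · exact congrArg (fun f : Fin 3 ↪ α => f 2) hg
  · intro g a b c hab hac hbc ha hb hc
    exact sharp3_eq_of_agree hsharp g 1 a b c hab hac hbc (by simpa using ha) (by simpa using hb)
      (by simpa using hc)

theorem sh3_card {α : Type u} [Fintype α] [DecidableEq α] {G : Subgroup (Equiv.Perm α)}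
    (h3 : IsMultiplyPretransitive G α 3) (hsharp : ∀ x : Fin 3 ↪ α, stabilizer G x = ⊥)
    (x : Fin 3 ↪ α) : Nat.card G = (Fintype.card α).descFactorial 3 := by
  classical
  have hb : Function.Bijective (fun g : G => g • x) := by
    constructor
    · intro g h hgh
      have key : ∀ i, g • x i = h • x i := fun i => congrArg (fun f : Fin 3 ↪ α => f i) hgh
      have hne : ∀ i j : Fin 3, i ≠ j → x i ≠ x j := fun i j hij h' => hij (x.injective h')
      exact sharp3_eq_of_agree hsharp g h (x 0) (x 1) (x 2) (hne _ _ (by decide)) (hne _ _ (by decide))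
        (hne _ _ (by decide)) (key 0) (key 1) (key 2)
    · intro y
      exact h3.exists_smul_eq x y
  rw [Nat.card_congr (Equiv.ofBijective _ hb), Nat.card_eq_fintype_card, Fintype.card_embedding_eq]
  simp

section

variable {G : Type u} {Ω : Type v} [Group G] [Finite G] [MulAction G Ω] [Fintype Ω]

/-- The kernel of a point stabiliser of a sharply triply transitive group. -/
theorem sh3_kernel (hS : Sh3 G Ω) (a : Ω) (h3 : 3 ≤ Fintype.card Ω) :
    ∃ (F : Subgroup G) (p j : ℕ), p.Prime ∧ 1 ≤ j ∧ Fintype.card Ω = p ^ j + 1 ∧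
      (∀ u ∈ F, u • a = a) ∧ (∀ g : G, g • a = a → ∀ u ∈ F, g * u * g⁻¹ ∈ F) ∧
      (∀ u ∈ F, ∀ v ∈ F, u * v = v * u) ∧ (∀ u ∈ F, u ^ p = 1) ∧
      (∀ y z : Ω, y ≠ a → z ≠ a → ∃! u : F, (u : G) • y = z) := by
  classical
  let G' := stabilizer G a
  let Ω' := {x : Ω // x ≠ a}
  letI act : MulAction G' Ω' :=
    { smul := fun g x => ⟨(g : G) • (x : Ω), by
        intro h
        apply x.2
        apply MulAction.injective (g : G)
        change (g : G) • (x : Ω) = (g : G) • a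
        rw [h]
        exact g.2.symm⟩
      one_smul := fun x => Subtype.ext (one_smul G (x : Ω))
      mul_smul := fun g h x => Subtype.ext (mul_smul (g : G) (h : G) (x : Ω)) }
  have hact : ∀ (g : G') (x : Ω'), ((g • x : Ω') : Ω) = (g : G) • (x : Ω) := fun _ _ => rfl
  have hcard' : Fintype.card Ω' = Fintype.card Ω - 1 := by
    rw [Fintype.card_subtype_compl, Fintype.card_subtype_eq]
  haveI : Nontrivial Ω' := by
    rw [← Fintype.one_lt_card_iff_nontrivial, hcard']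
    omega
  have h2 : ∀ x y u v : Ω', x ≠ y → u ≠ v → ∃ g : G', g • x = u ∧ g • y = v := by
    intro x y u v hxy huv
    obtain ⟨g, h1, h2', h3'⟩ := hS.trans a x y a u v x.2.symm y.2.symm
      (fun h => hxy (Subtype.ext h)) u.2.symm v.2.symm (fun h => huv (Subtype.ext h))
    exact ⟨⟨g, h1⟩, Subtype.ext h2', Subtype.ext h3'⟩
  have hs : ∀ (g : G') (x y : Ω'), x ≠ y → g • x = x → g • y = y → g = 1 := by
    intro g x y hxy hx hy
    have := hS.fix g a x y x.2.symm y.2.symm (fun h => hxy (Subtype.ext h)) g.2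
      (congrArg Subtype.val hx) (congrArg Subtype.val hy)
    exact Subtype.ext this
  obtain ⟨F', p, j, hp, hj, hcardj, hFn, hFc, hFp, hFm, hFt, -, -⟩ := sharp2_structure h2 hs
  refine ⟨F'.map G'.subtype, p, j, hp, hj, by omega, ?_, ?_, ?_, ?_, ?_⟩
  · rintro _ ⟨u, -, rfl⟩
    exact u.2
  · rintro g hg _ ⟨u, hu, rfl⟩
    exact ⟨⟨g, hg⟩ * u * ⟨g, hg⟩⁻¹, hFn.conj_mem u hu _, rfl⟩
  · rintro _ ⟨u, hu, rfl⟩ _ ⟨v, hv, rfl⟩
    exact congrArg Subtype.val (hFc u hu v hv)
  · rintro _ ⟨u, hu, rfl⟩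
    exact congrArg Subtype.val (hFp u hu)
  · intro y z hy hz
    obtain ⟨t, ht, hty⟩ := hFt ⟨y, hy⟩ ⟨z, hz⟩
    refine ⟨⟨t, t, ht, rfl⟩, congrArg Subtype.val hty, ?_⟩
    rintro ⟨_, w, hw, rfl⟩ hwy
    apply Subtype.ext
    change (w : G) = (t : G)
    have h4 : t⁻¹ * w ∈ F' := F'.mul_mem (F'.inv_mem ht) hw
    rcases (hFm _).mp h4 with h5 | h5
    · exact congrArg Subtype.val (inv_mul_eq_one.mp h5).symm
    · exfalso
      apply h5 ⟨y, hy⟩
      apply Subtype.ext
      change ((t : G)⁻¹ * (w : G)) • y = y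
      rw [mul_smul, inv_smul_eq_iff]
      exact hwy.trans (congrArg Subtype.val hty).symm

/-- An element fixing two points and normalising the kernel inverts it, if it is an involution. -/
theorem sh3_invert (hS : Sh3 G Ω) {a b : Ω} (hab : a ≠ b) {F : Subgroup G}
    (hFa : ∀ u ∈ F, u • a = a) (hFn : ∀ g : G, g • a = a → ∀ u ∈ F, g * u * g⁻¹ ∈ F)
    (hfree : ∀ u ∈ F, u • b = b → u = 1)
    {t : G} (hta : t • a = a) (htb : t • b = b) (ht1 : t ≠ 1) (ht2 : t * t = 1) :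
    ∀ u ∈ F, t * u * t⁻¹ = u⁻¹ := by
  classical
  have hnorm : ∀ u ∈ F, t * u * t⁻¹ ∈ F := hFn t hta
  let φ : F →* F :=
    { toFun := fun u => ⟨t * u * t⁻¹, hnorm u u.2⟩
      map_one' := by
        apply Subtype.ext
        simp
      map_mul' := fun u v => by
        apply Subtype.ext
        simp only [Subgroup.coe_mul]
        group }
  have hφ : ∀ u : F, ((φ u : F) : G) = t * u * t⁻¹ := fun u => rfl
  have hfpf : MonoidHom.FixedPointFree φ := by
    intro u hu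
    by_contra hu1
    have hu1' : (u : G) ≠ 1 := fun h => hu1 (Subtype.ext h)
    have hcomm : t * u * t⁻¹ = u := congrArg Subtype.val hu
    have hub : (u : G) • b ≠ b := fun h => hu1' (hfree u u.2 h)
    have hua : (u : G) • a = a := hFa u u.2
    have huba : (u : G) • b ≠ a := by
      intro h
      exact hab (MulAction.injective (u : G) (hua.trans h.symm))
    have htub : t • ((u : G) • b) = (u : G) • b := by
      have : t * u = u * t := by
        calc t * u = (t * u * t⁻¹) * t := by group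
          _ = u * t := by rw [hcomm]
      rw [← mul_smul, this, mul_smul, htb]
    exact ht1 (hS.fix t a b _ hab (Ne.symm huba) (Ne.symm hub) hta htb htub)
  have hinvol : Function.Involutive φ := by
    intro u
    apply Subtype.ext
    rw [hφ, hφ]
    calc t * (t * (u : G) * t⁻¹) * t⁻¹ = (t * t) * u * (t * t)⁻¹ := by group
      _ = u := by rw [ht2]; group
  have hinv := hfpf.coe_eq_inv_of_involutive hinvol
  intro u hu
  have := congrFun hinv ⟨u, hu⟩
  exact congrArg Subtype.val this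

/-- Coordinates for a sharply triply transitive group with abelian two-point stabiliser. -/
theorem sh3_coords (hS : Sh3 G Ω) {a b c : Ω} (hab : a ≠ b) (hac : a ≠ c) (hbc : b ≠ c)
    {F : Subgroup G} (hFa : ∀ u ∈ F, u • a = a) (hFn : ∀ g : G, g • a = a → ∀ u ∈ F, g * u * g⁻¹ ∈ F)
    (hFc : ∀ u ∈ F, ∀ v ∈ F, u * v = v * u)
    (hFreg : ∀ y z : Ω, y ≠ a → z ≠ a → ∃! u : F, (u : G) • y = z)
    (hHc : ∀ h k : G, h • a = a → h • b = b → k • a = a → k • b = b → h * k = k * h) :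
    ∃ (K : Type u) (_ : Field K) (_ : Fintype K) (ρ : OnePoint K ≃ Ω),
      ρ ∞ = a ∧ ρ ((0 : K) : OnePoint K) = b ∧ ρ ((1 : K) : OnePoint K) = c ∧
      Nat.card K + 1 = Nat.card Ω ∧
      (∀ u ∈ F, ∃ s : K, ∀ x : K, u • ρ (x : OnePoint K) = ρ ((x + s : K) : OnePoint K)) ∧
      (∀ s : K, ∃ u ∈ F, ∀ x : K, u • ρ (x : OnePoint K) = ρ ((x + s : K) : OnePoint K)) ∧
      (∀ k : G, k • a = a → k • b = b →
        ∃ r : K, r ≠ 0 ∧ ∀ x : K, k • ρ (x : OnePoint K) = ρ ((r * x : K) : OnePoint K)) ∧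
      (∀ r : K, r ≠ 0 → ∃ k : G, k • a = a ∧ k • b = b ∧
        ∀ x : K, k • ρ (x : OnePoint K) = ρ ((r * x : K) : OnePoint K)) := by
  classical
  let H : Subgroup G := stabilizer G a ⊓ stabilizer G b
  have hmem : ∀ k : G, k ∈ H ↔ k • a = a ∧ k • b = b := fun k => Iff.rfl
  have hHtrans : ∀ y, y ≠ a → y ≠ b → ∃ k ∈ H, k • c = y := by
    intro y hya hyb
    obtain ⟨g, h1, h2, h3⟩ := hS.trans a b c a b y hab hac hbc hab (Ne.symm hya) (Ne.symm hyb)
    exact ⟨g, ⟨h1, h2⟩, h3⟩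
  have hcard : Nat.card Ω ≤ 2 * Nat.card H + 2 := by
    -- `H` maps onto the remaining points
    let φ : H → {y : Ω // y ≠ a ∧ y ≠ b} := fun k => ⟨(k : G) • c, by
      constructor
      · intro h
        exact hac (MulAction.injective (k : G) ((k.2.1 : (k : G) • a = a).trans h.symm))
      · intro h
        exact hbc (MulAction.injective (k : G) ((k.2.2 : (k : G) • b = b).trans h.symm))⟩
    have hφ : Function.Surjective φ := by
      rintro ⟨y, hya, hyb⟩
      obtain ⟨k, hk, hkc⟩ := hHtrans y hya hyb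
      exact ⟨⟨k, hk⟩, Subtype.ext hkc⟩
    have h1 : Nat.card {y : Ω // y ≠ a ∧ y ≠ b} ≤ Nat.card H := Nat.card_le_card_of_surjective φ hφ
    have h2 : Nat.card {y : Ω // y ≠ a ∧ y ≠ b} + 2 = Nat.card Ω := by
      rw [Nat.card_eq_fintype_card, Nat.card_eq_fintype_card]
      have h3 : Fintype.card {y : Ω // y ≠ a ∧ y ≠ b} = (Finset.univ.filter fun y : Ω => y ≠ a ∧ y ≠ b).card :=
        Fintype.card_subtype _
      have h4 : (Finset.univ.filter fun y : Ω => y ≠ a ∧ y ≠ b) = (Finset.univ.erase a).erase b := by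
        ext y
        simp
        tauto
      rw [h3, h4, Finset.card_erase_of_mem (by simp [hab.symm]), Finset.card_erase_of_mem (by simp),
        Finset.card_univ]
      have h6 : 2 ≤ Fintype.card Ω := Fintype.one_lt_card_iff.mpr ⟨a, b, hab⟩
      omega
    omega
  obtain ⟨K, iF, iK, ρ, h1, h2, h3, h4, h5, h6, h7⟩ := zf_coords hab hac hbc F H hFa hFreg hFc
    (fun k hk => hk.2) (fun k hk l hl => hHc k l hk.1 hk.2 hl.1 hl.2)
    (fun k hk u hu => hFn k hk.1 u hu)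
    (fun k hk y hya hyb hy => hS.fix k a b y hab (Ne.symm hya) (Ne.symm hyb) hk.1 hk.2 hy) hcard
  refine ⟨K, iF, iK, ρ, h1, h2, h3, h4, h5, h6, fun k hka hkb => h7 k ⟨hka, hkb⟩, ?_⟩
  intro r hr
  have hya : ρ ((r : K) : OnePoint K) ≠ a := by
    rw [← h1]
    intro h
    exact OnePoint.coe_ne_infty _ (ρ.injective h)
  have hyb : ρ ((r : K) : OnePoint K) ≠ b := by
    rw [← h2]
    intro h
    exact hr (OnePoint.coe_injective (ρ.injective h))
  obtain ⟨k, hk, hkc⟩ := hHtrans _ hya hyb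
  obtain ⟨r', hr', hk'⟩ := h7 k hk
  refine ⟨k, hk.1, hk.2, ?_⟩
  have h8 := hk' 1
  rw [h3, hkc, mul_one] at h8
  have h9 : r = r' := OnePoint.coe_injective (ρ.injective h8)
  rw [h9]
  exact hk'

/-- The final identification with `PGL₂` in the lowest universe. -/
theorem sh3_pgl_of_form (hS : Sh3 G Ω) (hfaith : ∀ g : G, (∀ x : Ω, g • x = x) → g = 1)
    (hcardG : Nat.card G = (Fintype.card Ω).descFactorial 3) {K : Type u} [Field K] [Fintype K]
    (ρ : OnePoint K ≃ Ω) (hK : Nat.card K + 1 = Nat.card Ω) (F : Subgroup G)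
    (hFa : ∀ u ∈ F, u • ρ ∞ = ρ ∞)
    (hFs : ∀ u ∈ F, ∃ s : K, ∀ x : K, u • ρ (x : OnePoint K) = ρ ((x + s : K) : OnePoint K))
    (hFt : ∀ s : K, ∃ u ∈ F, ∀ x : K, u • ρ (x : OnePoint K) = ρ ((x + s : K) : OnePoint K))
    (hHr : ∀ k : G, k • ρ ∞ = ρ ∞ → k • ρ ((0 : K) : OnePoint K) = ρ ((0 : K) : OnePoint K) →
      ∃ r : K, r ≠ 0 ∧ ∀ x : K, k • ρ (x : OnePoint K) = ρ ((r * x : K) : OnePoint K))
    (J : G) (hJi : J • ρ ∞ = ρ ((0 : K) : OnePoint K)) (hJ0 : J • ρ ((0 : K) : OnePoint K) = ρ ∞)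
    (hJx : ∀ x : K, x ≠ 0 → J • ρ (x : OnePoint K) = ρ ((x⁻¹ : K) : OnePoint K)) :
    ∃ (K' : Type) (_ : Field K') (_ : Fintype K'), Nat.card K' + 1 = Nat.card Ω ∧
      Nonempty (G ≃* Matrix.ProjGenLinGroup (Fin 2) K') := by
  classical
  let H : Subgroup G := stabilizer G (ρ ∞) ⊓ stabilizer G (ρ ((0 : K) : OnePoint K))
  have hcard : Nat.card G = Nat.card K * (Nat.card K ^ 2 - 1) := by
    rw [hcardG]
    rw [Nat.card_eq_fintype_card (α := Ω)] at hK
    rw [← hK]
    obtain ⟨q, hq⟩ : ∃ q, Nat.card K = q + 1 := ⟨Nat.card K - 1, by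
      have : 0 < Nat.card K := Nat.card_pos
      omega⟩
    rw [hq]
    simp only [Nat.descFactorial_succ, Nat.descFactorial_zero]
    have e1 : (q + 1 + 1 - 2) = q := by omega
    have e2 : (q + 1 + 1 - 1) = q + 1 := by omega
    have e3 : (q + 1 + 1 - 0) = q + 1 + 1 := by omega
    rw [e1, e2, e3]
    have e4 : (q + 1) ^ 2 - 1 = q * (q + 2) := by
      have : (q + 1) ^ 2 = q * (q + 2) + 1 := by ring
      omega
    rw [e4]
    ring
  obtain ⟨e⟩ := zf_recog_pgl ρ hfaith hcard F H J hFa hFs hFt (fun g h1 h2 => ⟨h1, h2⟩)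
    (fun h hh => hh.1) (fun h hh => hHr h hh.1 hh.2) hJi hJ0 hJx
  obtain ⟨K', iF, iT, ⟨eK⟩⟩ := zf_type0 K
  refine ⟨K', iF, iT, ?_, ⟨e.trans (Cfsg.Agent.Lib.Classical.pglCongr eK)⟩⟩
  rw [← hK]
  congr 1
  exact (Nat.card_congr eK.toEquiv).symm

/-- If an element swapping two points and fixing a third inverts the two-point stabiliser, the group
is `PGL₂`. -/
theorem sh3_pgl_of_inverts (hS : Sh3 G Ω) (hfaith : ∀ g : G, (∀ x : Ω, g • x = x) → g = 1)
    (hcardG : Nat.card G = (Fintype.card Ω).descFactorial 3) {a b c : Ω} (hab : a ≠ b) (hac : a ≠ c)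
    (hbc : b ≠ c) {F : Subgroup G} (hFa : ∀ u ∈ F, u • a = a)
    (hFn : ∀ g : G, g • a = a → ∀ u ∈ F, g * u * g⁻¹ ∈ F)
    (hFc : ∀ u ∈ F, ∀ v ∈ F, u * v = v * u)
    (hFreg : ∀ y z : Ω, y ≠ a → z ≠ a → ∃! u : F, (u : G) • y = z)
    (hHc : ∀ h k : G, h • a = a → h • b = b → k • a = a → k • b = b → h * k = k * h)
    (J : G) (hJa : J • a = b) (hJb : J • b = a) (hJc : J • c = c)
    (hJinv : ∀ h : G, h • a = a → h • b = b → J * h * J⁻¹ = h⁻¹) :
    ∃ (K' : Type) (_ : Field K') (_ : Fintype K'), Nat.card K' + 1 = Nat.card Ω ∧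
      Nonempty (G ≃* Matrix.ProjGenLinGroup (Fin 2) K') := by
  classical
  obtain ⟨K, iF, iT, ρ, h1, h2, h3, h4, h5, h6, h7, h8⟩ := sh3_coords hS hab hac hbc hFa hFn hFc hFreg hHc
  refine sh3_pgl_of_form hS hfaith hcardG ρ h4 F (by rw [h1]; exact hFa) h5 h6
    (by rw [h1, h2]; exact h7) J (by rw [h1, h2]; exact hJa) (by rw [h1, h2]; exact hJb) ?_
  intro x hx
  obtain ⟨k, hka, hkb, hk⟩ := h8 x hx
  have e1 : k • ρ ((x⁻¹ : K) : OnePoint K) = ρ ((1 : K) : OnePoint K) := by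
    rw [hk, mul_inv_cancel₀ hx]
  have e2 : ρ ((x : K) : OnePoint K) = k • ρ ((1 : K) : OnePoint K) := by
    rw [hk, mul_one]
  have e3 : J * k = k⁻¹ * J := by
    have := hJinv k hka hkb
    calc J * k = (J * k * J⁻¹) * J := by group
      _ = k⁻¹ * J := by rw [this]
  rw [e2, ← mul_smul, e3, mul_smul, h3, hJc, inv_smul_eq_iff, ← h3, e1]

end

end Cfsg.Agent.Lib.Perm
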