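import Mathlib
import Cfsg.Agent.Lib.Perm.ZFSharp
import Cfsg.Agent.Lib.Perm.ZFSign
import Cfsg.Agent.Lib.Perm.ZFCyc
import Cfsg.Agent.Lib.Perm.ZFSemi
import Cfsg.Agent.Lib.Perm.ZassInv
import Cfsg.Agent.Lib.Perm.ZFZass

/-!
Sharply triply transitive groups of degree `p^f + 1`, `p` odd, `f` odd: the two-point stabiliser is
abelian and the group is `PGL₂(p^f)`.
-/

set_option autoImplicit false
set_option linter.style.haveILetI false

namespace Cfsg.Agent.Lib.Perm

open MulAction OnePoint

universe u v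

variable {G : Type u} {Ω : Type v} [Group G] [Finite G] [MulAction G Ω] [Fintype Ω]

lemma zo_not_square {p f : ℕ} (hp : p.Prime) (hfo : Odd f) : ¬ ∃ m : ℕ, p ^ f = m ^ 2 := by
  rintro ⟨m, hm⟩
  have hm0 : m ≠ 0 := by
    rintro rfl
    have : 0 < p ^ f := pow_pos hp.pos f
    simp at hm
    exact absurd hm.1 hp.ne_zero
  have h1 := congrArg (fun n => n.factorization p) hm
  simp only [Nat.factorization_pow, Finsupp.smul_apply, smul_eq_mul, hp.factorization_self] at h1
  rw [mul_one] at h1
  rw [h1] at hfo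
  exact (Nat.not_odd_iff_even.mpr (even_two_mul _)) hfo

/-- Stage 4: if an element normalises an index two subgroup of multiplications, it centralises it. -/
theorem zo_centralise (hS : Sh3 G Ω) {K : Type u} [Field K] [Fintype K]
    (ρ : OnePoint K ≃ Ω) {F A : Subgroup G}
    (hF : ∀ u ∈ F, ∃ s : K, ∀ x : K, u • ρ (x : OnePoint K) = ρ ((x + s : K) : OnePoint K))
    (hFt : ∀ s : K, ∃ u ∈ F, ∀ x : K, u • ρ (x : OnePoint K) = ρ ((x + s : K) : OnePoint K))
    (Q : Subgroup Kˣ) (hQ : Q.index = 2)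
    (hA : ∀ k ∈ A, ∃ r ∈ Q, ∀ x : K, k • ρ (x : OnePoint K) = ρ (((r : K) * x : K) : OnePoint K))
    (hQA : ∀ r ∈ Q, ∃ k ∈ A, ∀ x : K, k • ρ (x : OnePoint K) = ρ (((r : K) * x : K) : OnePoint K))
    (hAfix : ∀ k ∈ A, k • ρ ∞ = ρ ∞)
    (hc : (2 : K) ≠ 0) (hns : ¬ ∃ m : ℕ, Nat.card K = m ^ 2)
    (s : G) (hsi : s • ρ ∞ = ρ ∞) (hs0 : s • ρ ((0 : K) : OnePoint K) = ρ ((0 : K) : OnePoint K))
    (hsF : ∀ u ∈ F, s * u * s⁻¹ ∈ F) (hsA : ∀ k ∈ A, s * k * s⁻¹ ∈ A) (hss : s * s ∈ A) :
    ∀ k ∈ A, s * k * s⁻¹ = k := by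
  classical
  have hinf : ∀ p : OnePoint K, p ≠ ∞ → s • ρ p ≠ ρ ∞ := by
    intro p hp h
    apply hp
    apply ρ.injective
    exact MulAction.injective s (h.trans hsi.symm)
  have hex : ∀ x : K, ∃ y : K, s • ρ (x : OnePoint K) = ρ (y : OnePoint K) := by
    intro x
    obtain ⟨p, hp⟩ := ρ.surjective (s • ρ (x : OnePoint K))
    induction p using OnePoint.rec with
    | infty => exact absurd hp.symm (hinf _ (OnePoint.coe_ne_infty x))
    | coe y => exact ⟨y, hp.symm⟩
  choose S hSdef using hex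
  have hS0 : S 0 = 0 := by
    have := hSdef 0
    rw [hs0] at this
    exact (OnePoint.coe_injective (ρ.injective this)).symm
  have hadd : ∀ x y, S (x + y) = S x + S y := by
    intro x y
    obtain ⟨u, hu, huy⟩ := hFt y
    obtain ⟨y', hy'⟩ := hF _ (hsF u hu)
    have e1 : ∀ z : K, s • ρ ((z + y : K) : OnePoint K) = ρ ((S z + y' : K) : OnePoint K) := by
      intro z
      rw [← huy, ← hy', ← hSdef]
      simp only [mul_smul, inv_smul_smul]
    have e2 := e1 x
    rw [hSdef] at e2
    have e3 := e1 0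
    rw [hSdef, zero_add, hS0, zero_add] at e3
    have e4 := OnePoint.coe_injective (ρ.injective e3)
    rw [e4]
    exact OnePoint.coe_injective (ρ.injective e2)
  have h1 : S 1 ≠ 0 := by
    intro h
    have e := hSdef 1
    rw [h, ← hs0] at e
    have e2 := MulAction.injective s e
    exact one_ne_zero (OnePoint.coe_injective (ρ.injective e2))
  have hmulact : ∀ r ∈ Q, ∃ k ∈ A, ∃ r' ∈ Q, (∀ x : K, k • ρ (x : OnePoint K) = ρ (((r : K) * x : K) : OnePoint K)) ∧
      (∀ x : K, (s * k * s⁻¹) • ρ (x : OnePoint K) = ρ (((r' : K) * x : K) : OnePoint K)) ∧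
      ∀ x, S ((r : K) * x) = r' * S x := by
    intro r hr
    obtain ⟨k, hk, hkr⟩ := hQA r hr
    obtain ⟨r', hr', hkr'⟩ := hA _ (hsA k hk)
    refine ⟨k, hk, r', hr', hkr, hkr', fun x => ?_⟩
    have e := hkr' (S x)
    rw [← hSdef] at e
    simp only [mul_smul, inv_smul_smul] at e
    rw [hkr, hSdef] at e
    exact OnePoint.coe_injective (ρ.injective e)
  have hsemi := zf_semilinear hc Q hQ S hadd h1
    (fun r hr => by
      obtain ⟨k, -, r', -, -, -, h⟩ := hmulact r hr
      exact ⟨r', h⟩)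
    (by
      obtain ⟨r₀, -, hr₀⟩ := hA _ hss
      refine ⟨r₀, fun x => ?_⟩
      have e := hr₀ x
      rw [mul_smul, hSdef, hSdef] at e
      exact OnePoint.coe_injective (ρ.injective e))
    hns
  intro k hk
  obtain ⟨r, hr, hkr⟩ := hA k hk
  obtain ⟨r', hr', hkr'⟩ := hA _ (hsA k hk)
  have hrr : (r' : K) = r := by
    have e := hkr' (S 1)
    rw [← hSdef] at e
    simp only [mul_smul, inv_smul_smul] at e
    rw [hkr, hSdef, mul_one] at e
    have e2 := OnePoint.coe_injective (ρ.injective e)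
    have e3 := hsemi r hr 1
    rw [mul_one] at e3
    rw [e3] at e2
    exact (mul_right_cancel₀ h1 e2).symm
  -- the two elements act the same way, so they agree
  have hne : ρ ∞ ≠ ρ ((0 : K) : OnePoint K) := fun h =>
    (OnePoint.coe_ne_infty _) (ρ.injective h).symm
  have hne1 : ρ ∞ ≠ ρ ((1 : K) : OnePoint K) := fun h =>
    (OnePoint.coe_ne_infty _) (ρ.injective h).symm
  have hne2 : ρ ((0 : K) : OnePoint K) ≠ ρ ((1 : K) : OnePoint K) := fun h =>
    zero_ne_one (OnePoint.coe_injective (ρ.injective h))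
  have e : k⁻¹ * (s * k * s⁻¹) = 1 := by
    apply hS.fix _ _ _ _ hne hne1 hne2
    · rw [mul_smul, inv_smul_eq_iff]
      rw [hAfix k hk]
      exact hAfix _ (hsA k hk)
    · rw [mul_smul, inv_smul_eq_iff, hkr, hkr', hrr]
    · rw [mul_smul, inv_smul_eq_iff, hkr, hkr', hrr]
  exact (inv_mul_eq_one.mp e).symm

/-- The main theorem on sharply triply transitive groups with `p` and `f` odd. -/
theorem sh3_odd_pgl (hS : Sh3 G Ω) (hfaith : ∀ g : G, (∀ x : Ω, g • x = x) → g = 1)
    (hcardG : Nat.card G = (Fintype.card Ω).descFactorial 3) {p f : ℕ} (hp : p.Prime) (hp2 : p ≠ 2)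
    (hfo : Odd f) (hΩ : Fintype.card Ω = p ^ f + 1) :
    ∃ (K' : Type) (_ : Field K') (_ : Fintype K'), Nat.card K' + 1 = Nat.card Ω ∧
      Nonempty (G ≃* Matrix.ProjGenLinGroup (Fin 2) K') := by
  classical
  haveI hpf : Fact p.Prime := ⟨hp⟩
  have hp3 : 3 ≤ p := by
    have := hp.two_le
    omega
  have hqlarge : 3 ≤ p ^ f := by
    calc 3 ≤ p := hp3
      _ = p ^ 1 := (pow_one p).symm
      _ ≤ p ^ f := Nat.pow_le_pow_right hp.pos hfo.pos
  have hc3 : 2 < Fintype.card Ω := by omega
  obtain ⟨a, b, c, hab, hac, hbc⟩ := Fintype.two_lt_card_iff.mp hc3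
  obtain ⟨F, p', j', hp', hj', hcardj, hFa, hFn, hFc, hFp, hFreg⟩ := sh3_kernel hS a hc3
  have hpp' : p' = p := by
    have e : p' ^ j' = p ^ f := by omega
    have h1 : p' ∣ p ^ f := by
      rw [← e]
      exact dvd_pow_self p' (by omega)
    exact (Nat.prime_dvd_prime_iff_eq hp' hp).mp (hp'.dvd_of_dvd_pow h1)
  subst hpp'
  obtain ⟨J, hJa, hJb, hJc⟩ := hS.trans a b c b a c hab hac hbc hab.symm hbc hac
  have hJJ : J * J = 1 := by
    apply hS.fix _ a b c hab hac hbc
    · rw [mul_smul, hJa, hJb]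
    · rw [mul_smul, hJb, hJa]
    · rw [mul_smul, hJc, hJc]
  have hJ1 : J ≠ 1 := by
    intro h
    rw [h, one_smul] at hJa
    exact hab hJa
  have hJi : J⁻¹ = J := inv_eq_of_mul_eq_one_left hJJ
  set H : Subgroup G := stabilizer G a ⊓ stabilizer G b with hHdef
  have hmemH : ∀ k : G, k ∈ H ↔ k • a = a ∧ k • b = b := fun k => Iff.rfl
  -- cardinalities
  have hFcard : Nat.card F = p' ^ f := by
    let φ : F → {y : Ω // y ≠ a} := fun u => ⟨(u : G) • b, by
      intro h
      exact hab (MulAction.injective (u : G) ((hFa u u.2).trans h.symm))⟩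
    have hφ : Function.Bijective φ := by
      constructor
      · intro u v huv
        obtain ⟨w, -, hw⟩ := hFreg b ((u : G) • b) hab.symm (φ u).2
        rw [hw u rfl, hw v (congrArg Subtype.val huv).symm]
      · rintro ⟨y, hy⟩
        obtain ⟨u, hu, -⟩ := hFreg b y hab.symm hy
        exact ⟨u, Subtype.ext hu⟩
    rw [Nat.card_congr (Equiv.ofBijective φ hφ), Nat.card_eq_fintype_card, Fintype.card_subtype_compl,
      Fintype.card_subtype_eq, hΩ]
    simp
  have hHcard : Nat.card H + 2 = Fintype.card Ω := by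
    let φ : H → {y : Ω // y ≠ a ∧ y ≠ b} := fun k => ⟨(k : G) • c, by
      constructor
      · intro h
        exact hac (MulAction.injective (k : G) ((k.2.1 : (k : G) • a = a).trans h.symm))
      · intro h
        exact hbc (MulAction.injective (k : G) ((k.2.2 : (k : G) • b = b).trans h.symm))⟩
    have hφ : Function.Bijective φ := by
      constructor
      · intro k l hkl
        have e : (k : G) • c = (l : G) • c := congrArg Subtype.val hkl
        have e2 : (l : G)⁻¹ * k = 1 := by
          apply hS.fix _ a b c hab hac hbc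
          · rw [mul_smul, (k.2.1 : (k : G) • a = a), inv_smul_eq_iff]
            exact (l.2.1 : (l : G) • a = a).symm
          · rw [mul_smul, (k.2.2 : (k : G) • b = b), inv_smul_eq_iff]
            exact (l.2.2 : (l : G) • b = b).symm
          · rw [mul_smul, e, inv_smul_smul]
        exact Subtype.ext (inv_mul_eq_one.mp e2).symm
      · rintro ⟨y, hya, hyb⟩
        obtain ⟨g, h1, h2, h3⟩ := hS.trans a b c a b y hab hac hbc hab (Ne.symm hya) (Ne.symm hyb)
        exact ⟨⟨g, h1, h2⟩, Subtype.ext h3⟩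
    rw [Nat.card_congr (Equiv.ofBijective φ hφ)]
    have := zq_card_off hab
    omega
  have hq1 : Even (p' ^ f - 1) := by
    have hoddq : Odd (p' ^ f) := (hp.odd_of_ne_two hp2).pow
    obtain ⟨m, hm⟩ := hoddq
    exact ⟨m, by omega⟩
  have h2H : 2 ∣ Nat.card H := by
    have : Nat.card H = p' ^ f - 1 := by omega
    rw [this]
    exact hq1.two_dvd
  -- the unique involution
  haveI hf2 : Fact (Nat.Prime 2) := ⟨Nat.prime_two⟩
  obtain ⟨t, ht⟩ := exists_prime_orderOf_dvd_card' (G := H) 2 h2H
  have htt : t * t = 1 := by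
    rw [← pow_two, ← ht]
    exact pow_orderOf_eq_one t
  have ht1 : t ≠ 1 := by
    rintro rfl
    rw [orderOf_one] at ht
    omega
  have hfree : ∀ u ∈ F, u • b = b → u = 1 := by
    intro u hu hub
    obtain ⟨w, -, hw⟩ := hFreg b b hab.symm hab.symm
    have e1 := hw ⟨u, hu⟩ hub
    have e2 := hw 1 (by simp)
    have e3 : (⟨u, hu⟩ : F) = 1 := e1.trans e2.symm
    exact congrArg Subtype.val e3
  have hinvF : ∀ x : H, x * x = 1 → x ≠ 1 → ∀ u ∈ F, (x : G) * u * (x : G)⁻¹ = u⁻¹ := by
    intro x hxx hx1 u hu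
    exact sh3_invert hS hab hFa hFn hfree x.2.1 x.2.2 (fun h => hx1 (Subtype.ext h))
      (congrArg Subtype.val hxx) u hu
  obtain ⟨u₀, hu₀, -⟩ := hFreg b c hab.symm hac.symm
  have huniq : ∀ x : H, x * x = 1 → x ≠ 1 → x = t := by
    intro x hxx hx1
    have hxi : (x : G)⁻¹ = x := inv_eq_of_mul_eq_one_left (congrArg Subtype.val hxx)
    have hti : (t : G)⁻¹ = t := inv_eq_of_mul_eq_one_left (congrArg Subtype.val htt)
    have hcomm : ((x : G) * t) * u₀ * ((x : G) * t)⁻¹ = u₀ := by
      have e1 := hinvF t htt ht1 u₀ u₀.2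
      have e2 := hinvF x hxx hx1 ((u₀ : G)⁻¹) (F.inv_mem u₀.2)
      calc ((x : G) * t) * u₀ * ((x : G) * t)⁻¹ = (x : G) * ((t : G) * u₀ * (t : G)⁻¹) * (x : G)⁻¹ := by group
        _ = (x : G) * (u₀ : G)⁻¹ * (x : G)⁻¹ := by rw [e1]
        _ = _ := by rw [e2]; simp
    have hcm : ((x : G) * t) * u₀ = u₀ * ((x : G) * t) := by
      calc ((x : G) * t) * u₀ = (((x : G) * t) * u₀ * ((x : G) * t)⁻¹) * ((x : G) * t) := by group
        _ = _ := by rw [hcomm]
    have hfixc : ((x : G) * t) • c = c := by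
      rw [← hu₀, ← mul_smul, hcm, mul_smul, mul_smul, (t.2.2 : (t : G) • b = b),
        (x.2.2 : (x : G) • b = b)]
    have e := hS.fix ((x : G) * t) a b c hab hac hbc
      (by rw [mul_smul, (t.2.1 : (t : G) • a = a), (x.2.1 : (x : G) • a = a)])
      (by rw [mul_smul, (t.2.2 : (t : G) • b = b), (x.2.2 : (x : G) • b = b)]) hfixc
    have e2 : (x : G) = t := by
      have := eq_inv_of_mul_eq_one_left e
      rwa [hti] at this
    exact Subtype.ext e2
  -- conjugation on the additive group
  letI instF : CommGroup F :=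
    { (inferInstance : Group F) with
      mul_comm := fun x y => Subtype.ext (hFc x x.2 y y.2) }
  let cF : H → AddMonoid.End (Additive F) := fun x =>
    { toFun := fun v => Additive.ofMul ⟨(x : G) * (v.toMul : G) * (x : G)⁻¹,
        hFn x x.2.1 _ v.toMul.2⟩
      map_zero' := by
        apply Additive.toMul.injective
        apply Subtype.ext
        change (x : G) * 1 * (x : G)⁻¹ = 1
        group
      map_add' := fun v w => by
        apply Additive.toMul.injective
        apply Subtype.ext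
        change (x : G) * ((v.toMul : G) * (w.toMul : G)) * (x : G)⁻¹ =
          ((x : G) * (v.toMul : G) * (x : G)⁻¹) * ((x : G) * (w.toMul : G) * (x : G)⁻¹)
        group }
  have hcF : ∀ (x : H) (v : Additive F), (((cF x v).toMul : F) : G) = (x : G) * (v.toMul : G) * (x : G)⁻¹ :=
    fun _ _ => rfl
  have hcFbij : ∀ x : H, Function.Bijective (cF x) := by
    intro x
    constructor
    · intro v w h
      apply Additive.toMul.injective
      apply Subtype.ext
      have h1 : (x : G) * (v.toMul : G) * (x : G)⁻¹ = (x : G) * (w.toMul : G) * (x : G)⁻¹ := by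
        rw [← hcF, ← hcF, h]
      simpa using h1
    · intro v
      refine ⟨Additive.ofMul ⟨(x : G)⁻¹ * (v.toMul : G) * x, ?_⟩, ?_⟩
      · have := hFn (x : G)⁻¹ (by rw [inv_smul_eq_iff]; exact (x.2.1 : (x : G) • a = a).symm) _ v.toMul.2
        simpa using this
      · apply Additive.toMul.injective
        apply Subtype.ext
        change (x : G) * ((x : G)⁻¹ * (v.toMul : G) * x) * (x : G)⁻¹ = _
        group
  have hQ : ∀ x y : H, x * y = t * (y * x) → False := by
    intro x y hxy
    have hanti : ∀ v, cF x (cF y v) = - cF y (cF x v) := by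
      intro v
      apply Additive.toMul.injective
      apply Subtype.ext
      change (x : G) * ((y : G) * (v.toMul : G) * (y : G)⁻¹) * (x : G)⁻¹ =
        (((cF y (cF x v)).toMul)⁻¹ : F)
      have e1 : (((cF y (cF x v)).toMul)⁻¹ : F) = ((((y : G) * ((x : G) * (v.toMul : G) * (x : G)⁻¹) * (y : G)⁻¹)⁻¹ : G)) := rfl
      rw [e1]
      have e2 := hinvF t htt ht1 _ (hFn (y * x : H) (y * x : H).2.1 _ v.toMul.2)
      have e3 : (x : G) * (y : G) = t * ((y : G) * x) := congrArg Subtype.val hxy
      calc (x : G) * ((y : G) * (v.toMul : G) * (y : G)⁻¹) * (x : G)⁻¹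
          = ((x : G) * y) * (v.toMul : G) * ((x : G) * y)⁻¹ := by group
        _ = (t * ((y : G) * x)) * (v.toMul : G) * (t * ((y : G) * x))⁻¹ := by rw [e3]
        _ = (t : G) * (((y * x : H) : G) * (v.toMul : G) * ((y * x : H) : G)⁻¹) * (t : G)⁻¹ := by
            simp only [Subgroup.coe_mul]; group
        _ = _ := by
            rw [e2]
            simp only [Subgroup.coe_mul]
            group
    have hV : ∀ v : Additive F, p' • v = 0 := by
      intro v
      apply Additive.toMul.injective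
      apply Subtype.ext
      exact hFp _ v.toMul.2
    have hcardV : Nat.card (Additive F) = p' ^ f := hFcard
    have := zf_even_of_anticomm hp2 hV hcardV (cF x) (cF y) (hcFbij x) (hcFbij y) hanti
    exact (Nat.not_odd_iff_even.mpr this) hfo
  obtain ⟨g, k, hgE, hgk, hko⟩ := zf_full_two_element t htt ht1 huniq hQ
  obtain ⟨N, hN2, hNchar⟩ := zf_index_two_char g hgE k hgk hko
  -- conjugation by `J`
  have hJH : ∀ h : H, J * (h : G) * J⁻¹ ∈ H := by
    intro h
    constructor
    · change (J * (h : G) * J⁻¹) • a = a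
      rw [hJi, mul_smul, mul_smul, hJa, (h.2.2 : (h : G) • b = b), hJb]
    · change (J * (h : G) * J⁻¹) • b = b
      rw [hJi, mul_smul, mul_smul, hJb, (h.2.1 : (h : G) • a = a), hJa]
  let σ : H →* H :=
    { toFun := fun u => ⟨J * u * J⁻¹, hJH u⟩
      map_one' := by
        apply Subtype.ext
        simp
      map_mul' := fun u v => by
        apply Subtype.ext
        simp only [Subgroup.coe_mul]
        group }
  have hσa : ∀ u : H, ((σ u : H) : G) = J * u * J⁻¹ := fun _ => rfl
  have hσσ : ∀ u, σ (σ u) = u := by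
    intro u
    apply Subtype.ext
    rw [hσa, hσa]
    calc J * (J * (u : G) * J⁻¹) * J⁻¹ = (J * J) * u * (J * J)⁻¹ := by group
      _ = u := by rw [hJJ]; group
  let σe : H ≃* H := MulEquiv.ofBijective σ ⟨fun x y h => by
      have := congrArg σ h
      rwa [hσσ, hσσ] at this, fun y => ⟨σ y, hσσ y⟩⟩
  have hσN : ∀ x ∈ N, σ x ∈ N := fun x hx => hNchar σe x hx
  have hσfix : ∀ h, σ h = h → h = 1 ∨ h = t := by
    intro h hh
    by_cases hh1 : h = 1
    · exact Or.inl hh1
    right
    have hh1' : (h : G) ≠ 1 := fun e => hh1 (Subtype.ext e)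
    have hcomm : J * (h : G) = h * J := by
      have : J * (h : G) * J⁻¹ = h := congrArg Subtype.val hh
      calc J * (h : G) = (J * h * J⁻¹) * J := by group
        _ = h * J := by rw [this]
    have hd : J • ((h : G) • c) = (h : G) • c := by
      rw [← mul_smul, hcomm, mul_smul, hJc]
    have hha : (h : G) • a = a := h.2.1
    have hhb : (h : G) • b = b := h.2.2
    have hfixd : ∀ y : Ω, y ≠ a → y ≠ b → (h : G) • y = y → False := fun y hya hyb hy =>
      hh1' (hS.fix _ a b y hab (Ne.symm hya) (Ne.symm hyb) hha hhb hy)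
    have hda : (h : G) • c ≠ a := by
      intro e
      exact hac (MulAction.injective (h : G) (hha.trans e.symm))
    have hdb : (h : G) • c ≠ b := by
      intro e
      exact hbc (MulAction.injective (h : G) (hhb.trans e.symm))
    have hne1 : c ≠ (h : G) • c := fun e => hfixd c (Ne.symm hac) (Ne.symm hbc) e.symm
    have hne2 : (h : G) • c ≠ (h : G) • ((h : G) • c) := fun e => hfixd _ hda hdb e.symm
    have hd2 : J • ((h : G) • ((h : G) • c)) = (h : G) • ((h : G) • c) := by
      rw [← mul_smul, hcomm, mul_smul, hd]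
    have hcase : c = (h : G) • ((h : G) • c) := by
      by_contra hne3
      exact hJ1 (hS.fix J c _ _ hne1 hne3 hne2 hJc hd hd2)
    have hsq : (h : G) * h = 1 := by
      apply hS.fix _ a b c hab hac hbc
      · rw [mul_smul, hha, hha]
      · rw [mul_smul, hhb, hhb]
      · rw [mul_smul]
        exact hcase.symm
    exact huniq h (Subtype.ext hsq) hh1
  have hNinv := zf_inverts_index2 N hN2 σ hσσ hσN t hσfix
  have hNcomm : ∀ x ∈ N, ∀ y ∈ N, x * y = y * x := by
    intro x hx y hy
    have e1 := hNinv (x * y) (N.mul_mem hx hy)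
    rw [map_mul, hNinv x hx, hNinv y hy, mul_inv_rev] at e1
    have e2 : (x⁻¹ * y⁻¹)⁻¹ = (y⁻¹ * x⁻¹)⁻¹ := by rw [e1]
    simpa using e2.symm
  -- `K₀`
  let A : Subgroup G := N.map H.subtype
  have hAmem : ∀ k ∈ A, ∃ h : H, h ∈ N ∧ (h : G) = k := by
    rintro k ⟨h, hh, rfl⟩
    exact ⟨h, hh, rfl⟩
  have hAa : ∀ k ∈ A, k • a = a := by
    rintro _ ⟨h, -, rfl⟩
    exact h.2.1
  have hAb : ∀ k ∈ A, k • b = b := by
    rintro _ ⟨h, -, rfl⟩
    exact h.2.2
  have hAcard : Nat.card A = Nat.card N :=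
    Nat.card_congr (Subgroup.equivMapOfInjective N H.subtype H.subtype_injective).toEquiv.symm
  have hNcard : 2 * Nat.card N = Nat.card H := by
    have := N.card_mul_index
    rw [hN2] at this
    omega
  have hbig : Nat.card Ω ≤ 2 * Nat.card A + 2 := by
    rw [Nat.card_eq_fintype_card, hAcard]
    omega
  obtain ⟨K₀, iF₀, iT₀, ρ₀, h01, h02, h03, h04, h05, h06, h07⟩ := zf_coords hab hac hbc F A hFa hFreg hFc
    hAb
    (by
      rintro _ ⟨x, hx, rfl⟩ _ ⟨y, hy, rfl⟩
      exact congrArg Subtype.val (hNcomm x hx y hy))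
    (fun k hk u hu => hFn k (hAa k hk) u hu)
    (fun k hk y hya hyb hy => hS.fix k a b y hab (Ne.symm hya) (Ne.symm hyb) (hAa k hk) (hAb k hk) hy)
    hbig
  have hagree : ∀ {K : Type u} [Field K] [Fintype K] (ρ : OnePoint K ≃ Ω), ρ ∞ = a → ρ ((0 : K) : OnePoint K) = b →
      ρ ((1 : K) : OnePoint K) = c → ∀ k ∈ A, ∀ l ∈ A, (∀ x : K, k • ρ (x : OnePoint K) = l • ρ (x : OnePoint K)) → k = l := by
    intro K _ _ ρ e1 e2 e3 k hk l hl he
    have e4 : l⁻¹ * k = 1 := by
      apply hS.fix _ a b c hab hac hbc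
      · rw [mul_smul, hAa k hk, inv_smul_eq_iff, hAa l hl]
      · rw [mul_smul, hAb k hk, inv_smul_eq_iff, hAb l hl]
      · rw [mul_smul, ← e3, he, inv_smul_smul]
    exact (inv_mul_eq_one.mp e4).symm
  have hcardodd : ∀ {K : Type u} [Field K] [Fintype K], Nat.card K + 1 = Nat.card Ω → (2 : K) ≠ 0 := by
    intro K _ _ hK h2
    have hK' : Nat.card K = p' ^ f := by
      rw [Nat.card_eq_fintype_card (α := Ω), hΩ] at hK
      omega
    have h1 : addOrderOf (1 : K) = 2 := by
      apply addOrderOf_eq_prime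
      · rw [two_nsmul, one_add_one_eq_two, h2]
      · exact one_ne_zero
    have h3 : 2 ∣ Nat.card K := by
      rw [← h1]
      exact addOrderOf_dvd_natCard _
    rw [hK'] at h3
    exact hp2 ((Nat.prime_dvd_prime_iff_eq Nat.prime_two hp).mp (Nat.prime_two.dvd_of_dvd_pow h3)).symm
  have hcardK : ∀ {K : Type u} [Field K] [Fintype K], Nat.card K + 1 = Nat.card Ω → Nat.card K = p' ^ f := by
    intro K _ _ hK
    rw [Nat.card_eq_fintype_card (α := Ω), hΩ] at hK
    omega
  have hindex : ∀ {K : Type u} [Field K] [Fintype K], Nat.card K + 1 = Nat.card Ω → ∀ Q : Subgroup Kˣ,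
      Nat.card Q = Nat.card A → Q.index = 2 := by
    intro K _ _ hK Q hQc
    have e := Q.card_mul_index
    rw [Nat.card_units, hcardK hK, hQc, hAcard] at e
    have hNpos : 0 < Nat.card N := Nat.card_pos
    have e2 : Nat.card N * Q.index = Nat.card N * 2 := by
      rw [e]
      omega
    exact Nat.eq_of_mul_eq_mul_left hNpos e2
  obtain ⟨Q₀, hQ₀c, hQ₀a, hQ₀b⟩ := zf_mult_subgroup ρ₀ A h07 (hagree ρ₀ h01 h02 h03)
  have hidx₀ := hindex h04 Q₀ hQ₀c
  have hNn : N.Normal := Subgroup.normal_of_index_eq_two hN2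
  have hcentral : ∀ s : H, ∀ n ∈ N, s * n * s⁻¹ = n := by
    intro s n hn
    have hf := zo_centralise hS ρ₀ h05 h06 Q₀ hidx₀ hQ₀a hQ₀b
      (by rw [h01]; exact hAa) (hcardodd h04)
      (by
        rw [hcardK h04]
        rintro ⟨m, hm⟩
        exact zo_not_square hp hfo ⟨m, hm⟩)
      (s : G) (by rw [h01]; exact s.2.1) (by rw [h02]; exact s.2.2)
      (fun u hu => hFn s s.2.1 u hu)
      (by
        rintro _ ⟨h, hh, rfl⟩
        exact ⟨s * h * s⁻¹, hNn.conj_mem h hh s, rfl⟩)
      (by
        have := Subgroup.sq_mem_of_index_two hN2 s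
        rw [pow_two] at this
        exact ⟨s * s, this, rfl⟩)
    have e := hf (n : G) ⟨n, hn, rfl⟩
    exact Subtype.ext e
  have hcent' : ∀ s : H, ∀ n ∈ N, s * n = n * s := by
    intro s n hn
    calc s * n = (s * n * s⁻¹) * s := by group
      _ = n * s := by rw [hcentral s n hn]
  have hHcomm : ∀ x y : H, x * y = y * x := by
    intro x y
    by_cases hy : y ∈ N
    · exact hcent' x y hy
    by_cases hx : x ∈ N
    · exact (hcent' y x hx).symm
    have hn : x⁻¹ * y ∈ N := by
      rw [Subgroup.mul_mem_iff_of_index_two hN2]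
      constructor
      · intro h
        exact absurd (by simpa using N.inv_mem h) hx
      · intro h
        exact absurd h hy
    have hyx : y = x * (x⁻¹ * y) := by group
    rw [hyx]
    generalize x⁻¹ * y = n at hn ⊢
    calc x * (x * n) = x * (n * x) := by rw [hcent' x n hn]
      _ = (x * n) * x := by group
  have hHc : ∀ h k : G, h • a = a → h • b = b → k • a = a → k • b = b → h * k = k * h := by
    intro h k h1 h2 k1 k2
    exact congrArg Subtype.val (hHcomm ⟨h, h1, h2⟩ ⟨k, k1, k2⟩)
  obtain ⟨K, iF, iT, ρ, h1, h2, h3, h4, h5, h6, h7, h8⟩ := sh3_coords hS hab hac hbc hFa hFn hFc hFreg hHc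
  obtain ⟨Q, hQc, hQa, hQb⟩ := zf_mult_subgroup ρ A (fun k hk => h7 k (hAa k hk) (hAb k hk))
    (hagree ρ h1 h2 h3)
  have hidx := hindex h4 Q hQc
  have h2K := hcardodd h4
  have hm1ne : (-1 : K) ≠ 1 := by
    intro h
    apply h2K
    linear_combination -h
  -- coordinates of `J`
  let j : OnePoint K → OnePoint K := fun p => ρ.symm (J • ρ p)
  have hj : ∀ p, ρ (j p) = J • ρ p := fun p => ρ.apply_symm_apply _
  have hji : j ∞ = ((0 : K) : OnePoint K) := by
    apply ρ.injective
    rw [hj, h1, h2, hJa]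
  have hj0 : j ((0 : K) : OnePoint K) = ∞ := by
    apply ρ.injective
    rw [hj, h1, h2, hJb]
  have hj1 : j ((1 : K) : OnePoint K) = ((1 : K) : OnePoint K) := by
    apply ρ.injective
    rw [hj, h3, hJc]
  have hjj : ∀ p, j (j p) = p := by
    intro p
    apply ρ.injective
    rw [hj, hj, ← mul_smul, hJJ, one_smul]
  have hJA : ∀ k ∈ A, J * k * J⁻¹ = k⁻¹ := by
    rintro _ ⟨h, hh, rfl⟩
    have e := hNinv h hh
    exact congrArg Subtype.val e
  have hmul : ∀ r ∈ Q, ∀ x y : K, x ≠ 0 → j (x : OnePoint K) = (y : OnePoint K) →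
      j (((r : K) * x : K) : OnePoint K) = ((((r⁻¹ : Kˣ) : K) * y : K) : OnePoint K) := by
    intro r hr x y _ hxy
    obtain ⟨k, hkA, hk⟩ := hQb r hr
    apply ρ.injective
    rw [hj, ← hk]
    have e3 : J * k = k⁻¹ * J := by
      have := hJA k hkA
      calc J * k = (J * k * J⁻¹) * J := by group
        _ = k⁻¹ * J := by rw [this]
    rw [← mul_smul, e3, mul_smul, ← hj, hxy, inv_smul_eq_iff, hk]
    congr 2
    simp
  obtain ⟨t₁, ht₁a, ht₁b, ht₁⟩ := h8 (-1) (neg_ne_zero.mpr one_ne_zero)
  have hform : ∀ x : K, x ≠ 0 → j (x : OnePoint K) = ((x⁻¹ : K) : OnePoint K) := by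
    by_cases hm1 : (-1 : Kˣ) ∈ Q
    · obtain ⟨u₁, hu₁, hu₁x⟩ := h6 1
      let τ : G := u₁ * t₁
      have hτ : ∀ p : OnePoint K, τ • ρ p = ρ (zfTau p) := by
        intro p
        induction p using OnePoint.rec with
        | infty =>
          simp only [τ, zfTau_infty]
          rw [h1, mul_smul, ht₁a]
          exact hFa u₁ hu₁
        | coe x =>
          simp only [τ, zfTau_coe]
          rw [mul_smul, ht₁, hu₁x]
          congr 2
          ring
      let y : G := J * τ
      have hy : ∀ p : OnePoint K, y • ρ p = ρ (j (zfTau p)) := by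
        intro p
        simp only [y]
        rw [mul_smul, hτ, hj]
      have hy3 : y * y * y = 1 := by
        have ea : y • ρ ∞ = ρ ((0 : K) : OnePoint K) := by
          rw [hy, zfTau_infty, hji]
        have eb : y • ρ ((0 : K) : OnePoint K) = ρ ((1 : K) : OnePoint K) := by
          rw [hy, zfTau_coe, sub_zero, hj1]
        have ec : y • ρ ((1 : K) : OnePoint K) = ρ ∞ := by
          rw [hy, zfTau_coe, sub_self, hj0]
        apply hS.fix _ a b c hab hac hbc
        · rw [← h1]
          simp only [mul_smul]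
          rw [ea, eb, ec]
        · rw [← h2]
          simp only [mul_smul]
          rw [eb, ec, ea]
        · rw [← h3]
          simp only [mul_smul]
          rw [ec, ea, eb]
      have hj3 : ∀ p, j (zfTau (j (zfTau (j (zfTau p))))) = p := by
        intro p
        apply ρ.injective
        have e : (y * y * y) • ρ p = ρ p := by rw [hy3, one_smul]
        simp only [mul_smul] at e
        rw [hy, hy, hy] at e
        exact e
      exact zf_jform Q hidx hm1 j hji hj0 hj1 hjj hmul hj3
    · -- `-1` is not in `Q`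
      have hjm1 : j ((-1 : K) : OnePoint K) = ((-1 : K) : OnePoint K) := by
        obtain ⟨r', hr'0, hr'⟩ := h7 (J * t₁ * J⁻¹)
          (by rw [hJi, mul_smul, mul_smul, hJa, ht₁b, hJb])
          (by rw [hJi, mul_smul, mul_smul, hJb, ht₁a, hJa])
        have ht₁sq : t₁ * t₁ = 1 := by
          apply hS.fix _ a b c hab hac hbc
          · rw [mul_smul, ht₁a, ht₁a]
          · rw [mul_smul, ht₁b, ht₁b]
          · rw [← h3, mul_smul, ht₁, ht₁]
            congr 2
            ring
        have hsq : r' * r' = 1 := by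
          have e1 : (J * t₁ * J⁻¹) * (J * t₁ * J⁻¹) = 1 := by
            calc (J * t₁ * J⁻¹) * (J * t₁ * J⁻¹) = J * (t₁ * t₁) * J⁻¹ := by group
              _ = 1 := by rw [ht₁sq]; group
          have e2 : ((J * t₁ * J⁻¹) * (J * t₁ * J⁻¹)) • ρ ((1 : K) : OnePoint K) = ρ ((1 : K) : OnePoint K) := by
            rw [e1, one_smul]
          rw [mul_smul, hr', hr'] at e2
          have e3 := OnePoint.coe_injective (ρ.injective e2)
          simpa using e3
        have hval : j ((-1 : K) : OnePoint K) = ((r' : K) : OnePoint K) := by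
          apply ρ.injective
          rw [hj]
          have e1 : ρ ((-1 : K) : OnePoint K) = t₁ • ρ ((1 : K) : OnePoint K) := by
            rw [ht₁]
            congr 2
            ring
          have e2 : J * t₁ = (J * t₁ * J⁻¹) * J := by group
          rw [e1, ← mul_smul, e2, mul_smul, ← hj, hj1, hr', mul_one]
        have hr'ne : r' ≠ 1 := by
          rintro rfl
          have e1 : j ((-1 : K) : OnePoint K) = j ((1 : K) : OnePoint K) := by rw [hval, hj1]
          have e2 := congrArg j e1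
          rw [hjj, hjj] at e2
          exact hm1ne (OnePoint.coe_injective e2)
        have hr'm : r' = -1 := by
          have e : (r' - 1) * (r' + 1) = 0 := by linear_combination hsq
          rcases mul_eq_zero.mp e with e1 | e1
          · exact absurd (sub_eq_zero.mp e1) hr'ne
          · linear_combination e1
        rw [hval, hr'm]
      intro x hx
      let ux : Kˣ := Units.mk0 x hx
      by_cases hxQ : ux ∈ Q
      · have := hmul ux hxQ 1 1 one_ne_zero hj1
        simpa [ux] using this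
      · have hneg : (-1 : Kˣ) * ux ∈ Q := by
          rw [Subgroup.mul_mem_iff_of_index_two hidx]
          exact ⟨fun h => absurd h hm1, fun h => absurd h hxQ⟩
        have e := hmul _ hneg (-1) (-1) (neg_ne_zero.mpr one_ne_zero) hjm1
        have e1 : (((-1 : Kˣ) * ux : Kˣ) : K) * (-1) = x := by
          simp [ux]
        have e2 : ((((-1 : Kˣ) * ux)⁻¹ : Kˣ) : K) * (-1) = x⁻¹ := by
          simp [ux]
        rw [e1, e2] at e
        exact e
  exact sh3_pgl_of_form hS hfaith hcardG ρ h4 F (by rw [h1]; exact hFa) h5 h6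
    (by rw [h1, h2]; exact h7) J (by rw [h1, h2]; exact hJa) (by rw [h1, h2]; exact hJb)
    (fun x hx => by rw [← hj, hform x hx])

end Cfsg.Agent.Lib.Perm
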