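import Mathlib

/-!
The combinatorial core of the numerical theorem on Zassenhaus groups: from the multiplicities of
linear characters of the kernel and Frobenius–Schur indicators one finds an irreducible character
containing every nontrivial linear character once and not the trivial one.
-/

set_option autoImplicit false

namespace Cfsg.Agent.Lib.Perm

universe u v

section

variable {ι : Type u} {Λ : Type v} [Fintype ι] [DecidableEq ι]

/-- Two-valued analysis of a multiplicity function. -/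
lemma zn_term_nonneg (m : ℕ) (n : ℤ) (hn : n = 0 ∨ n = 1 ∨ n = -1) : 0 ≤ (m : ℤ) * m - n * m := by
  rcases hn with rfl | rfl | rfl
  · nlinarith
  · rcases Nat.eq_zero_or_pos m with rfl | hm
    · simp
    · have : (1 : ℤ) ≤ m := by exact_mod_cast hm
      nlinarith
  · nlinarith

lemma zn_term_zero {m : ℕ} {n : ℤ} (hn : n = 0 ∨ n = 1 ∨ n = -1)
    (h : (m : ℤ) * m - n * m = 0) : m = 0 ∨ (m = 1 ∧ n = 1) := by
  rcases Nat.eq_zero_or_pos m with rfl | hm
  · exact Or.inl rfl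
  right
  have hm' : (m : ℤ) ≠ 0 := by exact_mod_cast hm.ne'
  have h1 : (m : ℤ) = n := by
    have : (m : ℤ) * (m - n) = 0 := by linarith
    rcases mul_eq_zero.mp this with h2 | h2
    · exact absurd h2 hm'
    · linarith
  rcases hn with rfl | rfl | rfl
  · exact absurd h1 hm'
  · exact ⟨by exact_mod_cast h1, rfl⟩
  · have : (0 : ℤ) ≤ m := by positivity
    omega

lemma zn_term_one {m : ℕ} {n : ℤ} (hn : n = 0 ∨ n = 1 ∨ n = -1)
    (h : (m : ℤ) * m - n * m = 1) : m = 1 ∧ n = 0 := by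
  have hpos : 0 < m := by
    rcases Nat.eq_zero_or_pos m with rfl | hm
    · simp at h
    · exact hm
  have hm1 : (1 : ℤ) ≤ m := by exact_mod_cast hpos
  rcases hn with rfl | rfl | rfl
  · have : (m : ℤ) = 1 := by nlinarith
    exact ⟨by exact_mod_cast this, rfl⟩
  · exfalso
    have : (m : ℤ) * (m - 1) = 1 := by linarith
    have h2 : (m : ℤ) = 1 ∨ (m : ℤ) = -1 := by
      have := Int.isUnit_iff.mp (IsUnit.of_mul_eq_one _ this)
      exact this
    rcases h2 with h2 | h2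
    · rw [h2] at this
      norm_num at this
    · omega
  · exfalso
    have : (m : ℤ) * (m + 1) = 1 := by linarith
    nlinarith

theorem zn_comb (m : Λ → ι → ℕ) (ν : ι → ℤ) (b : ι → ℕ) (e : ℕ) (bar : Λ → Λ) (cj : ι → ι)
    (cong : Λ → Λ → Prop) (real : Λ → Prop) [DecidablePred real]
    (hν : ∀ χ, ν χ = 0 ∨ ν χ = 1 ∨ ν χ = -1)
    (H1 : ∀ l, ∑ χ, m l χ * m l χ = e + 1)
    (H2 : ∀ l l', ¬ cong l l' → ∑ χ, m l χ * m l' χ = e)
    (H2' : ∀ l l', cong l l' → ∀ χ, m l χ = m l' χ)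
    (H3 : ∀ l, ∑ χ, ν χ * (m l χ : ℤ) = e + if real l then 1 else 0)
    (H4 : ∀ l, ∑ χ, b χ * m l χ = e)
    (hcjν : ∀ χ, ν (cj χ) = ν χ) (hcjreal : ∀ χ, ν χ ≠ 0 → cj χ = χ) (hcjne : ∀ χ, ν χ = 0 → cj χ ≠ χ)
    (hbar : ∀ l χ, m (bar l) (cj χ) = m l χ) (hbarreal : ∀ l, ¬ real l → ¬ real (bar l))
    (φ : ι) (hφb : b φ = 2) (hφm : ∀ l, m l φ = 1) (l₀ : Λ) (hl₀ : ¬ real l₀) :
    ∃ θ, b θ = 0 ∧ ∀ l, m l θ = 1 := by
  classical
  -- the sum of the terms
  have hsum : ∀ l, ∑ χ, (((m l χ : ℤ) * m l χ) - ν χ * m l χ) = 1 - if real l then 1 else 0 := by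
    intro l
    rw [Finset.sum_sub_distrib, H3 l]
    have h1 : ∑ χ, ((m l χ : ℤ) * m l χ) = e + 1 := by
      have := congrArg (fun n : ℕ => (n : ℤ)) (H1 l)
      push_cast at this
      exact this
    rw [h1]
    ring
  have hnn : ∀ l χ, 0 ≤ ((m l χ : ℤ) * m l χ) - ν χ * m l χ := fun l χ => zn_term_nonneg _ _ (hν χ)
  have hA : ∀ l, real l → ∀ χ, m l χ = 0 ∨ (m l χ = 1 ∧ ν χ = 1) := by
    intro l hl χ
    apply zn_term_zero (hν χ)
    have h1 := hsum l
    rw [if_pos hl, sub_self] at h1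
    exact (Finset.sum_eq_zero_iff_of_nonneg (fun χ _ => hnn l χ)).mp h1 χ (Finset.mem_univ _)
  have hB : ∀ l, ¬ real l → ∃ ξ, m l ξ = 1 ∧ ν ξ = 0 ∧ ∀ χ, χ ≠ ξ → m l χ = 0 ∨ (m l χ = 1 ∧ ν χ = 1) := by
    intro l hl
    have h1 := hsum l
    rw [if_neg hl, sub_zero] at h1
    obtain ⟨ξ, -, hξ⟩ : ∃ ξ ∈ Finset.univ, ((m l ξ : ℤ) * m l ξ) - ν ξ * m l ξ ≠ 0 := by
      by_contra hcon
      push Not at hcon
      rw [Finset.sum_eq_zero hcon] at h1
      omega
    have h2 := Finset.add_sum_erase Finset.univ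
      (fun χ => ((m l χ : ℤ) * m l χ) - ν χ * m l χ) (Finset.mem_univ ξ)
    rw [h1] at h2
    have h3 : 0 ≤ ∑ χ ∈ Finset.univ.erase ξ, (((m l χ : ℤ) * m l χ) - ν χ * m l χ) :=
      Finset.sum_nonneg fun χ _ => hnn l χ
    have h4 := hnn l ξ
    have h5 : ((m l ξ : ℤ) * m l ξ) - ν ξ * m l ξ = 1 := by omega
    have h6 : ∑ χ ∈ Finset.univ.erase ξ, (((m l χ : ℤ) * m l χ) - ν χ * m l χ) = 0 := by omega
    obtain ⟨h7, h8⟩ := zn_term_one (hν ξ) h5
    refine ⟨ξ, h7, h8, fun χ hχ => ?_⟩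
    apply zn_term_zero (hν χ)
    exact (Finset.sum_eq_zero_iff_of_nonneg (fun χ _ => hnn l χ)).mp h6 χ
      (Finset.mem_erase.mpr ⟨hχ, Finset.mem_univ _⟩)
  -- the set `R`
  let R : Λ → Finset ι := fun l => Finset.univ.filter fun χ => m l χ = 1 ∧ ν χ = 1
  have hmemR : ∀ l χ, χ ∈ R l ↔ m l χ = 1 ∧ ν χ = 1 := by
    intro l χ
    simp [R]
  -- decomposition of a sum weighted by `m l`, `l` nonreal
  have hdecomp : ∀ l ξ, m l ξ = 1 → ν ξ = 0 → (∀ χ, χ ≠ ξ → m l χ = 0 ∨ (m l χ = 1 ∧ ν χ = 1)) →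
      ∀ f : ι → ℕ, ∑ χ, f χ * m l χ = (∑ χ ∈ R l, f χ) + f ξ := by
    intro l ξ h1 h2 h3 f
    have hξR : ξ ∉ R l := by
      rw [hmemR]
      rintro ⟨-, h⟩
      omega
    have e1 : ∀ χ, f χ * m l χ = (if χ ∈ R l then f χ else 0) + (if χ = ξ then f χ else 0) := by
      intro χ
      by_cases hχ : χ = ξ
      · subst hχ
        simp [hξR, h1]
      · rw [if_neg hχ, add_zero]
        rcases h3 χ hχ with h4 | ⟨h4, h5⟩
        · have : χ ∉ R l := by
            rw [hmemR]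
            rintro ⟨h6, -⟩
            omega
          simp [h4, this]
        · have : χ ∈ R l := (hmemR l χ).mpr ⟨h4, h5⟩
          simp [h4, this]
    simp only [e1, Finset.sum_add_distrib, Finset.sum_ite_mem, Finset.univ_inter, Finset.sum_ite_eq',
      Finset.mem_univ, if_true]
  obtain ⟨ξ₀, hξ₁, hξ₂, hξ₃⟩ := hB l₀ hl₀
  have hcardR : (R l₀).card = e := by
    have h1 := hdecomp l₀ ξ₀ hξ₁ hξ₂ hξ₃ (m l₀)
    rw [H1 l₀, hξ₁] at h1
    have h2 : ∑ χ ∈ R l₀, m l₀ χ = (R l₀).card := by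
      rw [Finset.card_eq_sum_ones]
      exact Finset.sum_congr rfl fun χ hχ => ((hmemR _ _).mp hχ).1
    omega
  -- the conjugate
  have hlb := hbarreal l₀ hl₀
  obtain ⟨ξ₁, hη₁, hη₂, hη₃⟩ := hB (bar l₀) hlb
  have hRbar : R (bar l₀) = R l₀ := by
    ext χ
    rw [hmemR, hmemR]
    constructor
    · rintro ⟨h1, h2⟩
      have h3 : cj χ = χ := hcjreal χ (by omega)
      have h4 := hbar l₀ χ
      rw [h3, h1] at h4
      exact ⟨h4.symm, h2⟩
    · rintro ⟨h1, h2⟩
      have h3 : cj χ = χ := hcjreal χ (by omega)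
      have h4 := hbar l₀ χ
      rw [h3, h1] at h4
      exact ⟨h4, h2⟩
  have hξne : ξ₁ ≠ ξ₀ := by
    intro h
    have hcξ : cj ξ₀ ≠ ξ₀ := hcjne ξ₀ hξ₂
    rcases hη₃ (cj ξ₀) (by rw [h]; exact hcξ) with h1 | ⟨-, h1⟩
    · rw [hbar, hξ₁] at h1
      omega
    · rw [hcjν, hξ₂] at h1
      omega
  -- every element of `R` contains every nontrivial linear character once
  have hle : ∀ l χ, ν χ = 1 → m l χ ≤ 1 := by
    intro l χ hχ
    by_cases hl : real l
    · rcases hA l hl χ with h | ⟨h, -⟩ <;> omega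
    · obtain ⟨ξ, h1, h2, h3⟩ := hB l hl
      have hne : χ ≠ ξ := by
        rintro rfl
        omega
      rcases h3 χ hne with h | ⟨h, -⟩ <;> omega
  have hfinal : ∀ l, ∀ χ ∈ R l₀, m l χ = 1 := by
    intro l χ hχ
    by_cases hc1 : cong l₀ l
    · rw [← H2' l₀ l hc1 χ]
      exact ((hmemR _ _).mp hχ).1
    by_cases hc2 : cong (bar l₀) l
    · rw [← H2' (bar l₀) l hc2 χ]
      rw [← hRbar] at hχ
      exact ((hmemR _ _).mp hχ).1
    have e1 := hdecomp l₀ ξ₀ hξ₁ hξ₂ hξ₃ (m l)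
    have e2 := hdecomp (bar l₀) ξ₁ hη₁ hη₂ hη₃ (m l)
    rw [hRbar] at e2
    have e3 : ∑ χ, m l χ * m l₀ χ = e := by
      rw [← H2 l₀ l hc1]
      exact Finset.sum_congr rfl fun χ _ => mul_comm _ _
    have e4 : ∑ χ, m l χ * m (bar l₀) χ = e := by
      rw [← H2 (bar l₀) l hc2]
      exact Finset.sum_congr rfl fun χ _ => mul_comm _ _
    rw [e3] at e1
    rw [e4] at e2
    have hzero : m l ξ₀ = 0 := by
      by_cases hl : real l
      · rcases hA l hl ξ₀ with h | ⟨-, h⟩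
        · exact h
        · omega
      · obtain ⟨ξ', h1, h2, h3⟩ := hB l hl
        by_contra hne
        have h4 : ξ₀ = ξ' := by
          by_contra h5
          rcases h3 ξ₀ h5 with h6 | ⟨-, h6⟩
          · exact hne h6
          · omega
        have h5 : m l ξ₁ ≠ 0 := by omega
        have h6 : ξ₁ = ξ' := by
          by_contra h7
          rcases h3 ξ₁ h7 with h8 | ⟨-, h8⟩
          · exact h5 h8
          · omega
        exact hξne (h6.trans h4.symm)
    rw [hzero, add_zero] at e1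
    -- all terms are at most one, and the sum is the cardinality
    have e5 : ∑ χ ∈ R l₀, (1 - m l χ) = 0 := by
      have h1 : ∑ χ ∈ R l₀, (1 - m l χ) + ∑ χ ∈ R l₀, m l χ = (R l₀).card := by
        rw [← Finset.sum_add_distrib, Finset.card_eq_sum_ones]
        refine Finset.sum_congr rfl fun χ hχ => ?_
        have := hle l χ ((hmemR _ _).mp hχ).2
        omega
      omega
    have e6 := (Finset.sum_eq_zero_iff.mp e5) χ hχ
    have e7 := hle l χ ((hmemR _ _).mp hχ).2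
    omega
  -- an element of `R` not containing the trivial character
  have hexists : ∃ θ ∈ R l₀, b θ = 0 := by
    by_contra hcon
    push Not at hcon
    have hge : (R l₀).card ≤ ∑ χ ∈ R l₀, b χ := by
      rw [Finset.card_eq_sum_ones]
      exact Finset.sum_le_sum fun χ hχ => Nat.pos_of_ne_zero (hcon χ hχ)
    have e1 := hdecomp l₀ ξ₀ hξ₁ hξ₂ hξ₃ b
    rw [H4 l₀] at e1
    by_cases hφξ : φ = ξ₀
    · rw [← hφξ, hφb] at e1
      omega
    · have hφR : φ ∈ R l₀ := by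
        rw [hmemR]
        rcases hξ₃ φ hφξ with h | h
        · rw [hφm] at h
          omega
        · exact h
      have h2 := Finset.add_sum_erase (R l₀) b hφR
      have h3 : ((R l₀).erase φ).card ≤ ∑ χ ∈ (R l₀).erase φ, b χ := by
        rw [Finset.card_eq_sum_ones]
        exact Finset.sum_le_sum fun χ hχ =>
          Nat.pos_of_ne_zero (hcon χ (Finset.mem_of_mem_erase hχ))
      have h4 := Finset.card_erase_of_mem hφR
      have h5 : 0 < (R l₀).card := Finset.card_pos.mpr ⟨φ, hφR⟩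
      rw [hφb] at h2
      omega
  obtain ⟨θ, hθR, hθb⟩ := hexists
  exact ⟨θ, hθb, fun l => hfinal l θ hθR⟩

end

end Cfsg.Agent.Lib.Perm
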