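import Mathlib
import Cfsg.Agent.Lib.Char.ZassLam
import Cfsg.Agent.Lib.Char.ZassFree
import Cfsg.Agent.Lib.Char.FSCount
import Cfsg.Agent.Lib.Char.Degree
import Cfsg.Agent.Lib.Perm.ZNComb

/-!
Linear characters of the kernel of a Zassenhaus group with two-point stabiliser of odd order:
inner products of the induced characters, Frobenius–Schur sums.
-/

set_option autoImplicit false
set_option linter.style.haveILetI false

namespace Cfsg.Agent.Lib.Perm

open Cfsg Cfsg.Agent.Lib.Char Cfsg.Agent.Lib.Char.Zass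
open scoped ComplexConjugate

universe u v

variable {G : Type u} {Ω : Type v} [Group G] [Fintype G] [MulAction G Ω] [Fintype Ω] (D : KData G Ω)

noncomputable instance znInstH : Fintype D.H := Fintype.ofFinite _

/-- A linear character of the kernel, as a function. -/
def znLc (lam : D.H →* ℂˣ) : D.H → ℂ := fun u => (lam u : ℂ)

variable {D}

theorem znLc_apply (lam : D.H →* ℂˣ) (u : D.H) : znLc D lam u = (lam u : ℂ) := rfl

theorem znLc_irr (lam : D.H →* ℂˣ) : IsIrrCharacter D.H (znLc D lam) := isIrrCharacter_of_monoidHom lam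

theorem znLc_char (lam : D.H →* ℂˣ) : IsCharacter D.H (znLc D lam) :=
  IsIrrCharacter.isCharacter (znLc_irr lam)

theorem znLc_class (lam : D.H →* ℂˣ) : IsClassFunction D.H (znLc D lam) :=
  IsCharacter.isClassFunction (znLc_char lam)

theorem zn_norm (lam : D.H →* ℂˣ) (u : D.H) : ‖((lam u : ℂˣ) : ℂ)‖ = 1 := by
  have h1 : (lam u) ^ (orderOf u) = 1 := by
    rw [← map_pow, pow_orderOf_eq_one, map_one]
  have h2 : ((lam u : ℂˣ) : ℂ) ^ (orderOf u) = 1 := by
    have := congrArg (fun z : ℂˣ => (z : ℂ)) h1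
    simpa using this
  exact Complex.norm_eq_one_of_pow_eq_one h2 (orderOf_pos u).ne'

theorem zn_conj (lam : D.H →* ℂˣ) (u : D.H) : conj ((lam u : ℂˣ) : ℂ) = ((lam u)⁻¹ : ℂˣ) := by
  rw [Units.val_inv_eq_inv_val, Complex.inv_def, Complex.normSq_eq_norm_sq, zn_norm]
  simp

theorem zn_conj' (lam : D.H →* ℂˣ) (u : D.H) : conj ((lam u : ℂˣ) : ℂ) = ((lam⁻¹ u : ℂˣ) : ℂ) := by
  rw [zn_conj, MonoidHom.inv_apply]

/-- Sum of a nontrivial linear character. -/
theorem zn_sum_lam {lam : D.H →* ℂˣ} (hlam : lam ≠ 1) : ∑ u : D.H, ((lam u : ℂˣ) : ℂ) = 0 := by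
  classical
  obtain ⟨v, hv⟩ : ∃ v, lam v ≠ 1 := by
    by_contra hcon
    push Not at hcon
    exact hlam (MonoidHom.ext hcon)
  have h1 : ∑ u : D.H, ((lam (v * u) : ℂˣ) : ℂ) = ∑ u : D.H, ((lam u : ℂˣ) : ℂ) :=
    Fintype.sum_equiv (Equiv.mulLeft v) _ _ fun u => rfl
  simp only [map_mul, Units.val_mul, ← Finset.mul_sum] at h1
  have h2 : (((lam v : ℂˣ) : ℂ) - 1) * ∑ u : D.H, ((lam u : ℂˣ) : ℂ) = 0 := by
    linear_combination h1
  rcases mul_eq_zero.mp h2 with h3 | h3
  · exact absurd (Units.ext (sub_eq_zero.mp h3)) hv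
  · exact h3

theorem zn_sum_one : ∑ u : D.H, (((1 : D.H →* ℂˣ) u : ℂˣ) : ℂ) = Nat.card D.H := by
  simp [Nat.card_eq_fintype_card]

/-- The twist of a linear character by an element of the two-point stabiliser. -/
noncomputable def znTw (lam : D.H →* ℂˣ) (k : D.E) : D.H →* ℂˣ where
  toFun u := lam ⟨(k : G)⁻¹ * u * k, by
    have h := conj_mem_kernel D.hZ D.hHcard D.hHa D.hHfix (g := (k : G)⁻¹)
      (by rw [inv_smul_eq_iff]; exact k.2.1.symm) u.2
    simpa using h⟩
  map_one' := by
    have : (⟨(k : G)⁻¹ * ((1 : D.H) : G) * k, by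
      have h := conj_mem_kernel D.hZ D.hHcard D.hHa D.hHfix (g := (k : G)⁻¹)
        (by rw [inv_smul_eq_iff]; exact k.2.1.symm) (1 : D.H).2
      simpa using h⟩ : D.H) = 1 := by
      apply Subtype.ext
      simp
    rw [this, map_one]
  map_mul' u v := by
    rw [← map_mul]
    congr 1
    apply Subtype.ext
    simp only [Subgroup.coe_mul]
    group

theorem znTw_apply_coe (lam : D.H →* ℂˣ) (k : D.E) (u : D.H) (hu : (k : G)⁻¹ * u * k ∈ D.H) :
    znTw lam k u = lam ⟨(k : G)⁻¹ * u * k, hu⟩ := rfl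

theorem znTw_one (lam : D.H →* ℂˣ) : znTw lam (1 : D.E) = lam := by
  ext u
  have h : ((1 : D.E) : G)⁻¹ * u * (1 : D.E) ∈ D.H := by simp
  rw [znTw_apply_coe lam 1 u h]
  congr 2
  apply Subtype.ext
  simp

theorem znTw_trivial (k : D.E) : znTw (1 : D.H →* ℂˣ) k = 1 := by
  ext u
  rfl

/-- A nontrivial linear character has trivial stabiliser in the two-point stabiliser. -/
theorem znTw_free {lam : D.H →* ℂˣ} (hlam : lam ≠ 1) {k : D.E} (h : znTw lam k = lam) : k = 1 := by
  classical
  by_contra hk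
  have hk' : (k : G) ≠ 1 := fun h1 => hk (Subtype.ext h1)
  have hmem : ∀ u : D.H, (k : G)⁻¹ * u * k ∈ D.H := by
    intro u
    have h := conj_mem_kernel D.hZ D.hHcard D.hHa D.hHfix (g := (k : G)⁻¹)
      (by rw [inv_smul_eq_iff]; exact k.2.1.symm) u.2
    simpa using h
  let f : D.H → D.H := fun w => w⁻¹ * ⟨(k : G)⁻¹ * w * k, hmem w⟩
  have hinj : Function.Injective f := by
    intro w v hwv
    have h1 : (w : G)⁻¹ * ((k : G)⁻¹ * w * k) = (v : G)⁻¹ * ((k : G)⁻¹ * v * k) :=
      congrArg Subtype.val hwv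
    set y : G := (v : G) * (w : G)⁻¹ with hy
    have hyH : y ∈ D.H := D.H.mul_mem v.2 (D.H.inv_mem w.2)
    have hyc : (k : G)⁻¹ * y * k = y := by
      have h2 : (k : G)⁻¹ * v * k = v * ((w : G)⁻¹ * ((k : G)⁻¹ * w * k)) := by
        rw [h1]; group
      calc (k : G)⁻¹ * y * k = ((k : G)⁻¹ * v * k) * ((k : G)⁻¹ * w * k)⁻¹ := by rw [hy]; group
        _ = v * ((w : G)⁻¹ * ((k : G)⁻¹ * w * k)) * ((k : G)⁻¹ * w * k)⁻¹ := by rw [h2]
        _ = y := by rw [hy]; group
    have hcomm : y * k = k * y := by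
      calc y * k = k * ((k : G)⁻¹ * y * k) := by group
        _ = k * y := by rw [hyc]
    by_cases hy1 : y = 1
    · apply Subtype.ext
      have : (v : G) = w := by
        rw [hy] at hy1
        exact (mul_inv_eq_one.mp hy1)
      exact this.symm
    · exfalso
      have hyb : y • D.b ≠ D.b := fun h3 => D.hab (D.hHfix y hyH hy1 D.b h3).symm
      have hya : y • D.a = D.a := D.hHa hyH
      have hyba : y • D.b ≠ D.a := by
        intro h3
        exact D.hab (MulAction.injective y (hya.trans h3.symm))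
      have hfix : (k : G) • (y • D.b) = y • D.b := by
        rw [← mul_smul, ← hcomm, mul_smul]
        have : (k : G) • D.b = D.b := k.2.2
        rw [this]
      exact hk' (Zass.eq_one_of_three D.hZ D.hab (Ne.symm hyb) (Ne.symm hyba) k.2.1 k.2.2 hfix)
  have hsurj : Function.Surjective f := Finite.injective_iff_surjective.mp hinj
  apply hlam
  ext u
  obtain ⟨w, rfl⟩ := hsurj u
  have e := congrArg (fun l : D.H →* ℂˣ => l w) h
  have e2 : lam ⟨(k : G)⁻¹ * w * k, hmem w⟩ = lam w := e
  simp only [f, map_mul, map_inv, e2]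
  simp

/-- The induced character. -/
noncomputable def znF (D : KData G Ω) (lam : D.H →* ℂˣ) : G → ℂ := indFun D.H (znLc D lam)

theorem znF_char (lam : D.H →* ℂˣ) : IsCharacter G (znF D lam) :=
  isCharacter_indFun D.H (znLc_char lam)

theorem znF_class (lam : D.H →* ℂˣ) : IsClassFunction G (znF D lam) :=
  isClassFunction_indFun D.H _

theorem znF_val (lam : D.H →* ℂˣ) (w : D.H) (hw : w ≠ 1) :
    znF D lam w = ∑ k : D.E, ((znTw lam k w : ℂˣ) : ℂ) := by
  classical
  have hw' : (w : G) ≠ 1 := fun h => hw (Subtype.ext h)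
  unfold znF
  rw [indFun_apply]
  let Fn : G → ℂ := fun x => extendByZero D.H (znLc D lam) (x⁻¹ * w * x)
  have h0 : ∀ x : G, x ∉ D.S → Fn x = 0 := by
    intro x hx
    apply extendByZero_of_notMem
    intro hmem
    apply hx
    have h1 : (x⁻¹ * (w : G) * x) • D.a = D.a := D.hHa hmem
    rw [mul_smul, mul_smul, inv_smul_eq_iff] at h1
    exact D.hHfix w w.2 hw' _ h1
  have h1 : ∑ x : G, Fn x = ∑ s : D.S, Fn s := by
    have h2 := sum_subgroup_of_support (K := D.S) (L := ⊤) le_top Fn (fun g _ hg => h0 g hg)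
    rw [← h2]
    exact (Fintype.sum_equiv (Subgroup.topEquiv (G := G)).toEquiv _ _ fun x => rfl).symm
  have hmem : ∀ x : G, x • D.a = D.a → ∀ u ∈ D.H, x⁻¹ * u * x ∈ D.H := by
    intro x hx u hu
    have h := conj_mem_kernel D.hZ D.hHcard D.hHa D.hHfix (g := x⁻¹)
      (by rw [inv_smul_eq_iff]; exact hx.symm) hu
    simpa using h
  have hF : ∀ u ∈ D.H, ∀ x ∈ D.E, Fn (u * x) = Fn x := by
    intro u hu x hx
    have hxa : x • D.a = D.a := hx.1
    have e1 : x⁻¹ * (w : G) * x ∈ D.H := hmem x hxa w w.2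
    have e2 : (u * x)⁻¹ * (w : G) * (u * x) ∈ D.H := by
      have : (u * x)⁻¹ * (w : G) * (u * x) = x⁻¹ * (u⁻¹ * w * u) * x := by group
      rw [this]
      exact hmem x hxa _ (D.H.mul_mem (D.H.mul_mem (D.H.inv_mem hu) w.2) hu)
    simp only [Fn]
    rw [extendByZero_of_mem D.H _ e1, extendByZero_of_mem D.H _ e2]
    simp only [znLc_apply]
    have e3 : x⁻¹ * u * x ∈ D.H := hmem x hxa u hu
    have e4 : (⟨(u * x)⁻¹ * (w : G) * (u * x), e2⟩ : D.H) =
        (⟨x⁻¹ * u * x, e3⟩ : D.H)⁻¹ * ⟨x⁻¹ * (w : G) * x, e1⟩ * ⟨x⁻¹ * u * x, e3⟩ := by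
      apply Subtype.ext
      simp only [Subgroup.coe_mul, Subgroup.coe_inv]
      group
    rw [e4]
    simp only [map_mul, map_inv]
    congr 1
    rw [mul_comm, ← mul_assoc]
    simp
  rw [h1, D.sum_S Fn hF]
  have hcard : (Nat.card D.H : ℂ) ≠ 0 := by exact_mod_cast Nat.card_pos.ne'
  rw [← mul_assoc, inv_mul_cancel₀ hcard, one_mul]
  refine Finset.sum_congr rfl fun k _ => ?_
  simp only [Fn]
  have e1 : (k : G)⁻¹ * (w : G) * k ∈ D.H := hmem k k.2.1 w w.2
  rw [extendByZero_of_mem D.H _ e1]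
  rfl

/-- The count of twists. -/
noncomputable def znN (lam lam' : D.H →* ℂˣ) : ℕ := by
  classical
  exact (Finset.univ.filter fun k : D.E => znTw lam k = lam').card

theorem zn_h_index : D.H.index = Fintype.card Ω * Nat.card D.E := by
  have h1 := D.H.card_mul_index
  have h2 := D.card_G
  have hpos : 0 < Nat.card D.H := Nat.card_pos
  apply Nat.eq_of_mul_eq_mul_left hpos
  rw [h1, h2]
  ring

theorem zn_lc_inj {lam lam' : D.H →* ℂˣ} (h : znLc D lam = znLc D lam') : lam = lam' := by
  ext u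
  exact congrFun h u

theorem znF_inner (lam lam' : D.H →* ℂˣ) :
    classInner (znF D lam) (znF D lam') = (Nat.card D.E : ℂ) + (znN lam lam' : ℂ) := by
  classical
  have h1 := classInner_indFun_right D.H (znLc D lam') (znF D lam) (znF_class lam)
  change classInner (znF D lam) (znF D lam') = _ at h1
  rw [h1]
  unfold classInner
  have hcardH : (Nat.card D.H : ℂ) ≠ 0 := by exact_mod_cast Nat.card_pos.ne'
  have hΩ : (Fintype.card Ω : ℂ) = Nat.card D.H + 1 := by
    rw [← D.hHcard]
    push_cast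
    ring
  have h2 := Finset.add_sum_erase Finset.univ
    (fun w : D.H => znF D lam w * conj (znLc D lam' w)) (Finset.mem_univ (1 : D.H))
  rw [← h2]
  have hone : znF D lam ((1 : D.H) : G) = (Fintype.card Ω * Nat.card D.E : ℂ) := by
    unfold znF
    rw [show ((1 : D.H) : G) = 1 from rfl, indFun_one, zn_h_index]
    simp [znLc]
  have hone' : conj (znLc D lam' 1) = 1 := by simp [znLc]
  have hsum : ∑ w ∈ Finset.univ.erase (1 : D.H), znF D lam w * conj (znLc D lam' w) =
      ∑ k : D.E, (((if znTw lam k = lam' then (Nat.card D.H : ℂ) else 0)) - 1) := by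
    have e1 : ∀ w ∈ Finset.univ.erase (1 : D.H), znF D lam w * conj (znLc D lam' w) =
        ∑ k : D.E, ((znTw lam k w : ℂˣ) : ℂ) * conj (znLc D lam' w) := by
      intro w hw
      rw [znF_val lam w (Finset.ne_of_mem_erase hw), Finset.sum_mul]
    rw [Finset.sum_congr rfl e1, Finset.sum_comm]
    refine Finset.sum_congr rfl fun k _ => ?_
    have e2 := Finset.add_sum_erase Finset.univ
      (fun w : D.H => ((znTw lam k w : ℂˣ) : ℂ) * conj (znLc D lam' w)) (Finset.mem_univ (1 : D.H))
    have e3 : ∑ w : D.H, ((znTw lam k w : ℂˣ) : ℂ) * conj (znLc D lam' w) =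
        if znTw lam k = lam' then (Nat.card D.H : ℂ) else 0 := by
      have e4 : classInner (znLc D (znTw lam k)) (znLc D lam') =
          if znTw lam k = lam' then 1 else 0 := by
        by_cases hk : znTw lam k = lam'
        · rw [if_pos hk, hk]
          exact classInner_irr_self (znLc_irr lam')
        · rw [if_neg hk]
          exact classInner_irr_of_ne (znLc_irr _) (znLc_irr lam') (fun h => hk (zn_lc_inj h))
      unfold classInner at e4
      have e5 : ∑ w : D.H, znLc D (znTw lam k) w * conj (znLc D lam' w) =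
          (Nat.card D.H : ℂ) * if znTw lam k = lam' then 1 else 0 := by
        rw [← e4]
        field_simp
      change ∑ w : D.H, znLc D (znTw lam k) w * conj (znLc D lam' w) = _
      rw [e5]
      split_ifs <;> simp
    rw [e3] at e2
    rw [← e2]
    simp only [znLc, map_one, Units.val_one, map_one, mul_one]
    ring
  rw [hsum, hone, hone']
  have hcount : ∑ k : D.E, ((if znTw lam k = lam' then (Nat.card D.H : ℂ) else 0) - 1) =
      (Nat.card D.H : ℂ) * (znN lam lam' : ℂ) - (Nat.card D.E : ℂ) := by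
    rw [Finset.sum_sub_distrib]
    have e1 : ∑ k : D.E, (if znTw lam k = lam' then (Nat.card D.H : ℂ) else 0) =
        (Nat.card D.H : ℂ) * (znN lam lam' : ℂ) := by
      unfold znN
      rw [← Finset.sum_filter, Finset.sum_const, nsmul_eq_mul, mul_comm]
    rw [e1]
    simp [Nat.card_eq_fintype_card]
  rw [hcount, hΩ]
  field_simp
  ring

/-- The multiplicity of a linear character of the kernel in an irreducible character. -/
noncomputable def znM (D : KData G Ω) (lam : D.H →* ℂˣ) (χ : IrrCharacter G) : ℕ :=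
  Classical.choose (IsCharacter.classInner_irr_eq_nat (znF_char (D := D) lam) χ.2)

theorem znM_spec (lam : D.H →* ℂˣ) (χ : IrrCharacter G) :
    classInner (znF D lam) (χ : G → ℂ) = znM D lam χ :=
  Classical.choose_spec (IsCharacter.classInner_irr_eq_nat (znF_char (D := D) lam) χ.2)

theorem znM_frob (lam : D.H →* ℂˣ) (χ : IrrCharacter G) :
    (znM D lam χ : ℂ) = classInner (znLc D lam) (fun w : D.H => (χ : G → ℂ) w) := by
  rw [← znM_spec]
  exact classInner_indFun_left D.H (znLc D lam) χ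
    (IsCharacter.isClassFunction (IsIrrCharacter.isCharacter χ.2))

theorem znM_sum (lam lam' : D.H →* ℂˣ) :
    ∑ χ : IrrCharacter G, znM D lam χ * znM D lam' χ = Nat.card D.E + znN lam lam' := by
  have h1 := classInner_eq_sum_coeffs (znF D lam) (znF D lam') (znF_class lam) (znF_class lam')
  rw [znF_inner] at h1
  have h2 : ((∑ χ : IrrCharacter G, znM D lam χ * znM D lam' χ : ℕ) : ℂ) =
      ((Nat.card D.E + znN lam lam' : ℕ) : ℂ) := by
    push_cast
    rw [h1]
    refine Finset.sum_congr rfl fun χ _ => ?_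
    rw [znM_spec, znM_spec]
    simp
  exact_mod_cast h2

theorem znN_self {lam : D.H →* ℂˣ} (hlam : lam ≠ 1) : znN lam lam = 1 := by
  classical
  unfold znN
  rw [Finset.card_eq_one]
  refine ⟨1, ?_⟩
  ext k
  simp only [Finset.mem_filter, Finset.mem_univ, true_and, Finset.mem_singleton]
  constructor
  · exact znTw_free hlam
  · rintro rfl
    exact znTw_one lam

theorem znN_of_not_cong {lam lam' : D.H →* ℂˣ} (h : ¬ ∃ k, znTw lam k = lam') : znN lam lam' = 0 := by
  classical
  unfold znN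
  rw [Finset.card_eq_zero, Finset.filter_eq_empty_iff]
  intro k _ hk
  exact h ⟨k, hk⟩

theorem znN_one_left {lam' : D.H →* ℂˣ} (h : lam' ≠ 1) : znN (1 : D.H →* ℂˣ) lam' = 0 := by
  apply znN_of_not_cong
  rintro ⟨k, hk⟩
  rw [znTw_trivial] at hk
  exact h hk.symm

theorem znM_tw (lam : D.H →* ℂˣ) (k : D.E) (χ : IrrCharacter G) : znM D (znTw lam k) χ = znM D lam χ := by
  classical
  have h : (znM D (znTw lam k) χ : ℂ) = znM D lam χ := by
    rw [znM_frob, znM_frob]
    unfold classInner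
    congr 1
    have hk : ∀ u : D.H, (k : G)⁻¹ * u * k ∈ D.H := by
      intro u
      have h := conj_mem_kernel D.hZ D.hHcard D.hHa D.hHfix (g := (k : G)⁻¹)
        (by rw [inv_smul_eq_iff]; exact k.2.1.symm) u.2
      simpa using h
    have hk' : ∀ u : D.H, (k : G) * u * (k : G)⁻¹ ∈ D.H := by
      intro u
      exact conj_mem_kernel D.hZ D.hHcard D.hHa D.hHfix (g := (k : G)) k.2.1 u.2
    let e : D.H ≃ D.H :=
      { toFun := fun u => ⟨(k : G)⁻¹ * u * k, hk u⟩
        invFun := fun u => ⟨(k : G) * u * (k : G)⁻¹, hk' u⟩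
        left_inv := fun u => Subtype.ext (by simp [mul_assoc])
        right_inv := fun u => Subtype.ext (by simp [mul_assoc]) }
    refine Fintype.sum_equiv e _ _ fun u => ?_
    have e1 : (χ : G → ℂ) ((e u : D.H) : G) = (χ : G → ℂ) u := by
      have := IsCharacter.isClassFunction (IsIrrCharacter.isCharacter χ.2) (u : G) ((k : G)⁻¹)
      simpa [e] using this
    change znLc D (znTw lam k) u * conj ((χ : G → ℂ) u) =
      znLc D lam (e u) * conj ((χ : G → ℂ) ((e u : D.H) : G))
    rw [e1]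
    rfl
  exact_mod_cast h

end Cfsg.Agent.Lib.Perm
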