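import Mathlib
import Cfsg.Agent.Lib.Perm.ZNChar

/-!
Frobenius–Schur sums for linear characters of the kernel of a Zassenhaus group; existence of the
character containing all nontrivial linear characters once.
-/

set_option autoImplicit false
set_option linter.style.haveILetI false

namespace Cfsg.Agent.Lib.Perm

open Cfsg Cfsg.Agent.Lib.Char Cfsg.Agent.Lib.Char.Zass
open scoped ComplexConjugate

universe u v

variable {G : Type u} {Ω : Type v} [Group G] [Fintype G] [MulAction G Ω] [Fintype Ω] {D : KData G Ω}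

theorem zn_mem_H_of_sq {u : G} (hua : u • D.a = D.a) (hu2 : u * u ∈ D.H) : u ∈ D.H := by
  obtain ⟨v, hv, x, hxa, hxb, rfl⟩ := exists_kernel_mul D.hab D.hHcard D.hHa D.hHfix hua
  have hc : x * v * x⁻¹ ∈ D.H := conj_mem_kernel D.hZ D.hHcard D.hHa D.hHfix hxa hv
  have h1 : x * x ∈ D.H := by
    have e : x * x = (x * v * x⁻¹)⁻¹ * (v⁻¹ * ((v * x) * (v * x))) := by group
    rw [e]
    exact D.H.mul_mem (D.H.inv_mem hc) (D.H.mul_mem (D.H.inv_mem hv) hu2)
  have h2 : x * x = 1 := by
    by_contra hne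
    have h3 : (x * x) • D.b = D.b := by rw [mul_smul, hxb, hxb]
    exact D.hab (D.hHfix _ h1 hne D.b h3).symm
  have h4 : x = 1 := by
    have hmem : x ∈ D.E := ⟨hxa, hxb⟩
    have h5 : orderOf (⟨x, hmem⟩ : D.E) ∣ Nat.card D.E := orderOf_dvd_natCard _
    have h6 : orderOf (⟨x, hmem⟩ : D.E) ∣ 2 := by
      apply orderOf_dvd_of_pow_eq_one
      apply Subtype.ext
      simp [pow_two, h2]
    have hodd := D.hodd
    have h7 : Odd (orderOf (⟨x, hmem⟩ : D.E)) := Odd.of_dvd_nat hodd h5
    have h8 : orderOf (⟨x, hmem⟩ : D.E) = 1 := by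
      have := Nat.le_of_dvd (by norm_num) h6
      obtain ⟨m, hm⟩ := h7
      omega
    have h9 := orderOf_eq_one_iff.mp h8
    exact congrArg Subtype.val h9
  rw [h4, mul_one]
  exact hv

theorem zn_sq_of_not_mem {u : G} (hu : u ∉ D.H) (hu2 : u * u ∈ D.H) : u * u = 1 := by
  by_contra hne
  apply hu
  apply zn_mem_H_of_sq _ hu2
  have h1 : (u * u) • (u • D.a) = u • D.a := by
    have : (u * u) • D.a = D.a := D.hHa hu2
    have e : (u * u) * u = u * (u * u) := by group
    rw [← mul_smul, e, mul_smul, this]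
  exact D.hHfix _ hu2 hne _ h1

theorem zn_card_invol (hinv : ∀ k ∈ D.E, D.t * k * D.t = k⁻¹) :
    Nat.card {u : G // u ∉ D.H ∧ u * u = 1} = Nat.card D.H * Nat.card D.E := by
  classical
  have hti : D.t⁻¹ = D.t := D.t_inv
  have hkt : ∀ k ∈ D.E, (k * D.t) * (k * D.t) = 1 := by
    intro k hk
    calc (k * D.t) * (k * D.t) = k * (D.t * k * D.t) := by group
      _ = 1 := by rw [hinv k hk]; group
  have hne : ∀ (v : D.H) (k : D.E), (v : G) * (k * D.t) * (v : G)⁻¹ ∉ D.H ∧
      ((v : G) * (k * D.t) * (v : G)⁻¹) * ((v : G) * (k * D.t) * (v : G)⁻¹) = 1 := by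
    intro v k
    constructor
    · intro hmem
      have h1 : ((v : G) * (k * D.t) * (v : G)⁻¹) • D.a = D.a := D.hHa hmem
      have hv : (v : G) • D.a = D.a := D.hHa v.2
      have hv' : (v : G)⁻¹ • D.a = D.a := by rw [inv_smul_eq_iff, hv]
      have hk : (k : G) • D.b = D.b := k.2.2
      simp only [mul_smul] at h1
      rw [hv', D.hta, hk] at h1
      have h2 : D.b = D.a := by
        apply MulAction.injective (v : G)
        change (v : G) • D.b = (v : G) • D.a
        rw [h1, hv]
      exact D.hab h2.symm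
    · calc ((v : G) * (k * D.t) * (v : G)⁻¹) * ((v : G) * (k * D.t) * (v : G)⁻¹)
          = (v : G) * ((k * D.t) * (k * D.t)) * (v : G)⁻¹ := by group
        _ = 1 := by rw [hkt k k.2]; group
  let Φ : D.H × D.E → {u : G // u ∉ D.H ∧ u * u = 1} := fun p =>
    ⟨(p.1 : G) * (p.2 * D.t) * (p.1 : G)⁻¹, hne p.1 p.2⟩
  have hΦa : ∀ (v : D.H) (k : D.E), ((v : G) * (k * D.t) * (v : G)⁻¹) • D.a = (v : G) • D.b := by
    intro v k
    have hv : (v : G) • D.a = D.a := D.hHa v.2
    have hv' : (v : G)⁻¹ • D.a = D.a := by rw [inv_smul_eq_iff, hv]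
    have hk : (k : G) • D.b = D.b := k.2.2
    simp only [mul_smul]
    rw [hv', D.hta, hk]
  have hbij : Function.Bijective Φ := by
    constructor
    · rintro ⟨v, k⟩ ⟨v', k'⟩ h
      have h1 : (v : G) * (k * D.t) * (v : G)⁻¹ = (v' : G) * (k' * D.t) * (v' : G)⁻¹ :=
        congrArg Subtype.val h
      have h2 : (v : G) • D.b = (v' : G) • D.b := by
        rw [← hΦa v k, ← hΦa v' k', h1]
      have h3 : (v' : G)⁻¹ * v = 1 := by
        by_contra hne3
        have h4 : ((v' : G)⁻¹ * v) • D.b = D.b := by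
          rw [mul_smul, h2, inv_smul_smul]
        exact D.hab (D.hHfix _ (D.H.mul_mem (D.H.inv_mem v'.2) v.2) hne3 D.b h4).symm
      have h5 : (v : G) = v' := (inv_mul_eq_one.mp h3).symm
      have hv : v = v' := Subtype.ext h5
      subst hv
      have h6 : (k : G) * D.t = k' * D.t := by
        have := h1
        have e : (v : G)⁻¹ * ((v : G) * (k * D.t) * (v : G)⁻¹) * v = k * D.t := by group
        have e' : (v : G)⁻¹ * ((v : G) * (k' * D.t) * (v : G)⁻¹) * v = k' * D.t := by group
        rw [← e, ← e', this]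
      have hk : k = k' := Subtype.ext (mul_right_cancel h6)
      rw [hk]
    · rintro ⟨u, hu, hu2⟩
      have hua : u • D.a ≠ D.a := by
        intro h
        apply hu
        apply zn_mem_H_of_sq h
        rw [hu2]
        exact D.H.one_mem
      obtain ⟨v, hv, hvb⟩ := regular_of_kernel D.hHcard D.hHa D.hHfix (c := D.b) (d := u • D.a)
        D.hab.symm hua
      have hva : v • D.a = D.a := D.hHa hv
      have huc : u • (u • D.a) = D.a := by rw [← mul_smul, hu2, one_smul]
      set u' := v⁻¹ * u * v with hu'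
      have h1 : u' • D.a = D.b := by
        rw [hu']
        simp only [mul_smul]
        rw [hva, inv_smul_eq_iff, hvb]
      have h2 : u' • D.b = D.a := by
        rw [hu']
        simp only [mul_smul]
        rw [hvb, huc, inv_smul_eq_iff, hva]
      have hk : u' * D.t ∈ D.E := by
        constructor
        · change (u' * D.t) • D.a = D.a
          rw [mul_smul, D.hta, h2]
        · change (u' * D.t) • D.b = D.b
          rw [mul_smul, D.htb, h1]
      refine ⟨(⟨v, hv⟩, ⟨u' * D.t, hk⟩), ?_⟩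
      apply Subtype.ext
      change v * ((u' * D.t) * D.t) * v⁻¹ = u
      have htt := D.ht3
      calc v * ((u' * D.t) * D.t) * v⁻¹ = v * (u' * (D.t * D.t)) * v⁻¹ := by group
        _ = v * u' * v⁻¹ := by rw [htt]; group
        _ = u := by rw [hu']; group
  rw [← Nat.card_congr (Equiv.ofBijective Φ hbij), Nat.card_prod]

theorem zn_sum_fs_conj (g : G) :
    ∑ χ : IrrCharacter G, fsInd (χ : G → ℂ) * conj ((χ : G → ℂ) g) = sqrtCount g := by
  have h2 := sum_fsInd_mul_apply g
  have h3 : conj (sqrtCount g) = sqrtCount g := by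
    unfold sqrtCount
    simp
  rw [← h3, ← h2, map_sum]
  refine Finset.sum_congr rfl fun χ _ => ?_
  rw [map_mul, conj_fsInd χ.2]

theorem zn_fs_sum (hinv : ∀ k ∈ D.E, D.t * k * D.t = k⁻¹) (lam : D.H →* ℂˣ) :
    ∑ χ : IrrCharacter G, fsInd (χ : G → ℂ) * (znM D lam χ : ℂ) =
      (Nat.card D.E : ℂ) + if lam * lam = 1 then 1 else 0 := by
  classical
  have hcardH : (Nat.card D.H : ℂ) ≠ 0 := by exact_mod_cast Nat.card_pos.ne'
  let Ext : G → ℂ := extendByZero D.H (znLc D lam)
  have h1 : ∑ χ : IrrCharacter G, fsInd (χ : G → ℂ) * (znM D lam χ : ℂ) =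
      (Nat.card D.H : ℂ)⁻¹ * ∑ u : G, Ext (u * u) := by
    simp only [znM_frob]
    unfold classInner
    have e1 : ∀ χ : IrrCharacter G, fsInd (χ : G → ℂ) * ((Nat.card D.H : ℂ)⁻¹ *
        ∑ w : D.H, znLc D lam w * conj ((χ : G → ℂ) w)) =
        (Nat.card D.H : ℂ)⁻¹ * ∑ w : D.H, znLc D lam w * (fsInd (χ : G → ℂ) * conj ((χ : G → ℂ) w)) := by
      intro χ
      rw [mul_left_comm, Finset.mul_sum]
      congr 1
      refine Finset.sum_congr rfl fun w _ => ?_
      ring
    simp only [e1]
    rw [← Finset.mul_sum, Finset.sum_comm]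
    congr 1
    simp only [← Finset.mul_sum, zn_sum_fs_conj]
    rw [← sum_sqrtCount_mul Ext]
    have h2 := sum_extendByZero_mul D.H (znLc D lam) (fun g => sqrtCount g)
    simp only [Ext]
    simp only [mul_comm (sqrtCount _)]
    exact h2.symm
  rw [h1]
  -- evaluate the sum
  have hsplit : ∑ u : G, Ext (u * u) = ∑ u : D.H, (((lam * lam) u : ℂˣ) : ℂ) +
      (Nat.card D.H * Nat.card D.E : ℕ) := by
    have e1 : ∀ u : G, Ext (u * u) = (if u ∈ D.H then Ext (u * u) else 0) +
        (if u ∉ D.H ∧ u * u = 1 then 1 else 0) := by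
      intro u
      by_cases hu : u ∈ D.H
      · simp [hu]
      · simp only [hu, if_false, zero_add, not_false_eq_true, true_and]
        by_cases hu2 : u * u ∈ D.H
        · have h3 := zn_sq_of_not_mem hu hu2
          rw [if_pos h3, h3]
          simp only [Ext]
          rw [extendByZero_of_mem D.H _ D.H.one_mem]
          have e : (⟨1, D.H.one_mem⟩ : D.H) = 1 := rfl
          simp [znLc, e]
        · rw [if_neg (fun h3 => hu2 (by rw [h3]; exact D.H.one_mem))]
          exact extendByZero_of_notMem D.H _ hu2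
    rw [Finset.sum_congr rfl fun u _ => e1 u, Finset.sum_add_distrib]
    congr 1
    · rw [← Finset.sum_filter]
      have e2 : ∑ u ∈ Finset.univ.filter fun u : G => u ∈ D.H, Ext (u * u) =
          ∑ u : D.H, Ext ((u : G) * u) := by
        rw [Finset.sum_subtype (Finset.univ.filter fun u : G => u ∈ D.H) (p := fun u => u ∈ D.H) (by simp)]
      rw [e2]
      refine Finset.sum_congr rfl fun u _ => ?_
      simp only [Ext]
      have e3 : (u : G) * u = ((u * u : D.H) : G) := rfl
      rw [e3, extendByZero_coe]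
      simp [znLc]
    · rw [Finset.sum_boole, ← zn_card_invol hinv, Nat.card_eq_fintype_card, Fintype.card_subtype]
  rw [hsplit]
  by_cases hl : lam * lam = 1
  · rw [if_pos hl, hl]
    have e4 := zn_sum_one (D := D)
    rw [e4]
    push_cast
    field_simp
    ring
  · rw [if_neg hl, zn_sum_lam hl]
    push_cast
    field_simp
    ring

/-- The irreducible character induced from a nontrivial character of the two-point stabiliser. -/
theorem zn_exists_phi (ν₀ : D.E →* ℂˣ)
    (hν : ∃ x : D.E, D.ff (D.lift ν₀) x ≠ D.ff (D.lift ν₀) (D.t * x * D.t)) :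
    ∃ φ : IrrCharacter G, (∀ lam : D.H →* ℂˣ, lam ≠ 1 → znM D lam φ = 1) ∧
      znM D (1 : D.H →* ℂˣ) φ = 2 := by
  classical
  have hirr := D.isIrr_ind_of_not_invariant (D.lift ν₀) hν
  let φ : IrrCharacter G := ⟨indFun D.S (D.mu (D.lift ν₀)), hirr⟩
  have hval : ∀ w : D.H, w ≠ 1 → (φ : G → ℂ) w = 1 := by
    intro w hw
    exact D.ind_of_kernel (D.lift ν₀) (fun s hs => D.lift_kernel ν₀ s hs) w.2
      (fun h => hw (Subtype.ext h))
  have hone : (φ : G → ℂ) ((1 : D.H) : G) = Fintype.card Ω := by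
    change indFun D.S (D.mu (D.lift ν₀)) 1 = _
    rw [indFun_one]
    have h1 : D.mu (D.lift ν₀) 1 = 1 := by simp [KData.mu]
    rw [h1, mul_one]
    have h2 := D.S.card_mul_index
    rw [D.card_G, D.card_S] at h2
    have hpos : 0 < Nat.card D.H * Nat.card D.E := Nat.mul_pos Nat.card_pos Nat.card_pos
    have h3 : D.S.index = Fintype.card Ω := by
      apply Nat.eq_of_mul_eq_mul_left hpos
      rw [h2]
      ring
    rw [h3]
  have hcardH : (Nat.card D.H : ℂ) ≠ 0 := by exact_mod_cast Nat.card_pos.ne'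
  have hΩ : (Fintype.card Ω : ℂ) = Nat.card D.H + 1 := by
    rw [← D.hHcard]
    push_cast
    ring
  have key : ∀ lam : D.H →* ℂˣ, (znM D lam φ : ℂ) =
      (Nat.card D.H : ℂ)⁻¹ * ((Nat.card D.H : ℂ) + ∑ u : D.H, ((lam u : ℂˣ) : ℂ)) := by
    intro lam
    rw [znM_frob]
    unfold classInner
    congr 1
    have h2 := Finset.add_sum_erase Finset.univ
      (fun w : D.H => znLc D lam w * conj ((φ : G → ℂ) w)) (Finset.mem_univ (1 : D.H))
    rw [← h2, hone]
    have h3 : ∀ w ∈ Finset.univ.erase (1 : D.H), znLc D lam w * conj ((φ : G → ℂ) w) = ((lam w : ℂˣ) : ℂ) := by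
      intro w hw
      rw [hval w (Finset.ne_of_mem_erase hw)]
      simp [znLc]
    rw [Finset.sum_congr rfl h3]
    have h4 := Finset.add_sum_erase Finset.univ (fun w : D.H => ((lam w : ℂˣ) : ℂ)) (Finset.mem_univ (1 : D.H))
    rw [← h4, hΩ]
    simp [znLc]
  refine ⟨φ, fun lam hlam => ?_, ?_⟩
  · have h := key lam
    rw [zn_sum_lam hlam, add_zero, inv_mul_cancel₀ hcardH] at h
    exact_mod_cast h
  · have h := key 1
    rw [zn_sum_one (D := D)] at h
    have h2 : (znM D (1 : D.H →* ℂˣ) φ : ℂ) = 2 := by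
      rw [h]
      field_simp
      ring
    exact_mod_cast h2

end Cfsg.Agent.Lib.Perm
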