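import Mathlib
import Cfsg.Agent.Lib.Perm.ZNFS
import Cfsg.Agent.Lib.Perm.ZassOdd
import Cfsg.Agent.Lib.Char.Linear
import Cfsg.Agent.Lib.Blocks.Central
import Cfsg.Agent.Lib.H8Group.CharVal

/-!
The numerical theorem for Zassenhaus groups with abelian kernel and two-point stabiliser of odd
order inverted by the interchanging involution: the degree is `e + 2` or `2 e + 2`.
-/

set_option autoImplicit false
set_option linter.style.haveILetI false

namespace Cfsg.Agent.Lib.Perm

open Cfsg Cfsg.Agent.Lib.Char Cfsg.Agent.Lib.Char.Zass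
open scoped ComplexConjugate

universe u v

/-- Linear characters of an abelian group separate points. -/
theorem zn_char_separate {A : Type u} [Group A] [Fintype A] (hcomm : ∀ a b : A, a * b = b * a)
    {x : A} (hx : x ≠ 1) : ∃ lam : A →* ℂˣ, lam x ≠ 1 := by
  classical
  by_contra hcon
  push Not at hcon
  have hdeg := comm_iff_irr_degree_one.mp hcomm
  have h1 : ∀ χ : IrrCharacter A, (χ : A → ℂ) x = 1 := by
    intro χ
    obtain ⟨lam, hlam⟩ := IsCharacter.exists_monoidHom (IsIrrCharacter.isCharacter χ.2) (hdeg χ)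
    rw [hlam]
    change ((lam x : ℂˣ) : ℂ) = 1
    rw [hcon lam]
    simp
  have h2 := sum_irr_degree_mul_apply x
  rw [if_neg hx] at h2
  simp only [hdeg, h1, mul_one, Finset.sum_const, nsmul_eq_mul, Finset.card_univ] at h2
  have h3 : (Fintype.card (IrrCharacter A) : ℂ) = 0 := h2
  have h4 : Fintype.card (IrrCharacter A) = 0 := by exact_mod_cast h3
  have h5 : IsEmpty (IrrCharacter A) := Fintype.card_eq_zero_iff.mp h4
  exact h5.elim ⟨_, isIrrCharacter_one⟩

variable {G : Type u} {Ω : Type v} [Group G] [Fintype G] [MulAction G Ω] [Fintype Ω] {D : KData G Ω}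

/-- The sign of the indicator, as an integer. -/
noncomputable def znNu (χ : IrrCharacter G) : ℤ := by
  classical
  exact if fsInd (χ : G → ℂ) = 0 then 0 else if fsInd (χ : G → ℂ) = 1 then 1 else -1

theorem znNu_cast (χ : IrrCharacter G) : ((znNu χ : ℤ) : ℂ) = fsInd (χ : G → ℂ) := by
  classical
  unfold znNu
  rcases fsInd_trichotomy χ.2 with h | h | h
  · simp [h]
  · simp [h]
  · have : (-1 : ℂ) ≠ 0 := by norm_num
    have h2 : (-1 : ℂ) ≠ 1 := by norm_num
    simp [h, h2]

theorem znNu_tri (χ : IrrCharacter G) : znNu χ = 0 ∨ znNu χ = 1 ∨ znNu χ = -1 := by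
  classical
  unfold znNu
  split_ifs <;> simp

theorem znNu_eq_zero_iff (χ : IrrCharacter G) : znNu χ = 0 ↔ fsInd (χ : G → ℂ) = 0 := by
  have h := znNu_cast χ
  constructor
  · intro h0
    rw [← h, h0]
    simp
  · intro h0
    rw [h0] at h
    exact_mod_cast h

/-- The complex conjugate of an irreducible character. -/
noncomputable def znCj (χ : IrrCharacter G) : IrrCharacter G :=
  ⟨fun g => conj ((χ : G → ℂ) g), IsIrrCharacter.conj χ.2⟩

theorem zn_fs_conj (χ : IrrCharacter G) : fsInd ((znCj χ : IrrCharacter G) : G → ℂ) = fsInd (χ : G → ℂ) := by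
  have h : fsInd ((znCj χ : IrrCharacter G) : G → ℂ) = conj (fsInd (χ : G → ℂ)) := by
    unfold fsInd
    rw [map_mul, map_sum]
    congr 1
    simp
  rw [h, conj_fsInd χ.2]

theorem zn_cj_self {χ : IrrCharacter G} (h : fsInd (χ : G → ℂ) ≠ 0) : znCj χ = χ := by
  apply Subtype.ext
  funext g
  change conj ((χ : G → ℂ) g) = (χ : G → ℂ) g
  exact Complex.conj_eq_iff_im.mpr (im_eq_zero_of_fsInd_ne_zero χ.2 h g)

theorem zn_cj_ne {χ : IrrCharacter G} (h : fsInd (χ : G → ℂ) = 0) : znCj χ ≠ χ := by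
  intro hc
  obtain ⟨s, hs⟩ := (fsInd_eq_zero_iff χ.2).mp h
  apply hs
  have h2 : conj ((χ : G → ℂ) s) = (χ : G → ℂ) s := congrFun (congrArg Subtype.val hc) s
  exact Complex.conj_eq_iff_im.mp h2

theorem znM_bar (lam : D.H →* ℂˣ) (χ : IrrCharacter G) : znM D lam⁻¹ (znCj χ) = znM D lam χ := by
  classical
  have h : (znM D lam⁻¹ (znCj χ) : ℂ) = znM D lam χ := by
    have h2 : (znM D lam⁻¹ (znCj χ) : ℂ) = conj (znM D lam χ : ℂ) := by
      rw [znM_frob, znM_frob]
      unfold classInner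
      rw [map_mul, map_sum]
      congr 1
      · simp
      refine Finset.sum_congr rfl fun w _ => ?_
      change ((lam⁻¹ w : ℂˣ) : ℂ) * conj (conj ((χ : G → ℂ) w)) =
        conj (((lam w : ℂˣ) : ℂ) * conj ((χ : G → ℂ) w))
      rw [map_mul, zn_conj']
    rw [h2]
    simp
  exact_mod_cast h

/-- The character `θ`. -/
theorem zn_theta (hinv : ∀ k ∈ D.E, D.t * k * D.t = k⁻¹) (ν₀ : D.E →* ℂˣ)
    (hν : ∃ x : D.E, D.ff (D.lift ν₀) x ≠ D.ff (D.lift ν₀) (D.t * x * D.t))
    (lam₀ : D.H →* ℂˣ) (hlam₀ : lam₀ * lam₀ ≠ 1) :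
    ∃ θ : IrrCharacter G, znM D (1 : D.H →* ℂˣ) θ = 0 ∧ ∀ lam : D.H →* ℂˣ, lam ≠ 1 → znM D lam θ = 1 := by
  classical
  obtain ⟨φ, hφ1, hφ2⟩ := zn_exists_phi ν₀ hν
  have hl0 : lam₀ ≠ 1 := by
    intro h
    apply hlam₀
    rw [h]
    ext u
    simp
  let Λ := {lam : D.H →* ℂˣ // lam ≠ 1}
  obtain ⟨θ, h1, h2⟩ := zn_comb (ι := IrrCharacter G) (Λ := Λ)
    (fun l χ => znM D l.1 χ) znNu (znM D (1 : D.H →* ℂˣ)) (Nat.card D.E)
    (fun l => ⟨l.1⁻¹, fun h => l.2 (by
      ext u
      have := congrArg (fun f : D.H →* ℂˣ => ((f u : ℂˣ) : ℂ)) h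
      simpa using this)⟩) znCj
    (fun l l' => ∃ k, znTw l.1 k = l'.1) (fun l => l.1 * l.1 = 1)
    znNu_tri
    (fun l => by
      rw [znM_sum, znN_self l.2])
    (fun l l' h => by
      rw [znM_sum, znN_of_not_cong h, add_zero])
    (fun l l' ⟨k, hk⟩ χ => by
      change znM D l.1 χ = znM D l'.1 χ
      rw [← hk, znM_tw])
    (fun l => by
      have h := zn_fs_sum hinv l.1
      have e : ((∑ χ : IrrCharacter G, znNu χ * (znM D l.1 χ : ℤ) : ℤ) : ℂ) =
          ((Nat.card D.E + (if l.1 * l.1 = 1 then 1 else 0) : ℤ) : ℂ) := by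
        push_cast
        simp only [znNu_cast]
        rw [h]
      exact_mod_cast e)
    (fun l => by
      rw [znM_sum, znN_one_left l.2, add_zero])
    (fun χ => by
      have e : ((znNu (znCj χ) : ℤ) : ℂ) = (znNu χ : ℤ) := by
        rw [znNu_cast, znNu_cast, zn_fs_conj]
      exact_mod_cast e)
    (fun χ h => zn_cj_self (fun h0 => h ((znNu_eq_zero_iff χ).mpr h0)))
    (fun χ h => zn_cj_ne ((znNu_eq_zero_iff χ).mp h))
    (fun l χ => znM_bar l.1 χ)
    (fun l hl h => hl (by
      change l.1⁻¹ * l.1⁻¹ = 1 at h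
      ext u
      have := congrArg (fun f : D.H →* ℂˣ => ((f u : ℂˣ) : ℂ)) h
      simp only [MonoidHom.mul_apply, MonoidHom.inv_apply, Units.val_mul, Units.val_inv_eq_inv_val,
        MonoidHom.one_apply, Units.val_one] at this
      rw [← mul_inv, inv_eq_one] at this
      simpa using this))
    φ hφ2 (fun l => hφ1 l.1 l.2) ⟨lam₀, hl0⟩ hlam₀
  exact ⟨θ, h1, fun lam hlam => h2 ⟨lam, hlam⟩⟩

open scoped Classical in
/-- The values of `θ` on an abelian kernel. -/
theorem zn_theta_vals (hcomm : ∀ u v : D.H, u * v = v * u) (θ : IrrCharacter G)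
    (h0 : znM D (1 : D.H →* ℂˣ) θ = 0) (h1 : ∀ lam : D.H →* ℂˣ, lam ≠ 1 → znM D lam θ = 1) (w : D.H) :
    (θ : G → ℂ) w = (if w = 1 then (Nat.card D.H : ℂ) else 0) - 1 := by
  classical
  have hdeg := comm_iff_irr_degree_one.mp hcomm
  let f : D.H → ℂ := fun w => (θ : G → ℂ) w
  have hf : IsClassFunction D.H f := by
    intro x y
    have := IsCharacter.isClassFunction (IsIrrCharacter.isCharacter θ.2) (x : G) (y : G)
    exact this
  have hsum := congrFun (classFunction_eq_sum f hf) w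
  let triv : IrrCharacter D.H := ⟨fun _ => (1 : ℂ), isIrrCharacter_one⟩
  have hc : ∀ ψ : IrrCharacter D.H, classInner f (ψ : D.H → ℂ) = 1 - if ψ = triv then 1 else 0 := by
    intro ψ
    obtain ⟨lam, hlam⟩ := IsCharacter.exists_monoidHom (IsIrrCharacter.isCharacter ψ.2) (hdeg ψ)
    have h2 : (ψ : D.H → ℂ) = znLc D lam := hlam
    rw [h2, classInner_conj_symm, ← znM_frob]
    by_cases hl : lam = 1
    · have h3 : ψ = triv := by
        apply Subtype.ext
        rw [h2, hl]
        funext u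
        simp [znLc, triv]
      rw [if_pos h3, hl, h0]
      simp
    · have h3 : ψ ≠ triv := by
        intro h4
        apply hl
        ext u
        have h5 : (ψ : D.H → ℂ) u = 1 := by rw [h4]
        rw [h2] at h5
        simpa [znLc] using h5
      rw [if_neg h3, h1 lam hl]
      simp
  have hreg := sum_irr_degree_mul_apply w
  simp only [hdeg, one_mul] at hreg
  have e1 : (∑ χ : IrrCharacter D.H, classInner f χ • (χ : D.H → ℂ)) w =
      ∑ χ : IrrCharacter D.H, (χ : D.H → ℂ) w - 1 := by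
    rw [Finset.sum_apply]
    simp only [Pi.smul_apply, smul_eq_mul, hc, sub_mul, one_mul, ite_mul, zero_mul]
    rw [Finset.sum_sub_distrib, Finset.sum_ite_eq']
    simp [triv]
  change f w = _
  rw [hsum, e1]
  congr 1
  convert hreg using 2

/-- With an abelian kernel, the kernel is the centraliser of each of its nontrivial elements. -/
theorem zn_centralizer (hcomm : ∀ u v : D.H, u * v = v * u) {u : G} (hu : u ∈ D.H) (hu1 : u ≠ 1) :
    Subgroup.centralizer ({u} : Set G) = D.H := by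
  apply le_antisymm
  · intro x hx
    have hx' : x * u = u * x := (Subgroup.mem_centralizer_singleton_iff.mp hx)
    have hua : u • D.a = D.a := D.hHa hu
    have hxa : x • D.a = D.a := by
      apply D.hHfix u hu hu1
      rw [← mul_smul, ← hx', mul_smul, hua]
    obtain ⟨v, hv, k, hka, hkb, rfl⟩ := exists_kernel_mul D.hab D.hHcard D.hHa D.hHfix hxa
    have hvu : v * u = u * v := congrArg Subtype.val (hcomm ⟨v, hv⟩ ⟨u, hu⟩)
    have hku : k * u = u * k := by
      have e : v * (k * u) = v * (u * k) := by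
        calc v * (k * u) = (v * k) * u := by group
          _ = u * (v * k) := hx'
          _ = (u * v) * k := by group
          _ = (v * u) * k := by rw [hvu]
          _ = v * (u * k) := by group
      exact mul_left_cancel e
    have hub : u • D.b ≠ D.b := fun h3 => D.hab (D.hHfix u hu hu1 D.b h3).symm
    have huba : u • D.b ≠ D.a := by
      intro h3
      exact D.hab (MulAction.injective u (hua.trans h3.symm))
    have hk1 : k = 1 := by
      apply Zass.eq_one_of_three D.hZ D.hab (Ne.symm hub) (Ne.symm huba) hka hkb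
      rw [← mul_smul, hku, mul_smul, hkb]
    rw [hk1, mul_one]
    exact hv
  · intro x hx
    apply Subgroup.mem_centralizer_singleton_iff.mpr
    exact congrArg Subtype.val (hcomm ⟨x, hx⟩ ⟨u, hu⟩)

/-- The key divisibility. -/
theorem zn_dvd_of_theta (hcomm : ∀ u v : D.H, u * v = v * u) (θ : IrrCharacter G)
    (h0 : znM D (1 : D.H →* ℂˣ) θ = 0) (h1 : ∀ lam : D.H →* ℂˣ, lam ≠ 1 → znM D lam θ = 1)
    (hh : 1 < Nat.card D.H) :
    Nat.card D.H - 1 ∣ Fintype.card Ω * Nat.card D.E := by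
  classical
  obtain ⟨u, hu⟩ : ∃ u : D.H, u ≠ 1 := by
    haveI : Nontrivial D.H := Finite.one_lt_card_iff_nontrivial.mp hh
    exact exists_ne 1
  have hu1 : (u : G) ≠ 1 := fun h => hu (Subtype.ext h)
  have hv1 := zn_theta_vals hcomm θ h0 h1 (1 : D.H)
  have hvu := zn_theta_vals hcomm θ h0 h1 u
  rw [if_pos rfl] at hv1
  rw [if_neg hu, zero_sub] at hvu
  have hint := Blocks.isIntegral_centralChar θ (u : G)
  have hint' : IsIntegral ℤ (((Subgroup.centralizer ({(u : G)} : Set G)).index : ℂ) * (θ : G → ℂ) u /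
      (θ : G → ℂ) 1) := hint
  rw [zn_centralizer hcomm u.2 hu1, zn_h_index, hvu] at hint'
  have hv1' : (θ : G → ℂ) 1 = ((Nat.card D.H - 1 : ℕ) : ℂ) := by
    have : (θ : G → ℂ) 1 = (θ : G → ℂ) ((1 : D.H) : G) := rfl
    rw [this, hv1, Nat.cast_sub hh.le]
    simp
  rw [hv1'] at hint'
  apply H8Group.nat_dvd_of_isIntegral_div (by omega)
  have e : (((Fintype.card Ω * Nat.card D.E : ℕ) : ℂ)) / ((Nat.card D.H - 1 : ℕ) : ℂ) =
      -(((Fintype.card Ω * Nat.card D.E : ℕ) : ℂ) * (-1) / ((Nat.card D.H - 1 : ℕ) : ℂ)) := by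
    ring
  rw [e]
  exact hint'.neg

/-- The exponent-two case. -/
theorem zn_exp2 (hexp : ∀ u ∈ D.H, u * u = 1) : Nat.card D.H - 1 ≤ Nat.card D.E := by
  classical
  obtain ⟨w, hw⟩ : ∃ w : {c : Ω // c ≠ D.a ∧ c ≠ D.b} → G, ∀ c, w c • D.a = D.b ∧ w c • D.b = D.a ∧
      w c • (c : Ω) = c ∧ w c ≠ 1 ∧ ∀ c' : Ω, w c • c' = c' → c' = c := by
    have : ∀ c : {c : Ω // c ≠ D.a ∧ c ≠ D.b}, ∃ w : G, w • D.a = D.b ∧ w • D.b = D.a ∧
      w • (c : Ω) = c ∧ w ≠ 1 ∧ ∀ c' : Ω, w • c' = c' → c' = c := by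
      rintro ⟨c, hca, hcb⟩
      obtain ⟨g, hg, -⟩ := Zass.two_trans D.hZ D.hab hca
      have h1 : g⁻¹ • D.a ≠ D.a := by
        intro h
        rw [inv_smul_eq_iff] at h
        exact hca (hg.symm.trans h.symm)
      have h2 : g⁻¹ • D.b ≠ D.a := by
        intro h
        rw [inv_smul_eq_iff] at h
        exact hcb (hg.symm.trans h.symm)
      obtain ⟨v, hv, hvb⟩ := regular_of_kernel D.hHcard D.hHa D.hHfix (c := g⁻¹ • D.a) (d := g⁻¹ • D.b)
        h1 h2
      have hva : v • D.a = D.a := D.hHa hv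
      have hv2 : v * v = 1 := hexp v hv
      have hv1 : v ≠ 1 := by
        rintro rfl
        rw [one_smul] at hvb
        exact D.hab (MulAction.injective g⁻¹ hvb)
      have ew : (g * v * g⁻¹) • D.a = D.b := by
        simp only [mul_smul]
        rw [hvb, smul_inv_smul]
      have ew2 : (g * v * g⁻¹) * (g * v * g⁻¹) = 1 := by
        calc (g * v * g⁻¹) * (g * v * g⁻¹) = g * (v * v) * g⁻¹ := by group
          _ = 1 := by rw [hv2]; group
      refine ⟨g * v * g⁻¹, ew, ?_, ?_, ?_, ?_⟩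
      · rw [← ew, ← mul_smul, ew2, one_smul]
      · show (g * v * g⁻¹) • c = c
        rw [← hg]
        simp only [mul_smul, inv_smul_smul]
        rw [hva]
      · intro h
        apply hv1
        have : v = g⁻¹ * (g * v * g⁻¹) * g := by group
        rw [this, h]
        group
      · intro c' hc'
        have h3 : v • (g⁻¹ • c') = g⁻¹ • c' := by
          simp only [mul_smul] at hc'
          rw [eq_inv_smul_iff]
          exact hc'
        have h4 := D.hHfix v hv hv1 _ h3
        rw [inv_smul_eq_iff] at h4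
        rw [h4, hg]
    exact ⟨fun c => (this c).choose, fun c => (this c).choose_spec⟩
  have hmem : ∀ c, w c * D.t ∈ D.E := by
    intro c
    constructor
    · change (w c * D.t) • D.a = D.a
      rw [mul_smul, D.hta, (hw c).2.1]
    · change (w c * D.t) • D.b = D.b
      rw [mul_smul, D.htb, (hw c).1]
  let Φ : {c : Ω // c ≠ D.a ∧ c ≠ D.b} → D.E := fun c => ⟨w c * D.t, hmem c⟩
  have hinj : Function.Injective Φ := by
    intro c c' h
    have h1 : w c * D.t = w c' * D.t := congrArg Subtype.val h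
    have h2 : w c = w c' := mul_right_cancel h1
    apply Subtype.ext
    apply (hw c').2.2.2.2
    rw [← h2]
    exact (hw c).2.2.1
  have h3 := Nat.card_le_card_of_injective Φ hinj
  have h4 : Nat.card {c : Ω // c ≠ D.a ∧ c ≠ D.b} = Nat.card D.H - 1 := by
    have e1 : Nat.card {c : Ω // c ≠ D.a ∧ c ≠ D.b} = Fintype.card Ω - 2 := by
      rw [Nat.card_eq_fintype_card, Fintype.card_subtype]
      have e2 : (Finset.univ.filter fun c : Ω => c ≠ D.a ∧ c ≠ D.b) =
          ((Finset.univ.erase D.a).erase D.b) := by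
        ext c
        simp [and_comm]
      rw [e2, Finset.card_erase_of_mem (by simp [D.hab.symm]), Finset.card_erase_of_mem (by simp)]
      simp
      omega
    rw [e1, ← D.hHcard]
    omega
  rw [← h4]
  exact h3

/-- The numerical theorem. -/
theorem zn_numeric (hinv : ∀ k ∈ D.E, D.t * k * D.t = k⁻¹) (hcomm : ∀ u v : D.H, u * v = v * u) :
    Nat.card D.H - 1 = Nat.card D.E ∨ Nat.card D.H - 1 = 2 * Nat.card D.E := by
  classical
  have hΩ := D.hHcard
  have hh : 1 < Nat.card D.H := by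
    obtain ⟨c, hca, hcb⟩ := Zass.exists_third D.hZ D.hab
    have h1 : 2 < Fintype.card Ω := by
      have : ({D.a, D.b, c} : Finset Ω).card ≤ Fintype.card Ω := Finset.card_le_univ _
      rw [Finset.card_eq_three.mpr ⟨D.a, D.b, c, D.hab, hca.symm, hcb.symm, rfl⟩] at this
      omega
    omega
  have hdvd : Nat.card D.E ∣ Nat.card D.H - 1 := by
    have h1 := zs_dvd D.hZ D.hab
    have e : Fintype.card Ω - 2 = Nat.card D.H - 1 := by omega
    rw [e] at h1
    exact h1
  have hepos : 0 < Nat.card D.E := Nat.card_pos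
  by_cases hexp : ∀ u ∈ D.H, u * u = 1
  · left
    exact le_antisymm (zn_exp2 hexp) (Nat.le_of_dvd (by omega) hdvd)
  · push Not at hexp
    obtain ⟨u, hu, hu2⟩ := hexp
    obtain ⟨lam₀, hlam₀⟩ := zn_char_separate hcomm (x := (⟨u, hu⟩ : D.H) * ⟨u, hu⟩)
      (fun h => hu2 (congrArg Subtype.val h))
    have hl2 : lam₀ * lam₀ ≠ 1 := by
      intro h
      apply hlam₀
      have := congrArg (fun f : D.H →* ℂˣ => f ⟨u, hu⟩) h
      rw [map_mul]
      exact this
    have hEcomm : ∀ x y : D.E, x * y = y * x := by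
      intro x y
      apply Subtype.ext
      have h1 := hinv _ (D.E.mul_mem x.2 y.2)
      have h2 := hinv _ x.2
      have h3 := hinv _ y.2
      have h4 : D.t * (x * y : G) * D.t = (D.t * x * D.t) * (D.t * y * D.t) := by
        calc D.t * (x * y : G) * D.t = D.t * x * 1 * y * D.t := by group
          _ = D.t * x * (D.t * D.t) * y * D.t := by rw [D.ht3]
          _ = _ := by group
      rw [h2, h3] at h4
      rw [h4] at h1
      have h5 : ((x : G)⁻¹ * (y : G)⁻¹)⁻¹ = (((x : G) * y)⁻¹)⁻¹ := congrArg _ h1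
      simpa using h5.symm
    obtain ⟨x, hx1, hxa, hxb⟩ := Zass.exists_ne_one_fix D.hZ D.hab
    let x' : D.E := ⟨x, hxa, hxb⟩
    have hx'1 : x' ≠ 1 := fun h => hx1 (congrArg Subtype.val h)
    have hx2 : x' * x' ≠ 1 := by
      intro h
      have h1 : orderOf x' ∣ 2 := orderOf_dvd_of_pow_eq_one (by rw [pow_two]; exact h)
      have h2 : orderOf x' ∣ Nat.card D.E := orderOf_dvd_natCard _
      have h3 : Odd (orderOf x') := Odd.of_dvd_nat D.hodd h2
      have h4 : orderOf x' = 1 := by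
        have := Nat.le_of_dvd (by norm_num) h1
        obtain ⟨m, hm⟩ := h3
        omega
      exact hx'1 (orderOf_eq_one_iff.mp h4)
    obtain ⟨ν₀, hν₀⟩ := zn_char_separate hEcomm hx2
    have hν : ∃ x : D.E, D.ff (D.lift ν₀) x ≠ D.ff (D.lift ν₀) (D.t * x * D.t) := by
      refine ⟨x', fun h => hν₀ ?_⟩
      have e1 : D.t * (x' : G) * D.t = ((x'⁻¹ : D.E) : G) := by
        rw [hinv _ x'.2]
        rfl
      rw [e1, D.ff_lift, D.ff_lift, map_inv] at h
      have e2 : ν₀ x' = (ν₀ x')⁻¹ := Units.ext (by rw [h])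
      rw [map_mul]
      nth_rewrite 1 [e2]
      simp
    obtain ⟨θ, h0, h1⟩ := zn_theta hinv ν₀ hν lam₀ hl2
    have hd := zn_dvd_of_theta hcomm θ h0 h1 hh
    obtain ⟨s, hs⟩ := hdvd
    rw [← hΩ] at hd
    have hd2 : s ∣ Nat.card D.H + 1 := by
      have : Nat.card D.E * s ∣ Nat.card D.E * (Nat.card D.H + 1) := by
        rw [← hs, mul_comm (Nat.card D.E)]
        exact hd
      exact Nat.dvd_of_mul_dvd_mul_left hepos this
    have hd3 : s ∣ Nat.card D.H - 1 := ⟨Nat.card D.E, by rw [hs, mul_comm]⟩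
    have hd4 : s ∣ 2 := by
      have e : Nat.card D.H + 1 = (Nat.card D.H - 1) + 2 := by omega
      rw [e] at hd2
      exact (Nat.dvd_add_right hd3).mp hd2
    have hs' := Nat.le_of_dvd (by norm_num) hd4
    interval_cases s
    · omega
    · left
      omega
    · right
      omega

end Cfsg.Agent.Lib.Perm
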