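import Mathlib
import Cfsg.Agent.Lib.Perm.ZNMain
import Cfsg.Agent.Lib.Perm.Sharp2
import Cfsg.Agent.Lib.Perm.ZassInv

/-!
Zassenhaus groups with abelian kernel and two-point stabiliser of odd order: no normal `q`-complement
for primes `q` dividing the two-point stabiliser, and hence the numerical result.
-/

set_option autoImplicit false
set_option linter.style.haveILetI false

namespace Cfsg.Agent.Lib.Perm

open MulAction Cfsg Cfsg.Agent.Lib.Char Cfsg.Agent.Lib.Char.Zass

universe u v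

section

variable {G : Type u} {Ω : Type v} [Group G] [MulAction G Ω]

/-- Two regular subgroups normalised by a group containing the kernel: one is contained in the other
unless the square of the degree divides the group order. -/
theorem zt_unique [Finite G] [Fintype Ω] {N F V V' : Subgroup G} {a : Ω}
    (hFN : F ≤ N) (hFa : ∀ u ∈ F, u • a = a)
    (hFreg : ∀ y z : Ω, y ≠ a → z ≠ a → ∃ u ∈ F, u • y = z)
    (hVN : V ≤ N) (hV'N : V' ≤ N)
    (hVn : ∀ n ∈ N, ∀ v ∈ V, n * v * n⁻¹ ∈ V) (hV'n : ∀ n ∈ N, ∀ v ∈ V', n * v * n⁻¹ ∈ V')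
    (hV : ∀ y z : Ω, ∃ v ∈ V, v • y = z) (hVf : ∀ v ∈ V, ∀ y : Ω, v • y = y → v = 1)
    (hV' : ∀ y z : Ω, ∃ v ∈ V', v • y = z) (hVf' : ∀ v ∈ V', ∀ y : Ω, v • y = y → v = 1)
    (hnd : ¬ Fintype.card Ω * Fintype.card Ω ∣ Nat.card G) : V ≤ V' := by
  classical
  have hcardV : ∀ W : Subgroup G, (∀ y z : Ω, ∃ v ∈ W, v • y = z) →
      (∀ v ∈ W, ∀ y : Ω, v • y = y → v = 1) → Nat.card W = Fintype.card Ω := by
    intro W hW hWf
    let φ : W → Ω := fun v => (v : G) • a
    have hφ : Function.Bijective φ := by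
      constructor
      · intro v w h
        have h1 : (w : G)⁻¹ * v = 1 := by
          apply hWf _ (W.mul_mem (W.inv_mem w.2) v.2) a
          rw [mul_smul, inv_smul_eq_iff]
          exact h
        exact Subtype.ext (inv_mul_eq_one.mp h1).symm
      · intro z
        obtain ⟨v, hv, hvz⟩ := hW a z
        exact ⟨⟨v, hv⟩, hvz⟩
    rw [Nat.card_congr (Equiv.ofBijective φ hφ), Nat.card_eq_fintype_card]
  by_cases hbot : ∃ x, x ∈ V ∧ x ∈ V' ∧ x ≠ 1
  · obtain ⟨x, hxV, hxV', hx1⟩ := hbot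
    intro y hy
    by_cases hy1 : y = 1
    · rw [hy1]
      exact V'.one_mem
    have hxa : x • a ≠ a := fun h => hx1 (hVf x hxV a h)
    have hya : y • a ≠ a := fun h => hy1 (hVf y hy a h)
    obtain ⟨u, hu, hux⟩ := hFreg _ _ hxa hya
    have huN := hFN hu
    have hw : u * x * u⁻¹ ∈ V := hVn u huN x hxV
    have hw' : u * x * u⁻¹ ∈ V' := hV'n u huN x hxV'
    have hua : u⁻¹ • a = a := by rw [inv_smul_eq_iff, hFa u hu]
    have h1 : y⁻¹ * (u * x * u⁻¹) = 1 := by
      apply hVf _ (V.mul_mem (V.inv_mem hy) hw) a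
      simp only [mul_smul]
      rw [hua, hux, inv_smul_smul]
    have h2 : y = u * x * u⁻¹ := (inv_mul_eq_one.mp h1)
    rw [h2]
    exact hw'
  · exfalso
    push Not at hbot
    apply hnd
    have hc : ∀ v ∈ V, ∀ w ∈ V', v * w = w * v := by
      intro v hv w hw
      have h1 : v * w * v⁻¹ * w⁻¹ ∈ V' :=
        V'.mul_mem (hV'n v (hVN hv) w hw) (V'.inv_mem hw)
      have h2 : v * w * v⁻¹ * w⁻¹ ∈ V := by
        have e : v * w * v⁻¹ * w⁻¹ = v * (w * v⁻¹ * w⁻¹) := by group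
        rw [e]
        exact V.mul_mem hv (hVn w (hV'N hw) _ (V.inv_mem hv))
      have h3 := hbot _ h2 h1
      have e : v * w = (v * w * v⁻¹ * w⁻¹) * (w * v) := by group
      rw [e, h3, one_mul]
    let f : V × V' →* G := MonoidHom.noncommCoprod V.subtype V'.subtype
      (fun v w => hc v v.2 w w.2)
    have hf : Function.Injective f := by
      rw [injective_iff_map_eq_one]
      rintro ⟨v, w⟩ h
      have h1 : (v : G) * w = 1 := h
      have h2 : (v : G) = (w : G)⁻¹ := eq_inv_of_mul_eq_one_left h1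
      have h3 : (v : G) = 1 := by
        apply hbot _ v.2
        rw [h2]
        exact V'.inv_mem w.2
      have h4 : (w : G) = 1 := by
        rw [h3, one_mul] at h1
        exact h1
      have e1 : v = 1 := Subtype.ext h3
      have e2 : w = 1 := Subtype.ext h4
      rw [e1, e2]
      rfl
    have h1 := Subgroup.card_dvd_of_injective f hf
    rwa [Nat.card_prod, hcardV V hV hVf, hcardV V' hV' hVf'] at h1

/-- No regular subgroup normalised by a normal subgroup containing the kernel. -/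
theorem zt_no_regular [Finite G] [Fintype Ω] {N F V : Subgroup G} {a : Ω} (hZ : IsZassenhausGroup G Ω)
    (hN : N.Normal) (hFN : F ≤ N) (hFa : ∀ u ∈ F, u • a = a)
    (hFreg : ∀ y z : Ω, y ≠ a → z ≠ a → ∃ u ∈ F, u • y = z)
    (hVN : V ≤ N) (hVn : ∀ n ∈ N, ∀ v ∈ V, n * v * n⁻¹ ∈ V)
    (hV : ∀ y z : Ω, ∃ v ∈ V, v • y = z) (hVf : ∀ v ∈ V, ∀ y : Ω, v • y = y → v = 1)
    (hnd : ¬ Fintype.card Ω * Fintype.card Ω ∣ Nat.card G) : False := by
  classical
  have hnorm : V.Normal := by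
    refine ⟨fun v hv g => ?_⟩
    let V' : Subgroup G := V.map (MulAut.conj g).toMonoidHom
    have hmem : ∀ w, w ∈ V' ↔ g⁻¹ * w * g ∈ V := by
      intro w
      constructor
      · rintro ⟨x, hx, rfl⟩
        simpa [MulAut.conj_apply, mul_assoc] using hx
      · intro h
        exact ⟨_, h, by simp [MulAut.conj_apply, mul_assoc]⟩
    have h1 : V' ≤ V := by
      refine zt_unique hFN hFa hFreg (N := N) (a := a) ?_ hVN ?_ hVn ?_ ?_ hV hVf hnd
      · intro w hw
        have := (hmem w).mp hw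
        have h2 := hVN this
        have h3 := hN.conj_mem _ h2 g
        have e : g * (g⁻¹ * w * g) * g⁻¹ = w := by group
        rwa [e] at h3
      · intro n hn w hw
        rw [hmem] at hw ⊢
        have hn' : g⁻¹ * n * g ∈ N := by
          have := hN.conj_mem n hn g⁻¹
          simpa using this
        have h2 := hVn _ hn' _ hw
        have e : g⁻¹ * (n * w * n⁻¹) * g = (g⁻¹ * n * g) * (g⁻¹ * w * g) * (g⁻¹ * n * g)⁻¹ := by group
        rw [e]
        exact h2
      · intro y z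
        obtain ⟨x, hx, hxy⟩ := hV (g⁻¹ • y) (g⁻¹ • z)
        refine ⟨g * x * g⁻¹, (hmem _).mpr ?_, ?_⟩
        · have e : g⁻¹ * (g * x * g⁻¹) * g = x := by group
          rwa [e]
        · simp only [mul_smul]
          rw [hxy, smul_inv_smul]
      · intro w hw y hy
        rw [hmem] at hw
        have h2 := hVf _ hw (g⁻¹ • y) (by
          simp only [mul_smul]
          rw [smul_inv_smul, hy])
        have e : w = g * (g⁻¹ * w * g) * g⁻¹ := by group
        rw [e, h2]
        group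
    apply h1
    exact ⟨v, hv, by simp [MulAut.conj_apply]⟩
  have htrans : IsPretransitive V Ω := by
    refine ⟨fun y z => ?_⟩
    obtain ⟨v, hv, hvy⟩ := hV y z
    exact ⟨⟨v, hv⟩, hvy⟩
  obtain ⟨c, hc⟩ := hZ.2.2.2.2 V hnorm htrans
  apply hc
  rw [eq_bot_iff]
  intro v hv
  rw [Subgroup.mem_bot]
  exact Subtype.ext (hVf v v.2 c hv)

end

section

variable {Ω : Type v} [Fintype Ω]

theorem zt_numeric_of_hnil {G : Type u} [Group G] [Finite G] [MulAction G Ω]
    (hZ : IsZassenhausGroup G Ω) {a b : Ω} (hab : a ≠ b)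
    {F : Subgroup G} (hcard : Nat.card F + 1 = Fintype.card Ω) (hFa : F ≤ stabilizer G a)
    (hFfix : ∀ u ∈ F, u ≠ 1 → ∀ c : Ω, u • c = c → c = a)
    (hFc : ∀ u ∈ F, ∀ v ∈ F, u * v = v * u)
    (hodd : Odd (Nat.card ↥(stabilizer G a ⊓ stabilizer G b)))
    (hnil : ∀ q : ℕ, q.Prime → q ∣ Nat.card ↥(stabilizer G a ⊓ stabilizer G b) →
      ¬ ∃ N : Subgroup G, N.Normal ∧ N.index = q ^ (Nat.card G).factorization q) :
    Nat.card F - 1 = Nat.card ↥(stabilizer G a ⊓ stabilizer G b) ∨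
      Nat.card F - 1 = 2 * Nat.card ↥(stabilizer G a ⊓ stabilizer G b) := by
  letI := Fintype.ofFinite G
  obtain ⟨-, -, hinv⟩ := zs_main hZ hab hodd hnil
  obtain ⟨t, ht2, hta, htb⟩ := zi_exists_swap hZ hab
  have ht3 : t * t = 1 := by
    rw [← pow_two, ← ht2]
    exact pow_orderOf_eq_one t
  let D : KData G Ω := ⟨hZ, a, b, hab, hodd, t, ht3, hta, htb, F, hcard, hFa, hFfix⟩
  have hti : t⁻¹ = t := inv_eq_of_mul_eq_one_left ht3
  exact zn_numeric (D := D)
    (fun k hk => by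
      have := hinv t hta htb k hk
      rwa [hti] at this)
    (fun u v => Subtype.ext (hFc u u.2 v v.2))

theorem zt_step {G : Type u} [Group G] [Finite G] [MulAction G Ω]
    (hZ : IsZassenhausGroup G Ω) {a b : Ω} (hab : a ≠ b)
    {F : Subgroup G} (hcard : Nat.card F + 1 = Fintype.card Ω) (hFa : F ≤ stabilizer G a)
    (hFfix : ∀ u ∈ F, u ≠ 1 → ∀ c : Ω, u • c = c → c = a)
    (hFc : ∀ u ∈ F, ∀ v ∈ F, u * v = v * u)
    (hodd : Odd (Nat.card ↥(stabilizer G a ⊓ stabilizer G b)))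
    {q : ℕ} (hq : q.Prime) (hqd : q ∣ Nat.card ↥(stabilizer G a ⊓ stabilizer G b))
    {N : Subgroup G} (hN : N.Normal) (hNi : N.index = q ^ (Nat.card G).factorization q)
    (IH : ∀ F' : Subgroup N, IsZassenhausGroup N Ω → Nat.card F' + 1 = Fintype.card Ω →
      F' ≤ stabilizer N a → (∀ u ∈ F', u ≠ 1 → ∀ c : Ω, u • c = c → c = a) →
      (∀ u ∈ F', ∀ v ∈ F', u * v = v * u) → Odd (Nat.card ↥(stabilizer N a ⊓ stabilizer N b)) →
      Fintype.card Ω - 2 ≤ 2 * Nat.card ↥(stabilizer N a ⊓ stabilizer N b)) : False := by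
  classical
  set d := Nat.card ↥(stabilizer G a ⊓ stabilizer G b) with hd
  have hdpos : 0 < d := Nat.card_pos
  obtain ⟨c₀, hc₀a, hc₀b⟩ := Zass.exists_third hZ hab
  have hΩ3 : 3 ≤ Fintype.card Ω := by
    have : ({a, b, c₀} : Finset Ω).card ≤ Fintype.card Ω := Finset.card_le_univ _
    rw [Finset.card_eq_three.mpr ⟨a, b, c₀, hab, hc₀a.symm, hc₀b.symm, rfl⟩] at this
    exact this
  have hdvd : d ∣ Fintype.card Ω - 2 := zs_dvd hZ hab
  have hdle : d ≤ Fintype.card Ω - 2 := Nat.le_of_dvd (by omega) hdvd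
  have hGcard : Nat.card G = Fintype.card Ω * (Fintype.card Ω - 1) * d := zs_card hZ hab
  have hq2 : q ≠ 2 := by
    rintro rfl
    obtain ⟨m, hm⟩ := hodd
    omega
  have hq3 : 3 ≤ q := by
    have := hq.two_le
    omega
  have hqn : ¬ q ∣ Nat.card F := by
    intro h
    have h1 : q ∣ Fintype.card Ω - 2 := hqd.trans hdvd
    have e : Nat.card F = (Fintype.card Ω - 2) + 1 := by omega
    rw [e] at h
    have h2 : q ∣ 1 := (Nat.dvd_add_right h1).mp h
    exact hq.one_lt.ne' (Nat.dvd_one.mp h2)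
  have hcop : Nat.Coprime N.index (Nat.card F) := by
    rw [hNi]
    exact Nat.Coprime.pow_left _ ((Nat.Prime.coprime_iff_not_dvd hq).mpr hqn)
  have hFN : F ≤ N := by
    intro u hu
    have h1 : orderOf u ∣ Nat.card F := by
      have : orderOf (⟨u, hu⟩ : F) ∣ Nat.card F := orderOf_dvd_natCard _
      rwa [Subgroup.orderOf_mk] at this
    have h2 : Nat.Coprime N.index (orderOf u) := Nat.Coprime.coprime_dvd_right h1 hcop
    obtain ⟨m, hm⟩ := exists_pow_eq_self_of_coprime h2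
    rw [← hm]
    exact N.pow_mem (Subgroup.pow_index_mem N u) m
  have hqG : q ∣ Nat.card G := by
    rw [hGcard]
    exact hqd.trans (Nat.dvd_mul_left _ _)
  have hk : 1 ≤ (Nat.card G).factorization q :=
    (hq.dvd_iff_one_le_factorization Nat.card_pos.ne').mp hqG
  have hidx : 3 ≤ N.index := by
    rw [hNi]
    calc 3 ≤ q := hq3
      _ = q ^ 1 := (pow_one q).symm
      _ ≤ _ := Nat.pow_le_pow_right hq.pos hk
  have hGN : Nat.card N * N.index = Nat.card G := N.card_mul_index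
  have hFa' : ∀ u ∈ F, u • a = a := fun u hu => hFa hu
  have hFreg : ∀ y z : Ω, y ≠ a → z ≠ a → ∃ u ∈ F, u • y = z := fun y z hy hz =>
    Zass.regular_of_kernel hcard hFa hFfix hy hz
  have hnd : ¬ Fintype.card Ω * Fintype.card Ω ∣ Nat.card G := by
    intro h
    rw [hGcard, mul_assoc] at h
    have h1 : Fintype.card Ω ∣ (Fintype.card Ω - 1) * d :=
      Nat.dvd_of_mul_dvd_mul_left (by omega) h
    have h2 : Nat.Coprime (Fintype.card Ω) (Fintype.card Ω - 1) := by
      have e : Fintype.card Ω = (Fintype.card Ω - 1) + 1 := by omega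
      rw [e]
      simp
    have h3 : Fintype.card Ω ∣ d := h2.dvd_of_dvd_mul_left h1
    have := Nat.le_of_dvd hdpos h3
    omega
  -- conjugates of the kernel lie in `N`
  have hconj : ∀ c y z : Ω, y ≠ c → z ≠ c → ∃ w ∈ N, w • c = c ∧ w • y = z := by
    intro c y z hy hz
    by_cases hca : c = a
    · subst hca
      obtain ⟨u, hu, huy⟩ := hFreg y z hy hz
      exact ⟨u, hFN hu, hFa' u hu, huy⟩
    · obtain ⟨g, hg, -⟩ := Zass.two_trans hZ hab hca
      have h1 : g⁻¹ • y ≠ a := by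
        intro h
        rw [inv_smul_eq_iff, hg] at h
        exact hy h
      have h2 : g⁻¹ • z ≠ a := by
        intro h
        rw [inv_smul_eq_iff, hg] at h
        exact hz h
      obtain ⟨u, hu, huy⟩ := hFreg _ _ h1 h2
      refine ⟨g * u * g⁻¹, hN.conj_mem u (hFN hu) g, ?_, ?_⟩
      · simp only [mul_smul]
        rw [← hg, inv_smul_smul, hFa' u hu]
      · simp only [mul_smul]
        rw [huy, smul_inv_smul]
  have htrans : ∀ y z : Ω, ∃ w ∈ N, w • y = z := by
    intro y z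
    by_cases hyz : y = z
    · exact ⟨1, N.one_mem, by rw [one_smul, hyz]⟩
    · obtain ⟨c, hcy, hcz⟩ := Zass.exists_third hZ hyz
      obtain ⟨w, hw, -, hwy⟩ := hconj c y z (Ne.symm hcy) (Ne.symm hcz)
      exact ⟨w, hw, hwy⟩
  have h2t : ∀ y₁ y₂ z₁ z₂ : Ω, y₁ ≠ y₂ → z₁ ≠ z₂ → ∃ w : N, w • y₁ = z₁ ∧ w • y₂ = z₂ := by
    intro y₁ y₂ z₁ z₂ hy hz
    obtain ⟨w₁, hw₁, h1⟩ := htrans y₁ z₁
    have h3 : w₁ • y₂ ≠ z₁ := by
      intro h
      exact hy (MulAction.injective w₁ (h1.trans h.symm))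
    obtain ⟨w₂, hw₂, h4, h5⟩ := hconj z₁ (w₁ • y₂) z₂ h3 (Ne.symm hz)
    refine ⟨⟨w₂ * w₁, N.mul_mem hw₂ hw₁⟩, ?_, ?_⟩
    · change (w₂ * w₁) • y₁ = z₁
      rw [mul_smul, h1, h4]
    · change (w₂ * w₁) • y₂ = z₂
      rw [mul_smul, h5]
  have hcontra : ∀ V : Subgroup N, V.Normal → (∀ y z : Ω, ∃ v : V, (((v : N) : G)) • y = z) →
      (∀ v : V, ∀ y : Ω, ((v : N) : G) • y = y → v = 1) → False := by
    intro V hVn hVt hVs
    let V₀ : Subgroup G := V.map N.subtype
    have hmem₀ : ∀ v, v ∈ V₀ ↔ ∃ (h : v ∈ N), (⟨v, h⟩ : N) ∈ V := by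
      intro v
      constructor
      · rintro ⟨x, hx, rfl⟩
        exact ⟨x.2, hx⟩
      · rintro ⟨h, hx⟩
        exact ⟨⟨v, h⟩, hx, rfl⟩
    apply zt_no_regular (N := N) (F := F) (V := V₀) (a := a) hZ hN hFN hFa' hFreg
    · rintro v ⟨x, -, rfl⟩
      exact x.2
    · intro n hn v hv
      obtain ⟨h, hx⟩ := (hmem₀ v).mp hv
      refine (hmem₀ _).mpr ⟨N.mul_mem (N.mul_mem hn h) (N.inv_mem hn), ?_⟩
      exact hVn.conj_mem _ hx ⟨n, hn⟩
    · intro y z
      obtain ⟨v, hv⟩ := hVt y z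
      exact ⟨(v : N), (hmem₀ _).mpr ⟨(v : N).2, v.2⟩, hv⟩
    · intro v hv y hy
      obtain ⟨h, hx⟩ := (hmem₀ v).mp hv
      have := hVs ⟨⟨v, h⟩, hx⟩ y hy
      exact congrArg (fun w : V => ((w : N) : G)) this
    · exact hnd
  by_cases hfix : ∃ g : N, g ≠ 1 ∧ ∃ y z : Ω, y ≠ z ∧ g • y = y ∧ g • z = z
  · by_cases hreg : ∀ V : Subgroup N, V.Normal → IsPretransitive V Ω → ∃ c : Ω, stabilizer V c ≠ ⊥
    · have hZN : IsZassenhausGroup N Ω := by
        refine ⟨?_, ?_, ?_, hfix, hreg⟩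
        · haveI := hZ.1
          exact ⟨fun {x y} h => Subtype.ext (FaithfulSMul.eq_of_smul_eq_smul (α := Ω) h)⟩
        · rw [is_two_pretransitive_iff]
          intro y₁ y₂ z₁ z₂ hy hz
          exact h2t y₁ y₂ z₁ z₂ hy hz
        · intro g y₁ y₂ y₃ h12 h23 h13 h1 h2 h3
          exact Subtype.ext (hZ.2.2.1 g y₁ y₂ y₃ h12 h23 h13 h1 h2 h3)
      set d₀ := Nat.card ↥(stabilizer N a ⊓ stabilizer N b) with hd₀
      have hd₀pos : 0 < d₀ := Nat.card_pos
      have hNcard : Nat.card N = Fintype.card Ω * (Fintype.card Ω - 1) * d₀ := zs_card hZN hab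
      have hdd : d₀ * N.index = d := by
        have h1 : Fintype.card Ω * (Fintype.card Ω - 1) * (d₀ * N.index) =
            Fintype.card Ω * (Fintype.card Ω - 1) * d := by
          rw [← hGcard, ← hGN, hNcard]
          ring
        exact Nat.eq_of_mul_eq_mul_left (Nat.mul_pos (by omega) (by omega)) h1
      have hodd₀ : Odd d₀ := by
        rw [← hdd] at hodd
        exact (Nat.odd_mul.mp hodd).1
      have hcardF' : Nat.card (F.subgroupOf N) + 1 = Fintype.card Ω := by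
        rw [Nat.card_congr (Subgroup.subgroupOfEquivOfLe hFN).toEquiv]
        exact hcard
      have h := IH (F.subgroupOf N) hZN hcardF'
        (fun u hu => hFa (Subgroup.mem_subgroupOf.mp hu))
        (fun u hu hu1 c hc => hFfix u (Subgroup.mem_subgroupOf.mp hu)
          (fun h1 => hu1 (Subtype.ext h1)) c hc)
        (fun u hu v hv => Subtype.ext (hFc u (Subgroup.mem_subgroupOf.mp hu) v
          (Subgroup.mem_subgroupOf.mp hv)))
        hodd₀
      have h3 : 3 * d₀ ≤ d₀ * N.index := by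
        rw [mul_comm]
        exact Nat.mul_le_mul_left _ hidx
      omega
    · push Not at hreg
      obtain ⟨V, hVn, hVt, hVs⟩ := hreg
      refine hcontra V hVn (fun y z => hVt.exists_smul_eq y z) (fun v y hy => ?_)
      have h1 : v ∈ stabilizer V y := hy
      rw [hVs y] at h1
      exact h1
  · push Not at hfix
    haveI : Nontrivial Ω := ⟨⟨a, b, hab⟩⟩
    obtain ⟨V, p, j, -, -, -, hVn, -, -, hmem, htr, -, -⟩ := sharp2_structure (G := N) (Ω := Ω)
      (fun y₁ y₂ z₁ z₂ hy hz => h2t y₁ y₂ z₁ z₂ hy hz)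
      (fun g y z hyz hy hz => by
        by_contra hg
        exact hfix g hg y z hyz hy hz)
    refine hcontra V hVn (fun y z => ?_) (fun v y hy => ?_)
    · obtain ⟨t, ht, hty⟩ := htr y z
      exact ⟨⟨t, ht⟩, hty⟩
    · rcases (hmem v).mp v.2 with h | h
      · exact Subtype.ext h
      · exact absurd hy (h y)

/-- There is no normal `q`-complement. -/
theorem zt_hnil (m : ℕ) : ∀ (G : Type u) [Group G] [Finite G] [MulAction G Ω], Nat.card G ≤ m →
    ∀ (_ : IsZassenhausGroup G Ω) {a b : Ω} (_ : a ≠ b)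
    {F : Subgroup G} (_ : Nat.card F + 1 = Fintype.card Ω) (_ : F ≤ stabilizer G a)
    (_ : ∀ u ∈ F, u ≠ 1 → ∀ c : Ω, u • c = c → c = a)
    (_ : ∀ u ∈ F, ∀ v ∈ F, u * v = v * u)
    (_ : Odd (Nat.card ↥(stabilizer G a ⊓ stabilizer G b))),
    ∀ q : ℕ, q.Prime → q ∣ Nat.card ↥(stabilizer G a ⊓ stabilizer G b) →
      ¬ ∃ N : Subgroup G, N.Normal ∧ N.index = q ^ (Nat.card G).factorization q := by
  induction m with
  | zero =>
    intro G _ _ _ hm
    have : 0 < Nat.card G := Nat.card_pos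
    omega
  | succ m ih =>
    intro G _ _ _ hm hZ a b hab F hcard hFa hFfix hFc hodd q hq hqd ⟨N, hN, hNi⟩
    refine zt_step hZ hab hcard hFa hFfix hFc hodd hq hqd hN hNi ?_
    intro F' hZN hcard' hFa' hFfix' hFc' hodd'
    have hNle : Nat.card N ≤ m := by
      have h1 := N.card_mul_index
      have hqG : q ∣ Nat.card G := by
        have h2 := zs_card hZ hab
        rw [h2]
        exact hqd.trans (Nat.dvd_mul_left _ _)
      have hk : 1 ≤ (Nat.card G).factorization q :=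
        (hq.dvd_iff_one_le_factorization Nat.card_pos.ne').mp hqG
      have h3 : 2 ≤ N.index := by
        rw [hNi]
        calc 2 ≤ q := hq.two_le
          _ = q ^ 1 := (pow_one q).symm
          _ ≤ _ := Nat.pow_le_pow_right hq.pos hk
      have h4 : 0 < Nat.card N := Nat.card_pos
      nlinarith
    have hnil := ih N hNle hZN hab hcard' hFa' hFfix' hFc' hodd'
    have h := zt_numeric_of_hnil hZN hab hcard' hFa' hFfix' hFc' hodd' hnil
    omega

/-- The numerical theorem, with only the hypothesis of the abelian kernel. -/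
theorem zt_numeric {G : Type u} [Group G] [Finite G] [MulAction G Ω]
    (hZ : IsZassenhausGroup G Ω) {a b : Ω} (hab : a ≠ b)
    {F : Subgroup G} (hcard : Nat.card F + 1 = Fintype.card Ω) (hFa : F ≤ stabilizer G a)
    (hFfix : ∀ u ∈ F, u ≠ 1 → ∀ c : Ω, u • c = c → c = a)
    (hFc : ∀ u ∈ F, ∀ v ∈ F, u * v = v * u)
    (hodd : Odd (Nat.card ↥(stabilizer G a ⊓ stabilizer G b))) :
    (∀ q : ℕ, q.Prime → q ∣ Nat.card ↥(stabilizer G a ⊓ stabilizer G b) →
      ¬ ∃ N : Subgroup G, N.Normal ∧ N.index = q ^ (Nat.card G).factorization q) ∧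
    (Nat.card F - 1 = Nat.card ↥(stabilizer G a ⊓ stabilizer G b) ∨
      Nat.card F - 1 = 2 * Nat.card ↥(stabilizer G a ⊓ stabilizer G b)) := by
  have hnil := zt_hnil _ G le_rfl hZ hab hcard hFa hFfix hFc hodd
  exact ⟨hnil, zt_numeric_of_hnil hZ hab hcard hFa hFfix hFc hodd hnil⟩

end

end Cfsg.Agent.Lib.Perm
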