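import Mathlib
import Cfsg.Agent.Lib.Perm.ZNTop
import Cfsg.Agent.Lib.Perm.ZFEven
import Cfsg.Agent.Lib.Perm.ZassFrob

/-!
Zassenhaus groups with abelian kernel: sharply triply transitive, or `PSL₂`.
-/

set_option autoImplicit false
set_option linter.style.haveILetI false

namespace Cfsg.Agent.Lib.Perm

open MulAction OnePoint Cfsg Cfsg.Agent.Lib.Char Cfsg.Agent.Lib.Char.Zass

universe u v

variable {G : Type u} {Ω : Type v} [Group G] [Finite G] [MulAction G Ω] [Fintype Ω]

/-- If the two-point stabiliser has order `|Ω| - 2`, the group is sharply triply transitive. -/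
theorem zt_sharp3 (hZ : IsZassenhausGroup G Ω) {a b : Ω} (hab : a ≠ b)
    (hd : Nat.card ↥(stabilizer G a ⊓ stabilizer G b) + 2 = Fintype.card Ω) :
    IsMultiplyPretransitive G Ω 3 ∧ ∀ t : Fin 3 ↪ Ω, stabilizer G t = ⊥ := by
  classical
  have hcardG := zs_card hZ hab
  have hpos : 0 < Fintype.card Ω * (Fintype.card Ω - 1) := by
    have := Fintype.one_lt_card_iff.mpr ⟨a, b, hab⟩
    exact Nat.mul_pos (by omega) (by omega)
  have htr : ∀ p q c c' : Ω, p ≠ q → c ≠ p → c ≠ q → c' ≠ p → c' ≠ q →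
      ∃ k : G, k • p = p ∧ k • q = q ∧ k • c = c' := by
    intro p q c c' hpq hcp hcq hcp' hcq'
    have h1 := zs_card hZ hpq
    have h2 : Nat.card ↥(stabilizer G p ⊓ stabilizer G q) = Nat.card ↥(stabilizer G a ⊓ stabilizer G b) := by
      rw [hcardG] at h1
      exact (Nat.eq_of_mul_eq_mul_left hpos h1).symm
    let φ : ↥(stabilizer G p ⊓ stabilizer G q) → {y : Ω // y ≠ p ∧ y ≠ q} := fun k =>
      ⟨(k : G) • c, fun h => hcp (by
          have h3 : (k : G) • p = p := k.2.1
          exact MulAction.injective (k : G) (h.trans h3.symm)), fun h => hcq (by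
          have h3 : (k : G) • q = q := k.2.2
          exact MulAction.injective (k : G) (h.trans h3.symm))⟩
    have hφ : Function.Injective φ := by
      intro k l hkl
      have e : (k : G) • c = (l : G) • c := congrArg Subtype.val hkl
      have h3 : (l : G)⁻¹ * k = 1 := by
        apply Zass.eq_one_of_three hZ hpq (Ne.symm hcq) (Ne.symm hcp)
        · rw [mul_smul, (k.2.1 : (k : G) • p = p), inv_smul_eq_iff]
          exact (l.2.1 : (l : G) • p = p).symm
        · rw [mul_smul, (k.2.2 : (k : G) • q = q), inv_smul_eq_iff]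
          exact (l.2.2 : (l : G) • q = q).symm
        · rw [mul_smul, e, inv_smul_smul]
      exact Subtype.ext (inv_mul_eq_one.mp h3).symm
    have hcard : Nat.card {y : Ω // y ≠ p ∧ y ≠ q} + 2 = Fintype.card Ω := zq_card_off hpq
    have hbij : Function.Bijective φ := by
      rw [Nat.bijective_iff_injective_and_card]
      refine ⟨hφ, ?_⟩
      omega
    obtain ⟨k, hk⟩ := hbij.2 ⟨c', hcp', hcq'⟩
    exact ⟨k, k.2.1, k.2.2, congrArg Subtype.val hk⟩
  constructor
  · refine ⟨fun x y => ?_⟩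
    have hne : ∀ (z : Fin 3 ↪ Ω) (i j : Fin 3), i ≠ j → z i ≠ z j := fun z i j hij h => hij (z.injective h)
    obtain ⟨g, hg0, hg1⟩ := Zass.two_trans hZ (hne x 0 1 (by decide)) (hne y 0 1 (by decide))
    have h2a : g • x 2 ≠ y 0 := by
      rw [← hg0]
      intro h
      exact hne x 2 0 (by decide) (MulAction.injective g h)
    have h2b : g • x 2 ≠ y 1 := by
      rw [← hg1]
      intro h
      exact hne x 2 1 (by decide) (MulAction.injective g h)
    obtain ⟨k, hk0, hk1, hk2⟩ := htr (y 0) (y 1) (g • x 2) (y 2) (hne y 0 1 (by decide)) h2a h2b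
      (hne y 2 0 (by decide)) (hne y 2 1 (by decide))
    refine ⟨k * g, ?_⟩
    ext i
    have e : ((k * g) • x) i = (k * g) • x i := rfl
    rw [e, mul_smul]
    fin_cases i
    · change k • g • x 0 = y 0
      rw [hg0, hk0]
    · change k • g • x 1 = y 1
      rw [hg1, hk1]
    · change k • g • x 2 = y 2
      rw [hk2]
  · intro t
    rw [eq_bot_iff]
    intro g hg
    rw [Subgroup.mem_bot]
    have hne : ∀ (i j : Fin 3), i ≠ j → t i ≠ t j := fun i j hij h => hij (t.injective h)
    have e : ∀ i, g • t i = t i := fun i => congrArg (fun f : Fin 3 ↪ Ω => f i) (mem_stabilizer_iff.mp hg)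
    exact Zass.eq_one_of_three hZ (hne 0 1 (by decide)) (hne 1 2 (by decide)) (hne 0 2 (by decide))
      (e 0) (e 1) (e 2)

set_option maxHeartbeats 4000000 in
/-- In the odd case, with `2d + 2 = |Ω|`, the group is `PSL₂`. -/
theorem zt_psl_odd (hZ : IsZassenhausGroup G Ω) {a b : Ω} (hab : a ≠ b)
    {F : Subgroup G} (hcard : Nat.card F + 1 = Fintype.card Ω) (hFa : F ≤ stabilizer G a)
    (hFfix : ∀ u ∈ F, u ≠ 1 → ∀ c : Ω, u • c = c → c = a)
    (hFc : ∀ u ∈ F, ∀ v ∈ F, u * v = v * u)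
    (hodd : Odd (Nat.card ↥(stabilizer G a ⊓ stabilizer G b)))
    (hnil : ∀ q : ℕ, q.Prime → q ∣ Nat.card ↥(stabilizer G a ⊓ stabilizer G b) →
      ¬ ∃ N : Subgroup G, N.Normal ∧ N.index = q ^ (Nat.card G).factorization q)
    (hd : 2 * Nat.card ↥(stabilizer G a ⊓ stabilizer G b) + 2 = Fintype.card Ω) :
    ∃ (K' : Type) (_ : Field K') (_ : Fintype K'), Nat.card K' + 1 = Fintype.card Ω ∧
      Nonempty (G ≃* Matrix.ProjectiveSpecialLinearGroup (Fin 2) K') := by
  classical
  obtain ⟨hcyc, -, hinvert⟩ := zs_main hZ hab hodd hnil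
  have hHc : ∀ h k : G, h • a = a → h • b = b → k • a = a → k • b = b → h * k = k * h := by
    intro h k h1 h2 h3 h4
    have hh : h ∈ stabilizer G a ⊓ stabilizer G b := ⟨h1, h2⟩
    have hk : k ∈ stabilizer G a ⊓ stabilizer G b := ⟨h3, h4⟩
    have : (⟨h, hh⟩ : ↥(stabilizer G a ⊓ stabilizer G b)) * ⟨k, hk⟩ = ⟨k, hk⟩ * ⟨h, hh⟩ :=
      (IsCyclic.isMulCommutative (α := ↥(stabilizer G a ⊓ stabilizer G b))).is_comm.comm _ _
    exact congrArg Subtype.val this
  obtain ⟨c₀, hc₀a, hc₀b⟩ := Zass.exists_third hZ hab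
  obtain ⟨K, iF, iK, ρ, Q, h1, h2, h3, h4, h5, h6, hidx, h7, h8, h9, hoddK⟩ :=
    zq_setup hZ hab (Ne.symm hc₀a) (Ne.symm hc₀b) hcard hFa hFfix hFc hHc hd
  set d := Nat.card ↥(stabilizer G a ⊓ stabilizer G b) with hdd
  have hcardK : Nat.card K = 2 * d + 1 := by omega
  have hcardQ : Nat.card Q = d := by
    have e := Q.card_mul_index
    rw [Nat.card_units, hcardK, hidx] at e
    omega
  have hchar : ringChar K ≠ 2 := by
    intro h
    have h10 := (FiniteField.even_card_iff_char_two (F := K)).mp h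
    rw [← Nat.card_eq_fintype_card, hcardK] at h10
    omega
  -- a square root in `Q`
  have hsqrt : ∀ r ∈ Q, ∃ s ∈ Q, s * s = r := by
    intro r hr
    obtain ⟨m, hm⟩ := hodd
    refine ⟨r ^ (m + 1), Q.pow_mem hr _, ?_⟩
    have e : r ^ d = 1 := by
      have := pow_card_eq_one' (G := Q) (x := ⟨r, hr⟩)
      rw [hcardQ] at this
      exact congrArg Subtype.val this
    rw [← pow_add]
    have e2 : m + 1 + (m + 1) = d + 1 := by omega
    rw [e2, pow_succ, e, one_mul]
  have hneg : (-1 : Kˣ) ∉ Q := by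
    intro h
    have e : (-1 : Kˣ) ^ d = 1 := by
      have := pow_card_eq_one' (G := Q) (x := ⟨-1, h⟩)
      rw [hcardQ] at this
      exact congrArg Subtype.val this
    rw [hodd.neg_one_pow] at e
    have e2 : ((-1 : Kˣ) : K) = ((1 : Kˣ) : K) := congrArg Units.val e
    have e3 : (-1 : K) = 1 := by simpa using e2
    exact (Ring.neg_one_ne_one_of_char_ne_two hchar) e3
  have hrep : ∀ z : Ω, z ≠ a → z ≠ b → ∃ y : K, y ≠ 0 ∧ z = ρ (y : OnePoint K) := by
    intro z hza hzb
    obtain ⟨p, rfl⟩ := ρ.surjective z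
    induction p using OnePoint.rec with
    | infty => exact absurd h1 hza
    | coe y =>
      refine ⟨y, ?_, rfl⟩
      rintro rfl
      exact hzb h2
  have hρa : ∀ y : K, ρ (y : OnePoint K) ≠ a := by
    intro y h
    rw [← h1] at h
    exact OnePoint.coe_ne_infty y (ρ.injective h)
  have hρb : ∀ y : K, y ≠ 0 → ρ (y : OnePoint K) ≠ b := by
    intro y hy h
    rw [← h2] at h
    exact hy (OnePoint.coe_injective (ρ.injective h))
  -- behaviour of a swap under `Q`
  have hswap : ∀ J : G, J • a = b → J • b = a → ∀ (r : Kˣ), r ∈ Q → ∀ x y : K,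
      J • ρ (x : OnePoint K) = ρ (y : OnePoint K) →
      J • ρ (((r : K) * x : K) : OnePoint K) = ρ (((r : K)⁻¹ * y : K) : OnePoint K) := by
    intro J hJa hJb r hr x y hxy
    obtain ⟨k, hka, hkb, hkx⟩ := h8 r hr
    have hinvJ := hinvert J hJa hJb k ⟨hka, hkb⟩
    have e : J * k = k⁻¹ * J := by
      calc J * k = (J * k * J⁻¹) * J := by group
        _ = k⁻¹ * J := by rw [hinvJ]
    rw [← hkx, ← mul_smul, e, mul_smul, hxy, inv_smul_eq_iff, hkx]
    congr 2
    field_simp
  -- the stabiliser of a point has odd order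
  have hoddStab : ∀ (c : Ω) (g : G), g • c = c → g * g = 1 → g = 1 := by
    intro c g hgc hgg
    have hcard1 : Fintype.card Ω * Nat.card (stabilizer G c) = Nat.card G := by
      have h10 := card_orbit_mul_card_stabilizer (K := G) (X := Ω) c
      have h11 : orbit G c = Set.univ := by
        ext z
        simp only [Set.mem_univ, iff_true]
        by_cases hz : z = c
        · exact ⟨1, by rw [hz]; simp⟩
        · obtain ⟨w, hw1, -⟩ := hZ.2.1.exists_smul_eq
            ⟨![c, z], by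
              intro i j hij
              fin_cases i <;> fin_cases j <;> simp_all⟩
            ⟨![z, c], by
              intro i j hij
              fin_cases i <;> fin_cases j <;> simp_all⟩ |>.imp fun w hw =>
              And.intro (congrArg (fun f : Fin 2 ↪ Ω => f 0) hw) (congrArg (fun f : Fin 2 ↪ Ω => f 1) hw)
          exact ⟨w, hw1⟩
      rw [h11] at h10
      rw [← h10]
      congr 1
      rw [Nat.card_coe_set_eq, Set.ncard_univ, Nat.card_eq_fintype_card]
    have hcardS : Nat.card (stabilizer G c) = (2 * d + 1) * d := by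
      have e1 : Fintype.card Ω * Nat.card (stabilizer G c) = Fintype.card Ω * ((2 * d + 1) * d) := by
        rw [hcard1, zs_card hZ hab, ← hdd, mul_assoc]
        congr 2
        omega
      exact Nat.eq_of_mul_eq_mul_left (by omega) e1
    have hoddS : Odd (Nat.card (stabilizer G c)) := by
      rw [hcardS]
      exact Odd.mul ⟨d, rfl⟩ hodd
    have hmem : g ∈ stabilizer G c := hgc
    have h12 : orderOf (⟨g, hmem⟩ : stabilizer G c) ∣ Nat.card (stabilizer G c) := orderOf_dvd_natCard _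
    have h13 : orderOf (⟨g, hmem⟩ : stabilizer G c) ∣ 2 := by
      apply orderOf_dvd_of_pow_eq_one
      apply Subtype.ext
      simp [pow_two, hgg]
    have h14 : Odd (orderOf (⟨g, hmem⟩ : stabilizer G c)) := Odd.of_dvd_nat hoddS h12
    have h15 : orderOf (⟨g, hmem⟩ : stabilizer G c) = 1 := by
      have := Nat.le_of_dvd (by norm_num) h13
      obtain ⟨m, hm⟩ := h14
      omega
    exact congrArg Subtype.val (orderOf_eq_one_iff.mp h15)
  obtain ⟨J₀, hJ2, hJa, hJb⟩ := zi_exists_swap hZ hab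
  have hJJ : J₀ * J₀ = 1 := by
    rw [← pow_two, ← hJ2]
    exact pow_orderOf_eq_one J₀
  have hJ1 : J₀ ≠ 1 := by
    intro h
    rw [h, one_smul] at hJa
    exact hab hJa
  have hsw : ∀ (J : G), J • a = b → J • b = a → ∀ y : K, y ≠ 0 → ∃ y' : K, y' ≠ 0 ∧
      J • ρ (y : OnePoint K) = ρ (y' : OnePoint K) := by
    intro J hJa hJb y hy
    obtain ⟨y', h10, h11⟩ := hrep (J • ρ (y : OnePoint K)) (by
        intro h
        rw [← hJb] at h
        exact hρb y hy (MulAction.injective J h)) (by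
        intro h
        rw [← hJa] at h
        exact hρa y (MulAction.injective J h))
    exact ⟨y', h10, h11⟩
  obtain ⟨w, hw0, hw⟩ := hsw J₀ hJa hJb 1 one_ne_zero
  let W : Kˣ := Units.mk0 w hw0
  have hWQ : W ∉ Q := by
    intro h
    obtain ⟨s, hs, hss⟩ := hsqrt W h
    have h10 := hswap J₀ hJa hJb s hs 1 w hw
    have e1 : (s : K)⁻¹ * w = s := by
      have : ((s * s : Kˣ) : K) = w := by rw [hss]; rfl
      rw [Units.val_mul] at this
      rw [← this]
      field_simp
    rw [e1, mul_one] at h10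
    exact hJ1 (hoddStab _ J₀ h10 hJJ)
  have hmw : (-1 : Kˣ) * W ∈ Q := by
    rw [Subgroup.mul_mem_iff_of_index_two hidx]
    exact iff_of_false hneg hWQ
  obtain ⟨s, hs, hss⟩ := hsqrt _ (Q.inv_mem hmw)
  have hssK : (s : K) * s * w = -1 := by
    have e : ((s * s : Kˣ) : K) = (((-1 : Kˣ) * W)⁻¹ : Kˣ) := by rw [hss]
    rw [Units.val_mul] at e
    rw [e]
    simp [W]
    field_simp
  obtain ⟨M, hMa, hMb, hMx⟩ := h8 s hs
  have hMa' : M⁻¹ • a = a := by rw [inv_smul_eq_iff, hMa]
  have hMb' : M⁻¹ • b = b := by rw [inv_smul_eq_iff, hMb]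
  set J : G := M * J₀ * M⁻¹ with hJdef
  have hJa' : J • a = b := by
    simp only [hJdef, mul_smul]
    rw [hMa', hJa, hMb]
  have hJb' : J • b = a := by
    simp only [hJdef, mul_smul]
    rw [hMb', hJb, hMa]
  have hJJ' : J * J = 1 := by
    calc J * J = M * (J₀ * J₀) * M⁻¹ := by rw [hJdef]; group
      _ = 1 := by rw [hJJ]; group
  have hJ₁ : J • ρ ((1 : K) : OnePoint K) = ρ ((-1 : K) : OnePoint K) := by
    have e1 : M⁻¹ • ρ ((1 : K) : OnePoint K) = ρ (((s⁻¹ : Kˣ) : K) * 1 : K) := by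
      rw [inv_smul_eq_iff, hMx]
      congr 2
      simp
    have e2 := hswap J₀ hJa hJb s⁻¹ (Q.inv_mem hs) 1 w hw
    simp only [hJdef, mul_smul]
    rw [e1, e2, hMx]
    congr 2
    rw [Units.val_inv_eq_inv_val, inv_inv, ← mul_assoc]
    exact hssK
  have hJ₂ : J • ρ ((-1 : K) : OnePoint K) = ρ ((1 : K) : OnePoint K) := by
    rw [← hJ₁, ← mul_smul, hJJ', one_smul]
  have hJx : ∀ x : K, x ≠ 0 → J • ρ (x : OnePoint K) = ρ (((-1 : K) * x⁻¹ : K) : OnePoint K) := by
    intro x hx
    by_cases hX : Units.mk0 x hx ∈ Q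
    · have e := hswap J hJa' hJb' _ hX 1 (-1) hJ₁
      simp only [Units.val_mk0, mul_one] at e
      rw [e, mul_comm]
    · have hr : (-1 : Kˣ) * Units.mk0 x hx ∈ Q := by
        rw [Subgroup.mul_mem_iff_of_index_two hidx]
        exact iff_of_false hneg hX
      have e := hswap J hJa' hJb' _ hr (-1) 1 hJ₂
      have e1 : (((-1 : Kˣ) * Units.mk0 x hx : Kˣ) : K) * (-1) = x := by
        simp
      have e2 : (((-1 : Kˣ) * Units.mk0 x hx : Kˣ) : K)⁻¹ * 1 = -1 * x⁻¹ := by
        simp [inv_neg]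
      rw [e1, e2] at e
      exact e
  obtain ⟨K', iF', iT', hc, hiso⟩ := zq_final hZ hab hFa hd ρ Q h1 h2 h4 h5 h6 h7 h9 hoddK J hJa' hJb'
    (-1) 1 (by ring) hJx
  exact ⟨K', iF', iT', by rw [hc]; exact h4, hiso⟩

/-- The structure theorem. -/
theorem zt_structure {F : Subgroup G} (hZ : IsZassenhausGroup G Ω) {a b : Ω} (hab : a ≠ b)
    (hcard : Nat.card F + 1 = Fintype.card Ω) (hFa : F ≤ stabilizer G a)
    (hFfix : ∀ u ∈ F, u ≠ 1 → ∀ c : Ω, u • c = c → c = a)
    (hFc : ∀ u ∈ F, ∀ v ∈ F, u * v = v * u) :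
    (IsMultiplyPretransitive G Ω 3 ∧ ∀ t : Fin 3 ↪ Ω, stabilizer G t = ⊥) ∨
      ∃ (K : Type) (_ : Field K) (_ : Fintype K), ringChar K ≠ 2 ∧
        Nonempty (G ≃* Matrix.ProjectiveSpecialLinearGroup (Fin 2) K) := by
  classical
  set d := Nat.card ↥(stabilizer G a ⊓ stabilizer G b) with hdd
  have hdpos : 0 < d := Nat.card_pos
  have hΩ2 : 2 ≤ Fintype.card Ω := Fintype.one_lt_card_iff.mpr ⟨a, b, hab⟩
  have hfin : ∀ (K' : Type) (_ : Field K') (_ : Fintype K'), Nat.card K' + 1 = Fintype.card Ω →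
      2 * d + 2 = Fintype.card Ω → ringChar K' ≠ 2 := by
    intro K' _ _ h1 h2 h
    have h10 := (FiniteField.even_card_iff_char_two (F := K')).mp h
    rw [← Nat.card_eq_fintype_card] at h10
    have : Nat.card K' = 2 * d + 1 := by omega
    rw [this] at h10
    omega
  rcases Nat.even_or_odd d with heven | hodd
  · have h1 : Fintype.card Ω - 2 ≤ 2 * d := zf_degree_bound hZ hab heven
    obtain ⟨s, hs⟩ : d ∣ Fintype.card Ω - 2 := zs_dvd hZ hab
    have hs2 : s ≤ 2 := by
      by_contra hs3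
      push Not at hs3
      have : d * 3 ≤ d * s := Nat.mul_le_mul_left _ hs3
      omega
    obtain ⟨c, hca, hcb⟩ := Zass.exists_third hZ hab
    have hΩ3 : 3 ≤ Fintype.card Ω := by
      have : ({a, b, c} : Finset Ω).card ≤ Fintype.card Ω := Finset.card_le_univ _
      rw [Finset.card_eq_three.mpr ⟨a, b, c, hab, hca.symm, hcb.symm, rfl⟩] at this
      exact this
    interval_cases s
    · omega
    · left
      exact zt_sharp3 hZ hab (by omega)
    · right
      have hd2 : 2 * d + 2 = Fintype.card Ω := by omega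
      obtain ⟨K', iF', iT', hc, hiso⟩ := zq_even_psl hZ hab heven hd2
      exact ⟨K', iF', iT', hfin K' iF' iT' hc hd2, hiso⟩
  · obtain ⟨hnil, hnum⟩ := zt_numeric hZ hab hcard hFa hFfix hFc hodd
    rcases hnum with h | h
    · left
      exact zt_sharp3 hZ hab (by omega)
    · right
      have hd2 : 2 * d + 2 = Fintype.card Ω := by omega
      obtain ⟨K', iF', iT', hc, hiso⟩ := zt_psl_odd hZ hab hcard hFa hFfix hFc hodd hnil hd2
      exact ⟨K', iF', iT', hfin K' iF' iT' hc hd2, hiso⟩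

end Cfsg.Agent.Lib.Perm
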