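import Mathlib
import Cfsg.Agent.Lib.Perm.ZFCoords

/-!
A group with an abelian regular normal subgroup and a point stabiliser containing a normal subgroup
regular on the remaining points consists of semi-affine maps of a field.
-/

set_option autoImplicit false
set_option linter.style.haveILetI false

namespace Cfsg.Agent.Lib.Perm

open MulAction OnePoint Cfsg

universe u v

section

variable {G : Type u} {Ω : Type v} [Group G] [MulAction G Ω]

/-- A stabiliser element normalising translations and all multiplications is semilinear. -/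
theorem zp_semi_of_data {K : Type*} [Field K] [Finite K] (f : K ≃ Ω) {V P : Subgroup G}
    (hV1 : ∀ v ∈ V, ∃ s : K, ∀ x : K, v • f x = f (x + s))
    (hV2 : ∀ s : K, ∃ v ∈ V, ∀ x : K, v • f x = f (x + s))
    (hP1 : ∀ k ∈ P, ∃ r : K, r ≠ 0 ∧ ∀ x : K, k • f x = f (r * x))
    (hP2 : ∀ r : K, r ≠ 0 → ∃ k ∈ P, ∀ x : K, k • f x = f (r * x))
    (hVn : ∀ g : G, ∀ v ∈ V, g * v * g⁻¹ ∈ V)
    {k : G} (hPn : ∀ u ∈ P, k * u * k⁻¹ ∈ P) (hk0 : k • f 0 = f 0) :
    ∃ (w : Kˣ) (φ : K ≃+* K), ∀ x : K, k • f x = f (w * φ x) := by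
  classical
  let S : K → K := fun x => f.symm (k • f x)
  have hS : ∀ x, k • f x = f (S x) := fun x => by simp [S]
  have hS0 : S 0 = 0 := by
    apply f.injective
    rw [← hS, hk0]
  have hSinj : Function.Injective S := by
    intro x y h
    apply f.injective
    have e : k • f x = k • f y := by rw [hS, hS, h]
    exact MulAction.injective k e
  have hk' : ∀ z, k⁻¹ • f (S z) = f z := by
    intro z
    rw [inv_smul_eq_iff, hS]
  have hadd : ∀ z y, S (z + y) = S z + S y := by
    intro z y
    obtain ⟨v, hv, hvx⟩ := hV2 y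
    obtain ⟨y', hy'⟩ := hV1 _ (hVn k v hv)
    have e1 : y' = S y := by
      have h1 := hy' 0
      rw [zero_add] at h1
      have h2 : (k * v * k⁻¹) • f 0 = f (S y) := by
        simp only [mul_smul]
        have : k⁻¹ • f 0 = f 0 := by rw [inv_smul_eq_iff, hk0]
        rw [this, hvx, zero_add, hS]
      rw [h2] at h1
      exact (f.injective h1).symm
    have h3 := hy' (S z)
    have h4 : (k * v * k⁻¹) • f (S z) = f (S (z + y)) := by
      simp only [mul_smul]
      rw [hk', hvx, hS]
    rw [h4, e1] at h3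
    exact f.injective h3
  have hmul : ∀ r : K, r ≠ 0 → ∃ r' : K, ∀ z, S (r * z) = r' * S z := by
    intro r hr
    obtain ⟨u, hu, hux⟩ := hP2 r hr
    obtain ⟨r', -, hr'⟩ := hP1 _ (hPn u hu)
    refine ⟨r', fun z => ?_⟩
    have h3 := hr' (S z)
    have h4 : (k * u * k⁻¹) • f (S z) = f (S (r * z)) := by
      simp only [mul_smul]
      rw [hk', hux, hS]
    rw [h4] at h3
    exact f.injective h3
  set w := S 1 with hw
  have hw0 : w ≠ 0 := by
    intro h
    have : S 1 = S 0 := by rw [hS0, ← hw, h]
    exact one_ne_zero (hSinj this)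
  let αh : K →+* K :=
    { toFun := fun x => S x / w
      map_one' := div_self hw0
      map_zero' := by
        change S 0 / w = 0
        rw [hS0, zero_div]
      map_add' := fun x y => by
        change S (x + y) / w = S x / w + S y / w
        rw [hadd, add_div]
      map_mul' := fun x y => by
        change S (x * y) / w = S x / w * (S y / w)
        by_cases hx : x = 0
        · rw [hx, zero_mul, hS0, zero_div, zero_mul]
        · obtain ⟨r', hr'⟩ := hmul x hx
          have h1 := hr' 1
          rw [mul_one, ← hw] at h1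
          rw [hr', h1]
          field_simp }
  have hαh : ∀ x, αh x = S x / w := fun _ => rfl
  have hbij : Function.Bijective αh :=
    ⟨αh.injective, Finite.injective_iff_surjective.mp αh.injective⟩
  refine ⟨Units.mk0 w hw0, RingEquiv.ofBijective αh hbij, fun x => ?_⟩
  rw [hS]
  congr 1
  change S x = w * αh x
  rw [hαh]
  field_simp

/-- Coordinates from the regular normal subgroup. -/
theorem zp_coords [Finite G] [Fintype Ω] {V P : Subgroup G} {a b : Ω} (hab : a ≠ b)
    (hVc : ∀ u ∈ V, ∀ v ∈ V, u * v = v * u)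
    (hVn : ∀ g : G, ∀ v ∈ V, g * v * g⁻¹ ∈ V)
    (hVreg : ∀ y z : Ω, ∃! v : V, (v : G) • y = z)
    (hPa : ∀ u ∈ P, u • a = a)
    (hPc : ∀ u ∈ P, ∀ v ∈ P, u * v = v * u)
    (hPreg : ∀ y z : Ω, y ≠ a → z ≠ a → ∃! u : P, (u : G) • y = z)
    (hPn : ∀ k : G, k • a = a → ∀ u ∈ P, k * u * k⁻¹ ∈ P) :
    ∃ (K : Type u) (_ : Field K) (_ : Fintype K) (e : Ω ≃ K), Nat.card K = Fintype.card Ω ∧
      (∀ g : G, ∃ (r : Kˣ) (φ : K ≃+* K) (c : K), ∀ x : K, e (g • e.symm x) = r * φ x + c) ∧
      (∀ g : G, g • a = a → g • b = b → ∃ φ : K ≃+* K, ∀ x : K, e (g • e.symm x) = φ x) := by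
  classical
  have hn : (none : Option Ω) ≠ Option.some a := by simp
  have hn' : (none : Option Ω) ≠ Option.some b := by simp
  have hs : (Option.some a : Option Ω) ≠ Option.some b := by simpa using hab
  have hPcard : Nat.card P + 1 = Fintype.card Ω := by
    let φ : P → {y : Ω // y ≠ a} := fun u => ⟨(u : G) • b, by
      intro h
      have h1 : (u : G) • a = a := hPa u u.2
      exact hab (MulAction.injective (u : G) (h1.trans h.symm))⟩
    have hφ : Function.Bijective φ := by
      constructor
      · intro u v huv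
        have h1 : (u : G) • b = (v : G) • b := congrArg Subtype.val huv
        obtain ⟨w, -, hw⟩ := hPreg b ((u : G) • b) hab.symm (φ u).2
        exact (hw u rfl).trans (hw v h1.symm).symm
      · rintro ⟨y, hy⟩
        obtain ⟨u, hu, -⟩ := hPreg b y hab.symm hy
        exact ⟨u, Subtype.ext hu⟩
    rw [Nat.card_congr (Equiv.ofBijective φ hφ), Nat.card_eq_fintype_card, Fintype.card_subtype_compl,
      Fintype.card_subtype_eq]
    have : 0 < Fintype.card Ω := Fintype.card_pos_iff.mpr ⟨a⟩
    omega
  have hcardO : Nat.card (Option Ω) = Fintype.card Ω + 1 := by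
    rw [Nat.card_eq_fintype_card, Fintype.card_option]
  obtain ⟨K, iF, iK, ρ, h1, h2, h3, h4, h5, h6, h7⟩ := zf_coords (G := G) (Ω := Option Ω)
    (a := none) (b := Option.some a) (c := Option.some b) hn hn' hs V P
    (fun u _ => rfl)
    (by
      intro y z hy hz
      obtain ⟨y', rfl⟩ := Option.ne_none_iff_exists'.mp hy
      obtain ⟨z', rfl⟩ := Option.ne_none_iff_exists'.mp hz
      obtain ⟨v, hv, hv2⟩ := hVreg y' z'
      refine ⟨v, ?_, fun v' hv' => hv2 v' ?_⟩
      · change Option.some ((v : G) • y') = Option.some z'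
        rw [hv]
      · have : Option.some ((v' : G) • y') = Option.some z' := hv'
        exact Option.some_injective _ this)
    hVc
    (fun k hk => congrArg Option.some (hPa k hk))
    hPc
    (fun k _ u hu => hVn k u hu)
    (by
      intro k hk y hya hyb hy
      obtain ⟨y', rfl⟩ := Option.ne_none_iff_exists'.mp hya
      have hy'a : y' ≠ a := fun h => hyb (by rw [h])
      have hy2 : k • y' = y' := Option.some_injective _ hy
      obtain ⟨w, -, hw⟩ := hPreg y' y' hy'a hy'a
      have e1 := hw ⟨k, hk⟩ hy2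
      have e2 := hw 1 (by simp)
      exact congrArg Subtype.val (e1.trans e2.symm))
    (by
      rw [hcardO]
      omega)
  rw [hcardO] at h4
  have hnone : ∀ x : K, ρ (x : OnePoint K) ≠ none := by
    intro x h
    rw [← h1] at h
    exact OnePoint.coe_ne_infty x (ρ.injective h)
  have hex : ∀ x : K, ∃ y : Ω, ρ (x : OnePoint K) = Option.some y := fun x =>
    Option.ne_none_iff_exists'.mp (hnone x)
  choose f hf using hex
  have hfbij : Function.Bijective f := by
    constructor
    · intro x y h
      have : ρ (x : OnePoint K) = ρ (y : OnePoint K) := by rw [hf, hf, h]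
      exact OnePoint.coe_injective (ρ.injective this)
    · intro y
      obtain ⟨p, hp⟩ := ρ.surjective (Option.some y)
      induction p using OnePoint.rec with
      | infty =>
        rw [h1] at hp
        simp at hp
      | coe x =>
        refine ⟨x, ?_⟩
        rw [hf] at hp
        exact Option.some_injective _ hp
  let fe : K ≃ Ω := Equiv.ofBijective f hfbij
  have hfe : ∀ x, fe x = f x := fun _ => rfl
  have hf0 : fe 0 = a := by
    have := hf 0
    rw [h2] at this
    exact (Option.some_injective _ this).symm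
  have hf1 : fe 1 = b := by
    have := hf 1
    rw [h3] at this
    exact (Option.some_injective _ this).symm
  have hsm : ∀ (g : G) (x y : K), g • ρ (x : OnePoint K) = ρ (y : OnePoint K) → g • fe x = fe y := by
    intro g x y h
    rw [hf, hf] at h
    exact Option.some_injective _ h
  have hV1 : ∀ v ∈ V, ∃ s : K, ∀ x : K, v • fe x = fe (x + s) := by
    intro v hv
    obtain ⟨s, hs⟩ := h5 v hv
    exact ⟨s, fun x => hsm v _ _ (hs x)⟩
  have hV2 : ∀ s : K, ∃ v ∈ V, ∀ x : K, v • fe x = fe (x + s) := by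
    intro s
    obtain ⟨v, hv, hs⟩ := h6 s
    exact ⟨v, hv, fun x => hsm v _ _ (hs x)⟩
  have hP1 : ∀ k ∈ P, ∃ r : K, r ≠ 0 ∧ ∀ x : K, k • fe x = fe (r * x) := by
    intro k hk
    obtain ⟨r, hr, hs⟩ := h7 k hk
    exact ⟨r, hr, fun x => hsm k _ _ (hs x)⟩
  have hP2 : ∀ r : K, r ≠ 0 → ∃ k ∈ P, ∀ x : K, k • fe x = fe (r * x) := by
    intro r hr
    have hra : fe r ≠ a := by
      rw [← hf0]
      intro h
      exact hr (fe.injective h)
    obtain ⟨u, hu, -⟩ := hPreg b (fe r) hab.symm hra
    obtain ⟨r', -, hr'⟩ := hP1 u u.2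
    have e1 : r' = r := by
      have := hr' 1
      rw [hf1, hu, mul_one] at this
      exact (fe.injective this).symm
    rw [e1] at hr'
    exact ⟨u, u.2, hr'⟩
  refine ⟨K, iF, iK, fe.symm, ?_, ?_, ?_⟩
  · rw [Nat.card_congr fe, Nat.card_eq_fintype_card]
  · intro g
    obtain ⟨v, hv, -⟩ := hVreg a (g • a)
    set k : G := (v : G)⁻¹ * g with hk
    have hka : k • a = a := by
      rw [hk, mul_smul, inv_smul_eq_iff, hv]
    obtain ⟨w, φ, hφ⟩ := zp_semi_of_data fe hV1 hV2 hP1 hP2 hVn (k := k)
      (hPn k hka) (by rw [hf0, hka])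
    obtain ⟨s, hs⟩ := hV1 v v.2
    refine ⟨w, φ, s, fun x => ?_⟩
    have e : g = (v : G) * k := by rw [hk]; group
    rw [Equiv.symm_symm, e, mul_smul, hφ, hs, Equiv.symm_apply_apply]
  · intro g hga hgb
    obtain ⟨w, φ, hφ⟩ := zp_semi_of_data fe hV1 hV2 hP1 hP2 hVn (k := g)
      (hPn g hga) (by rw [hf0, hga])
    have hw : (w : K) = 1 := by
      have := hφ 1
      rw [hf1, hgb, map_one, mul_one, ← hf1] at this
      exact (fe.injective this).symm
    refine ⟨φ, fun x => ?_⟩
    rw [Equiv.symm_symm, hφ, Equiv.symm_apply_apply, hw, one_mul]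

end

end Cfsg.Agent.Lib.Perm
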