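import Mathlib
import Cfsg.Agent.Lib.Perm.ZPAffine
import Cfsg.Agent.Lib.Perm.ZNFinal
import Cfsg.Agent.Lib.Perm.ZFOddF
import Cfsg.Agent.Lib.Perm.Orbits
import Cfsg.Prelude.Def_Perm

/-!
Transitive groups of degree `p + 1` and order `(p+1) p d` with `d < p`.
-/

set_option autoImplicit false
set_option linter.style.haveILetI false

namespace Cfsg.Agent.Lib.Perm

open MulAction OnePoint Cfsg Cfsg.Agent.Lib.Char Cfsg.Agent.Lib.Char.Zass

universe u v

/-- The number of ring automorphisms of the field of order `2 ^ q`. -/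
lemma zp_card_ringAut {K : Type*} [Field K] [Fintype K] {q : ℕ} (hq0 : q ≠ 0) (hq : Nat.card K = 2 ^ q) :
    Nat.card (RingAut K) = q := by
  classical
  haveI : Fact (Nat.Prime 2) := ⟨Nat.prime_two⟩
  have heven : Even (Fintype.card K) := by
    rw [← Nat.card_eq_fintype_card, hq]
    exact (Nat.even_pow' hq0).mpr even_two
  have hchar : ringChar K = 2 := (FiniteField.even_card_iff_char_two (F := K)).mpr
    (Nat.even_iff.mp heven)
  haveI : CharP K 2 := ringChar.of_eq hchar
  letI : Algebra (ZMod 2) K := ZMod.algebra K 2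
  have hfin : Module.finrank (ZMod 2) K = q := by
    have h1 := Module.card_eq_pow_finrank (K := ZMod 2) (V := K)
    rw [ZMod.card, ← Nat.card_eq_fintype_card, hq] at h1
    exact (Nat.pow_right_injective (le_refl 2) h1).symm
  have h2 : Nat.card (K ≃ₐ[ZMod 2] K) = q := by
    rw [IsGalois.card_aut_eq_finrank, hfin]
  rw [← h2]
  apply Nat.card_congr
  exact
    { toFun := fun f => AlgEquiv.ofRingEquiv (f := f) (fun r => by
        have := RingHom.ext_zmod ((f : K →+* K).comp (algebraMap (ZMod 2) K)) (algebraMap (ZMod 2) K)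
        exact congrArg (fun h : ZMod 2 →+* K => h r) this)
      invFun := fun g => g.toRingEquiv
      left_inv := fun f => by
        ext x
        rfl
      right_inv := fun g => by
        ext x
        rfl }

section

variable {α : Type u} [Fintype α] [DecidableEq α] {G : Subgroup (Equiv.Perm α)}

/-- The affine conclusion. -/
theorem zp_affine_final {V P : Subgroup G} {a b : α} (hab : a ≠ b)
    (hVc : ∀ u ∈ V, ∀ v ∈ V, u * v = v * u)
    (hVn : ∀ g : G, ∀ v ∈ V, g * v * g⁻¹ ∈ V)
    (hVreg : ∀ y z : α, ∃! v : V, (v : G) • y = z)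
    (hPa : ∀ u ∈ P, u • a = a)
    (hPc : ∀ u ∈ P, ∀ v ∈ P, u * v = v * u)
    (hPreg : ∀ y z : α, y ≠ a → z ≠ a → ∃! u : P, (u : G) • y = z)
    (hPn : ∀ k : G, k • a = a → ∀ u ∈ P, k * u * k⁻¹ ∈ P)
    {q : ℕ} (hq : q.Prime) (hcard : Fintype.card α = 2 ^ q) :
    (Nat.card ↥(stabilizer G a ⊓ stabilizer G b) = 1 ∨ Nat.card ↥(stabilizer G a ⊓ stabilizer G b) = q) ∧
    ∃ e : α ≃ GaloisField 2 q, ∀ g : G,
      (e.symm.trans ((g : Equiv.Perm α).trans e)) ∈ semiaffineGroup (GaloisField 2 q) := by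
  classical
  haveI : Fact (Nat.Prime 2) := ⟨Nat.prime_two⟩
  obtain ⟨K, iF, iK, e, hcardK, hsemi, hfield⟩ := zp_coords hab hVc hVn hVreg hPa hPc hPreg hPn
  have hKq : Nat.card K = 2 ^ q := by rw [hcardK, hcard]
  constructor
  · have hex : ∀ k : ↥(stabilizer G a ⊓ stabilizer G b), ∃ φ : RingAut K, ∀ x : K,
        e ((k : G) • e.symm x) = φ x := fun k => hfield k k.2.1 k.2.2
    choose Φ hΦ using hex
    let Ψ : ↥(stabilizer G a ⊓ stabilizer G b) →* RingAut K := MonoidHom.mk' Φ (by
      intro k l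
      ext x
      change Φ (k * l) x = Φ k (Φ l x)
      rw [← hΦ, ← hΦ, ← hΦ, Equiv.symm_apply_apply]
      congr 1)
    have hΨ : Function.Injective Ψ := by
      rw [injective_iff_map_eq_one]
      intro k hk
      have h1 : ∀ y : α, (k : G) • y = y := by
        intro y
        have h2 := hΦ k (e y)
        have h3 : Φ k = 1 := hk
        rw [h3, Equiv.symm_apply_apply] at h2
        exact e.injective h2
      apply Subtype.ext
      apply Subtype.ext
      exact Equiv.ext h1
    have hdvd := Subgroup.card_dvd_of_injective Ψ hΨ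
    rw [zp_card_ringAut hq.ne_zero hKq] at hdvd
    exact (Nat.dvd_prime hq).mp hdvd
  · letI : Fintype (GaloisField 2 q) := Fintype.ofFinite _
    have hL : Fintype.card K = Fintype.card (GaloisField 2 q) := by
      rw [← Nat.card_eq_fintype_card, ← Nat.card_eq_fintype_card, hKq, GaloisField.card 2 q hq.ne_zero]
    let ψ : K ≃+* GaloisField 2 q := FiniteField.ringEquivOfCardEq hL
    refine ⟨e.trans ψ.toEquiv, fun g => ?_⟩
    obtain ⟨r, φ, c, hφ⟩ := hsemi g
    refine ⟨Units.map (ψ : K →* GaloisField 2 q) r, ψ c, ψ.symm.trans (φ.trans ψ), fun y => ?_⟩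
    change ψ (e ((g : G) • e.symm (ψ.symm y))) = _
    rw [hφ, map_add, map_mul]
    simp

/-- A prime order subgroup regular off a point, in a transitive group of degree `p + 1` and
order `(p+1) p d`, `d < p`. -/
theorem zp_sylow {p d : ℕ} (hp : p.Prime) (hα : Fintype.card α = p + 1) [IsPretransitive G α]
    (hG : Nat.card G = (p + 1) * p * d) (hd : d < p) (a : α) :
    ∃ F : Subgroup G, Nat.card F = p ∧ (∀ u ∈ F, u • a = a) ∧
      (∀ k : G, k • a = a → ∀ u ∈ F, k * u * k⁻¹ ∈ F) ∧
      (∀ y z : α, y ≠ a → z ≠ a → ∃! u : F, (u : G) • y = z) := by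
  classical
  haveI : Fact p.Prime := ⟨hp⟩
  have hdpos : 0 < d := by
    rcases Nat.eq_zero_or_pos d with rfl | h
    · rw [mul_zero] at hG
      exact absurd hG Nat.card_pos.ne'
    · exact h
  set S : Subgroup G := stabilizer G a with hS
  have hScard : Nat.card S = p * d := by
    have h1 := card_orbit_mul_card_stabilizer (K := G) (X := α) a
    rw [orbit_eq_univ, hG] at h1
    have h2 : Nat.card (Set.univ : Set α) = p + 1 := by
      rw [Nat.card_coe_set_eq, Set.ncard_univ, Nat.card_eq_fintype_card, hα]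
    rw [h2, mul_assoc] at h1
    exact Nat.eq_of_mul_eq_mul_left (Nat.succ_pos p) h1
  have hpd : ¬ p ∣ d := fun h => absurd (Nat.le_of_dvd hdpos h) (by omega)
  obtain ⟨P₀⟩ : Nonempty (Sylow p S) := inferInstance
  have hP₀ : Nat.card P₀ = p := by
    rw [Sylow.card_eq_multiplicity, hScard, Nat.factorization_mul hp.ne_zero hdpos.ne']
    simp [Nat.factorization_eq_zero_of_not_dvd hpd, hp.factorization_self]
  have hidx : (P₀ : Subgroup S).index = d := by
    have h1 := (P₀ : Subgroup S).card_mul_index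
    rw [hScard] at h1
    have h2 : p * (P₀ : Subgroup S).index = p * d := by
      nth_rewrite 1 [← hP₀]
      exact h1
    exact Nat.eq_of_mul_eq_mul_left hp.pos h2
  have hsyl : Nat.card (Sylow p S) = 1 := by
    have h1 := Sylow.card_dvd_index P₀
    rw [hidx] at h1
    have h2 := Nat.le_of_dvd hdpos h1
    have h3 := card_sylow_modEq_one p S
    have h4 : Nat.card (Sylow p S) % p = 1 % p := h3
    rw [Nat.mod_eq_of_lt (by omega : Nat.card (Sylow p S) < p),
      Nat.mod_eq_of_lt hp.one_lt] at h4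
    exact h4
  haveI : Subsingleton (Sylow p S) := (Nat.card_eq_one_iff_unique.mp hsyl).1
  have hnorm : (P₀ : Subgroup S).Normal := Sylow.normal_of_subsingleton P₀
  let F : Subgroup G := (P₀ : Subgroup S).map S.subtype
  have hFmem : ∀ u, u ∈ F ↔ ∃ (h : u ∈ S), (⟨u, h⟩ : S) ∈ (P₀ : Subgroup S) := by
    intro u
    constructor
    · rintro ⟨x, hx, rfl⟩
      exact ⟨x.2, hx⟩
    · rintro ⟨h, hx⟩
      exact ⟨⟨u, h⟩, hx, rfl⟩
  have hFcard : Nat.card F = p := by
    rw [← hP₀]
    exact Subgroup.card_map_of_injective S.subtype_injective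
  have hFa : ∀ u ∈ F, u • a = a := by
    intro u hu
    obtain ⟨h, -⟩ := (hFmem u).mp hu
    exact h
  haveI : Fintype F := Fintype.ofFinite _
  -- a moved point
  have hp1 : 1 < Nat.card F := by rw [hFcard]; exact hp.one_lt
  haveI : Nontrivial F := Finite.one_lt_card_iff_nontrivial.mp hp1
  obtain ⟨u₀, hu₀⟩ := exists_ne (1 : F)
  have hfaith : ∀ g : G, (∀ y : α, g • y = y) → g = 1 := by
    intro g hg
    apply Subtype.ext
    exact Equiv.ext hg
  obtain ⟨y₀, hy₀⟩ : ∃ y₀ : α, (u₀ : G) • y₀ ≠ y₀ := by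
    by_contra hcon
    push Not at hcon
    apply hu₀
    exact Subtype.ext (hfaith _ hcon)
  have hy₀a : y₀ ≠ a := by
    rintro rfl
    exact hy₀ (hFa _ u₀.2)
  have hO := card_orbit_mul_card_stabilizer (K := F) (X := α) y₀
  rw [hFcard] at hO
  have hOne : Nat.card (orbit F y₀) ≠ 1 := by
    intro h
    have h1 : (⟨y₀, mem_orbit_self y₀⟩ : orbit F y₀) = ⟨(u₀ : G) • y₀, ⟨u₀, rfl⟩⟩ :=
      (Nat.card_eq_one_iff_unique.mp h).1.elim _ _
    exact hy₀ (congrArg Subtype.val h1).symm
  have hOp : Nat.card (orbit F y₀) = p := by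
    have h1 : Nat.card (orbit F y₀) ∣ p := ⟨_, hO.symm⟩
    rcases (Nat.dvd_prime hp).mp h1 with h | h
    · exact absurd h hOne
    · exact h
  have hSt : Nat.card (stabilizer F y₀) = 1 := by
    rw [hOp] at hO
    exact Nat.eq_of_mul_eq_mul_left hp.pos (by rw [hO, mul_one])
  have hst1 : ∀ u : F, (u : G) • y₀ = y₀ → u = 1 := by
    intro u hu
    have h1 := (Nat.card_eq_one_iff_unique.mp hSt).1
    have h2 : (⟨u, hu⟩ : stabilizer F y₀) = 1 := h1.elim _ _
    exact congrArg Subtype.val h2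
  -- the map to the points off `a`
  let φ : F → {y : α // y ≠ a} := fun u => ⟨(u : G) • y₀, by
    intro h
    have h1 : (u : G) • a = a := hFa u u.2
    exact hy₀a (MulAction.injective (u : G) (h.trans h1.symm))⟩
  have hφinj : Function.Injective φ := by
    intro u v huv
    have h1 : (u : G) • y₀ = (v : G) • y₀ := congrArg Subtype.val huv
    have h2 : v⁻¹ * u = 1 := by
      apply hst1
      change ((v : G)⁻¹ * u) • y₀ = y₀
      rw [mul_smul, inv_smul_eq_iff]
      exact h1
    exact (inv_mul_eq_one.mp h2).symm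
  have hoff : Nat.card {y : α // y ≠ a} = p := by
    rw [Nat.card_eq_fintype_card, Fintype.card_subtype_compl, Fintype.card_subtype_eq, hα]
    omega
  have hφbij : Function.Bijective φ := by
    rw [Nat.bijective_iff_injective_and_card]
    exact ⟨hφinj, by rw [hFcard, hoff]⟩
  refine ⟨F, hFcard, hFa, ?_, ?_⟩
  · intro k hk u hu
    obtain ⟨h, hx⟩ := (hFmem u).mp hu
    have hkS : k ∈ S := hk
    refine (hFmem _).mpr ⟨S.mul_mem (S.mul_mem hkS h) (S.inv_mem hkS), ?_⟩
    exact hnorm.conj_mem _ hx ⟨k, hkS⟩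
  · intro y z hy hz
    obtain ⟨s, hs⟩ := hφbij.2 ⟨y, hy⟩
    obtain ⟨t, ht⟩ := hφbij.2 ⟨z, hz⟩
    have hs' : (s : G) • y₀ = y := congrArg Subtype.val hs
    have ht' : (t : G) • y₀ = z := congrArg Subtype.val ht
    refine ⟨t * s⁻¹, ?_, ?_⟩
    · change ((t : G) * (s : G)⁻¹) • y = z
      rw [mul_smul, ← hs', inv_smul_smul, ht']
    · intro v hv
      have hv' : (v : G) • y = z := hv
      have h1 : φ (v * s) = φ t := by
        apply Subtype.ext
        change ((v : G) * s) • y₀ = (t : G) • y₀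
        rw [mul_smul, hs', hv', ht']
      have h2 := hφinj h1
      rw [← h2]
      group

/-- Three fixed points force the identity. -/
theorem zp_three {p : ℕ} (hp : p.Prime) {F : Subgroup G} (hFcard : Nat.card F = p) {a : α}
    (hFa : ∀ u ∈ F, u • a = a) (hFn : ∀ k : G, k • a = a → ∀ u ∈ F, k * u * k⁻¹ ∈ F)
    (hFreg : ∀ y z : α, y ≠ a → z ≠ a → ∃! u : F, (u : G) • y = z)
    {k : G} {b c : α} (hka : k • a = a) (hkb : k • b = b) (hkc : k • c = c)
    (hba : b ≠ a) (hca : c ≠ a) (hbc : b ≠ c) : k = 1 := by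
  classical
  haveI : Fact p.Prime := ⟨hp⟩
  haveI : Fintype F := Fintype.ofFinite _
  obtain ⟨u, hu, huu⟩ := hFreg b c hba hca
  have hu' : (u : G) • b = c := hu
  have hu1 : u ≠ 1 := by
    rintro rfl
    exact hbc (by simpa using hu')
  have hcomm : k * u * k⁻¹ = u := by
    have hmem := hFn k hka u u.2
    have h1 := huu ⟨_, hmem⟩ (by
      change (k * u * k⁻¹) • b = c
      have hk' : k⁻¹ • b = b := by rw [inv_smul_eq_iff, hkb]
      simp only [mul_smul]
      rw [hk', hu', hkc])
    exact congrArg Subtype.val h1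
  have hall : ∀ v : F, k * v = v * k := by
    intro v
    have hv := mem_zpowers_of_prime_card hFcard (g := u) (g' := v) hu1
    obtain ⟨n, hn⟩ := Subgroup.mem_zpowers_iff.mp hv
    have e : (v : G) = (u : G) ^ n := by
      rw [← hn]
      simp
    have hc : Commute k (u : G) := by
      have : k * u = u * k := by
        calc k * u = (k * u * k⁻¹) * k := by group
          _ = u * k := by rw [hcomm]
      exact this
    rw [e]
    exact (hc.zpow_right n)
  apply Subtype.ext
  apply Equiv.ext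
  intro y
  change k • y = y
  by_cases hya : y = a
  · rw [hya, hka]
  · obtain ⟨v, hv, -⟩ := hFreg b y hba hya
    have hv' : (v : G) • b = y := hv
    rw [← hv', ← mul_smul, hall, mul_smul, hkb]

lemma zp_zmod2 : ∀ x : ZMod 2, x = 0 ∨ x = 1 := by decide

lemma zp_zmod2' : ∀ s t : ZMod 2, t ≠ s → t = 1 + s := by decide

/-- The degree three case. -/
theorem zp_two (hα : Fintype.card α = 3) (hG : Nat.card G = 6) :
    Nonempty (G ≃* Matrix.ProjGenLinGroup (Fin 2) (ZMod 2)) := by
  classical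
  haveI : Fact (Nat.Prime 2) := ⟨Nat.prime_two⟩
  letI : Fintype (OnePoint (ZMod 2)) := inferInstanceAs (Fintype (Option (ZMod 2)))
  have hcard1 : Fintype.card (OnePoint (ZMod 2)) = 3 := by
    change Fintype.card (Option (ZMod 2)) = 3
    rw [Fintype.card_option, ZMod.card]
  have htop : ∀ σ : Equiv.Perm α, σ ∈ G := by
    have h1 : Nat.card (Equiv.Perm α) = 6 := by
      rw [Nat.card_eq_fintype_card, Fintype.card_perm, hα]
      rfl
    have h2 : G = ⊤ := by
      apply Subgroup.eq_top_of_card_eq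
      rw [hG, h1]
    intro σ
    rw [h2]
    trivial
  let ρ : OnePoint (ZMod 2) ≃ α := Fintype.equivOfCardEq (by rw [hcard1, hα])
  have hfaith : ∀ g : G, (∀ x : α, g • x = x) → g = 1 := by
    intro g hg
    apply Subtype.ext
    exact Equiv.ext hg
  have hK : ∀ x : ZMod 2, x = 0 ∨ x = 1 := zp_zmod2
  have h01 : (0 : ZMod 2) ≠ 1 := zero_ne_one
  have hρne : ∀ x : ZMod 2, ρ (x : OnePoint (ZMod 2)) ≠ ρ ∞ := by
    intro x h
    exact OnePoint.coe_ne_infty x (ρ.injective h)
  have hρ01 : ρ ((0 : ZMod 2) : OnePoint (ZMod 2)) ≠ ρ ((1 : ZMod 2) : OnePoint (ZMod 2)) := by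
    intro h
    exact h01 (OnePoint.coe_injective (ρ.injective h))
  have hthree : ∀ z : α, z = ρ ∞ ∨ z = ρ ((0 : ZMod 2) : OnePoint (ZMod 2)) ∨
      z = ρ ((1 : ZMod 2) : OnePoint (ZMod 2)) := by
    intro z
    obtain ⟨p, rfl⟩ := ρ.surjective z
    induction p using OnePoint.rec with
    | infty => exact Or.inl rfl
    | coe x =>
      rcases hK x with rfl | rfl
      · exact Or.inr (Or.inl rfl)
      · exact Or.inr (Or.inr rfl)
  have hrep : ∀ z : α, z ≠ ρ ∞ → ∃ y : ZMod 2, z = ρ (y : OnePoint (ZMod 2)) := by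
    intro z hz
    rcases hthree z with h | h | h
    · exact absurd h hz
    · exact ⟨0, h⟩
    · exact ⟨1, h⟩
  -- the group elements
  let σ : Equiv.Perm α := Equiv.swap (ρ ((0 : ZMod 2) : OnePoint (ZMod 2))) (ρ ((1 : ZMod 2) : OnePoint (ZMod 2)))
  let τ : Equiv.Perm α := Equiv.swap (ρ ∞) (ρ ((0 : ZMod 2) : OnePoint (ZMod 2)))
  have hne01 : ρ ∞ ≠ ρ ((1 : ZMod 2) : OnePoint (ZMod 2)) := (hρne 1).symm
  have hne00 : ρ ∞ ≠ ρ ((0 : ZMod 2) : OnePoint (ZMod 2)) := (hρne 0).symm
  refine zf_recog_pgl (K := ZMod 2) (G := G) (Ω := α) ρ hfaith ?_ (stabilizer G (ρ ∞))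
    (stabilizer G (ρ ∞) ⊓ stabilizer G (ρ ((0 : ZMod 2) : OnePoint (ZMod 2)))) ⟨τ, htop τ⟩
    (fun u hu => hu) ?_ ?_ (fun g h1 h2 => ⟨h1, h2⟩) (fun h hh => hh.1) ?_ ?_ ?_ ?_
  · rw [hG, Nat.card_eq_fintype_card, ZMod.card]
    norm_num
  · intro u hu
    have hu' : u • ρ ∞ = ρ ∞ := hu
    have hnot : ∀ x : ZMod 2, u • ρ (x : OnePoint (ZMod 2)) ≠ ρ ∞ := by
      intro x h
      rw [← hu'] at h
      exact hρne x (MulAction.injective u h)
    obtain ⟨s, hs⟩ := hrep _ (hnot 0)
    refine ⟨s, fun x => ?_⟩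
    rcases hK x with rfl | rfl
    · rw [hs, zero_add]
    · obtain ⟨t, ht⟩ := hrep _ (hnot 1)
      have hts : t ≠ s := by
        rintro rfl
        apply hρ01
        apply MulAction.injective u
        change u • _ = u • _
        rw [hs, ht]
      rw [ht, zp_zmod2' s t hts]
  · intro s
    rcases hK s with rfl | rfl
    · refine ⟨1, (stabilizer G (ρ ∞)).one_mem, fun x => ?_⟩
      simp
    · refine ⟨⟨σ, htop σ⟩, ?_, fun x => ?_⟩
      · change σ (ρ ∞) = ρ ∞
        exact Equiv.swap_apply_of_ne_of_ne hne00 hne01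
      · change σ (ρ (x : OnePoint (ZMod 2))) = _
        rcases hK x with rfl | rfl
        · rw [zero_add]
          exact Equiv.swap_apply_left _ _
        · have e : (1 : ZMod 2) + 1 = 0 := CharTwo.add_self_eq_zero 1
          rw [e]
          exact Equiv.swap_apply_right _ _
  · intro h hh
    have h0 : h • ρ ((0 : ZMod 2) : OnePoint (ZMod 2)) = ρ ((0 : ZMod 2) : OnePoint (ZMod 2)) := hh.2
    have hi : h • ρ ∞ = ρ ∞ := hh.1
    have h1 : h • ρ ((1 : ZMod 2) : OnePoint (ZMod 2)) = ρ ((1 : ZMod 2) : OnePoint (ZMod 2)) := by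
      rcases hthree (h • ρ ((1 : ZMod 2) : OnePoint (ZMod 2))) with e | e | e
      · rw [← hi] at e
        exact absurd (MulAction.injective h e) hne01.symm
      · rw [← h0] at e
        exact absurd (MulAction.injective h e) hρ01.symm
      · exact e
    refine ⟨1, one_ne_zero, fun x => ?_⟩
    rcases hK x with rfl | rfl
    · simpa using h0
    · simpa using h1
  · exact Equiv.swap_apply_left _ _
  · exact Equiv.swap_apply_right _ _
  · intro x hx
    rcases hK x with rfl | rfl
    · exact absurd rfl hx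
    · change τ (ρ ((1 : ZMod 2) : OnePoint (ZMod 2))) = _
      rw [inv_one]
      exact Equiv.swap_apply_of_ne_of_ne hne01.symm hρ01.symm

end

section

variable {G : Type u} {Ω : Type v} [Group G] [Finite G] [MulAction G Ω] [Fintype Ω]

/-- The structure theorem, with the degree. -/
theorem zt_structure2 {F : Subgroup G} (hZ : IsZassenhausGroup G Ω) {a b : Ω} (hab : a ≠ b)
    (hcard : Nat.card F + 1 = Fintype.card Ω) (hFa : F ≤ stabilizer G a)
    (hFfix : ∀ u ∈ F, u ≠ 1 → ∀ c : Ω, u • c = c → c = a)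
    (hFc : ∀ u ∈ F, ∀ v ∈ F, u * v = v * u) :
    Nat.card ↥(stabilizer G a ⊓ stabilizer G b) + 2 = Fintype.card Ω ∨
      (2 * Nat.card ↥(stabilizer G a ⊓ stabilizer G b) + 2 = Fintype.card Ω ∧
      ∃ (K : Type) (_ : Field K) (_ : Fintype K), Nat.card K + 1 = Fintype.card Ω ∧
        Nonempty (G ≃* Matrix.ProjectiveSpecialLinearGroup (Fin 2) K)) := by
  classical
  set d := Nat.card ↥(stabilizer G a ⊓ stabilizer G b) with hdd
  have hdpos : 0 < d := Nat.card_pos
  have hΩ2 : 2 ≤ Fintype.card Ω := Fintype.one_lt_card_iff.mpr ⟨a, b, hab⟩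
  rcases Nat.even_or_odd d with heven | hodd
  · have h1 : Fintype.card Ω - 2 ≤ 2 * d := zf_degree_bound hZ hab heven
    obtain ⟨s, hs⟩ : d ∣ Fintype.card Ω - 2 := zs_dvd hZ hab
    have hs2 : s ≤ 2 := by
      by_contra hs3
      push Not at hs3
      have : d * 3 ≤ d * s := Nat.mul_le_mul_left _ hs3
      omega
    obtain ⟨c, hca, hcb⟩ := Zass.exists_third hZ hab
    have hΩ3 : 3 ≤ Fintype.card Ω := by
      have : ({a, b, c} : Finset Ω).card ≤ Fintype.card Ω := Finset.card_le_univ _
      rw [Finset.card_eq_three.mpr ⟨a, b, c, hab, hca.symm, hcb.symm, rfl⟩] at this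
      exact this
    interval_cases s
    · omega
    · left
      omega
    · right
      have hd2 : 2 * d + 2 = Fintype.card Ω := by omega
      exact ⟨hd2, zq_even_psl hZ hab heven hd2⟩
  · obtain ⟨hnil, hnum⟩ := zt_numeric hZ hab hcard hFa hFfix hFc hodd
    rcases hnum with h | h
    · left
      omega
    · right
      have hd2 : 2 * d + 2 = Fintype.card Ω := by omega
      exact ⟨hd2, zt_psl_odd hZ hab hcard hFa hFfix hFc hodd hnil hd2⟩

end

section

variable {α : Type u} [Fintype α] [DecidableEq α]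

/-- The theorem on degree `p + 1`. -/
theorem zp_main {p d : ℕ} (hp : p.Prime) (hα : Fintype.card α = p + 1) (G : Subgroup (Equiv.Perm α))
    [IsPretransitive G α] (hG : Nat.card G = (p + 1) * p * d) (hd : d < p) :
    (d = p - 1 ∧ Nonempty (G ≃* Matrix.ProjGenLinGroup (Fin 2) (ZMod p))) ∨
    (2 * d = p - 1 ∧ Nonempty (G ≃* Matrix.ProjectiveSpecialLinearGroup (Fin 2) (ZMod p))) ∨
    (∃ q : ℕ, q.Prime ∧ p + 1 = 2 ^ q ∧ (d = 1 ∨ d = q) ∧ ∃ e : α ≃ GaloisField 2 q, ∀ g : G,
      (e.symm.trans ((g : Equiv.Perm α).trans e)) ∈ semiaffineGroup (GaloisField 2 q)) := by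
  classical
  haveI : Fact p.Prime := ⟨hp⟩
  have hdpos : 0 < d := by
    rcases Nat.eq_zero_or_pos d with rfl | h
    · rw [mul_zero] at hG
      exact absurd hG Nat.card_pos.ne'
    · exact h
  by_cases hp2 : p = 2
  · subst hp2
    have hd1 : d = 1 := by omega
    subst hd1
    left
    exact ⟨rfl, zp_two hα (by rw [hG])⟩
  have hp3 : 3 ≤ p := by
    have := hp.two_le
    omega
  have hfaith : ∀ g : G, (∀ y : α, g • y = y) → g = 1 := by
    intro g hg
    apply Subtype.ext
    exact Equiv.ext hg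
  obtain ⟨a, b, hab⟩ : ∃ a b : α, a ≠ b := by
    apply Fintype.exists_pair_of_one_lt_card
    omega
  obtain ⟨F, hFcard, hFa, hFn, hFreg⟩ := zp_sylow hp hα hG hd a
  have hFreg' : ∀ y z : α, y ≠ a → z ≠ a → ∃ u ∈ F, u • y = z := by
    intro y z hy hz
    obtain ⟨u, hu, -⟩ := hFreg y z hy hz
    exact ⟨u, u.2, hu⟩
  have hFc : ∀ u ∈ F, ∀ v ∈ F, u * v = v * u := by
    intro u hu v hv
    haveI : IsCyclic F := isCyclic_of_prime_card hFcard
    have := (IsCyclic.isMulCommutative (α := F)).is_comm.comm ⟨u, hu⟩ ⟨v, hv⟩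
    exact congrArg Subtype.val this
  -- conjugates of `F`
  have hconj : ∀ c y z : α, y ≠ c → z ≠ c → ∃ w : G, w • c = c ∧ w • y = z := by
    intro c y z hy hz
    obtain ⟨g, hg⟩ := exists_smul_eq G a c
    have h1 : g⁻¹ • y ≠ a := by
      intro h
      rw [inv_smul_eq_iff, hg] at h
      exact hy h
    have h2 : g⁻¹ • z ≠ a := by
      intro h
      rw [inv_smul_eq_iff, hg] at h
      exact hz h
    obtain ⟨u, hu, huy⟩ := hFreg' _ _ h1 h2
    refine ⟨g * u * g⁻¹, ?_, ?_⟩
    · simp only [mul_smul]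
      rw [← hg, inv_smul_smul, hFa u hu]
    · simp only [mul_smul]
      rw [huy, smul_inv_smul]
  have h2t : ∀ y₁ y₂ z₁ z₂ : α, y₁ ≠ y₂ → z₁ ≠ z₂ → ∃ w : G, w • y₁ = z₁ ∧ w • y₂ = z₂ := by
    intro y₁ y₂ z₁ z₂ hy hz
    obtain ⟨w₁, h1⟩ := exists_smul_eq G y₁ z₁
    have h3 : w₁ • y₂ ≠ z₁ := by
      intro h
      exact hy (MulAction.injective w₁ (h1.trans h.symm))
    obtain ⟨w₂, h4, h5⟩ := hconj z₁ (w₁ • y₂) z₂ h3 (Ne.symm hz)
    refine ⟨w₂ * w₁, ?_, ?_⟩
    · rw [mul_smul, h1, h4]
    · rw [mul_smul, h5]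
  -- the count of the two-point stabiliser
  have hE : Nat.card ↥(stabilizer G a ⊓ stabilizer G b) = d := by
    have h := card_orbit_mul_card_stabilizer (K := G) (X := α × α) (a, b)
    have hS : stabilizer G (a, b) = stabilizer G a ⊓ stabilizer G b := by
      ext x
      simp [mem_stabilizer_iff, Prod.smul_mk]
    have hO : orbit G (a, b) = {p : α × α | p.1 ≠ p.2} := by
      ext ⟨c, e⟩
      constructor
      · rintro ⟨g, hg⟩
        have h1 : g • a = c := congrArg Prod.fst hg
        have h2 : g • b = e := congrArg Prod.snd hg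
        change c ≠ e
        rw [← h1, ← h2]
        intro h3
        exact hab (smul_left_cancel g h3)
      · intro hce
        obtain ⟨g, h1, h2⟩ := h2t a b c e hab hce
        exact ⟨g, Prod.ext h1 h2⟩
    rw [hS, hO, hG] at h
    have h2 : Nat.card ↥{p : α × α | p.1 ≠ p.2} = (p + 1) * p := by
      change Nat.card {q : α × α // q.1 ≠ q.2} = _
      rw [Nat.card_eq_fintype_card]
      have : Fintype.card {q : α × α // q.1 ≠ q.2} = (Finset.univ : Finset α).offDiag.card := by
        apply Fintype.card_of_subtype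
        intro q
        simp
      rw [this, Finset.offDiag_card, Finset.card_univ, hα]
      have e2 : (p + 1) * (p + 1) = (p + 1) * p + (p + 1) := by ring
      omega
    rw [h2] at h
    exact Nat.eq_of_mul_eq_mul_left (Nat.mul_pos (Nat.succ_pos p) hp.pos) h
  by_cases hreg : ∃ V : Subgroup G, V.Normal ∧ ∀ y z : α, ∃! v : V, (v : G) • y = z
  · -- the affine case
    obtain ⟨V, hVn, hVreg⟩ := hreg
    right
    right
    have hVcard : Nat.card V = p + 1 := by
      rw [← hα, ← Nat.card_eq_fintype_card]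
      let φ : V → α := fun v => (v : G) • a
      have hφ : Function.Bijective φ := by
        constructor
        · intro v w h
          obtain ⟨x, -, hx⟩ := hVreg a ((v : G) • a)
          exact (hx v rfl).trans (hx w h.symm).symm
        · intro z
          obtain ⟨v, hv, -⟩ := hVreg a z
          exact ⟨v, hv⟩
      exact Nat.card_congr (Equiv.ofBijective φ hφ)
    have heven : 2 ∣ Nat.card V := by
      rw [hVcard]
      rcases hp.eq_two_or_odd' with h | h
      · exact absurd h hp2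
      · obtain ⟨m, hm⟩ := h
        exact ⟨m + 1, by omega⟩
    haveI : Fact (Nat.Prime 2) := ⟨Nat.prime_two⟩
    obtain ⟨x, hx⟩ := exists_prime_orderOf_dvd_card' (G := V) 2 heven
    have hx1 : x ≠ 1 := by
      rintro rfl
      rw [orderOf_one] at hx
      omega
    have hx2 : (x : G) * x = 1 := by
      have : x ^ 2 = 1 := by
        rw [← hx]
        exact pow_orderOf_eq_one x
      have e := congrArg Subtype.val this
      simpa [pow_two] using e
    have hVfree : ∀ v : V, ∀ y : α, (v : G) • y = y → v = 1 := by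
      intro v y hy
      obtain ⟨w, -, hw⟩ := hVreg y y
      exact (hw v hy).trans (hw 1 (by simp)).symm
    have hexp : ∀ v ∈ V, v * v = 1 := by
      intro v hv
      by_cases hv1 : v = 1
      · rw [hv1, one_mul]
      have h1 : (x : G) • a ≠ a := fun h => hx1 (hVfree x a h)
      have h2 : v • a ≠ a := fun h => hv1 (congrArg Subtype.val (hVfree ⟨v, hv⟩ a h))
      obtain ⟨u, hu, huy⟩ := hFreg' _ _ h1 h2
      have hw : u * x * u⁻¹ ∈ V := hVn.conj_mem _ x.2 u
      have hua : u⁻¹ • a = a := by rw [inv_smul_eq_iff, hFa u hu]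
      have h3 : (⟨u * x * u⁻¹, hw⟩ : V) = ⟨v, hv⟩ := by
        obtain ⟨w, -, hw2⟩ := hVreg a (v • a)
        refine (hw2 _ ?_).trans (hw2 _ rfl).symm
        change (u * x * u⁻¹) • a = v • a
        simp only [mul_smul]
        rw [hua, huy]
      have h4 : u * x * u⁻¹ = v := congrArg Subtype.val h3
      rw [← h4]
      calc (u * x * u⁻¹) * (u * x * u⁻¹) = u * ((x : G) * x) * u⁻¹ := by group
        _ = 1 := by rw [hx2]; group
    have hVc : ∀ u ∈ V, ∀ v ∈ V, u * v = v * u := by
      intro u hu v hv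
      have h1 := hexp _ (V.mul_mem hu hv)
      have h2 := hexp u hu
      have h3 := hexp v hv
      calc u * v = u * (u * v * (u * v)) * v := by rw [h1]; group
        _ = (u * u) * v * u * (v * v) := by group
        _ = v * u := by rw [h2, h3]; group
    have hpg : IsPGroup 2 V := by
      intro v
      refine ⟨1, ?_⟩
      rw [pow_one, pow_two]
      exact Subtype.ext (hexp v v.2)
    obtain ⟨q, hq⟩ := IsPGroup.iff_card.mp hpg
    have hcard2 : p + 1 = 2 ^ q := by rw [← hVcard, hq]
    have hq1 : q ≠ 1 := by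
      rintro rfl
      omega
    have hqprime : q.Prime := by
      have h1 : (2 ^ q - 1).Prime := by
        have : 2 ^ q - 1 = p := by omega
        rwa [this]
      exact (Nat.prime_of_pow_sub_one_prime hq1 h1).2
    obtain ⟨hdq, hsem⟩ := zp_affine_final (V := V) (P := F) (a := a) (b := b) hab hVc
      (fun g v hv => hVn.conj_mem v hv g) hVreg hFa hFc hFreg hFn hqprime
      (by rw [hα, hcard2])
    rw [hE] at hdq
    exact ⟨q, hqprime, hcard2, hdq, hsem⟩
  · -- Zassenhaus case
    have hreg2 : ∀ V : Subgroup G, V.Normal → ¬ ∀ y z : α, ∃! v : V, (v : G) • y = z :=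
      fun V hV h => hreg ⟨V, hV, h⟩
    have hfix : ∃ g : G, g ≠ 1 ∧ ∃ y z : α, y ≠ z ∧ g • y = y ∧ g • z = z := by
      by_contra hcon
      push Not at hcon
      haveI : Nontrivial α := ⟨⟨a, b, hab⟩⟩
      obtain ⟨V, r, j, -, -, -, hVn, -, -, hmem, htr, -, -⟩ := sharp2_structure (G := G) (Ω := α)
        (fun y₁ y₂ z₁ z₂ hy hz => h2t y₁ y₂ z₁ z₂ hy hz)
        (fun g y z hyz hy hz => by
          by_contra hg
          exact hcon g hg y z hyz hy hz)
      apply hreg2 V hVn
      intro y z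
      obtain ⟨t, ht, hty⟩ := htr y z
      refine ⟨⟨t, ht⟩, hty, ?_⟩
      rintro ⟨t', ht'⟩ hty'
      have hty'' : t' • y = z := hty'
      have h1 : t⁻¹ * t' ∈ V := V.mul_mem (V.inv_mem ht) ht'
      rcases (hmem _).mp h1 with h | h
      · exact Subtype.ext (inv_mul_eq_one.mp h).symm
      · exact absurd (by
          rw [mul_smul, inv_smul_eq_iff, hty'', hty]) (h y)
    have hthree : ∀ (g : G) (y₁ y₂ y₃ : α), y₁ ≠ y₂ → y₂ ≠ y₃ → y₁ ≠ y₃ → g • y₁ = y₁ → g • y₂ = y₂ →
        g • y₃ = y₃ → g = 1 := by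
      intro g y₁ y₂ y₃ h12 h23 h13 h1 h2 h3
      obtain ⟨x, hx⟩ := exists_smul_eq G a y₁
      have hk : x⁻¹ * g * x = 1 := by
        refine zp_three hp hFcard hFa hFn hFreg (b := x⁻¹ • y₂) (c := x⁻¹ • y₃) ?_ ?_ ?_ ?_ ?_ ?_
        · simp only [mul_smul]
          rw [hx, h1, inv_smul_eq_iff, hx]
        · simp only [mul_smul]
          rw [smul_inv_smul, h2]
        · simp only [mul_smul]
          rw [smul_inv_smul, h3]
        · intro h
          rw [inv_smul_eq_iff, hx] at h
          exact h12 h.symm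
        · intro h
          rw [inv_smul_eq_iff, hx] at h
          exact h13 h.symm
        · intro h
          exact h23 (MulAction.injective x⁻¹ h)
      have e : g = x * (x⁻¹ * g * x) * x⁻¹ := by group
      rw [e, hk]
      group
    have hZ : IsZassenhausGroup G α := by
      refine ⟨⟨fun {x y} h => Subtype.ext (Equiv.ext h)⟩, ?_, hthree, hfix, ?_⟩
      · rw [is_two_pretransitive_iff]
        intro y₁ y₂ z₁ z₂ hy hz
        exact h2t y₁ y₂ z₁ z₂ hy hz
      · intro N hN hNt
        by_contra hcon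
        push Not at hcon
        apply hreg2 N hN
        intro y z
        obtain ⟨v, hv⟩ := hNt.exists_smul_eq y z
        refine ⟨v, hv, ?_⟩
        intro v' hv'
        have h1 : v⁻¹ * v' ∈ stabilizer N y := by
          change (v⁻¹ * v') • y = y
          rw [mul_smul, inv_smul_eq_iff]
          exact (show v' • y = z from hv').trans hv.symm
        rw [hcon y] at h1
        exact (inv_mul_eq_one.mp h1).symm
    have hFfix : ∀ u ∈ F, u ≠ 1 → ∀ c : α, u • c = c → c = a := by
      intro u hu hu1 c hc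
      by_contra hca
      obtain ⟨w, -, hw⟩ := hFreg c c hca hca
      have h1 := hw ⟨u, hu⟩ hc
      have h2 := hw 1 (by simp)
      exact hu1 (congrArg Subtype.val (h1.trans h2.symm))
    have hFcard' : Nat.card F + 1 = Fintype.card α := by rw [hFcard, hα]
    have hcop : ∀ (K' : Type) [Field K'] [Fintype K'], Nat.card K' + 1 = Fintype.card α →
        Nonempty (ZMod p ≃+* K') := by
      intro K' _ _ h
      have e : Fintype.card K' = p := by
        rw [← Nat.card_eq_fintype_card]
        omega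
      exact ⟨ZMod.ringEquivOfPrime K' hp e⟩
    rcases zt_structure2 hZ hab hFcard' hFa hFfix hFc with h | ⟨h, K', iF', iK', hK', ⟨e⟩⟩
    · left
      rw [hE] at h
      have hd' : d = p - 1 := by omega
      refine ⟨hd', ?_⟩
      have hS := zt_sharp3 hZ hab (by rw [hE]; exact h)
      obtain ⟨hp3', hsharp⟩ := hS
      obtain ⟨c, hca, hcb⟩ := Zass.exists_third hZ hab
      obtain ⟨K, iF, iT, hK, ⟨e⟩⟩ := sh3_odd_pgl (sh3_of_subgroup hp3' hsharp) hfaith
        (sh3_card hp3' hsharp (mk3 a b c hab (Ne.symm hca) (Ne.symm hcb))) hp hp2 (f := 1) odd_one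
        (by rw [hα, pow_one])
      obtain ⟨eK⟩ := hcop K (by rw [hK, Nat.card_eq_fintype_card])
      exact ⟨e.trans (Cfsg.Agent.Lib.Classical.pglCongr eK.symm)⟩
    · right
      left
      rw [hE] at h
      refine ⟨by omega, ?_⟩
      obtain ⟨eK⟩ := hcop K' hK'
      exact ⟨e.trans (Cfsg.Agent.Lib.Classical.pslCongr eK.symm)⟩

end

end Cfsg.Agent.Lib.Perm
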